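import Mathlib
import Cfsg.Agent.Lib.Helper24.PFCycCtx
import Cfsg.Agent.Lib.Helper25.PFCycEta
import Cfsg.Agent.Lib.Helper50.PFCycMuRes
import Cfsg.Agent.S1508

/-!
# Peterfalvi section 10, M-side, module [A3] (helper38, for helper24 #4017)

`etaSum η 1 g` is an odd integer when the order of `g` is prime to `|W₁|`.
-/

set_option autoImplicit false

namespace Cfsg.Agent.Lib.Helper38.PFCyc

open Cfsg Cfsg.Agent.Lib.Helper24.PFCyc Cfsg.Agent.Lib.Helper4.PF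

universe u

variable {G : Type u} [Group G]

/-- a character of `W = W₁ W₂` trivial on `W₂` has order dividing `|W₁|`. -/
theorem pow_card_of_trivOn [Finite G] {W₁ W₂ : Subgroup G} (hW : IsSelfNormalizingCyclic W₁ W₂)
    {φ : WChar W₁ W₂} (hφ : TrivOn W₂ φ) : φ ^ Nat.card W₁ = 1 := by
  apply MonoidHom.ext
  intro w
  obtain ⟨a, ha, b, hb, hab⟩ :=
    Cfsg.Agent.Lib.Helper50.PFCyc.mem_sup_of_comm hW.2.2.2.1 w.2
  have hw : w = (⟨a, Subgroup.mem_sup_left ha⟩ : ↥(W₁ ⊔ W₂)) *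
      ⟨b, Subgroup.mem_sup_right hb⟩ := Subtype.ext hab
  have ha1 : (⟨a, Subgroup.mem_sup_left ha⟩ : ↥(W₁ ⊔ W₂)) ^ Nat.card W₁ = 1 := by
    apply Subtype.ext
    have h1 : orderOf a ∣ Nat.card W₁ := Subgroup.orderOf_dvd_natCard W₁ ha
    have h2 : a ^ Nat.card W₁ = 1 := orderOf_dvd_iff_pow_eq_one.mp h1
    simpa using h2
  rw [MonoidHom.pow_apply, MonoidHom.one_apply, hw, map_mul,
    hφ ⟨b, Subgroup.mem_sup_right hb⟩ hb, mul_one, ← map_pow, ha1, map_one]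

/-- a character of odd order equal to its inverse is trivial. -/
theorem eq_one_of_inv_eq [Finite G] {W₁ W₂ : Subgroup G} (hW : IsSelfNormalizingCyclic W₁ W₂)
    (hodd : Odd (Nat.card ↥(W₁ ⊔ W₂))) {φ : WChar W₁ W₂} (hφ : TrivOn W₂ φ)
    (h : φ⁻¹ = φ) : φ = 1 := by
  have h1 : φ ^ Nat.card W₁ = 1 := pow_card_of_trivOn hW hφ
  have h2 : φ ^ 2 = 1 := by
    rw [pow_two]
    nth_rewrite 1 [← h]
    exact inv_mul_cancel φ
  have hq : Odd (Nat.card W₁) := by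
    have hc : Nat.card ↥(W₁ ⊔ W₂) = Nat.card W₁ * Nat.card W₂ := by
      let f : ↥W₁ × ↥W₂ → ↥(W₁ ⊔ W₂) := fun ab =>
        ⟨(ab.1 : G) * (ab.2 : G),
          Subgroup.mul_mem _ (Subgroup.mem_sup_left ab.1.2) (Subgroup.mem_sup_right ab.2.2)⟩
      have hinj : Function.Injective f := by
        rintro ⟨a, b⟩ ⟨a', b'⟩ h
        have h0 : (a : G) * (b : G) = (a' : G) * (b' : G) := congrArg Subtype.val h
        have h1 : (a' : G)⁻¹ * (a : G) = (b' : G) * (b : G)⁻¹ := by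
          have : (a' : G)⁻¹ * ((a : G) * (b : G)) * (b : G)⁻¹ =
              (a' : G)⁻¹ * ((a' : G) * (b' : G)) * (b : G)⁻¹ := by rw [h0]
          calc (a' : G)⁻¹ * (a : G) = (a' : G)⁻¹ * ((a : G) * (b : G)) * (b : G)⁻¹ := by group
            _ = (a' : G)⁻¹ * ((a' : G) * (b' : G)) * (b : G)⁻¹ := this
            _ = (b' : G) * (b : G)⁻¹ := by group
        have h2 : (a' : G)⁻¹ * (a : G) ∈ W₁ ⊓ W₂ := by
          refine ⟨W₁.mul_mem (W₁.inv_mem a'.2) a.2, ?_⟩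
          rw [h1]
          exact W₂.mul_mem b'.2 (W₂.inv_mem b.2)
        rw [hW.2.2.1, Subgroup.mem_bot] at h2
        have ha : (a : G) = (a' : G) := by
          have := inv_mul_eq_one.mp h2
          exact this.symm
        have hb : (b : G) = (b' : G) := by
          rw [ha] at h0
          exact mul_left_cancel h0
        exact Prod.ext (Subtype.ext ha) (Subtype.ext hb)
      have hsurj : Function.Surjective f := by
        intro w
        obtain ⟨a, ha, b, hb, hab⟩ :=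
          Cfsg.Agent.Lib.Helper50.PFCyc.mem_sup_of_comm hW.2.2.2.1 w.2
        exact ⟨(⟨a, ha⟩, ⟨b, hb⟩), Subtype.ext hab.symm⟩
      rw [← Nat.card_prod]
      exact (Nat.card_congr (Equiv.ofBijective f ⟨hinj, hsurj⟩)).symm
    rw [hc] at hodd
    exact (Nat.odd_mul.mp hodd).1
  have h3 : orderOf φ ∣ Nat.card W₁ := orderOf_dvd_of_pow_eq_one h1
  have h4 : orderOf φ ∣ 2 := orderOf_dvd_of_pow_eq_one h2
  have h5 : orderOf φ ∣ Nat.gcd (Nat.card W₁) 2 := Nat.dvd_gcd h3 h4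
  have h6 : Nat.gcd (Nat.card W₁) 2 = 1 := by
    exact Nat.coprime_two_right.mpr hq
  rw [h6, Nat.dvd_one] at h5
  exact orderOf_eq_one_iff.mp h5

variable [Fintype G] {W₁ W₂ : Subgroup G} {η : WChar W₁ W₂ → (G → ℂ)}

/-- MODULE [A3] -/
theorem etaSum_one_odd (hW : IsSelfNormalizingCyclic W₁ W₂)
    (hodd : Odd (Nat.card ↥(W₁ ⊔ W₂)))
    (hη : IsCyclicTIFamily W₁ W₂ η) (g : G) (hg : (orderOf g).Coprime (Nat.card W₁)) :
    ∃ n : ℤ, etaSum η 1 g = 2 * (n : ℂ) + 1 := by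
  classical
  -- integrality
  have hint : ∀ φ : WChar W₁ W₂, TrivOn W₂ φ → ∃ n : ℤ, η φ g = (n : ℂ) := by
    intro φ hφ
    apply Cfsg.Agent.S1508.result W₁ W₂ hW hodd η hη φ g
    have h1 : orderOf φ ∣ Nat.card W₁ := orderOf_dvd_of_pow_eq_one (pow_card_of_trivOn hW hφ)
    exact Nat.Coprime.coprime_dvd_right h1 hg
  choose! c hc using hint
  have hinv : ∀ φ : WChar W₁ W₂, TrivOn W₂ φ → c φ⁻¹ = c φ := by
    intro φ hφ
    have h1 : η φ⁻¹ g = (starRingEnd ℂ) (η φ g) := by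
      rw [Cfsg.Agent.Lib.Helper25.PFCyc.eta_inv hW hodd η hη φ]
    rw [hc φ hφ, hc φ⁻¹ hφ.inv] at h1
    have h2 : ((c φ⁻¹ : ℤ) : ℂ) = ((c φ : ℤ) : ℂ) := by
      rw [h1]
      simp
    exact_mod_cast h2
  have hsum : etaSum η 1 g = ((∑ φ ∈ trivSet W₁ W₂ W₂, c φ : ℤ) : ℂ) := by
    unfold etaSum
    rw [Finset.sum_apply]
    push_cast
    apply Finset.sum_congr rfl
    intro φ hφ
    have h1 : φ * 1 = φ := mul_one φ
    rw [h1]
    exact hc φ (mem_trivSet.mp hφ)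
  have h1mem : (1 : WChar W₁ W₂) ∈ trivSet W₁ W₂ W₂ := mem_trivSet.mpr (trivOn_one W₂)
  have hc1 : c 1 = 1 := by
    have h1 := hc 1 (trivOn_one W₂)
    rw [hη.map_one] at h1
    have h2 : ((c 1 : ℤ) : ℂ) = ((1 : ℤ) : ℂ) := by
      rw [← h1]
      simp
    exact_mod_cast h2
  have hsplit : ∑ φ ∈ trivSet W₁ W₂ W₂, c φ =
      (∑ φ ∈ (trivSet W₁ W₂ W₂).erase 1, c φ) + 1 := by
    rw [← Finset.sum_erase_add _ _ h1mem, hc1]
  have heven : ((∑ φ ∈ (trivSet W₁ W₂ W₂).erase 1, c φ : ℤ) : ZMod 2) = 0 := by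
    push_cast
    apply Finset.sum_involution (fun φ _ => φ⁻¹)
    · intro φ hφ
      have hφ' : TrivOn W₂ φ := mem_trivSet.mp (Finset.mem_of_mem_erase hφ)
      rw [hinv φ hφ']
      have : ((c φ : ℤ) : ZMod 2) + ((c φ : ℤ) : ZMod 2) = 2 * ((c φ : ℤ) : ZMod 2) := by ring
      rw [this]
      have h2 : (2 : ZMod 2) = 0 := by decide
      rw [h2, zero_mul]
    · intro φ hφ _ h
      have hφ' : TrivOn W₂ φ := mem_trivSet.mp (Finset.mem_of_mem_erase hφ)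
      exact (Finset.ne_of_mem_erase hφ) (eq_one_of_inv_eq hW hodd hφ' h)
    · intro φ _
      exact inv_inv φ
    · intro φ hφ
      have hφ' : TrivOn W₂ φ := mem_trivSet.mp (Finset.mem_of_mem_erase hφ)
      refine Finset.mem_erase.mpr ⟨?_, mem_trivSet.mpr hφ'.inv⟩
      intro h
      have h' : φ = 1 := by
        have h3 : φ⁻¹⁻¹ = φ := inv_inv φ
        rw [← h3, h]
        exact inv_one (G := WChar W₁ W₂)
      exact (Finset.ne_of_mem_erase hφ) h'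
  have h2 : (2 : ℤ) ∣ ∑ φ ∈ (trivSet W₁ W₂ W₂).erase 1, c φ := by
    have := (ZMod.intCast_zmod_eq_zero_iff_dvd _ 2).mp heven
    exact_mod_cast this
  obtain ⟨n, hn⟩ := h2
  refine ⟨n, ?_⟩
  rw [hsum, hsplit, hn]
  push_cast
  ring

end Cfsg.Agent.Lib.Helper38.PFCyc
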