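import Mathlib
import Cfsg.Agent.Lib.Helper24.PFCycCtx
import Cfsg.Agent.Lib.Helper24.PFCycTau
import Cfsg.Agent.Lib.Helper51.PFCycCalSApi
import Cfsg.Agent.Lib.Helper25.PFCycEta
import Cfsg.Agent.Lib.Helper64.PFElevenAnchor
import Cfsg.Agent.Lib.Helper60.PFCycB2a
import Cfsg.Agent.Lib.Helper38.PFCycA3
import Cfsg.Agent.S1506

/-!
# Peterfalvi section 10, M-side, module [A1] `bridge0` (helper38, for helper24 #4017)

`Φ := tauM M (μ_0 - ζ) = ∑_φ η_φ - χ` (`φ` trivial on `W₂`, `χ = τ₁ ζ`).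
-/

set_option autoImplicit false

namespace Cfsg.Agent.Lib.Helper38.PFCyc

open Cfsg Cfsg.Agent.Lib.Helper24.PFCyc Cfsg.Agent.Lib.Helper4.PF Cfsg.Agent.Lib.Helper74.PF127

universe u

/-- the integral lattice argument -/
theorem lattice_arith {ι : Type*} [DecidableEq ι] (A : Finset ι) (o : ι) (ho : o ∈ A) (c : ι → ℤ)
    (t q : ℤ) (hq : (A.card : ℤ) = q) (hq1 : 1 ≤ q) (hc1 : c o = 1)
    (hS : ∑ φ ∈ A, c φ = q * (1 - t))
    (hev : Even (∑ φ ∈ A.erase o, c φ))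
    (hB : ∑ φ ∈ A, c φ ^ 2 ≤ q) : ∀ φ ∈ A, c φ = 1 := by
  have hsplit : ∑ φ ∈ A, c φ = 1 + ∑ φ ∈ A.erase o, c φ := by
    rw [← Finset.add_sum_erase A c ho, hc1]
  have hsplit2 : ∑ φ ∈ A, c φ ^ 2 = 1 + ∑ φ ∈ A.erase o, c φ ^ 2 := by
    rw [← Finset.add_sum_erase A (fun φ => c φ ^ 2) ho, hc1]
    norm_num
  have hsq1 : ∀ x : ℤ, x ≤ x ^ 2 := by
    intro x
    nlinarith [sq_nonneg (x - 1), sq_nonneg x, mul_self_nonneg (2 * x - 1)]
  have hsq2 : ∀ x : ℤ, -x ≤ x ^ 2 := by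
    intro x
    have := hsq1 (-x)
    simpa using this
  have ht : t = 0 := by
    obtain ⟨a, ha⟩ := hev
    by_contra ht0
    rcases Int.even_or_odd t with ⟨b, hb⟩ | ⟨b, hb⟩
    · have hb0 : b ≠ 0 := by
        intro h0
        apply ht0
        rw [hb, h0]
        norm_num
      rcases lt_or_gt_of_ne hb0 with hneg | hpos
      · -- t ≤ -2
        have h1 : ∑ φ ∈ A, c φ ≤ ∑ φ ∈ A, c φ ^ 2 := Finset.sum_le_sum (fun φ _ => hsq1 (c φ))
        have h2 : 3 * q ≤ q * (1 - t) := by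
          have : 3 ≤ 1 - t := by omega
          nlinarith
        linarith
      · -- t ≥ 2
        have h1 : ∑ φ ∈ A.erase o, (-c φ) ≤ ∑ φ ∈ A.erase o, c φ ^ 2 :=
          Finset.sum_le_sum (fun φ _ => hsq2 (c φ))
        rw [Finset.sum_neg_distrib] at h1
        have h2 : q * (1 - t) ≤ -q := by
          have : 1 - t ≤ -1 := by omega
          nlinarith
        linarith
    · -- t odd: parity contradiction
      have h1 : q * (1 - t) = 2 * (-(q * b)) := by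
        rw [hb]
        ring
      have h2 : 1 + (a + a) = 2 * (-(q * b)) := by
        rw [← ha, ← hsplit, hS, h1]
      generalize q * b = k at h2
      omega
  rw [ht] at hS
  have hS' : ∑ φ ∈ A, c φ = q := by rw [hS]; ring
  have hsum : ∑ φ ∈ A, (c φ - 1) ^ 2 = ∑ φ ∈ A, c φ ^ 2 - 2 * ∑ φ ∈ A, c φ + A.card := by
    rw [Finset.mul_sum, ← Finset.sum_sub_distrib, Finset.card_eq_sum_ones, Nat.cast_sum,
      ← Finset.sum_add_distrib]
    apply Finset.sum_congr rfl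
    intro φ _
    push_cast
    ring
  have hle : ∑ φ ∈ A, (c φ - 1) ^ 2 ≤ 0 := by
    rw [hsum, hS', hq]
    linarith
  have hzero : ∑ φ ∈ A, (c φ - 1) ^ 2 = 0 :=
    le_antisymm hle (Finset.sum_nonneg (fun φ _ => sq_nonneg _))
  intro φ hφ
  have h1 := (Finset.sum_eq_zero_iff_of_nonneg (fun φ _ => sq_nonneg (c φ - 1))).mp hzero φ hφ
  have h2 : c φ - 1 = 0 := by
    exact pow_eq_zero_iff (two_ne_zero) |>.mp h1
  linarith

variable {G : Type u} [Group G]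

/-- there is a nontrivial character of `W` trivial on `W₁`. -/
theorem exists_nontrivial_psi [Finite G] {W₁ W₂ : Subgroup G}
    (hW : IsSelfNormalizingCyclic W₁ W₂) : ∃ ψ : WChar W₁ W₂, TrivOn W₁ ψ ∧ ψ ≠ 1 := by
  classical
  have : Fintype ↥(W₁ ⊔ W₂) := Fintype.ofFinite _
  have hc : ∀ a b : ↥(W₁ ⊔ W₂), a * b = b * a := by
    have hcyc : IsCyclic ↥(W₁ ⊔ W₂) := hW.2.2.2.2.1
    intro a b
    exact (IsCyclic.isMulCommutative (α := ↥(W₁ ⊔ W₂))).is_comm.comm a b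
  have h1 := Cfsg.Agent.Lib.Helper25.card_dualOf_mul hc (W₁.subgroupOf (W₁ ⊔ W₂))
  have h3 : Nat.card (W₁.subgroupOf (W₁ ⊔ W₂)) = Nat.card W₁ :=
    Nat.card_congr (Subgroup.subgroupOfEquivOfLe le_sup_left).toEquiv
  have h4 := Cfsg.Agent.Lib.Helper60.PFCycB.card_W hW
  by_contra hcon
  push Not at hcon
  have h5 : (Cfsg.Agent.Lib.Helper25.dualOf (W₁.subgroupOf (W₁ ⊔ W₂))).card = 1 := by
    rw [Finset.card_eq_one]
    refine ⟨1, ?_⟩
    ext ω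
    rw [Cfsg.Agent.Lib.Helper25.mem_dualOf, Finset.mem_singleton]
    constructor
    · intro h
      exact hcon ω (fun w hw => h w (Subgroup.mem_subgroupOf.mpr hw))
    · rintro rfl n _
      rfl
  rw [h5, one_mul, h3, h4] at h1
  have hpos : 0 < Nat.card W₁ := Nat.card_pos
  have h6 : Nat.card W₂ = 1 := by
    have : Nat.card W₁ * 1 = Nat.card W₁ * Nat.card W₂ := by rw [mul_one]; exact h1
    exact (Nat.eq_of_mul_eq_mul_left hpos this).symm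
  exact hW.2.1 (Subgroup.card_eq_one.mp h6)

/-- a function on the characters trivial on `W₂`, invariant under inversion, has even sum over the
nontrivial ones. -/
theorem even_sum_of_inv [Finite G] {W₁ W₂ : Subgroup G} (hW : IsSelfNormalizingCyclic W₁ W₂)
    (hodd : Odd (Nat.card ↥(W₁ ⊔ W₂))) [DecidableEq (WChar W₁ W₂)] (c : WChar W₁ W₂ → ℤ)
    (hinv : ∀ φ : WChar W₁ W₂, TrivOn W₂ φ → c φ⁻¹ = c φ) :
    Even (∑ φ ∈ (trivSet W₁ W₂ W₂).erase 1, c φ) := by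
  have heven : ((∑ φ ∈ (trivSet W₁ W₂ W₂).erase 1, c φ : ℤ) : ZMod 2) = 0 := by
    push_cast
    apply Finset.sum_involution (fun φ _ => φ⁻¹)
    · intro φ hφ
      have hφ' : TrivOn W₂ φ := mem_trivSet.mp (Finset.mem_of_mem_erase hφ)
      rw [hinv φ hφ']
      have : ((c φ : ℤ) : ZMod 2) + ((c φ : ℤ) : ZMod 2) = 2 * ((c φ : ℤ) : ZMod 2) := by ring
      rw [this]
      have h2 : (2 : ZMod 2) = 0 := by decide
      rw [h2, zero_mul]
    · intro φ hφ _ h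
      have hφ' : TrivOn W₂ φ := mem_trivSet.mp (Finset.mem_of_mem_erase hφ)
      exact (Finset.ne_of_mem_erase hφ) (eq_one_of_inv_eq hW hodd hφ' h)
    · intro φ _
      exact inv_inv φ
    · intro φ hφ
      have hφ' : TrivOn W₂ φ := mem_trivSet.mp (Finset.mem_of_mem_erase hφ)
      refine Finset.mem_erase.mpr ⟨?_, mem_trivSet.mpr hφ'.inv⟩
      intro h
      have h' : φ = 1 := by
        have h3 : φ⁻¹⁻¹ = φ := inv_inv φ
        rw [← h3, h]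
        exact inv_one (G := WChar W₁ W₂)
      exact (Finset.ne_of_mem_erase hφ) h'
  have h2 : (2 : ℤ) ∣ ∑ φ ∈ (trivSet W₁ W₂ W₂).erase 1, c φ := by
    have := (ZMod.intCast_zmod_eq_zero_iff_dvd _ 2).mp heven
    exact_mod_cast this
  exact (even_iff_two_dvd).mpr h2

variable [Fintype G] {M W₁ U W₂ : Subgroup G} [Fintype M]
  {mu : WChar W₁ W₂ → (↥M → ℂ)} {dl : WChar W₁ W₂ → ℂ} {η : WChar W₁ W₂ → (G → ℂ)}
  {τ₁ : (↥M → ℂ) → (G → ℂ)} {ζ : ↥M → ℂ}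

/-- MODULE [A1] -/
theorem bridge0 (h : MCtx M W₁ U W₂ mu dl η τ₁ ζ) (hf : MFacts M W₁ W₂ mu dl η)
    (hn : classInner (tauM M (muSum mu 1 - ζ)) (tauM M (muSum mu 1 - ζ)) =
      (Nat.card W₁ : ℂ) + 1)
    (h1 : classInner (tauM M (muSum mu 1 - ζ)) (fun _ => 1) = 1)
    (hc : classInner (tauM M (muSum mu 1 - ζ)) (τ₁ ζ) = -1)
    (h0 : ∀ ψ : WChar W₁ W₂, TrivOn W₁ ψ → ψ ≠ 1 →
      classInner (tauM M (muSum mu 1 - ζ)) (etaSum η ψ) = 0)
    (hχ : ∀ ω : WChar W₁ W₂, classInner (τ₁ ζ) (η ω) = 0)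
    (hχn : classInner (τ₁ ζ) (τ₁ ζ) = 1)
    (hpar : ∀ φ : WChar W₁ W₂, TrivOn W₂ φ →
      classInner (tauM M (muSum mu 1 - ζ)) (η φ⁻¹) =
        classInner (tauM M (muSum mu 1 - ζ)) (η φ)) :
    tauM M (muSum mu 1 - ζ) = etaSum η 1 - τ₁ ζ := by
  classical
  have hW := h.hW
  have hη := h.hη
  have hWM : W₁ ⊔ W₂ ≤ M := Cfsg.Agent.Lib.Helper60.PFCycB.W_le h.hP
  have hoddW : Odd (Nat.card ↥(W₁ ⊔ W₂)) :=
    Odd.of_dvd_nat h.hodd (Subgroup.card_dvd_of_le hWM)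
  obtain ⟨hmu0c, hmu0K, hmu0v, -, -, -⟩ := Cfsg.Agent.Lib.Helper51.PFCyc.mu0_facts h hf
  obtain ⟨hζc, hζK, -, -, -⟩ := Cfsg.Agent.Lib.Helper51.PFCyc.calS_basic h ζ h.hζ
  have hαcf : IsClassFunction ↥M (muSum mu 1 - ζ) :=
    Cfsg.Agent.Lib.Helper60.PFCycB.isClassFunction_sub'
      (Cfsg.Agent.Lib.Helper78.IsCharacter.isClassFunction hmu0c)
      (Cfsg.Agent.Lib.Helper78.IsCharacter.isClassFunction hζc)
  have hαK : ∀ m : ↥M, (m : G) ∉ ⁅M, M⁆ → (muSum mu 1 - ζ) m = 0 := by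
    intro m hm
    rw [Pi.sub_apply, hmu0K m hm, hζK m hm, sub_zero]
  have hα1 : (muSum mu 1 - ζ) 1 = 0 := by
    rw [Pi.sub_apply, hmu0v 1 (Subgroup.one_mem _), h.hζ1, sub_self]
  have hαA := off_litA0 h _ hαK hα1
  have hαg : IsGeneralizedCharacter ↥M (muSum mu 1 - ζ) := ⟨_, _, hmu0c, hζc, rfl⟩
  have hΦg : IsGeneralizedCharacter G (tauM M (muSum mu 1 - ζ)) := tauM_genChar h hαg hαA
  have hΦcf : IsClassFunction G (tauM M (muSum mu 1 - ζ)) := tauM_isClassFunction h hαcf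
  have hΦW : ∀ w : ↥(W₁ ⊔ W₂), (w : G) ∉ W₁ → (w : G) ∉ W₂ →
      tauM M (muSum mu 1 - ζ) (w : G) = 0 :=
    fun w hw1 hw2 => tauM_vanish_W h hf _ hαcf hαK w hw1 hw2
  generalize tauM M (muSum mu 1 - ζ) = Φ at *
  -- integer coefficients
  have hint : ∀ ω, ∃ n : ℤ, classInner Φ (η ω) = (n : ℂ) :=
    fun ω => Cfsg.Agent.Lib.Helper25.PFCyc.eta_inner_int η hη Φ hΦg ω
  choose c hcdef using hint
  have hc1 : c 1 = 1 := by
    have := hcdef 1
    rw [hη.map_one, h1] at this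
    exact_mod_cast this.symm
  have hrect : ∀ φ ψ : WChar W₁ W₂, TrivOn W₂ φ → TrivOn W₁ ψ → c (φ * ψ) = c φ + c ψ - 1 := by
    intro φ ψ hφ hψ
    have := Cfsg.Agent.S1506.result W₁ W₂ hW η hη Φ hΦcf hΦW φ 1 ψ 1
      (fun w hw => ⟨hφ w hw, rfl⟩) (fun w hw => ⟨hψ w hw, rfl⟩)
    have e1 : (1 : WChar W₁ W₂) * 1 = 1 := mul_one (1 : WChar W₁ W₂)
    have e2 : φ * 1 = φ := mul_one φ
    have e3 : 1 * ψ = ψ := one_mul ψ
    rw [e1, e2, e3, hcdef, hcdef, hcdef, hcdef, hc1] at this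
    have h3 : c (φ * ψ) + 1 = c φ + c ψ := by exact_mod_cast this
    omega
  obtain ⟨ψ₀, hψ₀, hψ₀1⟩ := exists_nontrivial_psi hW
  have hcard : ((trivSet W₁ W₂ W₂).card : ℤ) = (Nat.card W₁ : ℤ) := by
    rw [Cfsg.Agent.Lib.Helper60.PFCycB.card_trivSet_W₂ hW]
  have hcol : ∑ φ ∈ trivSet W₁ W₂ W₂, c (φ * ψ₀) = 0 := by
    have := h0 ψ₀ hψ₀ hψ₀1
    unfold etaSum at this
    rw [Cfsg.Agent.Lib.Helper26.classInner_sum_right] at this
    have h2 : ∑ φ ∈ trivSet W₁ W₂ W₂, ((c (φ * ψ₀) : ℤ) : ℂ) = 0 := by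
      rw [← this]
      exact Finset.sum_congr rfl (fun φ _ => (hcdef _).symm)
    exact_mod_cast h2
  have hS : ∑ φ ∈ trivSet W₁ W₂ W₂, c φ = (Nat.card W₁ : ℤ) * (1 - c ψ₀) := by
    have h2 : ∑ φ ∈ trivSet W₁ W₂ W₂, c (φ * ψ₀) =
        ∑ φ ∈ trivSet W₁ W₂ W₂, (c φ + (c ψ₀ - 1)) :=
      Finset.sum_congr rfl (fun φ hφ => by rw [hrect φ ψ₀ (mem_trivSet.mp hφ) hψ₀]; ring)
    rw [h2, Finset.sum_add_distrib, Finset.sum_const, nsmul_eq_mul, hcard] at hcol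
    linarith
  have hinv : ∀ φ : WChar W₁ W₂, TrivOn W₂ φ → c φ⁻¹ = c φ := by
    intro φ hφ
    have := hpar φ hφ
    rw [hcdef, hcdef] at this
    exact_mod_cast this
  have hev := even_sum_of_inv hW hoddW c hinv
  have h1mem : (1 : WChar W₁ W₂) ∈ trivSet W₁ W₂ W₂ := mem_trivSet.mpr (trivOn_one W₂)
  -- Bessel
  let Z : Option ↥(trivSet W₁ W₂ W₂) → G → ℂ := fun k => k.elim (τ₁ ζ) (fun φ => η φ.1)
  let b : Option ↥(trivSet W₁ W₂ W₂) → ℝ := fun k => k.elim (-1) (fun φ => (c φ.1 : ℝ))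
  have hZ1 : ∀ k, classInner (Z k) (Z k) = 1 := by
    intro k
    cases k with
    | none => exact hχn
    | some φ =>
      show classInner (η φ.1) (η φ.1) = 1
      rw [hη.orthonormal, if_pos rfl]
  have hZ0 : ∀ k l, k ≠ l → classInner (Z k) (Z l) = 0 := by
    intro k l hkl
    cases k with
    | none =>
      cases l with
      | none => exact absurd rfl hkl
      | some φ => exact hχ φ.1
    | some φ =>
      cases l with
      | none =>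
        show classInner (η φ.1) (τ₁ ζ) = 0
        rw [← Cfsg.Agent.Lib.Helper78.classInner_conj_symm, hχ φ.1, map_zero]
      | some φ' =>
        show classInner (η φ.1) (η φ'.1) = 0
        rw [hη.orthonormal, if_neg]
        intro he
        apply hkl
        rw [Subtype.ext he]
  have hb : ∀ k, classInner Φ (Z k) = (b k : ℂ) := by
    intro k
    cases k with
    | none =>
      show classInner Φ (τ₁ ζ) = (((-1 : ℝ)) : ℂ)
      rw [hc]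
      push_cast
      rfl
    | some φ =>
      show classInner Φ (η φ.1) = (((c φ.1 : ℝ)) : ℂ)
      rw [hcdef]
      push_cast
      rfl
  have hbsum : ∑ k, b k ^ 2 = 1 + ((∑ φ ∈ trivSet W₁ W₂ W₂, c φ ^ 2 : ℤ) : ℝ) := by
    rw [Fintype.sum_option]
    show (-1 : ℝ) ^ 2 + ∑ φ : ↥(trivSet W₁ W₂ W₂), ((c φ.1 : ℝ)) ^ 2 = _
    rw [Finset.sum_coe_sort (trivSet W₁ W₂ W₂) (fun φ => ((c φ : ℝ)) ^ 2)]
    push_cast
    norm_num
  have hnre : (classInner Φ Φ).re = (Nat.card W₁ : ℝ) + 1 := by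
    rw [hn]
    simp
  have hbes := Cfsg.Agent.Lib.Helper64.PF11.bessel_on Φ Z hZ1 hZ0 b hb
  rw [hbsum, hnre] at hbes
  have hB : ∑ φ ∈ trivSet W₁ W₂ W₂, c φ ^ 2 ≤ (Nat.card W₁ : ℤ) := by
    have : ((∑ φ ∈ trivSet W₁ W₂ W₂, c φ ^ 2 : ℤ) : ℝ) ≤ ((Nat.card W₁ : ℤ) : ℝ) := by
      push_cast
      push_cast at hbes
      linarith
    exact_mod_cast this
  have hq1 : (1 : ℤ) ≤ (Nat.card W₁ : ℤ) := by
    have : 0 < Nat.card W₁ := Nat.card_pos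
    exact_mod_cast this
  have hall := lattice_arith (trivSet W₁ W₂ W₂) 1 h1mem c (c ψ₀) (Nat.card W₁ : ℤ) hcard hq1 hc1 hS
    hev hB
  -- equality in Bessel
  have hsq : ∑ φ ∈ trivSet W₁ W₂ W₂, c φ ^ 2 = (Nat.card W₁ : ℤ) := by
    rw [← hcard, Finset.card_eq_sum_ones, Nat.cast_sum]
    apply Finset.sum_congr rfl
    intro φ hφ
    rw [hall φ hφ]
    norm_num
  have he : (classInner Φ Φ).re ≤ ∑ k, b k ^ 2 := by
    rw [hbsum, hnre, hsq]
    push_cast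
    linarith
  have hfin := Cfsg.Agent.Lib.Helper64.PF11.bessel_eq_on Φ Z hZ1 hZ0 b hb he
  rw [hfin, Fintype.sum_option]
  show (((-1 : ℝ)) : ℂ) • τ₁ ζ + ∑ φ : ↥(trivSet W₁ W₂ W₂), (((c φ.1 : ℝ)) : ℂ) • η φ.1 = _
  rw [Finset.sum_coe_sort (trivSet W₁ W₂ W₂) (fun φ => (((c φ : ℝ)) : ℂ) • η φ)]
  unfold etaSum
  have hsum : ∑ φ ∈ trivSet W₁ W₂ W₂, (((c φ : ℝ)) : ℂ) • η φ =
      ∑ φ ∈ trivSet W₁ W₂ W₂, η (φ * 1) := by
    apply Finset.sum_congr rfl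
    intro φ hφ
    have e2 : φ * 1 = φ := mul_one φ
    rw [hall φ hφ, e2]
    push_cast
    rw [one_smul]
  rw [hsum]
  push_cast
  rw [neg_one_smul]
  ring

end Cfsg.Agent.Lib.Helper38.PFCyc
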