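/-
helper38: module [CBGT] of helper2's S3818 (Flavell): in a finite solvable group all of whose
abelian normal subgroups are central, a minimal normal subgroup `L` over the centre has class two
with `Z(L) = Z(G)`, and every prime dividing `|L : Z(G)|` divides `|Z(G)|`.
All declarations live in `Cfsg.Agent.Lib.Helper38.Flavell`.
-/
import Mathlib

set_option autoImplicit false
set_option linter.style.haveILetI false

open scoped commutatorElement

namespace Cfsg.Agent.Lib.Helper38.Flavell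

/-- `y^n * x = z^n * x * y^n` when `y * x = z * x * y` and `z` is central for `x, y`. -/
theorem pow_mul_of_comm {G : Type*} [Group G] (x y z : G) (hz : y * x = z * x * y)
    (hzy : Commute z y) (n : ℕ) : y ^ n * x = z ^ n * x * y ^ n := by
  induction n with
  | zero => simp
  | succ n ih =>
    have h1 : Commute (z ^ n) y := hzy.pow_left n
    calc y ^ (n + 1) * x = y * (y ^ n * x) := by rw [pow_succ', mul_assoc]
      _ = y * (z ^ n * x * y ^ n) := by rw [ih]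
      _ = (y * z ^ n) * x * y ^ n := by simp only [mul_assoc]
      _ = (z ^ n * y) * x * y ^ n := by rw [h1.eq]
      _ = z ^ n * (y * x) * y ^ n := by simp only [mul_assoc]
      _ = z ^ n * (z * x * y) * y ^ n := by rw [hz]
      _ = z ^ (n + 1) * x * y ^ (n + 1) := by
        rw [pow_succ, pow_succ']; simp only [mul_assoc]

theorem exists_min_over_center {G : Type*} [Group G] [Finite G] [Group.IsSolvable G]
    (hcen : ∀ A : Subgroup G, A.Normal → (∀ a ∈ A, ∀ b ∈ A, a * b = b * a) →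
      A ≤ Subgroup.center G)
    (hZ : Subgroup.center G ≠ ⊤) :
    ∃ L : Subgroup G, L.Normal ∧ Subgroup.center G < L ∧
      (∀ N : Subgroup G, N.Normal → Subgroup.center G ≤ N → N ≤ L →
        N = Subgroup.center G ∨ N = L) ∧
      (∀ l ∈ L, ∀ l' ∈ L, ⁅l, l'⁆ ∈ Subgroup.center G) ∧
      (∀ l ∈ L, (∀ l' ∈ L, ⁅l, l'⁆ = 1) → l ∈ Subgroup.center G) ∧
      (∀ ℓ : ℕ, ℓ.Prime → ℓ ∣ (Subgroup.center G).relIndex L →
        ∃ S : Subgroup G, S.Normal ∧ IsPGroup ℓ S ∧ S ≠ ⊥) := by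
  classical
  set Z := Subgroup.center G with hZdef
  -- a minimal normal subgroup properly containing Z
  have hne : ({N : Subgroup G | N.Normal ∧ Z < N} : Set (Subgroup G)).Nonempty :=
    ⟨⊤, inferInstance, lt_top_iff_ne_top.mpr hZ⟩
  obtain ⟨L, ⟨hLn, hZL⟩, hLmin⟩ :=
    WellFounded.has_min (measure (fun N : Subgroup G => Nat.card N)).wf _ hne
  haveI := hLn
  have hmin : ∀ N : Subgroup G, N.Normal → Z ≤ N → N ≤ L → N = Z ∨ N = L := by
    intro N hNn hZN hNL
    by_cases h : N = Z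
    · exact Or.inl h
    · right
      have h1 : Z < N := lt_of_le_of_ne hZN (Ne.symm h)
      have h2 : ¬ Nat.card N < Nat.card L := hLmin N ⟨hNn, h1⟩
      exact Subgroup.eq_of_le_of_card_ge hNL (not_lt.mp h2)
  -- [L, L] ≤ Z
  have hcomm : ⁅L, L⁆ ≤ Z := by
    by_contra hnot
    have hDn : (⁅L, L⁆ ⊔ Z).Normal := inferInstance
    have hDL : ⁅L, L⁆ ⊔ Z ≤ L := sup_le (Subgroup.commutator_le_right L L) hZL.le
    rcases hmin _ hDn le_sup_right hDL with h | h
    · exact hnot (h ▸ le_sup_left)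
    · -- L = [L,L] Z, so [L,L] is perfect
      have hperf : ⁅L, L⁆ ≤ ⁅⁅L, L⁆, ⁅L, L⁆⁆ := by
        rw [Subgroup.commutator_le]
        intro a ha b hb
        rw [← h] at ha hb
        rw [Subgroup.mem_sup_of_normal_right] at ha hb
        obtain ⟨d₁, hd₁, z₁, hz₁, rfl⟩ := ha
        obtain ⟨d₂, hd₂, z₂, hz₂, rfl⟩ := hb
        have e : ⁅d₁ * z₁, d₂ * z₂⁆ = ⁅d₁, d₂⁆ := by
          have c1 : ∀ g : G, g * z₁ = z₁ * g := fun g => (Subgroup.mem_center_iff.mp hz₁ g)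
          have c2 : ∀ g : G, g * z₂ = z₂ * g := fun g => (Subgroup.mem_center_iff.mp hz₂ g)
          rw [commutatorElement_def, commutatorElement_def, mul_inv_rev, mul_inv_rev]
          have c1' : ∀ g : G, g * z₁⁻¹ = z₁⁻¹ * g := fun g => by
            have := c1 (z₁⁻¹ * g * z₁⁻¹)
            calc g * z₁⁻¹ = z₁ * (z₁⁻¹ * g * z₁⁻¹) := by group
              _ = (z₁⁻¹ * g * z₁⁻¹) * z₁ := (c1 _).symm
              _ = z₁⁻¹ * g := by group
          have c2' : ∀ g : G, g * z₂⁻¹ = z₂⁻¹ * g := fun g => by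
            calc g * z₂⁻¹ = z₂ * (z₂⁻¹ * g * z₂⁻¹) := by group
              _ = (z₂⁻¹ * g * z₂⁻¹) * z₂ := (c2 _).symm
              _ = z₂⁻¹ * g := by group
          calc d₁ * z₁ * (d₂ * z₂) * (z₁⁻¹ * d₁⁻¹) * (z₂⁻¹ * d₂⁻¹)
              = d₁ * (z₁ * (d₂ * z₂ * z₁⁻¹)) * d₁⁻¹ * (z₂⁻¹ * d₂⁻¹) := by simp only [mul_assoc]
            _ = d₁ * ((d₂ * z₂ * z₁⁻¹) * z₁) * d₁⁻¹ * (z₂⁻¹ * d₂⁻¹) := by rw [c1]
            _ = d₁ * d₂ * (z₂ * (d₁⁻¹ * z₂⁻¹)) * d₂⁻¹ := by
                simp only [mul_assoc, inv_mul_cancel, mul_one]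
            _ = d₁ * d₂ * ((d₁⁻¹ * z₂⁻¹) * z₂) * d₂⁻¹ := by rw [c2]
            _ = d₁ * d₂ * d₁⁻¹ * d₂⁻¹ := by
                simp only [mul_assoc, inv_mul_cancel, mul_one]
        rw [e]
        exact Subgroup.commutator_mem_commutator hd₁ hd₂
      have hDne : ⁅L, L⁆ ≠ ⊥ := by
        intro hb
        apply hnot
        rw [hb]; exact bot_le
      have hlt := Group.IsSolvable.commutator_lt_of_ne_bot hDne
      exact (not_le_of_gt hlt) hperf
  have hcomm' : ∀ l ∈ L, ∀ l' ∈ L, ⁅l, l'⁆ ∈ Z := fun l hl l' hl' =>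
    hcomm (Subgroup.commutator_mem_commutator hl hl')
  -- Z(L) ≤ Z
  have hZL5 : ∀ l ∈ L, (∀ l' ∈ L, ⁅l, l'⁆ = 1) → l ∈ Z := by
    intro l hl hcl
    have hAn : (L ⊓ Subgroup.centralizer (L : Set G)).Normal := inferInstance
    have hAab : ∀ a ∈ L ⊓ Subgroup.centralizer (L : Set G),
        ∀ b ∈ L ⊓ Subgroup.centralizer (L : Set G), a * b = b * a := by
      intro a ha b hb
      exact (Subgroup.mem_centralizer_iff.mp hb.2 a ha.1)
    apply hcen _ hAn hAab
    refine ⟨hl, ?_⟩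
    show l ∈ Subgroup.centralizer (L : Set G)
    rw [Subgroup.mem_centralizer_iff]
    intro h hh
    have := hcl h hh
    rw [commutatorElement_eq_one_iff_mul_comm] at this
    exact this.symm
  refine ⟨L, hLn, hZL, hmin, hcomm', hZL5, ?_⟩
  -- primes
  intro ℓ hℓ hdvd
  haveI : Fact ℓ.Prime := ⟨hℓ⟩
  have hcard : ℓ ∣ Nat.card (↥L ⧸ Z.subgroupOf L) := by
    have : Nat.card (↥L ⧸ Z.subgroupOf L) = Z.relIndex L := rfl
    rw [this]; exact hdvd
  obtain ⟨q, hq⟩ := exists_prime_orderOf_dvd_card' ℓ hcard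
  obtain ⟨⟨l, hl⟩, rfl⟩ := QuotientGroup.mk_surjective q
  have hlZ : l ∉ Z := by
    intro hlz
    have h1 : (QuotientGroup.mk (⟨l, hl⟩ : ↥L) : ↥L ⧸ Z.subgroupOf L) = 1 := by
      rw [QuotientGroup.eq_one_iff, Subgroup.mem_subgroupOf]
      exact hlz
    rw [h1, orderOf_one] at hq
    exact hℓ.one_lt.ne hq
  have hlpow : l ^ ℓ ∈ Z := by
    have h1 : (QuotientGroup.mk (⟨l, hl⟩ : ↥L) : ↥L ⧸ Z.subgroupOf L) ^ ℓ = 1 := by
      rw [← hq]; exact pow_orderOf_eq_one _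
    rw [← QuotientGroup.mk_pow, QuotientGroup.eq_one_iff, Subgroup.mem_subgroupOf] at h1
    simpa using h1
  -- some l' ∈ L does not commute with l
  have hex : ∃ l' ∈ L, ⁅l, l'⁆ ≠ 1 := by
    by_contra hno
    push Not at hno
    exact hlZ (hZL5 l hl hno)
  obtain ⟨l', hl', hc1⟩ := hex
  obtain ⟨c, hc⟩ : ∃ c : G, c = ⁅l, l'⁆ := ⟨_, rfl⟩
  rw [← hc] at hc1
  have hcZ : c ∈ Z := hc ▸ hcomm' l hl l' hl'
  have hccomm : ∀ g : G, g * c = c * g := fun g => Subgroup.mem_center_iff.mp hcZ g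
  have hrel : l * l' = c * l' * l := by
    rw [hc, commutatorElement_def]; group
  have hpow := pow_mul_of_comm l' l c hrel (hccomm l).symm ℓ
  have hcℓ : c ^ ℓ = 1 := by
    have h1 : l ^ ℓ * l' = l' * l ^ ℓ := (Subgroup.mem_center_iff.mp hlpow l').symm
    rw [h1] at hpow
    have h2 : l' * l ^ ℓ = c ^ ℓ * (l' * l ^ ℓ) := by rw [← mul_assoc]; exact hpow
    have h3 : c ^ ℓ * (l' * l ^ ℓ) = 1 * (l' * l ^ ℓ) := by rw [one_mul]; exact h2.symm
    exact mul_right_cancel h3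
  refine ⟨Subgroup.zpowers c, ?_, ?_, ?_⟩
  · refine ⟨fun n hn g => ?_⟩
    obtain ⟨k, rfl⟩ := Subgroup.mem_zpowers_iff.mp hn
    have : g * c ^ k * g⁻¹ = c ^ k := by
      have h1 : g * c ^ k = c ^ k * g := by
        have : Commute g c := hccomm g
        exact (this.zpow_right k).eq
      rw [h1, mul_inv_cancel_right]
    rw [this]
    exact Subgroup.zpow_mem_zpowers c k
  · have hord : orderOf c = ℓ := orderOf_eq_prime hcℓ hc1
    rw [IsPGroup.iff_card]
    exact ⟨1, by rw [Nat.card_zpowers, hord, pow_one]⟩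
  · intro hbot
    apply hc1
    have : c ∈ Subgroup.zpowers c := Subgroup.mem_zpowers c
    rw [hbot, Subgroup.mem_bot] at this
    exact this

end Cfsg.Agent.Lib.Helper38.Flavell
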