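/-
helper38: module [OPTRIV] of helper2's S3818 (Flavell): a normal `ℓ`-subgroup acts trivially on a
faithful-or-not irreducible module in characteristic `ℓ`.
All declarations live in `Cfsg.Agent.Lib.Helper38.Flavell`.
-/
import Mathlib
import Cfsg.Agent.Lib.Helper87.LinRepCharP

set_option autoImplicit false

namespace Cfsg.Agent.Lib.Helper38.Flavell

open Module

/-- a representation as a homomorphism into linear equivalences -/
noncomputable def repEquivHom {G : Type*} [Group G] {K : Type*} [Field K] {V : Type*}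
    [AddCommGroup V] [Module K V] (ρ : Representation K G V) : G →* (V ≃ₗ[K] V) where
  toFun g := LinearEquiv.ofLinearMap (ρ g) (ρ g⁻¹)
    (by rw [← Module.End.mul_eq_comp, ← map_mul, mul_inv_cancel, map_one]; rfl)
    (by rw [← Module.End.mul_eq_comp, ← map_mul, inv_mul_cancel, map_one]; rfl)
  map_one' := by
    ext v
    simp
  map_mul' := by
    intro a b
    ext v
    simp

theorem repEquivHom_apply {G : Type*} [Group G] {K : Type*} [Field K] {V : Type*}
    [AddCommGroup V] [Module K V] (ρ : Representation K G V) (g : G) (v : V) :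
    repEquivHom ρ g v = ρ g v := rfl

theorem normal_pgroup_acts_trivially {G : Type*} [Group G] [Finite G] {K : Type*} [Field K]
    {V : Type*} [AddCommGroup V] [Module K V] [FiniteDimensional K V] [Nontrivial V]
    (ρ : Representation K G V)
    (hirr : ∀ W : Submodule K V, (∀ g, W ≤ W.comap (ρ g)) → W = ⊥ ∨ W = ⊤)
    (ℓ : ℕ) [Fact ℓ.Prime] [CharP K ℓ] (S : Subgroup G) [S.Normal] (hS : IsPGroup ℓ S) :
    ∀ s ∈ S, ρ s = 1 := by
  -- the fixed space of S
  let W : Submodule K V :=
    { carrier := {v | ∀ s ∈ S, ρ s v = v}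
      add_mem' := by
        intro a b ha hb s hs
        rw [map_add, ha s hs, hb s hs]
      zero_mem' := by
        intro s _
        rw [map_zero]
      smul_mem' := by
        intro c v hv s hs
        rw [map_smul, hv s hs] }
  have hWmem : ∀ v, v ∈ W ↔ ∀ s ∈ S, ρ s v = v := fun _ => Iff.rfl
  have hWinv : ∀ g, W ≤ W.comap (ρ g) := by
    intro g v hv
    rw [Submodule.mem_comap, hWmem]
    intro s hs
    have h1 : g⁻¹ * s * g ∈ S := by
      have := ‹S.Normal›.conj_mem s hs g⁻¹
      simpa using this
    have h2 : ρ s (ρ g v) = ρ g (ρ (g⁻¹ * s * g) v) := by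
      rw [← Module.End.mul_apply, ← Module.End.mul_apply, ← map_mul, ← map_mul]
      congr 2
      group
    rw [h2, (hWmem v).mp hv _ h1]
  have hWne : W ≠ ⊥ := by
    have hpK : (ℓ : K) = 0 := CharP.cast_eq_zero K ℓ
    obtain ⟨x, hx0, hx⟩ := Cfsg.Agent.Lib.Helper87.LinRep.exists_fixed_ne_zero hpK hS
      ((repEquivHom ρ).comp S.subtype)
    intro hbot
    apply hx0
    have hxW : x ∈ W := by
      rw [hWmem]
      intro s hs
      exact hx ⟨s, hs⟩
    rw [hbot] at hxW
    exact (Submodule.mem_bot K).mp hxW
  rcases hirr W hWinv with h | h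
  · exact absurd h hWne
  · intro s hs
    ext v
    have hv : v ∈ W := by rw [h]; exact Submodule.mem_top
    exact (hWmem v).mp hv s hs

end Cfsg.Agent.Lib.Helper38.Flavell
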