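import Mathlib
import Cfsg.Prelude.Def_CaseTheorems

/-!
# Normal form calculus for wreathed 2-groups `Z_{2^n} ≀ Z_2` (Prelude `Cfsg.IsWreathed`)

`IsWr x y z n` bundles the data of `Cfsg.IsWreathed`. We write `al x y i j = x^i * y^j` (`i j : ℤ`).
Every element of `S` is `al i j` or `al i j * z`, with explicit multiplication rules.
-/

set_option autoImplicit false

namespace Cfsg.Agent.Lib.Helper38

/-- the data of a wreathed 2-group -/
structure IsWr {S : Type*} [Group S] (x y z : S) (n : ℕ) : Prop where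
  hn : 2 ≤ n
  card : Nat.card S = 2 ^ (2 * n + 1)
  hx : orderOf x = 2 ^ n
  hxy : x * y = y * x
  hinf : Subgroup.zpowers x ⊓ Subgroup.zpowers y = ⊥
  hz : orderOf z = 2
  hzx : z * x * z⁻¹ = y

theorem exists_isWr {S : Type*} [Group S] (h : Cfsg.IsWreathed S) :
    ∃ (n : ℕ) (x y z : S), IsWr x y z n := by
  obtain ⟨n, hn, hc, x, y, z, hx, hxy, hinf, hz, hzx⟩ := h
  exact ⟨n, x, y, z, ⟨hn, hc, hx, hxy, hinf, hz, hzx⟩⟩

/-- `x^i * y^j` -/
def al {S : Type*} [Group S] (x y : S) (i j : ℤ) : S := x ^ i * y ^ j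

section

variable {S : Type*} [Group S] {x y z : S} {n : ℕ}

namespace IsWr

theorem z_mul_z (h : IsWr x y z n) : z * z = 1 := by
  have := pow_orderOf_eq_one z
  rw [h.hz, pow_two] at this
  exact this

theorem z_inv (h : IsWr x y z n) : z⁻¹ = z := by
  have := h.z_mul_z
  exact inv_eq_of_mul_eq_one_left this

theorem z_ne_one (h : IsWr x y z n) : z ≠ 1 := by
  intro h1
  have := h.hz
  rw [h1, orderOf_one] at this
  omega

theorem zx (h : IsWr x y z n) : z * x = y * z := by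
  have := h.hzx
  rw [← this]; group

theorem zy (h : IsWr x y z n) : z * y = x * z := by
  have h1 := h.zx
  have hz := h.z_mul_z
  calc z * y = z * y * (z * z) := by rw [hz, mul_one]
    _ = z * (y * z) * z := by group
    _ = z * (z * x) * z := by rw [h1]
    _ = (z * z) * x * z := by group
    _ = x * z := by rw [hz, one_mul]

theorem comm (h : IsWr x y z n) : Commute x y := h.hxy

theorem y_eq (h : IsWr x y z n) : y = z * x * z⁻¹ := h.hzx.symm

theorem hy (h : IsWr x y z n) : orderOf y = 2 ^ n := by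
  rw [h.y_eq]
  have := orderOf_injective (MulAut.conj z).toMonoidHom (MulAut.conj z).injective x
  simp only [MulEquiv.toMonoidHom_eq_coe, MonoidHom.coe_coe, MulAut.conj_apply] at this
  rw [this, h.hx]

theorem two_pow_pos : 0 < 2 ^ n := by positivity

theorem x_ne_one (h : IsWr x y z n) : x ≠ 1 := by
  intro h1
  have := h.hx
  rw [h1, orderOf_one] at this
  have h2 : 2 ^ 2 ≤ 2 ^ n := Nat.pow_le_pow_right (by norm_num) h.hn
  omega

theorem z_zpow_x (h : IsWr x y z n) (i : ℤ) : z * x ^ i = y ^ i * z := by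
  have hc : SemiconjBy z x y := h.zx
  exact (hc.zpow_right i)

theorem z_zpow_y (h : IsWr x y z n) (i : ℤ) : z * y ^ i = x ^ i * z := by
  have hc : SemiconjBy z y x := h.zy
  exact (hc.zpow_right i)

theorem xy_zpow_comm (h : IsWr x y z n) (i j : ℤ) : x ^ i * y ^ j = y ^ j * x ^ i :=
  ((h.comm.zpow_zpow i j)).eq

/-! ### multiplication rules -/

theorem al_mul_al (h : IsWr x y z n) (i j k l : ℤ) :
    al x y i j * al x y k l = al x y (i + k) (j + l) := by
  unfold al
  rw [zpow_add, zpow_add]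
  calc x ^ i * y ^ j * (x ^ k * y ^ l) = x ^ i * (y ^ j * x ^ k) * y ^ l := by group
    _ = x ^ i * (x ^ k * y ^ j) * y ^ l := by rw [h.xy_zpow_comm k j]
    _ = x ^ i * x ^ k * (y ^ j * y ^ l) := by group

theorem z_mul_al (h : IsWr x y z n) (i j : ℤ) : z * al x y i j = al x y j i * z := by
  unfold al
  calc z * (x ^ i * y ^ j) = (z * x ^ i) * y ^ j := by group
    _ = y ^ i * (z * y ^ j) := by rw [h.z_zpow_x]; group
    _ = y ^ i * (x ^ j * z) := by rw [h.z_zpow_y]
    _ = (y ^ i * x ^ j) * z := by group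
    _ = x ^ j * y ^ i * z := by rw [h.xy_zpow_comm j i]

theorem alz_mul_al (h : IsWr x y z n) (i j k l : ℤ) :
    (al x y i j * z) * al x y k l = al x y (i + l) (j + k) * z := by
  rw [mul_assoc, h.z_mul_al, ← mul_assoc, h.al_mul_al]

theorem alz_mul_alz (h : IsWr x y z n) (i j k l : ℤ) :
    (al x y i j * z) * (al x y k l * z) = al x y (i + l) (j + k) := by
  rw [← mul_assoc, h.alz_mul_al, mul_assoc, h.z_mul_z, mul_one]

theorem al_mul_alz (h : IsWr x y z n) (i j k l : ℤ) :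
    al x y i j * (al x y k l * z) = al x y (i + k) (j + l) * z := by
  rw [← mul_assoc, h.al_mul_al]

theorem al_zero_zero : al x y 0 0 = 1 := by simp [al]

theorem al_inv (h : IsWr x y z n) (i j : ℤ) : (al x y i j)⁻¹ = al x y (-i) (-j) := by
  apply inv_eq_of_mul_eq_one_right
  rw [h.al_mul_al]; simp [al]

theorem alz_inv (h : IsWr x y z n) (i j : ℤ) : (al x y i j * z)⁻¹ = al x y (-j) (-i) * z := by
  apply inv_eq_of_mul_eq_one_right
  rw [h.alz_mul_alz]; simp [al]

/-! ### equality of normal forms -/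

theorem zpow_x_eq_zpow_y (h : IsWr x y z n) {i j : ℤ} (hij : x ^ i = y ^ j) :
    x ^ i = 1 ∧ y ^ j = 1 := by
  have hmem : x ^ i ∈ Subgroup.zpowers x ⊓ Subgroup.zpowers y := by
    rw [Subgroup.mem_inf]
    exact ⟨⟨i, rfl⟩, ⟨j, hij.symm⟩⟩
  rw [h.hinf, Subgroup.mem_bot] at hmem
  exact ⟨hmem, by rw [← hij]; exact hmem⟩

theorem al_eq_one_iff (h : IsWr x y z n) (i j : ℤ) :
    al x y i j = 1 ↔ ((2 ^ n : ℕ) : ℤ) ∣ i ∧ ((2 ^ n : ℕ) : ℤ) ∣ j := by
  unfold al
  constructor
  · intro hij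
    have h1 : x ^ i = y ^ (-j) := by
      rw [zpow_neg]; exact eq_inv_of_mul_eq_one_left hij
    obtain ⟨hx1, hy1⟩ := h.zpow_x_eq_zpow_y h1
    rw [← h.hx, orderOf_dvd_iff_zpow_eq_one]
    refine ⟨hx1, ?_⟩
    rw [h.hx, ← h.hy, orderOf_dvd_iff_zpow_eq_one]
    rw [zpow_neg, inv_eq_one] at hy1
    exact hy1
  · rintro ⟨hi, hj⟩
    rw [← h.hx, orderOf_dvd_iff_zpow_eq_one] at hi
    rw [← h.hy, orderOf_dvd_iff_zpow_eq_one] at hj
    rw [hi, hj, one_mul]

theorem al_eq_al_iff (h : IsWr x y z n) (i j k l : ℤ) :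
    al x y i j = al x y k l ↔ ((2 ^ n : ℕ) : ℤ) ∣ i - k ∧ ((2 ^ n : ℕ) : ℤ) ∣ j - l := by
  rw [← h.al_eq_one_iff]
  have : al x y (i - k) (j - l) = al x y i j * (al x y k l)⁻¹ := by
    rw [h.al_inv, h.al_mul_al]; congr 1
  rw [this, mul_inv_eq_one]

/-- `z` is not of the form `x^i y^j`. -/
theorem al_ne_z (h : IsWr x y z n) (i j : ℤ) : al x y i j ≠ z := by
  intro hz
  -- then z commutes with x, so y = x
  have hcomm : z * x = x * z := by
    rw [← hz]
    have h1 : al x y i j * x = al x y (i + 1) j := by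
      have := h.al_mul_al i j 1 0
      simpa [al] using this
    have h2 : x * al x y i j = al x y (1 + i) j := by
      have := h.al_mul_al 1 0 i j
      simpa [al] using this
    rw [h1, h2, add_comm]
  have hyx : y = x := by
    rw [h.y_eq, hcomm, mul_inv_cancel_right]
  have hmem : x ∈ Subgroup.zpowers x ⊓ Subgroup.zpowers y := by
    rw [Subgroup.mem_inf]
    refine ⟨Subgroup.mem_zpowers x, ?_⟩
    rw [hyx]; exact Subgroup.mem_zpowers x
  rw [h.hinf, Subgroup.mem_bot] at hmem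
  exact h.x_ne_one hmem

theorem al_ne_alz (h : IsWr x y z n) (i j k l : ℤ) : al x y i j ≠ al x y k l * z := by
  intro he
  have : al x y (i - k) (j - l) = z := by
    have h1 : al x y (i - k) (j - l) = (al x y k l)⁻¹ * al x y i j := by
      rw [h.al_inv, h.al_mul_al]; congr 1 <;> ring
    rw [h1, he, ← mul_assoc, inv_mul_cancel, one_mul]
  exact h.al_ne_z _ _ this

theorem alz_eq_alz_iff (h : IsWr x y z n) (i j k l : ℤ) :
    al x y i j * z = al x y k l * z ↔ ((2 ^ n : ℕ) : ℤ) ∣ i - k ∧ ((2 ^ n : ℕ) : ℤ) ∣ j - l := by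
  rw [mul_left_inj, h.al_eq_al_iff]

end IsWr

end

end Cfsg.Agent.Lib.Helper38
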