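import Mathlib
import Cfsg.Prelude.Def_CaseTheorems
import Cfsg.Agent.Lib.Helper38.Wreathed

/-!
# Normal forms in wreathed 2-groups, II: surjectivity, the abelian subgroup `A`, the center
-/

set_option autoImplicit false

namespace Cfsg.Agent.Lib.Helper38

section

variable {S : Type*} [Group S] {x y z : S} {n : ℕ}

namespace IsWr

/-- parametrization of `S` by `(i, j, e) ↦ x^i y^j z^e` -/
def par (x y z : S) (n : ℕ) (p : Fin (2 ^ n) × Fin (2 ^ n) × Bool) : S :=
  al x y ((p.1 : ℕ) : ℤ) ((p.2.1 : ℕ) : ℤ) * (if p.2.2 then z else 1)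

theorem fin_eq_of_dvd {N : ℕ} (a b : Fin N)
    (h : (N : ℤ) ∣ ((a : ℕ) : ℤ) - ((b : ℕ) : ℤ)) : a = b := by
  have h0 : ((a : ℕ) : ℤ) - ((b : ℕ) : ℤ) = 0 := by
    apply Int.eq_zero_of_abs_lt_dvd h
    have ha := a.isLt
    have hb := b.isLt
    rw [abs_lt]; constructor <;> omega
  ext; omega

theorem par_injective (h : IsWr x y z n) : Function.Injective (par x y z n) := by
  rintro ⟨i, j, e⟩ ⟨k, l, f⟩ hpq
  simp only [par] at hpq
  cases e <;> cases f <;> simp only [if_true, if_false, mul_one, Bool.false_eq_true] at hpq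
  · rw [h.al_eq_al_iff] at hpq
    rw [fin_eq_of_dvd i k hpq.1, fin_eq_of_dvd j l hpq.2]
  · exact absurd hpq (h.al_ne_alz _ _ _ _)
  · exact absurd hpq.symm (h.al_ne_alz _ _ _ _)
  · rw [h.alz_eq_alz_iff] at hpq
    rw [fin_eq_of_dvd i k hpq.1, fin_eq_of_dvd j l hpq.2]

theorem finite (h : IsWr x y z n) : Finite S := by
  apply Nat.finite_of_card_ne_zero
  rw [h.card]; positivity

theorem par_surjective (h : IsWr x y z n) : Function.Surjective (par x y z n) := by
  have := h.finite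
  have hle : Nat.card S ≤ Nat.card (Fin (2 ^ n) × Fin (2 ^ n) × Bool) := by
    rw [h.card, Nat.card_prod, Nat.card_prod, Nat.card_eq_fintype_card, Fintype.card_fin,
      Nat.card_eq_fintype_card, Fintype.card_bool]
    apply le_of_eq; ring
  exact (Function.Injective.bijective_of_nat_card_le h.par_injective hle).2

theorem exists_rep (h : IsWr x y z n) (s : S) :
    (∃ i j : ℤ, s = al x y i j) ∨ (∃ i j : ℤ, s = al x y i j * z) := by
  obtain ⟨⟨i, j, e⟩, rfl⟩ := h.par_surjective s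
  cases e
  · left; exact ⟨((i : ℕ) : ℤ), ((j : ℕ) : ℤ), by simp [par]⟩
  · right; exact ⟨((i : ℕ) : ℤ), ((j : ℕ) : ℤ), by simp [par]⟩

/-! ### the abelian subgroup `A = ⟨x, y⟩` -/

/-- the abelian subgroup `⟨x, y⟩` of index 2 -/
def A (h : IsWr x y z n) : Subgroup S where
  carrier := {s | ∃ i j : ℤ, s = al x y i j}
  mul_mem' := by
    rintro _ _ ⟨i, j, rfl⟩ ⟨k, l, rfl⟩
    exact ⟨_, _, h.al_mul_al i j k l⟩
  one_mem' := ⟨0, 0, al_zero_zero.symm⟩
  inv_mem' := by
    rintro _ ⟨i, j, rfl⟩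
    exact ⟨_, _, h.al_inv i j⟩

theorem mem_A (h : IsWr x y z n) (s : S) : s ∈ h.A ↔ ∃ i j : ℤ, s = al x y i j := Iff.rfl

theorem al_mem_A (h : IsWr x y z n) (i j : ℤ) : al x y i j ∈ h.A := ⟨i, j, rfl⟩

theorem alz_notMem_A (h : IsWr x y z n) (i j : ℤ) : al x y i j * z ∉ h.A := by
  rintro ⟨k, l, hkl⟩
  exact h.al_ne_alz _ _ _ _ hkl.symm

theorem z_notMem_A (h : IsWr x y z n) : z ∉ h.A := by
  have := h.alz_notMem_A 0 0
  rwa [al_zero_zero, one_mul] at this

theorem notMem_A (h : IsWr x y z n) {s : S} (hs : s ∉ h.A) : ∃ i j : ℤ, s = al x y i j * z := by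
  rcases h.exists_rep s with h1 | h1
  · exact absurd h1 hs
  · exact h1

theorem al_comm (h : IsWr x y z n) (i j k l : ℤ) :
    al x y i j * al x y k l = al x y k l * al x y i j := by
  rw [h.al_mul_al, h.al_mul_al, add_comm i k, add_comm j l]

theorem A_comm (h : IsWr x y z n) {s t : S} (hs : s ∈ h.A) (ht : t ∈ h.A) : s * t = t * s := by
  obtain ⟨i, j, rfl⟩ := hs
  obtain ⟨k, l, rfl⟩ := ht
  exact h.al_comm i j k l

/-! ### conjugation formulas -/

theorem conj_al_by_al (h : IsWr x y z n) (k l i j : ℤ) :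
    al x y k l * al x y i j * (al x y k l)⁻¹ = al x y i j := by
  rw [h.al_comm k l i j, mul_inv_cancel_right]

theorem conj_al_by_alz (h : IsWr x y z n) (k l i j : ℤ) :
    (al x y k l * z) * al x y i j * (al x y k l * z)⁻¹ = al x y j i := by
  rw [h.alz_inv, h.alz_mul_al, h.alz_mul_alz]
  congr 1 <;> ring

theorem conj_alz_by_al (h : IsWr x y z n) (k l i j : ℤ) :
    al x y k l * (al x y i j * z) * (al x y k l)⁻¹ = al x y (i + k - l) (j + l - k) * z := by
  rw [h.al_inv, h.al_mul_alz, h.alz_mul_al]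
  congr 2 <;> ring

theorem conj_alz_by_alz (h : IsWr x y z n) (k l i j : ℤ) :
    (al x y k l * z) * (al x y i j * z) * (al x y k l * z)⁻¹ =
      al x y (j + k - l) (i + l - k) * z := by
  rw [h.alz_inv, h.alz_mul_alz, h.al_mul_alz]
  congr 2 <;> ring

theorem A_normal (h : IsWr x y z n) : h.A.Normal := by
  constructor
  rintro _ ⟨i, j, rfl⟩ s
  rcases h.exists_rep s with ⟨k, l, rfl⟩ | ⟨k, l, rfl⟩
  · rw [h.conj_al_by_al]; exact h.al_mem_A _ _
  · rw [h.conj_al_by_alz]; exact h.al_mem_A _ _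

/-! ### commutation -/

theorem al_comm_alz_iff (h : IsWr x y z n) (i j k l : ℤ) :
    al x y i j * (al x y k l * z) = (al x y k l * z) * al x y i j ↔
      ((2 ^ n : ℕ) : ℤ) ∣ i - j := by
  rw [h.al_mul_alz, h.alz_mul_al, h.alz_eq_alz_iff]
  constructor
  · rintro ⟨h1, _⟩
    have : i + k - (k + j) = i - j := by ring
    rwa [this] at h1
  · intro h1
    constructor
    · have : i + k - (k + j) = i - j := by ring
      rwa [this]
    · have : j + l - (l + i) = -(i - j) := by ring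
      rw [this]; exact (dvd_neg).mpr h1

theorem alz_comm_alz_iff (h : IsWr x y z n) (i j k l : ℤ) :
    (al x y i j * z) * (al x y k l * z) = (al x y k l * z) * (al x y i j * z) ↔
      ((2 ^ n : ℕ) : ℤ) ∣ (i + l) - (j + k) := by
  rw [h.alz_mul_alz, h.alz_mul_alz, h.al_eq_al_iff]
  constructor
  · rintro ⟨h1, _⟩
    have : i + l - (k + j) = (i + l) - (j + k) := by ring
    rwa [this] at h1
  · intro h1
    constructor
    · have : i + l - (k + j) = (i + l) - (j + k) := by ring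
      rwa [this]
    · have : j + k - (l + i) = -((i + l) - (j + k)) := by ring
      rw [this]; exact (dvd_neg).mpr h1

theorem one_lt_two_pow (h : IsWr x y z n) : 1 < 2 ^ n := by
  have h2 : 2 ^ 2 ≤ 2 ^ n := Nat.pow_le_pow_right (by norm_num) h.hn
  omega

theorem not_dvd_one (h : IsWr x y z n) : ¬ ((2 ^ n : ℕ) : ℤ) ∣ 1 := by
  intro h1
  have := Int.le_of_dvd (by norm_num) h1
  have h2 := h.one_lt_two_pow
  omega

/-! ### the center -/

theorem al_mem_center_iff (h : IsWr x y z n) (i j : ℤ) :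
    al x y i j ∈ Subgroup.center S ↔ ((2 ^ n : ℕ) : ℤ) ∣ i - j := by
  rw [Subgroup.mem_center_iff]
  constructor
  · intro hc
    have := hc (al x y 0 0 * z)
    rw [eq_comm, h.al_comm_alz_iff] at this
    exact this
  · intro hd s
    rcases h.exists_rep s with ⟨k, l, rfl⟩ | ⟨k, l, rfl⟩
    · exact h.al_comm k l i j
    · rw [eq_comm, h.al_comm_alz_iff]; exact hd

theorem alz_notMem_center (h : IsWr x y z n) (i j : ℤ) :
    al x y i j * z ∉ Subgroup.center S := by
  rw [Subgroup.mem_center_iff]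
  intro hc
  have := hc (al x y 1 0)
  rw [h.al_comm_alz_iff] at this
  simp only [sub_zero] at this
  exact h.not_dvd_one this

theorem center_le_A (h : IsWr x y z n) : Subgroup.center S ≤ h.A := by
  intro s hs
  by_contra hsA
  obtain ⟨i, j, rfl⟩ := h.notMem_A hsA
  exact h.alz_notMem_center i j hs

theorem mem_center_iff (h : IsWr x y z n) (s : S) :
    s ∈ Subgroup.center S ↔ ∃ i : ℤ, s = al x y i i := by
  constructor
  · intro hs
    obtain ⟨i, j, rfl⟩ := h.center_le_A hs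
    rw [h.al_mem_center_iff] at hs
    refine ⟨i, ?_⟩
    rw [h.al_eq_al_iff]
    refine ⟨by simp, ?_⟩
    have : j - i = -(i - j) := by ring
    rw [this]; exact (dvd_neg).mpr hs
  · rintro ⟨i, rfl⟩
    rw [h.al_mem_center_iff]; simp

theorem al_zpow (h : IsWr x y z n) (i j m : ℤ) : (al x y i j) ^ m = al x y (i * m) (j * m) := by
  unfold al
  rw [(h.comm.zpow_zpow i j).mul_zpow, ← zpow_mul, ← zpow_mul]

theorem al_pow (h : IsWr x y z n) (i j : ℤ) (m : ℕ) :
    (al x y i j) ^ m = al x y (i * m) (j * m) := by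
  rw [← zpow_natCast, h.al_zpow]

theorem alz_sq (h : IsWr x y z n) (i j : ℤ) : (al x y i j * z) ^ 2 = al x y (i + j) (i + j) := by
  rw [pow_two, h.alz_mul_alz, add_comm j i]

theorem xy_eq : x * y = al x y 1 1 := by simp [al]

theorem orderOf_al_of (h : IsWr x y z n) (i j : ℤ)
    (hij : ∀ m : ℤ, ((2 ^ n : ℕ) : ℤ) ∣ i * m ∧ ((2 ^ n : ℕ) : ℤ) ∣ j * m ↔ ((2 ^ n : ℕ) : ℤ) ∣ m) :
    orderOf (al x y i j) = 2 ^ n := by
  apply Nat.dvd_antisymm
  · rw [orderOf_dvd_iff_pow_eq_one, h.al_pow, h.al_eq_one_iff]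
    exact (hij _).mpr dvd_rfl
  · have h1 := pow_orderOf_eq_one (al x y i j)
    rw [h.al_pow, h.al_eq_one_iff, hij] at h1
    exact Int.natCast_dvd_natCast.mp h1

theorem orderOf_xy (h : IsWr x y z n) : orderOf (x * y) = 2 ^ n := by
  rw [xy_eq]
  apply h.orderOf_al_of
  intro m
  simp

theorem center_eq (h : IsWr x y z n) : Subgroup.center S = Subgroup.zpowers (x * y) := by
  ext s
  rw [h.mem_center_iff, Subgroup.mem_zpowers_iff]
  constructor
  · rintro ⟨i, rfl⟩
    refine ⟨i, ?_⟩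
    rw [xy_eq, h.al_zpow]; simp
  · rintro ⟨i, rfl⟩
    refine ⟨i, ?_⟩
    rw [xy_eq, h.al_zpow]; simp

theorem card_center (h : IsWr x y z n) : Nat.card (Subgroup.center S) = 2 ^ n := by
  rw [h.center_eq, Nat.card_zpowers, h.orderOf_xy]

theorem center_isCyclic (h : IsWr x y z n) : IsCyclic (Subgroup.center S) := by
  rw [h.center_eq]; infer_instance

/-! ### index and order of `A` -/

theorem A_index (h : IsWr x y z n) : h.A.index = 2 := by
  rw [Subgroup.index_eq_two_iff]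
  refine ⟨z, fun s => ?_⟩
  rcases h.exists_rep s with ⟨i, j, rfl⟩ | ⟨i, j, rfl⟩
  · exact Or.inr ⟨h.al_mem_A i j, h.alz_notMem_A i j⟩
  · refine Or.inl ⟨?_, h.alz_notMem_A i j⟩
    rw [mul_assoc, h.z_mul_z, mul_one]; exact h.al_mem_A i j

theorem card_A (h : IsWr x y z n) : Nat.card h.A = 2 ^ (2 * n) := by
  have h1 := h.A.card_mul_index
  rw [h.A_index, h.card, pow_succ] at h1
  exact Nat.eq_of_mul_eq_mul_right (by norm_num) h1

end IsWr

end

end Cfsg.Agent.Lib.Helper38
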