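import Mathlib
import Cfsg.Prelude.Def_CaseTheorems
import Cfsg.Agent.Lib.Helper38.WreathedNF

/-!
# Normal forms in wreathed 2-groups, III: involutions, the coordinate function `nf`
-/

set_option autoImplicit false

namespace Cfsg.Agent.Lib.Helper38

section

variable {S : Type*} [Group S] {x y z : S} {n : ℕ}

namespace IsWr

theorem N_eq (h : IsWr x y z n) : ((2 ^ n : ℕ) : ℤ) = 2 * ((2 ^ (n - 1) : ℕ) : ℤ) := by
  have hn := h.hn
  have : n = (n - 1) + 1 := by omega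
  conv_lhs => rw [this, pow_succ]
  push_cast; ring

theorem M_pos : (0 : ℤ) < ((2 ^ (n - 1) : ℕ) : ℤ) := by positivity

theorem N_dvd_two_mul_iff (h : IsWr x y z n) (i : ℤ) :
    ((2 ^ n : ℕ) : ℤ) ∣ 2 * i ↔ ((2 ^ (n - 1) : ℕ) : ℤ) ∣ i := by
  rw [h.N_eq]
  exact Int.mul_dvd_mul_iff_left (by norm_num)

theorem M_dvd_N (h : IsWr x y z n) : ((2 ^ (n - 1) : ℕ) : ℤ) ∣ ((2 ^ n : ℕ) : ℤ) := by
  rw [h.N_eq]; exact dvd_mul_left _ _

theorem not_N_dvd_M (h : IsWr x y z n) : ¬ ((2 ^ n : ℕ) : ℤ) ∣ ((2 ^ (n - 1) : ℕ) : ℤ) := by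
  intro hd
  have := Int.le_of_dvd M_pos hd
  rw [h.N_eq] at this
  have := @M_pos n
  omega

theorem dvd_or_dvd_sub (h : IsWr x y z n) {i : ℤ} (hi : ((2 ^ (n - 1) : ℕ) : ℤ) ∣ i) :
    ((2 ^ n : ℕ) : ℤ) ∣ i ∨ ((2 ^ n : ℕ) : ℤ) ∣ i - ((2 ^ (n - 1) : ℕ) : ℤ) := by
  obtain ⟨c, rfl⟩ := hi
  rw [h.N_eq]
  rcases Int.even_or_odd' c with ⟨d, rfl | rfl⟩
  · left; exact ⟨d, by ring⟩
  · right; exact ⟨d, by ring⟩

/-! ### involutions -/

theorem alz_ne_one (h : IsWr x y z n) (i j : ℤ) : al x y i j * z ≠ 1 := by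
  intro h1
  have := h.al_ne_alz 0 0 i j
  rw [al_zero_zero] at this
  exact this h1.symm

theorem orderOf_alz_eq_two_iff (h : IsWr x y z n) (i j : ℤ) :
    orderOf (al x y i j * z) = 2 ↔ ((2 ^ n : ℕ) : ℤ) ∣ i + j := by
  have : Fact (Nat.Prime 2) := ⟨Nat.prime_two⟩
  rw [orderOf_eq_prime_iff, h.alz_sq, h.al_eq_one_iff]
  constructor
  · rintro ⟨⟨h1, _⟩, _⟩; exact h1
  · intro h1; exact ⟨⟨h1, h1⟩, h.alz_ne_one i j⟩

theorem orderOf_al_eq_two_iff (h : IsWr x y z n) (i j : ℤ) :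
    orderOf (al x y i j) = 2 ↔
      (((2 ^ (n - 1) : ℕ) : ℤ) ∣ i ∧ ((2 ^ (n - 1) : ℕ) : ℤ) ∣ j) ∧
        ¬ (((2 ^ n : ℕ) : ℤ) ∣ i ∧ ((2 ^ n : ℕ) : ℤ) ∣ j) := by
  have : Fact (Nat.Prime 2) := ⟨Nat.prime_two⟩
  rw [orderOf_eq_prime_iff, h.al_pow, h.al_eq_one_iff, Ne, h.al_eq_one_iff]
  have e1 : i * ((2 : ℕ) : ℤ) = 2 * i := by push_cast; ring
  have e2 : j * ((2 : ℕ) : ℤ) = 2 * j := by push_cast; ring
  rw [e1, e2, h.N_dvd_two_mul_iff, h.N_dvd_two_mul_iff]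

/-- the three involutions of `A` and the involutions outside `A` -/
theorem involution_cases (h : IsWr x y z n) {t : S} (ht : orderOf t = 2) :
    t = al x y ((2 ^ (n - 1) : ℕ) : ℤ) 0 ∨ t = al x y 0 ((2 ^ (n - 1) : ℕ) : ℤ) ∨
      t = al x y ((2 ^ (n - 1) : ℕ) : ℤ) ((2 ^ (n - 1) : ℕ) : ℤ) ∨
        ∃ i : ℤ, t = al x y i (-i) * z := by
  rcases h.exists_rep t with ⟨i, j, rfl⟩ | ⟨i, j, rfl⟩
  · rw [h.orderOf_al_eq_two_iff] at ht
    obtain ⟨⟨hi, hj⟩, hne⟩ := ht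
    rcases h.dvd_or_dvd_sub hi with hi' | hi' <;> rcases h.dvd_or_dvd_sub hj with hj' | hj'
    · exact absurd ⟨hi', hj'⟩ hne
    · right; left
      rw [h.al_eq_al_iff]; exact ⟨by simpa using hi', hj'⟩
    · left
      rw [h.al_eq_al_iff]; exact ⟨hi', by simpa using hj'⟩
    · right; right; left
      rw [h.al_eq_al_iff]; exact ⟨hi', hj'⟩
  · rw [h.orderOf_alz_eq_two_iff] at ht
    right; right; right
    refine ⟨i, ?_⟩
    rw [h.alz_eq_alz_iff]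
    refine ⟨by simp, ?_⟩
    have : j - -i = i + j := by ring
    rw [this]; exact ht

theorem orderOf_a (h : IsWr x y z n) : orderOf (al x y ((2 ^ (n - 1) : ℕ) : ℤ) 0) = 2 := by
  rw [h.orderOf_al_eq_two_iff]
  exact ⟨⟨dvd_rfl, dvd_zero _⟩, fun hh => h.not_N_dvd_M hh.1⟩

theorem orderOf_b (h : IsWr x y z n) : orderOf (al x y 0 ((2 ^ (n - 1) : ℕ) : ℤ)) = 2 := by
  rw [h.orderOf_al_eq_two_iff]
  exact ⟨⟨dvd_zero _, dvd_rfl⟩, fun hh => h.not_N_dvd_M hh.2⟩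

theorem orderOf_ab (h : IsWr x y z n) :
    orderOf (al x y ((2 ^ (n - 1) : ℕ) : ℤ) ((2 ^ (n - 1) : ℕ) : ℤ)) = 2 := by
  rw [h.orderOf_al_eq_two_iff]
  exact ⟨⟨dvd_rfl, dvd_rfl⟩, fun hh => h.not_N_dvd_M hh.2⟩

/-- every involution outside `A` is conjugate to `z` -/
theorem conj_to_z (h : IsWr x y z n) (i : ℤ) :
    al x y (-i) 0 * (al x y i (-i) * z) * (al x y (-i) 0)⁻¹ = z := by
  rw [h.conj_alz_by_al]
  have h1 : i + -i - 0 = 0 := by ring
  have h2 : -i + 0 - -i = 0 := by ring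
  rw [h1, h2, al_zero_zero, one_mul]

/-! ### the coordinate function -/

/-- coordinates `(i, j, e)` of `s = x^i y^j z^e` -/
noncomputable def nf (h : IsWr x y z n) (s : S) : ZMod (2 ^ n) × ZMod (2 ^ n) × Bool :=
  let p := (Equiv.ofBijective (par x y z n) ⟨h.par_injective, h.par_surjective⟩).symm s
  (((p.1 : ℕ) : ZMod (2 ^ n)), ((p.2.1 : ℕ) : ZMod (2 ^ n)), p.2.2)

theorem par_symm (h : IsWr x y z n) (s : S) :
    par x y z n ((Equiv.ofBijective (par x y z n) ⟨h.par_injective, h.par_surjective⟩).symm s) = s :=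
  (Equiv.ofBijective (par x y z n) ⟨h.par_injective, h.par_surjective⟩).apply_symm_apply s

theorem intCast_eq_of_dvd {a b : ℤ} (hd : ((2 ^ n : ℕ) : ℤ) ∣ a - b) :
    (a : ZMod (2 ^ n)) = (b : ZMod (2 ^ n)) := by
  rw [eq_comm, ZMod.intCast_eq_intCast_iff_dvd_sub]
  exact hd

theorem nf_al (h : IsWr x y z n) (i j : ℤ) :
    h.nf (al x y i j) = ((i : ZMod (2 ^ n)), (j : ZMod (2 ^ n)), false) := by
  have hp := h.par_symm (al x y i j)
  unfold nf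
  generalize (Equiv.ofBijective (par x y z n) ⟨h.par_injective, h.par_surjective⟩).symm
    (al x y i j) = p at hp ⊢
  obtain ⟨k, l, e⟩ := p
  cases e
  · simp only [par, Bool.false_eq_true, if_false, mul_one] at hp
    rw [h.al_eq_al_iff] at hp
    simp only
    rw [← intCast_eq_of_dvd hp.1, ← intCast_eq_of_dvd hp.2]
    simp
  · simp only [par, if_true] at hp
    exact absurd hp.symm (h.al_ne_alz _ _ _ _)

theorem nf_alz (h : IsWr x y z n) (i j : ℤ) :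
    h.nf (al x y i j * z) = ((i : ZMod (2 ^ n)), (j : ZMod (2 ^ n)), true) := by
  have hp := h.par_symm (al x y i j * z)
  unfold nf
  generalize (Equiv.ofBijective (par x y z n) ⟨h.par_injective, h.par_surjective⟩).symm
    (al x y i j * z) = p at hp ⊢
  obtain ⟨k, l, e⟩ := p
  cases e
  · simp only [par, Bool.false_eq_true, if_false, mul_one] at hp
    exact absurd hp (h.al_ne_alz _ _ _ _)
  · simp only [par, if_true] at hp
    rw [h.alz_eq_alz_iff] at hp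
    simp only
    rw [← intCast_eq_of_dvd hp.1, ← intCast_eq_of_dvd hp.2]
    simp

end IsWr

end

end Cfsg.Agent.Lib.Helper38
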