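import Mathlib
import Cfsg.Prelude.Def_CaseTheorems
import Cfsg.Agent.Lib.Helper38.WreathedInv

/-!
# Wreathed 2-groups, IV: matching the exponent, the derived subgroup, the dihedral quotient
-/

set_option autoImplicit false

namespace Cfsg.Agent.Lib.Helper38

theorem exists_isWr_of_card {S : Type*} [Group S] (hS : Cfsg.IsWreathed S) (n : ℕ)
    (hn : Nat.card S = 2 ^ (2 * n + 1)) : ∃ (x y z : S), IsWr x y z n := by
  obtain ⟨m, x, y, z, h⟩ := exists_isWr hS
  have h1 := h.card
  rw [hn] at h1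
  have h2 := Nat.pow_right_injective (le_refl 2) h1
  have h3 : n = m := by omega
  subst h3
  exact ⟨x, y, z, h⟩

section

variable {S : Type*} [Group S] {x y z : S} {n : ℕ}

namespace IsWr

/-! ### the derived subgroup -/

theorem mem_zpowers_D (h : IsWr x y z n) (s : S) :
    s ∈ Subgroup.zpowers (al x y (-1) 1) ↔ ∃ m : ℤ, s = al x y (-m) m := by
  rw [Subgroup.mem_zpowers_iff]
  constructor
  · rintro ⟨m, rfl⟩
    refine ⟨m, ?_⟩
    rw [h.al_zpow]; simp
  · rintro ⟨m, rfl⟩
    refine ⟨m, ?_⟩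
    rw [h.al_zpow]; simp

theorem al_mem_D (h : IsWr x y z n) {p q : ℤ} (hpq : p + q = 0) :
    al x y p q ∈ Subgroup.zpowers (al x y (-1) 1) := by
  rw [h.mem_zpowers_D]
  refine ⟨q, ?_⟩
  have : p = -q := by omega
  rw [this]

theorem commutator_eq (h : IsWr x y z n) :
    commutator S = Subgroup.zpowers (al x y (-1) 1) := by
  apply le_antisymm
  · rw [commutator_eq_closure, Subgroup.closure_le]
    rintro _ ⟨g₁, g₂, rfl⟩
    rw [SetLike.mem_coe, commutatorElement_def]
    rcases h.exists_rep g₁ with ⟨i, j, rfl⟩ | ⟨i, j, rfl⟩ <;>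
      rcases h.exists_rep g₂ with ⟨k, l, rfl⟩ | ⟨k, l, rfl⟩
    · rw [h.conj_al_by_al, mul_inv_cancel]; exact one_mem _
    · rw [h.conj_alz_by_al, h.alz_inv, h.alz_mul_alz]
      exact h.al_mem_D (by ring)
    · rw [h.conj_al_by_alz, h.al_inv, h.al_mul_al]
      exact h.al_mem_D (by ring)
    · rw [h.conj_alz_by_alz, h.alz_inv, h.alz_mul_alz]
      exact h.al_mem_D (by ring)
  · rw [Subgroup.zpowers_le, commutator_eq_closure]
    apply Subgroup.subset_closure
    refine ⟨z, x, ?_⟩
    rw [commutatorElement_def, h.hzx]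
    simp only [al, zpow_neg, zpow_one]
    exact (h.comm.inv_left).eq.symm

theorem orderOf_D (h : IsWr x y z n) : orderOf (al x y (-1) 1) = 2 ^ n := by
  apply h.orderOf_al_of
  intro m
  simp

theorem card_commutator (h : IsWr x y z n) : Nat.card (commutator S) = 2 ^ n := by
  rw [h.commutator_eq, Nat.card_zpowers, h.orderOf_D]

theorem commutator_isCyclic (h : IsWr x y z n) : IsCyclic (commutator S) := by
  rw [h.commutator_eq]; infer_instance

/-! ### the quotient by the center is dihedral -/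

/-- the map to the dihedral group, as a function -/
noncomputable def toDihFun (h : IsWr x y z n) (s : S) : DihedralGroup (2 ^ n) :=
  match h.nf s with
  | (i, j, false) => DihedralGroup.r (i - j)
  | (i, j, true) => DihedralGroup.sr (j - i)

theorem toDihFun_al (h : IsWr x y z n) (i j : ℤ) :
    h.toDihFun (al x y i j) = DihedralGroup.r ((i : ZMod (2 ^ n)) - (j : ZMod (2 ^ n))) := by
  unfold toDihFun; rw [h.nf_al]

theorem toDihFun_alz (h : IsWr x y z n) (i j : ℤ) :
    h.toDihFun (al x y i j * z) =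
      DihedralGroup.sr ((j : ZMod (2 ^ n)) - (i : ZMod (2 ^ n))) := by
  unfold toDihFun; rw [h.nf_alz]

/-- the surjection onto the dihedral group with kernel the center -/
noncomputable def toDih (h : IsWr x y z n) : S →* DihedralGroup (2 ^ n) :=
  MonoidHom.mk' h.toDihFun (by
    intro s t
    rcases h.exists_rep s with ⟨i, j, rfl⟩ | ⟨i, j, rfl⟩ <;>
      rcases h.exists_rep t with ⟨k, l, rfl⟩ | ⟨k, l, rfl⟩
    · rw [h.al_mul_al, h.toDihFun_al, h.toDihFun_al, h.toDihFun_al, DihedralGroup.r_mul_r]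
      congr 1; push_cast; ring
    · rw [h.al_mul_alz, h.toDihFun_al, h.toDihFun_alz, h.toDihFun_alz, DihedralGroup.r_mul_sr]
      congr 1; push_cast; ring
    · rw [h.alz_mul_al, h.toDihFun_al, h.toDihFun_alz, h.toDihFun_alz, DihedralGroup.sr_mul_r]
      congr 1; push_cast; ring
    · rw [h.alz_mul_alz, h.toDihFun_al, h.toDihFun_alz, h.toDihFun_alz, DihedralGroup.sr_mul_sr]
      congr 1; push_cast; ring)

theorem toDih_al (h : IsWr x y z n) (i j : ℤ) :
    h.toDih (al x y i j) = DihedralGroup.r ((i : ZMod (2 ^ n)) - (j : ZMod (2 ^ n))) :=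
  h.toDihFun_al i j

theorem toDih_alz (h : IsWr x y z n) (i j : ℤ) :
    h.toDih (al x y i j * z) = DihedralGroup.sr ((j : ZMod (2 ^ n)) - (i : ZMod (2 ^ n))) :=
  h.toDihFun_alz i j

theorem toDih_surjective (h : IsWr x y z n) : Function.Surjective h.toDih := by
  intro d
  cases d with
  | r k =>
    obtain ⟨i, rfl⟩ := ZMod.intCast_surjective k
    refine ⟨al x y i 0, ?_⟩
    rw [h.toDih_al]; simp
  | sr k =>
    obtain ⟨i, rfl⟩ := ZMod.intCast_surjective k
    refine ⟨al x y 0 i * z, ?_⟩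
    rw [h.toDih_alz]; simp

theorem toDih_ker (h : IsWr x y z n) : h.toDih.ker = Subgroup.center S := by
  ext s
  rw [MonoidHom.mem_ker]
  rcases h.exists_rep s with ⟨i, j, rfl⟩ | ⟨i, j, rfl⟩
  · rw [h.toDih_al, h.al_mem_center_iff, DihedralGroup.one_def]
    constructor
    · intro h1
      have h2 : ((i : ZMod (2 ^ n)) - (j : ZMod (2 ^ n))) = 0 := by
        injection h1
      have h3 : ((i - j : ℤ) : ZMod (2 ^ n)) = 0 := by push_cast; exact h2
      exact (ZMod.intCast_zmod_eq_zero_iff_dvd _ _).mp h3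
    · intro h1
      have h3 : ((i - j : ℤ) : ZMod (2 ^ n)) = 0 :=
        (ZMod.intCast_zmod_eq_zero_iff_dvd _ _).mpr h1
      push_cast at h3
      rw [h3]
  · rw [h.toDih_alz, DihedralGroup.one_def]
    constructor
    · intro h1; cases h1
    · intro h1; exact absurd h1 (h.alz_notMem_center i j)

/-- `S / Z(S)` is dihedral of order `2^(n+1)` -/
noncomputable def quotCenterEquiv (h : IsWr x y z n) :
    S ⧸ Subgroup.center S ≃* DihedralGroup (2 ^ n) :=
  (QuotientGroup.quotientMulEquivOfEq h.toDih_ker.symm).trans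
    (QuotientGroup.quotientKerEquivOfSurjective h.toDih h.toDih_surjective)

end IsWr

end

end Cfsg.Agent.Lib.Helper38
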