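import Mathlib

/-!
# The Klein four-subgroup generated by two commuting involutions
-/

set_option autoImplicit false

namespace Cfsg.Agent.Lib.Helper38

/-- The four-group `{1, u, v, u v}` generated by two commuting involutions. -/
def klein4 {G : Type*} [Group G] (u v : G) (hu : u * u = 1) (hv : v * v = 1)
    (hc : u * v = v * u) : Subgroup G where
  carrier := {x | x = 1 ∨ x = u ∨ x = v ∨ x = u * v}
  one_mem' := Or.inl rfl
  mul_mem' := by
    intro x y hx hy
    have e1 : u * (u * v) = v := by rw [← mul_assoc, hu, one_mul]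
    have e2 : v * u = u * v := hc.symm
    have e3 : v * (u * v) = u := by rw [← mul_assoc, e2, mul_assoc, hv, mul_one]
    have e4 : u * v * u = v := by rw [mul_assoc, e2, ← mul_assoc, hu, one_mul]
    have e5 : u * v * v = u := by rw [mul_assoc, hv, mul_one]
    have e6 : u * v * (u * v) = 1 := by rw [mul_assoc, e3, hu]
    simp only [Set.mem_ofPred_eq] at hx hy ⊢
    rcases hx with rfl | rfl | rfl | rfl <;> rcases hy with rfl | rfl | rfl | rfl <;>
      simp [hu, hv, e1, e2, e3, e4, e5, e6]
  inv_mem' := by
    intro x hx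
    have i1 : u⁻¹ = u := inv_eq_of_mul_eq_one_left hu
    have i2 : v⁻¹ = v := inv_eq_of_mul_eq_one_left hv
    have i3 : (u * v)⁻¹ = u * v := by rw [mul_inv_rev, i1, i2, hc]
    simp only [Set.mem_ofPred_eq] at hx ⊢
    rcases hx with rfl | rfl | rfl | rfl <;> simp [i1, i2, i3]

theorem mem_klein4 {G : Type*} [Group G] (u v : G) (hu : u * u = 1) (hv : v * v = 1)
    (hc : u * v = v * u) (x : G) :
    x ∈ klein4 u v hu hv hc ↔ (x = 1 ∨ x = u ∨ x = v ∨ x = u * v) := Iff.rfl

theorem card_klein4 {G : Type*} [Group G] (u v : G) (hu : u * u = 1) (hv : v * v = 1)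
    (hc : u * v = v * u) (hu1 : u ≠ 1) (hv1 : v ≠ 1) (huv : u ≠ v) :
    Nat.card (klein4 u v hu hv hc) = 4 := by
  have hset : ((klein4 u v hu hv hc : Subgroup G) : Set G) = insert 1 {u, v, u * v} := by
    ext x
    simp only [SetLike.mem_coe, mem_klein4, Set.mem_insert_iff, Set.mem_singleton_iff]
  have h3 : ({u, v, u * v} : Set G).ncard = 3 := by
    rw [Set.ncard_eq_three]
    refine ⟨u, v, u * v, huv, ?_, ?_, rfl⟩
    · intro h1
      apply hv1
      have : u * 1 = u * v := by rw [mul_one]; exact h1
      exact (mul_left_cancel this).symm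
    · intro h1
      apply hu1
      have : 1 * v = u * v := by rw [one_mul]; exact h1
      exact (mul_right_cancel this).symm
  have h1 : (1 : G) ∉ ({u, v, u * v} : Set G) := by
    simp only [Set.mem_insert_iff, Set.mem_singleton_iff, not_or]
    refine ⟨fun h => hu1 h.symm, fun h => hv1 h.symm, ?_⟩
    intro h
    apply huv
    have h2 : u * v = v * v := by rw [hv]; exact h.symm
    exact mul_right_cancel h2
  show Nat.card ↥((klein4 u v hu hv hc : Subgroup G) : Set G) = 4
  rw [Nat.card_coe_set_eq, hset, Set.ncard_insert_of_notMem h1 (Set.toFinite _), h3]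

theorem isKleinFour_klein4 {G : Type*} [Group G] (u v : G) (hu : u * u = 1) (hv : v * v = 1)
    (hc : u * v = v * u) (hu1 : u ≠ 1) (hv1 : v ≠ 1) (huv : u ≠ v) :
    IsKleinFour (klein4 u v hu hv hc) := by
  refine ⟨card_klein4 u v hu hv hc hu1 hv1 huv, ?_⟩
  apply Nat.dvd_antisymm
  · apply Monoid.exponent_dvd_of_forall_pow_eq_one
    rintro ⟨x, hx⟩
    apply Subtype.ext
    simp only [Subgroup.coe_one, pow_two]
    have e3 : u * v * (u * v) = 1 := by
      calc u * v * (u * v) = u * (v * u) * v := by group
        _ = u * (u * v) * v := by rw [hc]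
        _ = (u * u) * (v * v) := by group
        _ = 1 := by rw [hu, hv, one_mul]
    rcases hx with rfl | rfl | rfl | rfl
    · simp
    · exact hu
    · exact hv
    · exact e3
  · have h1 : orderOf (⟨u, Or.inr (Or.inl rfl)⟩ : klein4 u v hu hv hc) = 2 := by
      have : Fact (Nat.Prime 2) := ⟨Nat.prime_two⟩
      rw [orderOf_eq_prime_iff]
      constructor
      · apply Subtype.ext
        simp only [Subgroup.coe_one, pow_two]
        exact hu
      · intro h
        exact hu1 (congrArg Subtype.val h)
    rw [← h1]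
    exact Monoid.order_dvd_exponent _

/-- elements of a Klein four-subgroup square to one -/
theorem IsKleinFour_mul_self {G : Type*} [Group G] (T : Subgroup G) (hT : IsKleinFour T) {t : G}
    (ht : t ∈ T) : t * t = 1 := by
  have := IsKleinFour.mul_self (⟨t, ht⟩ : T)
  exact congrArg Subtype.val this

/-- elements of a Klein four-subgroup commute -/
theorem IsKleinFour_comm {G : Type*} [Group G] (T : Subgroup G) (hT : IsKleinFour T) {s t : G}
    (hs : s ∈ T) (ht : t ∈ T) : s * t = t * s := by
  have h1 : ∀ g : G, g ∈ T → g⁻¹ = g := fun g hg =>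
    inv_eq_of_mul_eq_one_left (IsKleinFour_mul_self T hT hg)
  have h2 := h1 (s * t) (T.mul_mem hs ht)
  rw [mul_inv_rev, h1 s hs, h1 t ht] at h2
  exact h2.symm

end Cfsg.Agent.Lib.Helper38
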