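/-
helper38, project ASCHSP (helper23, S5662).  MODULE ASCHSP-[KSYM] (hedge): `slot_forms_congruent`.

`h ∈ H` carries `Q i` to `Q j` (`CompSys.trans`); in `idx`-coordinates `g = B h B⁻¹` carries the slot algebra `i` to the slot
algebra `j` (helper99's `slot_conj`), so by Skolem-Noether (two-slot version of helper15's `exists_conj_of_slot`)
`g (slot_i a) g⁻¹ = slot_j (u a u⁻¹)`.  For `x ∈ Q i` with slot matrix `a` the element `h x h⁻¹ ∈ Q j` has slot matrix
`u a u⁻¹`, which preserves `G j`; hence `a` preserves `X = uᵀ (G j) u` as well as `G i`, so `(G i)⁻¹ X` commutes with all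
these `a`, hence (the `a` span the matrix algebra) with all matrices, hence is a scalar `c`, and `X = c • G i`.
-/
import Mathlib
import Cfsg.Prelude.Def_GeometricClasses
import Cfsg.Agent.Lib.Helper99.AschDefs
import Cfsg.Agent.Lib.Helper99.AschUtil4
import Cfsg.Agent.Lib.Helper15.AschSlotNormLib
import Cfsg.Agent.Lib.Helper23.AschSpDefs

set_option autoImplicit false

namespace Cfsg.Agent.Lib.Helper38.AschSpKSym

open Cfsg Cfsg.Geo Cfsg.Agent.Lib.Helper99.Asch Cfsg.Agent.Lib.Helper23.AschSp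
open scoped MatrixGroups Matrix Kronecker

variable {F : Type*} [Field F] {k d : ℕ}

open Cfsg.Agent.Lib.Helper15.AschSlotNorm in
/-- two-slot version of helper15's `exists_conj_of_slot` -/
theorem exists_conj_of_slot_two (hd : 0 < d) (i j : Fin k)
    (G Ginv : Matrix (Fin k → Fin d) (Fin k → Fin d) F) (h1 : G * Ginv = 1) (h2 : Ginv * G = 1)
    (h : ∀ a : Matrix (Fin d) (Fin d) F, ∃ a' : Matrix (Fin d) (Fin d) F,
      G * slotMatrix i a * Ginv = slotMatrix j a') :
    ∃ b : GL (Fin d) F, ∀ a : Matrix (Fin d) (Fin d) F,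
      G * slotMatrix i a * Ginv =
        slotMatrix j ((b : Matrix (Fin d) (Fin d) F) * a * ((b⁻¹ : GL (Fin d) F) : Matrix (Fin d) (Fin d) F)) := by
  choose ψ hψ using h
  have inj := slot_injective (F := F) (k := k) hd j
  let φ : Matrix (Fin d) (Fin d) F →ₐ[F] Matrix (Fin d) (Fin d) F :=
    { toFun := ψ
      map_one' := by
        apply inj
        rw [← hψ, slot_one, slot_one, Matrix.mul_one, h1]
      map_mul' := by
        intro a b
        apply inj
        rw [← hψ, slot_mul, slot_mul, ← hψ, ← hψ]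
        calc G * (slotMatrix i a * slotMatrix i b) * Ginv
            = G * slotMatrix i a * 1 * slotMatrix i b * Ginv := by
              rw [Matrix.mul_one]; simp only [Matrix.mul_assoc]
          _ = G * slotMatrix i a * (Ginv * G) * slotMatrix i b * Ginv := by rw [h2]
          _ = G * slotMatrix i a * Ginv * (G * slotMatrix i b * Ginv) := by
              simp only [Matrix.mul_assoc]
      map_zero' := by
        apply inj
        rw [← hψ, slot_zero, slot_zero]; simp
      map_add' := by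
        intro a b
        apply inj
        rw [← hψ, slot_add, slot_add, ← hψ, ← hψ, Matrix.mul_add, Matrix.add_mul]
      commutes' := by
        intro c
        apply inj
        rw [← hψ, Algebra.algebraMap_eq_smul_one, slot_smul, slot_one, slot_smul, slot_one]
        rw [Matrix.mul_smul, Matrix.smul_mul, Matrix.mul_one, h1] }
  obtain ⟨b, hb⟩ := Cfsg.Agent.Lib.Helper99.Asch.skolem_noether φ
  refine ⟨b, fun a => ?_⟩
  rw [hψ a]
  congr 1
  exact hb a

/-- if `a` preserves the invertible Gram matrix `G` and the Gram matrix `X`, it commutes with `G⁻¹ X` -/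
theorem commute_of_invariant {G X N : Matrix (Fin d) (Fin d) F}
    (hNG : N * G = 1) (hGN : G * N = 1) (a : GL (Fin d) F)
    (hG : (a : Matrix (Fin d) (Fin d) F)ᵀ * G * (a : Matrix (Fin d) (Fin d) F) = G)
    (hX : (a : Matrix (Fin d) (Fin d) F)ᵀ * X * (a : Matrix (Fin d) (Fin d) F) = X) :
    (N * X) * (a : Matrix (Fin d) (Fin d) F) = (a : Matrix (Fin d) (Fin d) F) * (N * X) := by
  set A : Matrix (Fin d) (Fin d) F := (a : Matrix (Fin d) (Fin d) F) with hA
  set A' : Matrix (Fin d) (Fin d) F := ((a⁻¹ : GL (Fin d) F) : Matrix (Fin d) (Fin d) F)ᵀ with hA'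
  have h0 : A' * Aᵀ = 1 := by
    rw [hA', hA, ← Matrix.transpose_mul, ← Units.val_mul, mul_inv_cancel, Units.val_one,
      Matrix.transpose_one]
  have hGa : G * A = A' * G := by
    calc G * A = (A' * Aᵀ) * G * A := by rw [h0, Matrix.one_mul]
      _ = A' * (Aᵀ * G * A) := by simp only [Matrix.mul_assoc]
      _ = A' * G := by rw [hG]
  have hXa : X * A = A' * X := by
    calc X * A = (A' * Aᵀ) * X * A := by rw [h0, Matrix.one_mul]
      _ = A' * (Aᵀ * X * A) := by simp only [Matrix.mul_assoc]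
      _ = A' * X := by rw [hX]
  have haN : A * N = N * A' := by
    calc A * N = (N * G) * A * N := by rw [hNG, Matrix.one_mul]
      _ = N * (G * A) * N := by simp only [Matrix.mul_assoc]
      _ = N * (A' * G) * N := by rw [hGa]
      _ = N * A' * (G * N) := by simp only [Matrix.mul_assoc]
      _ = N * A' := by rw [hGN, Matrix.mul_one]
  calc N * X * A = N * (X * A) := by rw [Matrix.mul_assoc]
    _ = N * (A' * X) := by rw [hXa]
    _ = (N * A') * X := by rw [Matrix.mul_assoc]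
    _ = (A * N) * X := by rw [haN]
    _ = A * (N * X) := by rw [Matrix.mul_assoc]

/-- a matrix commuting with all matrices is scalar -/
theorem scalar_of_commute_all (M : Matrix (Fin d) (Fin d) F)
    (h : ∀ a : Matrix (Fin d) (Fin d) F, M * a = a * M) : ∃ c : F, M = c • (1 : Matrix (Fin d) (Fin d) F) := by
  obtain ⟨c, hc⟩ := Matrix.mem_range_scalar_of_commute_single (M := M) (fun i j _ => (h _).symm)
  refine ⟨c, ?_⟩
  rw [← hc, Matrix.smul_one_eq_diagonal]
  rfl


variable {n : ℕ}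

/-- the embedding `Y ↦ B⁻¹ (reindex Y) B` of the big matrix algebra -/
def emb (idx : Fin n ≃ (Fin k → Fin d)) (B : GL (Fin n) F)
    (Y : Matrix (Fin k → Fin d) (Fin k → Fin d) F) : Matrix (Fin n) (Fin n) F :=
  ((B⁻¹ : GL (Fin n) F) : Matrix (Fin n) (Fin n) F) * Matrix.reindex idx.symm idx.symm Y *
    (B : Matrix (Fin n) (Fin n) F)

theorem reindex_mul (idx : Fin n ≃ (Fin k → Fin d)) (Y Z : Matrix (Fin k → Fin d) (Fin k → Fin d) F) :
    Matrix.reindex idx.symm idx.symm Y * Matrix.reindex idx.symm idx.symm Z =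
      Matrix.reindex idx.symm idx.symm (Y * Z) := by
  simp only [Matrix.reindex_apply]
  rw [Matrix.submatrix_mul_equiv]

theorem coe_mul_inv {ι : Type} [Fintype ι] [DecidableEq ι] (B : GL ι F) :
    (B : Matrix ι ι F) * ((B⁻¹ : GL ι F) : Matrix ι ι F) = 1 := by
  rw [← Units.val_mul, mul_inv_cancel, Units.val_one]

theorem coe_inv_mul {ι : Type} [Fintype ι] [DecidableEq ι] (B : GL ι F) :
    ((B⁻¹ : GL ι F) : Matrix ι ι F) * (B : Matrix ι ι F) = 1 := by
  rw [← Units.val_mul, inv_mul_cancel, Units.val_one]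

theorem emb_mul (idx : Fin n ≃ (Fin k → Fin d)) (B : GL (Fin n) F)
    (Y Z : Matrix (Fin k → Fin d) (Fin k → Fin d) F) :
    emb idx B Y * emb idx B Z = emb idx B (Y * Z) := by
  unfold emb
  rw [← reindex_mul]
  calc ((B⁻¹ : GL (Fin n) F) : Matrix (Fin n) (Fin n) F) * Matrix.reindex idx.symm idx.symm Y *
        (B : Matrix (Fin n) (Fin n) F) *
        (((B⁻¹ : GL (Fin n) F) : Matrix (Fin n) (Fin n) F) * Matrix.reindex idx.symm idx.symm Z *
          (B : Matrix (Fin n) (Fin n) F))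
      = ((B⁻¹ : GL (Fin n) F) : Matrix (Fin n) (Fin n) F) * Matrix.reindex idx.symm idx.symm Y *
        ((B : Matrix (Fin n) (Fin n) F) * ((B⁻¹ : GL (Fin n) F) : Matrix (Fin n) (Fin n) F)) *
          Matrix.reindex idx.symm idx.symm Z * (B : Matrix (Fin n) (Fin n) F) := by
        simp only [Matrix.mul_assoc]
    _ = _ := by rw [coe_mul_inv, Matrix.mul_one]; simp only [Matrix.mul_assoc]

theorem emb_injective (idx : Fin n ≃ (Fin k → Fin d)) (B : GL (Fin n) F) :
    Function.Injective (emb (F := F) idx B) := by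
  intro Y Z h
  unfold emb at h
  have h' := congrArg (fun W => (B : Matrix (Fin n) (Fin n) F) * W *
    ((B⁻¹ : GL (Fin n) F) : Matrix (Fin n) (Fin n) F)) h
  have e : ∀ R : Matrix (Fin n) (Fin n) F, (B : Matrix (Fin n) (Fin n) F) *
      (((B⁻¹ : GL (Fin n) F) : Matrix (Fin n) (Fin n) F) * R * (B : Matrix (Fin n) (Fin n) F)) *
      ((B⁻¹ : GL (Fin n) F) : Matrix (Fin n) (Fin n) F) = R := by
    intro R
    calc (B : Matrix (Fin n) (Fin n) F) *
        (((B⁻¹ : GL (Fin n) F) : Matrix (Fin n) (Fin n) F) * R * (B : Matrix (Fin n) (Fin n) F)) *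
        ((B⁻¹ : GL (Fin n) F) : Matrix (Fin n) (Fin n) F)
        = ((B : Matrix (Fin n) (Fin n) F) * ((B⁻¹ : GL (Fin n) F) : Matrix (Fin n) (Fin n) F)) * R *
          ((B : Matrix (Fin n) (Fin n) F) * ((B⁻¹ : GL (Fin n) F) : Matrix (Fin n) (Fin n) F)) := by
          simp only [Matrix.mul_assoc]
      _ = R := by rw [coe_mul_inv, Matrix.one_mul, Matrix.mul_one]
  rw [e, e] at h'
  exact (Matrix.reindex idx.symm idx.symm).injective h'

/-- an element whose `B`-conjugate is `reindex R` is `emb R` -/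
theorem coe_eq_emb (idx : Fin n ≃ (Fin k → Fin d)) (B x : GL (Fin n) F)
    (R : Matrix (Fin k → Fin d) (Fin k → Fin d) F)
    (hx : ((B * x * B⁻¹ : GL (Fin n) F) : Matrix (Fin n) (Fin n) F) = Matrix.reindex idx.symm idx.symm R) :
    (x : Matrix (Fin n) (Fin n) F) = emb idx B R := by
  unfold emb
  rw [← hx, Units.val_mul, Units.val_mul]
  calc (x : Matrix (Fin n) (Fin n) F)
      = (((B⁻¹ : GL (Fin n) F) : Matrix (Fin n) (Fin n) F) * (B : Matrix (Fin n) (Fin n) F)) *
        (x : Matrix (Fin n) (Fin n) F) *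
        (((B⁻¹ : GL (Fin n) F) : Matrix (Fin n) (Fin n) F) * (B : Matrix (Fin n) (Fin n) F)) := by
        rw [coe_inv_mul, Matrix.one_mul, Matrix.mul_one]
    _ = _ := by simp only [Matrix.mul_assoc]

open Cfsg.Agent.Lib.Helper15.AschSlotNorm in
/-- a `d × d` matrix commuting with the slot matrices of all elements of `Q i` commutes with all matrices -/
theorem commute_all_of_span (hd : 0 < d) (Qi : Subgroup (GL (Fin n) F)) (i : Fin k)
    (idx : Fin n ≃ (Fin k → Fin d)) (B : GL (Fin n) F)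
    (hslot : ∀ x ∈ Qi, ∃ a : GL (Fin d) F,
      ((B * x * B⁻¹ : GL (Fin n) F) : Matrix (Fin n) (Fin n) F) =
        Matrix.reindex idx.symm idx.symm (slotMatrix i (a : Matrix (Fin d) (Fin d) F)))
    (hspan : ∀ a : Matrix (Fin d) (Fin d) F,
      ((B⁻¹ : GL (Fin n) F) : Matrix (Fin n) (Fin n) F) *
        Matrix.reindex idx.symm idx.symm (slotMatrix i a) * (B : Matrix (Fin n) (Fin n) F) ∈
        Submodule.span F (matrixSet Qi))
    (M : Matrix (Fin d) (Fin d) F)
    (hM : ∀ x ∈ Qi, ∀ a : GL (Fin d) F,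
      ((B * x * B⁻¹ : GL (Fin n) F) : Matrix (Fin n) (Fin n) F) =
        Matrix.reindex idx.symm idx.symm (slotMatrix i (a : Matrix (Fin d) (Fin d) F)) →
      M * (a : Matrix (Fin d) (Fin d) F) = (a : Matrix (Fin d) (Fin d) F) * M) :
    ∀ a : Matrix (Fin d) (Fin d) F, M * a = a * M := by
  have key : ∀ Y ∈ Submodule.span F (matrixSet Qi),
      emb idx B (slotMatrix i M) * Y = Y * emb idx B (slotMatrix i M) := by
    intro Y hY
    induction hY using Submodule.span_induction with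
    | mem Y hY =>
      obtain ⟨x, hx, rfl⟩ := hY
      obtain ⟨a, ha⟩ := hslot x hx
      have hMa := hM x hx a ha
      show emb idx B (slotMatrix i M) * (x : Matrix (Fin n) (Fin n) F) =
        (x : Matrix (Fin n) (Fin n) F) * emb idx B (slotMatrix i M)
      rw [coe_eq_emb idx B x _ ha, emb_mul, emb_mul, ← slot_mul, ← slot_mul, hMa]
    | zero => simp
    | add Y Z _ _ hY hZ => rw [Matrix.mul_add, Matrix.add_mul, hY, hZ]
    | smul c Y _ hY => rw [Matrix.mul_smul, Matrix.smul_mul, hY]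
  intro a
  have h := key _ (hspan a)
  change emb idx B (slotMatrix i M) * emb idx B (slotMatrix i a) =
    emb idx B (slotMatrix i a) * emb idx B (slotMatrix i M) at h
  rw [emb_mul, emb_mul, ← slot_mul, ← slot_mul] at h
  exact slot_injective hd i (emb_injective idx B h)


/-- ASCHSP-[KSYM], general form (no finiteness of `F` needed) -/
theorem slot_forms_congruent_gen {f : (Fin n → F) → (Fin n → F) → F}
    (H P : Subgroup (GL (Fin n) F)) {k : ℕ} (Q : Fin k → Subgroup (GL (Fin n) F))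
    (hQ : CompSys H P Q) (d : ℕ) (idx : Fin n ≃ (Fin k → Fin d)) (B : GL (Fin n) F)
    (G : Fin k → Matrix (Fin d) (Fin d) F) (hD : SlotFormData f Q d idx B G)
    (hinv : ∀ i, ∀ x ∈ Q i, ∀ a : GL (Fin d) F, ((B * x * B⁻¹ : GL (Fin n) F) : Matrix (Fin n) (Fin n) F) =
          Matrix.reindex idx.symm idx.symm (slotMatrix i (a : Matrix (Fin d) (Fin d) F)) →
          (a : Matrix (Fin d) (Fin d) F)ᵀ * G i * (a : Matrix (Fin d) (Fin d) F) = G i) :
    ∀ i j, ∃ (u : GL (Fin d) F) (c : F), c ≠ 0 ∧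
      (u : Matrix (Fin d) (Fin d) F)ᵀ * G j * (u : Matrix (Fin d) (Fin d) F) = c • G i := by
  intro i j
  rcases Nat.eq_zero_or_pos d with hd0 | hd
  · subst hd0
    exact ⟨1, 1, one_ne_zero, Subsingleton.elim _ _⟩
  obtain ⟨h, hhH, hij⟩ := hQ.trans i j
  obtain ⟨σ, hσ⟩ := hQ.perm h hhH
  -- `σ i = j`, as `Q i` is not abelian
  have hσij : σ i = j := by
    by_contra hne
    have hcomm : ∀ x ∈ Q i, ∀ y ∈ Q i, x * y = y * x := by
      intro x hx y hy
      have h1 : h * x * h⁻¹ ∈ Q (σ i) := (hσ i x).mp hx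
      have h2 : h * y * h⁻¹ ∈ Q j := (hij y).mp hy
      have h3 := hQ.commute (σ i) j hne _ h1 _ h2
      have e : h * (x * y) * h⁻¹ = h * (y * x) * h⁻¹ := by
        calc h * (x * y) * h⁻¹ = (h * x * h⁻¹) * (h * y * h⁻¹) := by group
          _ = (h * y * h⁻¹) * (h * x * h⁻¹) := h3
          _ = h * (y * x) * h⁻¹ := by group
      exact mul_left_cancel (mul_right_cancel e)
    have hbot : ⁅Q i, Q i⁆ = ⊥ := by
      rw [Subgroup.commutator_eq_bot_iff_le_centralizer]
      intro x hx y hy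
      exact hcomm y hy x hx
    have hQi : Q i = ⊥ := by rw [← hQ.perfect i, hbot]
    exact hQ.not_le i (hQi ▸ bot_le)
  set T : GL (Fin n) F := B * h * B⁻¹ with hT
  set g : GL (Fin k → Fin d) F := (glReindex idx.symm).symm T with hg
  have hgT : glReindex idx.symm g = T := MulEquiv.apply_symm_apply _ _
  have hconj := Cfsg.Agent.Lib.Helper99.AschUtil.slot_conj Q idx B hD.slot hD.span h σ hσ g hgT
  obtain ⟨u, hu⟩ := exists_conj_of_slot_two hd i j (g : Matrix (Fin k → Fin d) (Fin k → Fin d) F)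
    ((g⁻¹ : GL (Fin k → Fin d) F) : Matrix (Fin k → Fin d) (Fin k → Fin d) F)
    (coe_mul_inv g) (coe_inv_mul g)
    (fun a => by
      obtain ⟨a', ha'⟩ := hconj i a
      exact ⟨a', by rw [ha', hσij]⟩)
  set U : Matrix (Fin d) (Fin d) F := (u : Matrix (Fin d) (Fin d) F) with hU
  set U' : Matrix (Fin d) (Fin d) F := ((u⁻¹ : GL (Fin d) F) : Matrix (Fin d) (Fin d) F) with hU'
  have e1 : Uᵀ * U'ᵀ = 1 := by
    rw [← Matrix.transpose_mul, hU, hU', coe_inv_mul, Matrix.transpose_one]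
  have e2 : U' * U = 1 := coe_inv_mul u
  have hTg : (T : Matrix (Fin n) (Fin n) F) =
      Matrix.reindex idx.symm idx.symm (g : Matrix (Fin k → Fin d) (Fin k → Fin d) F) := by
    rw [← hgT]; rfl
  have hTg' : ((T⁻¹ : GL (Fin n) F) : Matrix (Fin n) (Fin n) F) =
      Matrix.reindex idx.symm idx.symm
        ((g⁻¹ : GL (Fin k → Fin d) F) : Matrix (Fin k → Fin d) (Fin k → Fin d) F) := by
    rw [← hgT, ← map_inv]; rfl
  -- the slot matrices of `Q i` preserve `X = Uᵀ (G j) U`
  have hX : ∀ x ∈ Q i, ∀ a : GL (Fin d) F,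
      ((B * x * B⁻¹ : GL (Fin n) F) : Matrix (Fin n) (Fin n) F) =
        Matrix.reindex idx.symm idx.symm (slotMatrix i (a : Matrix (Fin d) (Fin d) F)) →
      (a : Matrix (Fin d) (Fin d) F)ᵀ * (Uᵀ * G j * U) * (a : Matrix (Fin d) (Fin d) F) = Uᵀ * G j * U := by
    intro x hx a ha
    have hx' : h * x * h⁻¹ ∈ Q j := (hij x).mp hx
    have hrep : ((B * (h * x * h⁻¹) * B⁻¹ : GL (Fin n) F) : Matrix (Fin n) (Fin n) F) =
        Matrix.reindex idx.symm idx.symm
          (slotMatrix j ((u * a * u⁻¹ : GL (Fin d) F) : Matrix (Fin d) (Fin d) F)) := by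
      have e : B * (h * x * h⁻¹) * B⁻¹ = T * (B * x * B⁻¹) * T⁻¹ := by rw [hT]; group
      rw [e, Units.val_mul, Units.val_mul, ha, hTg, hTg', reindex_mul, reindex_mul, hu a,
        Units.val_mul, Units.val_mul]
    have hthis := hinv j (h * x * h⁻¹) hx' (u * a * u⁻¹) hrep
    rw [Units.val_mul, Units.val_mul] at hthis
    set A : Matrix (Fin d) (Fin d) F := (a : Matrix (Fin d) (Fin d) F) with hA
    calc Aᵀ * (Uᵀ * G j * U) * A
        = (Uᵀ * U'ᵀ) * Aᵀ * Uᵀ * G j * U * A * (U' * U) := by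
          rw [e1, e2, Matrix.one_mul, Matrix.mul_one]; simp only [Matrix.mul_assoc]
      _ = Uᵀ * ((U * A * U')ᵀ * G j * (U * A * U')) * U := by
          rw [Matrix.transpose_mul, Matrix.transpose_mul]; simp only [Matrix.mul_assoc]
      _ = Uᵀ * G j * U := by rw [hthis]
  have hdetG : IsUnit (G i).det := isUnit_iff_ne_zero.mpr (hD.det i)
  have hNG : (G i)⁻¹ * G i = 1 := Matrix.nonsing_inv_mul _ hdetG
  have hGN : G i * (G i)⁻¹ = 1 := Matrix.mul_nonsing_inv _ hdetG
  have hcomm : ∀ a : Matrix (Fin d) (Fin d) F,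
      ((G i)⁻¹ * (Uᵀ * G j * U)) * a = a * ((G i)⁻¹ * (Uᵀ * G j * U)) :=
    commute_all_of_span hd (Q i) i idx B (hD.slot i) (hD.span i) _
      (fun x hx a ha => commute_of_invariant hNG hGN a (hinv i x hx a ha) (hX x hx a ha))
  obtain ⟨c, hc⟩ := scalar_of_commute_all _ hcomm
  have hXc : Uᵀ * G j * U = c • G i := by
    calc Uᵀ * G j * U = (G i * (G i)⁻¹) * (Uᵀ * G j * U) := by rw [hGN, Matrix.one_mul]
      _ = G i * ((G i)⁻¹ * (Uᵀ * G j * U)) := by rw [Matrix.mul_assoc]
      _ = G i * (c • (1 : Matrix (Fin d) (Fin d) F)) := by rw [hc]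
      _ = c • G i := by rw [Matrix.mul_smul, Matrix.mul_one]
  have hUdet : U.det ≠ 0 := ((Matrix.isUnit_iff_isUnit_det _).mp u.isUnit).ne_zero
  have hdetX : (Uᵀ * G j * U).det ≠ 0 := by
    rw [Matrix.det_mul, Matrix.det_mul, Matrix.det_transpose]
    exact mul_ne_zero (mul_ne_zero hUdet (hD.det j)) hUdet
  refine ⟨u, c, ?_, hXc⟩
  rintro rfl
  apply hdetX
  rw [hXc, zero_smul]
  have : Nonempty (Fin d) := ⟨⟨0, hd⟩⟩
  exact Matrix.det_zero

end Cfsg.Agent.Lib.Helper38.AschSpKSym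

namespace Cfsg.Agent.Lib.Helper23.AschSp

open Cfsg Cfsg.Geo Cfsg.Agent.Lib.Helper99.Asch
open scoped MatrixGroups Matrix Kronecker

variable {n : ℕ} {F : Type*} [Field F] [Fintype F] {f : (Fin n → F) → (Fin n → F) → F}

set_option linter.unusedSectionVars false in
/-- ASCHSP-[KSYM] (exact sheet statement; `Fintype F` is not used) -/
theorem slot_forms_congruent (H P : Subgroup (GL (Fin n) F)) {k : ℕ} (Q : Fin k → Subgroup (GL (Fin n) F))
    (hQ : CompSys H P Q) (d : ℕ) (idx : Fin n ≃ (Fin k → Fin d)) (B : GL (Fin n) F)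
    (G : Fin k → Matrix (Fin d) (Fin d) F) (hD : SlotFormData f Q d idx B G)
    (hinv : ∀ i, ∀ x ∈ Q i, ∀ a : GL (Fin d) F, ((B * x * B⁻¹ : GL (Fin n) F) : Matrix (Fin n) (Fin n) F) =
          Matrix.reindex idx.symm idx.symm (slotMatrix i (a : Matrix (Fin d) (Fin d) F)) →
          (a : Matrix (Fin d) (Fin d) F)ᵀ * G i * (a : Matrix (Fin d) (Fin d) F) = G i) :
    ∀ i j, ∃ (u : GL (Fin d) F) (c : F), c ≠ 0 ∧
      (u : Matrix (Fin d) (Fin d) F)ᵀ * G j * (u : Matrix (Fin d) (Fin d) F) = c • G i :=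
  Cfsg.Agent.Lib.Helper38.AschSpKSym.slot_forms_congruent_gen H P Q hQ d idx B G hD hinv

end Cfsg.Agent.Lib.Helper23.AschSp
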