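/-
helper38, project ASCHSP (helper23, S5662).  MODULE ASCHSP-[RTWO-Z] (hedge): `sympOut_two_z`.
Port of ASCH-[RTWO]: helper70's `sympOut_two_in` already works with the restricted hypothesis `NAIin H N`
(subgroups of `N` only); `NAIz H` gives it because `N ≤ H ⊔ scalars`.
-/
import Mathlib
import Cfsg.Prelude.Def_GeometricClasses
import Cfsg.Agent.Lib.Helper99.AschDefs
import Cfsg.Agent.Lib.Helper23.AschSpDefs
import Cfsg.Agent.Lib.Helper70.AschRtwo

set_option autoImplicit false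

namespace Cfsg.Agent.Lib.Helper23.AschSp

open Cfsg Cfsg.Geo Cfsg.Agent.Lib.Helper99.Asch

variable {n : ℕ} {F : Type*} [Field F] [Fintype F]

/-- ASCHSP-[RTWO-Z] (exact sheet statement) -/
theorem sympOut_two_z (hn : 3 ≤ n) (H N : Subgroup (GL (Fin n) F)) (hNAI : NAIz H)
    (hN : IsMinNrm H N) (hab : CommScalar N)
    (hexp : ∀ x ∈ N, x ^ 2 ∈ scalars (Fin n) F) :
    ∃ R : Subgroup (GL (Fin n) F), R ≤ N ∧ (SympOut H R 2 2 ∨ SympOut H R 2 4) :=
  Cfsg.Agent.Lib.Helper70.AschSymp.sympOut_two_in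
    (Cfsg.Agent.Lib.Helper70.AschSymp.basisStmt (by omega)) hn H N
    (fun M hM hnrm => hNAI M (hM.trans hN.le_sup) hnrm) hN hab hexp

end Cfsg.Agent.Lib.Helper23.AschSp
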