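import Mathlib
import Cfsg.Agent.Lib.Helper38.KleinFour
import Cfsg.Agent.Lib.Helper51.UniqueOrderP

/-!
# Groups of 2-rank one (helper38)

`rank_one`: a finite group of even order without Klein four-subgroups has an involution that is
central modulo a normal subgroup of odd order, given the Brauer–Suzuki theorem as a hypothesis
(`BrauerSuzukiStatement`, the exact shape of statement S0201).
-/

set_option autoImplicit false
open Subgroup

namespace Cfsg.Agent.Lib.Helper38.RankOne

universe u

/-- A normal subgroup `N` of odd order such that `G ⧸ N` has no nontrivial normal subgroup of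
odd order. -/
theorem exists_max_odd_normal (G : Type*) [Group G] [Finite G] :
    ∃ (N : Subgroup G) (_ : N.Normal), Odd (Nat.card N) ∧
      ∀ M : Subgroup (G ⧸ N), M.Normal → Odd (Nat.card M) → M = ⊥ := by
  obtain ⟨N, ⟨hNn, hNo⟩, hmax⟩ := Set.exists_max_image
    {N : Subgroup G | N.Normal ∧ Odd (Nat.card N)} (fun N => Nat.card N) (Set.toFinite _)
    ⟨⊥, inferInstance, by simp⟩
  refine ⟨N, hNn, hNo, ?_⟩
  intro M hMn hMo
  have hsurj : Function.Surjective (QuotientGroup.mk' N) := QuotientGroup.mk'_surjective N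
  have hcard : Nat.card (M.comap (QuotientGroup.mk' N)) = Nat.card M * Nat.card N := by
    have h1 := Subgroup.card_mul_index (M.comap (QuotientGroup.mk' N))
    have h2 := Subgroup.card_mul_index M
    have h3 := Subgroup.index_comap_of_surjective M hsurj
    have h4 := Subgroup.card_eq_card_quotient_mul_card_subgroup N
    have h5 : 0 < M.index := Nat.pos_of_ne_zero (Subgroup.index_ne_zero_of_finite)
    rw [h3] at h1
    have : Nat.card (M.comap (QuotientGroup.mk' N)) * M.index =
        (Nat.card M * Nat.card N) * M.index := by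
      rw [h1, h4, ← h2]; ring
    exact Nat.eq_of_mul_eq_mul_right h5 this
  have hle := hmax (M.comap (QuotientGroup.mk' N))
    ⟨inferInstance, by rw [hcard]; exact hMo.mul hNo⟩
  rw [hcard] at hle
  have hNpos : 0 < Nat.card N := Nat.card_pos
  have hM1 : Nat.card M ≤ 1 := by
    by_contra h
    push Not at h
    have : 2 * Nat.card N ≤ Nat.card M * Nat.card N := Nat.mul_le_mul_right _ h
    omega
  exact Subgroup.eq_bot_of_card_le M hM1

variable {G : Type u} [Group G] [Finite G]

omit [Finite G] in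
/-- In a group without Klein four-subgroups, two commuting involutions coincide. -/
theorem eq_of_commute_involutions (hrank : ∀ E : Subgroup G, ¬ IsKleinFour E) {u v : G}
    (hu : orderOf u = 2) (hv : orderOf v = 2) (hc : Commute u v) : u = v := by
  by_contra hne
  have hu2 : u * u = 1 := by rw [← pow_two, ← hu, pow_orderOf_eq_one]
  have hv2 : v * v = 1 := by rw [← pow_two, ← hv, pow_orderOf_eq_one]
  have hu1 : u ≠ 1 := by intro h; rw [h, orderOf_one] at hu; omega
  have hv1 : v ≠ 1 := by intro h; rw [h, orderOf_one] at hv; omega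
  exact hrank _ (isKleinFour_klein4 u v hu2 hv2 hc.eq hu1 hv1 hne)

/-- A Sylow 2-subgroup of a group of even order without Klein four-subgroups: there is an
involution `z ∈ S` which is the unique involution of `S`. -/
theorem exists_unique_involution (heven : Even (Nat.card G))
    (hrank : ∀ E : Subgroup G, ¬ IsKleinFour E) (S : Sylow 2 G) :
    ∃ z : G, z ∈ (S : Subgroup G) ∧ orderOf z = 2 ∧
      ∀ u ∈ (S : Subgroup G), orderOf u = 2 → u = z := by
  have : Fact (Nat.Prime 2) := ⟨Nat.prime_two⟩
  have hS2 : 2 ∣ Nat.card (S : Subgroup G) := by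
    rw [Sylow.card_eq_multiplicity]
    have h1 : 1 ≤ (Nat.card G).factorization 2 :=
      (Nat.Prime.dvd_iff_one_le_factorization Nat.prime_two Nat.card_pos.ne').1 heven.two_dvd
    exact dvd_pow_self 2 (by omega)
  have hnt : Nontrivial (S : Subgroup G) := by
    rw [← Finite.one_lt_card_iff_nontrivial]
    exact lt_of_lt_of_le (by norm_num) (Nat.le_of_dvd Nat.card_pos hS2)
  have hcen : Nontrivial (center (S : Subgroup G)) := S.isPGroup'.center_nontrivial
  have h2c : 2 ∣ Nat.card (center (S : Subgroup G)) := by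
    obtain ⟨k, hk⟩ := (S.isPGroup'.to_subgroup (center (S : Subgroup G))).exists_card_eq
    rw [hk]
    have hk0 : k ≠ 0 := by
      rintro rfl
      rw [pow_zero] at hk
      have := Finite.one_lt_card_iff_nontrivial.2 hcen
      omega
    exact dvd_pow_self 2 hk0
  obtain ⟨z, hz⟩ := exists_prime_orderOf_dvd_card' (G := center (S : Subgroup G)) 2 h2c
  refine ⟨((z : (S : Subgroup G)) : G), (z : (S : Subgroup G)).2, ?_, ?_⟩
  · rw [Subgroup.orderOf_coe, Subgroup.orderOf_coe, hz]
  · intro u hu hu2
    have hzc : Commute (⟨u, hu⟩ : (S : Subgroup G)) (z : (S : Subgroup G)) :=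
      ((Subgroup.mem_center_iff.1 z.2) ⟨u, hu⟩)
    have hc : Commute u ((z : (S : Subgroup G)) : G) := by
      have := congrArg (fun t : (S : Subgroup G) => (t : G)) hzc.eq
      exact this
    exact eq_of_commute_involutions hrank hu2
      (by rw [Subgroup.orderOf_coe, Subgroup.orderOf_coe, hz]) hc

/-- Cyclic Sylow 2-subgroup: every involution is central modulo the normal 2-complement. -/
theorem cyclic_case (heven : Even (Nat.card G)) (S : Sylow 2 G) (hcyc : IsCyclic (S : Subgroup G))
    (z : G) : ∃ N : Subgroup G, N.Normal ∧ Odd (Nat.card N) ∧ ∀ g : G, z * g * z⁻¹ * g⁻¹ ∈ N := by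
  have : Fact (Nat.Prime 2) := ⟨Nat.prime_two⟩
  have hmin : (Nat.card G).minFac = 2 := (Nat.minFac_eq_two_iff _).2 heven.two_dvd
  have hNC : normalizer ((S : Subgroup G) : Set G) ≤ centralizer ((S : Subgroup G) : Set G) :=
    IsCyclic.normalizer_le_centralizer hmin hcyc
  refine ⟨(MonoidHom.transferSylow S hNC).ker, inferInstance, ?_, ?_⟩
  · have := MonoidHom.not_dvd_card_ker_transferSylow S hNC
    rw [← Nat.not_even_iff_odd, even_iff_two_dvd]
    exact this
  · intro g
    rw [MonoidHom.mem_ker, map_mul, map_mul, map_mul, map_inv, map_inv]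
    have hc : ∀ a b : (S : Subgroup G), a * b = b * a := fun a b =>
      (IsCyclic.isMulCommutative (α := (S : Subgroup G))).is_comm.comm a b
    rw [hc (MonoidHom.transferSylow S hNC z), mul_inv_cancel_right, mul_inv_cancel]

/-- The shape of the Brauer–Suzuki theorem (statement S0201) at universe `u`. -/
def BrauerSuzukiStatement : Prop :=
  ∀ {H : Type u} [Group H] [Finite H] (S : Sylow 2 H) (n : ℕ)
    (_ : (S : Subgroup H) ≃* QuaternionGroup (2 ^ (n + 1)))
    (_ : ∀ N : Subgroup H, N.Normal → Odd (Nat.card N) → N = ⊥),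
    Nat.card (Subgroup.center H) = 2

/-- Quaternion Sylow 2-subgroup: the unique involution of `S` is central modulo a normal
subgroup of odd order (given Brauer–Suzuki). -/
theorem quaternion_case (hBS : BrauerSuzukiStatement.{u}) (S : Sylow 2 G) (n : ℕ)
    (e : (S : Subgroup G) ≃* QuaternionGroup (2 ^ (n + 1)))
    (z : G) (hzS : z ∈ (S : Subgroup G))
    (huniq : ∀ u ∈ (S : Subgroup G), orderOf u = 2 → u = z) :
    ∃ N : Subgroup G, N.Normal ∧ Odd (Nat.card N) ∧ ∀ g : G, z * g * z⁻¹ * g⁻¹ ∈ N := by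
  have : Fact (Nat.Prime 2) := ⟨Nat.prime_two⟩
  obtain ⟨N, hNn, hNo, hNmax⟩ := exists_max_odd_normal G
  refine ⟨N, hNn, hNo, ?_⟩
  set π := QuotientGroup.mk' N with hπ
  have hsurj : Function.Surjective π := QuotientGroup.mk'_surjective N
  -- S meets N trivially
  have hdisj : (S : Subgroup G) ⊓ N = ⊥ := by
    apply Subgroup.card_eq_one.1
    obtain ⟨k, hk⟩ := S.isPGroup'.exists_card_eq
    have d1 : Nat.card ((S : Subgroup G) ⊓ N : Subgroup G) ∣ 2 ^ k := by
      rw [← hk]; exact Subgroup.card_dvd_of_le inf_le_left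
    have d2 : Nat.card ((S : Subgroup G) ⊓ N : Subgroup G) ∣ Nat.card N :=
      Subgroup.card_dvd_of_le inf_le_right
    have hcop : Nat.Coprime (2 ^ k) (Nat.card N) :=
      Nat.Coprime.pow_left _ (Nat.coprime_two_left.2 hNo)
    exact Nat.eq_one_of_dvd_coprimes hcop d1 d2
  -- the restriction of π to S is injective
  set f : (S : Subgroup G) →* G ⧸ N := π.comp (S : Subgroup G).subtype with hf
  have hfinj : Function.Injective f := by
    rw [injective_iff_map_eq_one]
    intro s hs
    have h1 : (s : G) ∈ N := by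
      have : π (s : G) = 1 := hs
      rwa [hπ, QuotientGroup.mk'_apply, QuotientGroup.eq_one_iff] at this
    have h2 : (s : G) ∈ (S : Subgroup G) ⊓ N := ⟨s.2, h1⟩
    rw [hdisj, Subgroup.mem_bot] at h2
    exact Subtype.ext h2
  have hrange : f.range = (S : Subgroup G).map π := by
    rw [hf, MonoidHom.range_comp, Subgroup.range_subtype]
  let Sbar : Sylow 2 (G ⧸ N) := S.mapSurjective hsurj
  have e' : ((Sbar : Sylow 2 (G ⧸ N)) : Subgroup (G ⧸ N)) ≃* QuaternionGroup (2 ^ (n + 1)) :=
    ((MulEquiv.subgroupCongr (show ((Sbar : Sylow 2 (G ⧸ N)) : Subgroup (G ⧸ N)) = f.range by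
      rw [hrange]; rfl)).trans (MonoidHom.ofInjective hfinj).symm).trans e
  have hcen : Nat.card (Subgroup.center (G ⧸ N)) = 2 := hBS Sbar n e' hNmax
  obtain ⟨c, hc⟩ := exists_prime_orderOf_dvd_card' (G := Subgroup.center (G ⧸ N)) 2
    (by rw [hcen])
  have hc2 : orderOf (c : G ⧸ N) = 2 := by rw [Subgroup.orderOf_coe, hc]
  -- ⟨c⟩ is a normal 2-subgroup, hence inside Sbar
  have hnorm : (zpowers (c : G ⧸ N)).Normal := by
    constructor
    intro x hx g
    have hxc : x ∈ Subgroup.center (G ⧸ N) := (zpowers_le.2 c.2) hx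
    rw [Subgroup.mem_center_iff.1 hxc g, mul_inv_cancel_right]
    exact hx
  have hpg : IsPGroup 2 (zpowers (c : G ⧸ N)) := by
    apply IsPGroup.of_card (n := 1)
    rw [Nat.card_zpowers, hc2, pow_one]
  have hcS : (c : G ⧸ N) ∈ (Sbar : Subgroup (G ⧸ N)) :=
    (hpg.le_sylow_of_normal Sbar) (mem_zpowers _)
  obtain ⟨s, hsS, hsc⟩ : ∃ s ∈ (S : Subgroup G), π s = c := by
    have : (c : G ⧸ N) ∈ (S : Subgroup G).map π := hcS
    exact Subgroup.mem_map.1 this
  -- s is an involution of S, so s = z
  have hs2 : orderOf s = 2 := by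
    have h1 : orderOf (⟨s, hsS⟩ : (S : Subgroup G)) = orderOf (f ⟨s, hsS⟩) :=
      (orderOf_injective f hfinj _).symm
    rw [← Subgroup.orderOf_mk s hsS, h1]
    show orderOf (π s) = 2
    rw [hsc, hc2]
  have hsz : s = z := huniq s hsS hs2
  subst hsz
  intro g
  rw [← QuotientGroup.eq_one_iff, ← QuotientGroup.mk'_apply, ← hπ, map_mul, map_mul, map_mul,
    map_inv, map_inv, hsc]
  rw [← Subgroup.mem_center_iff.1 c.2 (π g), mul_inv_cancel_right, mul_inv_cancel]

/-- S0225 modulo Brauer–Suzuki. -/
theorem rank_one (hBS : BrauerSuzukiStatement.{u}) (heven : Even (Nat.card G))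
    (hrank : ∀ E : Subgroup G, ¬ IsKleinFour E) :
    ∃ z : G, orderOf z = 2 ∧ ∃ N : Subgroup G, N.Normal ∧ Odd (Nat.card N) ∧
      ∀ g : G, z * g * z⁻¹ * g⁻¹ ∈ N := by
  have : Fact (Nat.Prime 2) := ⟨Nat.prime_two⟩
  let S : Sylow 2 G := default
  obtain ⟨z, hzS, hz2, huniq⟩ := exists_unique_involution heven hrank S
  refine ⟨z, hz2, ?_⟩
  -- subgroups of order 2 of S
  have hsub : ∀ H : Subgroup (S : Subgroup G), Nat.card H = 2 →
      H = zpowers (⟨z, hzS⟩ : (S : Subgroup G)) := by
    intro H hH
    obtain ⟨u, hu⟩ := exists_prime_orderOf_dvd_card' (G := H) 2 (by rw [hH])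
    have hu2 : orderOf ((u : (S : Subgroup G)) : G) = 2 := by
      rw [Subgroup.orderOf_coe, Subgroup.orderOf_coe, hu]
    have huz : ((u : (S : Subgroup G)) : G) = z := huniq _ (u : (S : Subgroup G)).2 hu2
    have huz' : (u : (S : Subgroup G)) = ⟨z, hzS⟩ := Subtype.ext huz
    symm
    apply Subgroup.eq_of_le_of_card_ge
    · rw [zpowers_le, ← huz']; exact u.2
    · rw [hH, Nat.card_zpowers]
      have : orderOf (⟨z, hzS⟩ : (S : Subgroup G)) = 2 := by
        rw [← Subgroup.orderOf_coe]; exact hz2
      rw [this]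
  rcases Cfsg.Agent.Lib.Helper51.cyclic_or_quaternion_of_uniqueOrderP 2 S.isPGroup'
    (fun H K hH hK => by rw [hsub H hH, hsub K hK]) with hcyc | ⟨_, n, ⟨e⟩⟩
  · exact cyclic_case heven S hcyc z
  · rcases n with _ | n
    · -- QuaternionGroup 1 is cyclic
      have hc1 : IsCyclic (QuaternionGroup (2 ^ 0)) := by
        rw [pow_zero]; exact QuaternionGroup.quaternionGroup_one_isCyclic
      have hcyc : IsCyclic (S : Subgroup G) :=
        isCyclic_of_surjective e.symm.toMonoidHom e.symm.surjective
      exact cyclic_case heven S hcyc z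
    · exact quaternion_case hBS S n e z hzS huniq

end Cfsg.Agent.Lib.Helper38.RankOne
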