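import Mathlib
import Cfsg.Prelude.Def_Amalgam
import Cfsg.Agent.Lib.Helper12.AmalDefs

/-!
# S2858 part (A), module [A-S4] (helper38 for helper12): the transvection

`t ∈ Z₂ ∖ Q₁` is an involution of `T` with `|Q₁ : C_{Q₁}(t)| = 2`.
-/

set_option autoImplicit false

namespace Cfsg.Agent.Lib.Helper38.Amal

open Cfsg Cfsg.Agent.Lib.Helper12.Amal

theorem relIndex_mul_card_S4 {H : Type*} [Group H] {A V : Subgroup H} (h : A ≤ V) :
    A.relIndex V * Nat.card ↥A = Nat.card ↥V := by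
  have h1 := Subgroup.relIndex_mul_relIndex (⊥ : Subgroup H) A V bot_le h
  rw [Subgroup.relIndex_bot_left, Subgroup.relIndex_bot_left] at h1
  rw [mul_comm]; exact h1

variable {G : Type*} [Group G] {P P₁ P₂ T : Subgroup G}

/-- [A-S4] -/
theorem exists_transvection (h : Pair P₁ P₂ T) (f : PairFacts P₁ P₂ T)
    (hm₁ : ∀ x ∈ T, ∃ q ∈ Qof P₂, ∃ z ∈ Zof P₁, x = q * z)
    (hb₂ : ¬ Zof P₂ ≤ Qof P₁) :
    ∃ t ∈ T, t ∉ Qof P₁ ∧ t * t = 1 ∧
      2 * Nat.card ↥(Qof P₁ ⊓ Subgroup.centralizer ({t} : Set G)) = Nat.card ↥(Qof P₁) := by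
  classical
  obtain ⟨t, htZ, htQ⟩ := SetLike.not_le_iff_exists.mp hb₂
  have htQ2 : t ∈ Qof P₂ := f.f₂.Z_le_Q htZ
  have htT : t ∈ T := f.f₂.Q_le_T htQ2
  refine ⟨t, htT, htQ, f.f₂.Z_sq t htZ, ?_⟩
  have : Finite ↥P₁ := h.l₁.fin
  have : Finite ↥T :=
    Finite.of_injective (Subgroup.inclusion h.l₁.le) (Subgroup.inclusion_injective _)
  have hQ1T : Qof P₁ ≤ T := f.f₁.Q_le_T
  have hQ2T : Qof P₂ ≤ T := f.f₂.Q_le_T
  have : Finite ↥(Qof P₁) :=
    Finite.of_injective (Subgroup.inclusion hQ1T) (Subgroup.inclusion_injective _)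
  have : Finite ↥(Qof P₂) :=
    Finite.of_injective (Subgroup.inclusion hQ2T) (Subgroup.inclusion_injective _)
  obtain ⟨A, hA⟩ : ∃ A : Subgroup G, A = Qof P₁ ⊓ Subgroup.centralizer ({t} : Set G) :=
    ⟨_, rfl⟩
  rw [← hA]
  have hAQ : A ≤ Qof P₁ := hA ▸ inf_le_left
  have : Finite ↥A :=
    Finite.of_injective (Subgroup.inclusion hAQ) (Subgroup.inclusion_injective _)
  have htc : ∀ q ∈ Qof P₂, q * t = t * q := by
    have := f.f₂.Z_le_cent_Q htZ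
    rwa [Subgroup.mem_centralizer_iff] at this
  have hDA : Qof P₁ ⊓ Qof P₂ ≤ A := by
    intro d hd
    rw [Subgroup.mem_inf] at hd
    rw [hA, Subgroup.mem_inf, Subgroup.mem_centralizer_iff]
    refine ⟨hd.1, fun y hy => ?_⟩
    rw [Set.mem_singleton_iff] at hy
    rw [hy]
    exact (htc d hd.2).symm
  have hne : ¬ Qof P₁ ≤ A := by
    intro hle
    apply htQ
    apply h.l₁.cent
    rw [Subgroup.mem_inf, Subgroup.mem_centralizer_iff]
    refine ⟨h.l₁.le htT, fun q hq => ?_⟩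
    have := hle hq
    rw [hA, Subgroup.mem_inf, Subgroup.mem_centralizer_iff] at this
    exact (this.2 t (Set.mem_singleton t)).symm
  -- indices
  have hposQ2 : 0 < Nat.card ↥(Qof P₂) := Nat.card_pos
  have hposA : 0 < Nat.card ↥A := Nat.card_pos
  have r2 : (Qof P₂).relIndex T = 2 := by
    have h1 := relIndex_mul_card_S4 hQ2T
    rw [f.f₂.card_T] at h1
    exact Nat.eq_of_mul_eq_mul_right hposQ2 h1
  have rD : (Qof P₁ ⊓ Qof P₂).relIndex (Qof P₁) ≤ 2 := by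
    rw [Subgroup.inf_relIndex_left, ← r2]
    exact Subgroup.relIndex_le_of_le_right hQ1T (by rw [r2]; norm_num)
  have hDQ : Qof P₁ ⊓ Qof P₂ ≤ Qof P₁ := inf_le_left
  have c1 := relIndex_mul_card_S4 hDQ
  have c2 := relIndex_mul_card_S4 hAQ
  have hDAc : Nat.card ↥(Qof P₁ ⊓ Qof P₂ : Subgroup G) ≤ Nat.card ↥A :=
    Subgroup.card_le_of_le hDA
  have hk1 : A.relIndex (Qof P₁) ≠ 1 := fun h1 => hne (Subgroup.relIndex_eq_one.mp h1)
  have hk0 : A.relIndex (Qof P₁) ≠ 0 := by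
    intro h0
    rw [h0, zero_mul] at c2
    exact (Nat.card_pos (α := ↥(Qof P₁))).ne' c2.symm
  have hk2 : 2 ≤ A.relIndex (Qof P₁) := by omega
  have hle : Nat.card ↥(Qof P₁) ≤ 2 * Nat.card ↥A := by
    calc Nat.card ↥(Qof P₁)
        = (Qof P₁ ⊓ Qof P₂).relIndex (Qof P₁) * Nat.card ↥(Qof P₁ ⊓ Qof P₂ : Subgroup G) :=
          c1.symm
      _ ≤ 2 * Nat.card ↥A := Nat.mul_le_mul rD hDAc
  have hge : 2 * Nat.card ↥A ≤ Nat.card ↥(Qof P₁) := by
    rw [← c2]; exact Nat.mul_le_mul_right _ hk2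
  omega

end Cfsg.Agent.Lib.Helper38.Amal
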