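import Mathlib

/-!
# Isometry groups of anisotropic quadratic maps over `F_2` are solvable

`U`, `W` elementary abelian `2`-groups (additive), `q : U → W` a quadratic map with polar form `b`,
anisotropic (`q u = 0 → u = 0`), `R` a finite group acting faithfully on `U` preserving `q`.
Then Sylow `2`-subgroups of `R` have exponent `2`, `N_R(P) ≤ C_R(P)`, so `R` has a normal
`2`-complement (Burnside); with the odd order theorem as a hypothesis, `R` is solvable.

Helper38, project GOUT (S3066).
-/

set_option autoImplicit false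

namespace Cfsg.Agent.Lib.Helper38.AnisoQuad

/-- The hypotheses: an anisotropic `F_2`-quadratic map preserved by `R`. -/
structure Hyp (R : Type*) [Group R] {U W : Type*} [AddCommGroup U] [AddCommGroup W]
    [DistribMulAction R U] (q : U → W) (b : U → U → W) : Prop where
  hW : ∀ w : W, w + w = 0
  hU : ∀ u : U, u + u = 0
  hq : ∀ u v, q (u + v) = q u + q v + b u v
  hb : ∀ u v w, b (u + v) w = b u w + b v w
  haniso : ∀ u, q u = 0 → u = 0
  hR : ∀ (g : R) (u : U), q (g • u) = q u

variable {R : Type*} [Group R] {U W : Type*} [AddCommGroup U] [AddCommGroup W]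
  [DistribMulAction R U] {q : U → W} {b : U → U → W}

/-- The endomorphism `1 + t`. -/
def d (t : R) (u : U) : U := u + t • u

namespace Hyp

variable (h : Hyp R q b)
include h

theorem eqW {a c : W} (hac : a + c = 0) : a = c := by
  have h1 : a + c + c = c := by rw [hac, zero_add]
  rw [add_assoc, h.hW, add_zero] at h1
  exact h1

theorem eqU {a c : U} (hac : a + c = 0) : a = c := by
  have h1 : a + c + c = c := by rw [hac, zero_add]
  rw [add_assoc, h.hU, add_zero] at h1
  exact h1

theorem b_zero_left (w : U) : b 0 w = 0 := by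
  have := h.hb 0 0 w
  rw [add_zero] at this
  exact left_eq_add.mp this

theorem q_zero : q 0 = 0 := by
  have := h.hq 0 0
  rw [add_zero, h.b_zero_left, add_zero] at this
  exact left_eq_add.mp this

theorem b_comm (u v : U) : b u v = b v u := by
  have h1 := h.hq u v
  have h2 := h.hq v u
  rw [add_comm v u, h1, add_comm (q v) (q u)] at h2
  exact add_left_cancel h2

theorem b_self (u : U) : b u u = 0 := by
  have := h.hq u u
  rw [h.hU, h.q_zero, h.hW, zero_add] at this
  exact this.symm

theorem hb' (u v w : U) : b u (v + w) = b u v + b u w := by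
  rw [h.b_comm, h.hb, h.b_comm v, h.b_comm w]

theorem b_smul (g : R) (u v : U) : b (g • u) (g • v) = b u v := by
  have h1 := h.hq (g • u) (g • v)
  rw [← smul_add, h.hR, h.hR, h.hR, h.hq] at h1
  exact (add_left_cancel h1).symm

theorem b_smul_right (g : R) (u v : U) : b u (g • v) = b (g⁻¹ • u) v := by
  have := h.b_smul g⁻¹ u (g • v)
  rw [inv_smul_smul] at this
  exact this.symm

theorem b_sum_left {ι : Type*} (s : Finset ι) (f : ι → U) (x : U) :
    b (∑ i ∈ s, f i) x = ∑ i ∈ s, b (f i) x := by
  classical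
  induction s using Finset.induction_on with
  | empty => simp [h.b_zero_left]
  | insert a s ha ih => rw [Finset.sum_insert ha, Finset.sum_insert ha, h.hb, ih]

omit h in
theorem d_add (t : R) (u v : U) : d t (u + v) = d t u + d t v := by
  unfold d; rw [smul_add]; abel

omit h in
theorem d_zero (t : R) : d t (0 : U) = 0 := by
  unfold d; rw [smul_zero, add_zero]

omit h in
theorem d_sum {ι : Type*} (t : R) (s : Finset ι) (f : ι → U) :
    d t (∑ i ∈ s, f i) = ∑ i ∈ s, d t (f i) := by
  classical
  induction s using Finset.induction_on with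
  | empty => simp [d_zero]
  | insert a s ha ih => rw [Finset.sum_insert ha, Finset.sum_insert ha, d_add, ih]

omit h in
theorem smul_d (g t : R) (u : U) : g • d t u = d (g * t * g⁻¹) (g • u) := by
  unfold d
  rw [smul_add, mul_smul, mul_smul, inv_smul_smul]

theorem d_eq_zero_iff (t : R) (u : U) : d t u = 0 ↔ t • u = u := by
  unfold d
  constructor
  · intro hh; exact (h.eqU hh).symm
  · intro hh; rw [hh, h.hU]

omit h in
theorem inv_eq_of_sq {t : R} (ht : t * t = 1) : t⁻¹ = t := inv_eq_of_mul_eq_one_left ht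

theorem smul_d_self {t : R} (ht : t * t = 1) (u : U) : t • d t u = d t u := by
  unfold d
  rw [smul_add, ← mul_smul, ht, one_smul, add_comm]

theorem q_d {t : R} (ht : t * t = 1) (u : U) : q (d t u) = b u (t • u) := by
  unfold d
  rw [h.hq, h.hR, h.hW, zero_add]

theorem q_d' {t : R} (ht : t * t = 1) (u : U) : q (d t u) = b u (d t u) := by
  rw [h.q_d ht]
  unfold d
  rw [h.hb', h.b_self, zero_add]

theorem q_d_add {t : R} (ht : t * t = 1) (u v : U) :
    q (d t (u + v)) = q (d t u) + q (d t v) := by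
  rw [h.q_d ht, h.q_d ht, h.q_d ht, smul_add, h.hb, h.hb', h.hb']
  have h1 : b v (t • u) = b u (t • v) := by
    rw [h.b_smul_right, inv_eq_of_sq ht, h.b_comm]
  rw [h1]
  have h2 : b u (t • v) + b u (t • v) = 0 := h.hW _
  calc b u (t • u) + b u (t • v) + (b u (t • v) + b v (t • v))
      = b u (t • u) + b v (t • v) + (b u (t • v) + b u (t • v)) := by abel
    _ = b u (t • u) + b v (t • v) := by rw [h2, add_zero]

theorem q_range_add {t : R} (ht : t * t = 1) (u v : U) :
    q (d t u + d t v) = q (d t u) + q (d t v) := by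
  rw [← d_add, h.q_d_add ht]

theorem b_range {t : R} (ht : t * t = 1) (u v : U) : b (d t u) (d t v) = 0 := by
  have h1 := h.hq (d t u) (d t v)
  rw [h.q_range_add ht] at h1
  exact (left_eq_add.mp h1)

/-- (Q2) -/
theorem d_d_eq_zero {t x : R} (ht : t * t = 1) (hx : Commute x t) (v : U) :
    d t (d x v) = 0 := by
  apply h.haniso
  have h0 : d t (d x v) = d t v + d t (x • v) := by
    show d t (v + x • v) = _
    rw [d_add]
  rw [h0, h.q_range_add ht, h.q_d ht, h.q_d ht]
  have h1 : t • x • v = x • t • v := by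
    rw [← mul_smul, ← mul_smul, hx.eq]
  rw [h1, h.b_smul, h.hW]

omit h in
theorem d_comm {t x : R} (hx : Commute x t) (v : U) : d x (d t v) = d t (d x v) := by
  unfold d
  rw [smul_add, smul_add, ← mul_smul, ← mul_smul, hx.eq]
  abel

/-- (Q3) no elements of order 4. -/
theorem sq_eq_one_of_pow_four [FaithfulSMul R U] (x : R) (hx4 : x ^ 4 = 1) : x ^ 2 = 1 := by
  by_contra hne
  set t : R := x ^ 2 with ht_def
  have ht : t * t = 1 := by
    rw [ht_def, ← pow_add]; exact hx4
  have hxt : Commute x t := (Commute.refl x).pow_right 2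
  have hex : ∃ v : U, t • v ≠ v := by
    by_contra hcon
    push Not at hcon
    apply hne
    apply FaithfulSMul.eq_of_smul_eq_smul (α := U)
    intro a
    rw [hcon a, one_smul]
  obtain ⟨v, hv⟩ := hex
  set u1 : U := d x v with hu1
  set u2 : U := d t v with hu2
  have h12 : d x u1 = u2 := by
    rw [hu1, hu2]
    unfold d
    rw [smul_add, ← mul_smul, ← pow_two]
    have : x • v + x • v = 0 := h.hU _
    calc v + x • v + (x • v + x ^ 2 • v) = v + x ^ 2 • v + (x • v + x • v) := by abel
      _ = v + x ^ 2 • v := by rw [this, add_zero]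
  have htu1 : t • u1 = u1 := (h.d_eq_zero_iff t u1).mp (h.d_d_eq_zero ht hxt v)
  have hxu1 : x • u1 = u1 + u2 := by
    rw [← h12]
    unfold d
    rw [← add_assoc, h.hU, zero_add]
  have hq1 : q (u1 + u2) = q u1 := by rw [← hxu1, h.hR]
  rw [h.hq] at hq1
  have hq2 : q u2 + b u1 u2 = 0 := by
    have : q u1 + (q u2 + b u1 u2) = q u1 := by rw [← add_assoc]; exact hq1
    exact add_eq_left.mp this
  have hb0 : b u1 u2 = 0 := by
    rw [hu2]
    unfold d
    rw [h.hb', h.b_smul_right, inv_eq_of_sq ht, htu1, h.hW]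
  rw [hb0, add_zero] at hq2
  have hu20 : u2 = 0 := h.haniso _ hq2
  exact hv ((h.d_eq_zero_iff t v).mp hu20)

/-- (Q4) for a commuting pair of involutions. -/
theorem d_mul {s t : R} (hs : s * s = 1) (hst : Commute s t) (u : U) :
    d (s * t) u = d s u + d t u := by
  have h0 : d s (d t u) = 0 := h.d_d_eq_zero hs hst.symm u
  have h1 : d (s * t) u = d s u + d t u + d s (d t u) := by
    unfold d
    rw [smul_add, mul_smul]
    have : u + t • u + (u + t • u) = 0 := h.hU _
    calc u + s • t • u = u + s • t • u + (u + t • u + (u + t • u)) := by rw [this, add_zero]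
      _ = u + s • u + (u + t • u) + (u + t • u + (s • u + s • t • u)) := by
          have h3 : s • u + s • u = 0 := h.hU _
          calc u + s • t • u + (u + t • u + (u + t • u))
              = u + s • t • u + (u + t • u + (u + t • u)) + 0 := by rw [add_zero]
            _ = u + s • t • u + (u + t • u + (u + t • u)) + (s • u + s • u) := by rw [h3]
            _ = _ := by abel
  rw [h1, h0, add_zero]

theorem q_d_mul {s t : R} (hs : s * s = 1) (ht : t * t = 1) (hst : Commute s t) (u : U) :
    q (d (s * t) u) = q (d s u) + q (d t u) := by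
  rw [h.d_mul hs hst, h.hq]
  have hc : s • d t u = d t u := (h.d_eq_zero_iff s _).mp (h.d_d_eq_zero hs hst.symm u)
  have : b (d s u) (d t u) = 0 := by
    conv_lhs => unfold d
    show b (u + s • u) (u + t • u) = 0
    have hc' : s • (u + t • u) = u + t • u := hc
    rw [h.hb]
    have h2 : b (s • u) (u + t • u) = b u (u + t • u) := by
      conv_lhs => rw [← hc']
      rw [h.b_smul]
    rw [h2, h.hW]
  rw [this, add_zero]

/-- (Q5) -/
theorem smul_range_fixed {t g : R} (ht : t * t = 1) (hc : Commute t (g * t * g⁻¹)) (v : U) :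
    g • d t v = d t v := by
  set s : R := g * t * g⁻¹ with hs_def
  have hs : s * s = 1 := by
    rw [hs_def]
    calc g * t * g⁻¹ * (g * t * g⁻¹) = g * (t * t) * g⁻¹ := by group
      _ = 1 := by rw [ht]; group
  have h1 : g • d t v = d s (g • v) := smul_d g t v
  have hfix : t • d s (g • v) = d s (g • v) :=
    (h.d_eq_zero_iff t _).mp (h.d_d_eq_zero ht hc.symm (g • v))
  have hb0 : b (d t v) (d s (g • v)) = 0 := by
    conv_lhs => unfold d
    show b (v + t • v) (g • v + s • g • v) = 0
    have hfix' : t • (g • v + s • g • v) = g • v + s • g • v := hfix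
    rw [h.hb]
    have h2 : b (t • v) (g • v + s • g • v) = b v (g • v + s • g • v) := by
      conv_lhs => rw [← hfix']
      rw [h.b_smul]
    rw [h2, h.hW]
  have h3 : q (d t v + g • d t v) = 0 := by
    rw [h.hq, h.hR, h.hW, zero_add, h1, hb0]
  exact (h.eqU (h.haniso _ h3)).symm

omit h in
theorem odd_nsmul {m : ℕ} (hm : Odd m) (w : W) (hW : ∀ w : W, w + w = 0) : m • w = w := by
  obtain ⟨k, rfl⟩ := hm
  rw [add_smul, one_smul, mul_smul, two_smul, hW, zero_add]

/-- (Q6) -/
theorem conj_eq_of_odd [FaithfulSMul R U] {t g : R} (ht : t * t = 1) {m : ℕ} (hm : Odd m)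
    (hc : Commute t (g⁻¹ * t * g)) (hper : (g ^ m)⁻¹ * t * g ^ m = t) :
    g⁻¹ * t * g = t := by
  -- S i
  set S : ℕ → R := fun i => (g ^ i)⁻¹ * t * g ^ i with hS_def
  have hS0 : S 0 = t := by simp [hS_def]
  have hS1 : S 1 = g⁻¹ * t * g := by simp [hS_def]
  have hSm : S m = t := hper
  have hS2 : ∀ i, S i * S i = 1 := by
    intro i
    show (g ^ i)⁻¹ * t * g ^ i * ((g ^ i)⁻¹ * t * g ^ i) = 1
    calc (g ^ i)⁻¹ * t * g ^ i * ((g ^ i)⁻¹ * t * g ^ i) = (g ^ i)⁻¹ * (t * t) * g ^ i := by group
      _ = 1 := by rw [ht]; group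
  have hSsucc : ∀ i, S (i + 1) = g⁻¹ * S i * g⁻¹⁻¹ := by
    intro i
    show (g ^ (i + 1))⁻¹ * t * g ^ (i + 1) = g⁻¹ * ((g ^ i)⁻¹ * t * g ^ i) * g⁻¹⁻¹
    rw [pow_succ]; group
  -- g fixes range (d t)
  have hginv : ∀ v : U, g⁻¹ • d t v = d t v := by
    intro v
    apply h.smul_range_fixed ht
    rw [inv_inv]; exact hc
  have hg : ∀ v : U, g • d t v = d t v := by
    intro v
    conv_lhs => rw [← hginv v]
    rw [smul_inv_smul]
  have hgi : ∀ (i : ℕ) (v : U), g ^ i • d t v = d t v := by
    intro i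
    induction i with
    | zero => intro v; simp
    | succ n ih => intro v; rw [pow_succ, mul_smul, hg, ih]
  have hgi' : ∀ (i : ℕ) (v : U), (g ^ i)⁻¹ • d t v = d t v := by
    intro i v
    conv_lhs => rw [← hgi i v]
    rw [inv_smul_smul]
  -- key1
  have key1 : ∀ (i : ℕ) (u : U), d (S i) u = d t (g ^ i • u) := by
    intro i u
    have := smul_d (g ^ i)⁻¹ t (g ^ i • u)
    rw [hgi', inv_smul_smul, inv_inv] at this
    exact this.symm
  -- key2
  have key2 : ∀ (i : ℕ) (u : U), q (d t u) = b (g ^ i • u) (d t u) := by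
    intro i u
    have h1 : d t u = d (g ^ i * t * (g ^ i)⁻¹) (g ^ i • u) := by
      rw [← smul_d, hgi]
    have h2 : (g ^ i * t * (g ^ i)⁻¹) * (g ^ i * t * (g ^ i)⁻¹) = 1 := by
      calc (g ^ i * t * (g ^ i)⁻¹) * (g ^ i * t * (g ^ i)⁻¹) = g ^ i * (t * t) * (g ^ i)⁻¹ := by
            group
        _ = 1 := by rw [ht]; group
    have h3 := h.q_d' h2 (g ^ i • u)
    rw [← h1] at h3
    exact h3
  -- (E1)
  have E1 : ∀ u : U, q (d t u) = ∑ i ∈ Finset.range m, q (d (S i) u) := by
    intro u
    have e1 : ∑ _i ∈ Finset.range m, q (d t u) = q (d t u) := by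
      rw [Finset.sum_const, Finset.card_range]
      exact odd_nsmul hm _ h.hW
    have e2 : ∑ i ∈ Finset.range m, q (d t u)
        = b (∑ i ∈ Finset.range m, g ^ i • u) (d t u) := by
      rw [h.b_sum_left]
      exact Finset.sum_congr rfl (fun i _ => key2 i u)
    set c : U := ∑ i ∈ Finset.range m, g ^ i • u with hc_def
    have e3 : b c (d t u) = b (d t c) u := by
      conv_lhs => unfold d
      show b c (u + t • u) = b (d t c) u
      rw [h.hb', h.b_smul_right, inv_eq_of_sq ht, ← h.hb]
      rfl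
    have e4 : d t c = ∑ i ∈ Finset.range m, d (S i) u := by
      rw [hc_def, d_sum]
      exact Finset.sum_congr rfl (fun i _ => (key1 i u).symm)
    have e5 : b (∑ i ∈ Finset.range m, d (S i) u) u = ∑ i ∈ Finset.range m, q (d (S i) u) := by
      rw [h.b_sum_left]
      refine Finset.sum_congr rfl (fun i _ => ?_)
      rw [h.b_comm, ← h.q_d' (hS2 i)]
    rw [← e1, e2, e3, e4, e5]
  -- shift
  have shift : ∀ (i : ℕ) (u : U), q (d (S (i + 1)) u) = q (d (S i) (g • u)) := by
    intro i u
    have := smul_d g⁻¹ (S i) (g • u)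
    rw [inv_smul_smul, ← hSsucc] at this
    rw [← this, h.hR]
  -- m = n + 1
  obtain ⟨n, rfl⟩ : ∃ n, m = n + 1 := by
    obtain ⟨k, rfl⟩ := hm
    exact ⟨2 * k, rfl⟩
  have A : ∀ u : U, ∑ i ∈ Finset.range n, q (d (S (i + 1)) u) = 0 := by
    intro u
    have := E1 u
    rw [Finset.sum_range_succ', hS0] at this
    exact (add_eq_right.mp this.symm)
  -- final
  have hfin : ∀ u : U, q (d (S 1) u) = q (d t u) := by
    intro u
    rcases Nat.eq_zero_or_pos n with hn | hn
    · subst hn
      have : S 1 = t := hSm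
      rw [this]
    · obtain ⟨k, rfl⟩ : ∃ k, n = k + 1 := ⟨n - 1, by omega⟩
      have A1 := A u
      have A2 := A (g • u)
      have A2' : ∑ i ∈ Finset.range (k + 1), q (d (S (i + 2)) u) = 0 := by
        rw [← A2]
        exact Finset.sum_congr rfl (fun i _ => shift (i + 1) u)
      rw [Finset.sum_range_succ'] at A1
      rw [Finset.sum_range_succ] at A2'
      have hsame : ∑ i ∈ Finset.range k, q (d (S (i + 1 + 1)) u)
          = ∑ i ∈ Finset.range k, q (d (S (i + 2)) u) := rfl
      rw [hsame] at A1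
      have hk2 : S (k + 2) = t := hSm
      rw [hk2] at A2'
      have : q (d (S (0 + 1)) u) + q (d t u) = 0 := by
        set X : W := ∑ i ∈ Finset.range k, q (d (S (i + 2)) u) with hX
        have ha : q (d (S (0 + 1)) u) = X := (h.eqW A1).symm
        have hc' : q (d t u) = X := (h.eqW A2').symm
        rw [ha, hc', h.hW]
      exact h.eqW this
  -- conclude
  rw [← hS1]
  have hcomm : Commute (S 1) t := by rw [hS1]; exact hc.symm
  have hall : ∀ u : U, (S 1 * t) • u = u := by
    intro u
    apply (h.d_eq_zero_iff _ u).mp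
    apply h.haniso
    rw [h.q_d_mul (hS2 1) ht hcomm, hfin, h.hW]
  have h1 : S 1 * t = 1 := by
    apply FaithfulSMul.eq_of_smul_eq_smul (α := U)
    intro a; rw [hall a, one_smul]
  have h2 : S 1 = t⁻¹ := eq_inv_of_mul_eq_one_left h1
  rw [h2, inv_eq_of_sq ht]

end Hyp

end Cfsg.Agent.Lib.Helper38.AnisoQuad

namespace Cfsg.Agent.Lib.Helper38.AnisoQuad

variable {R : Type*} [Group R] {U W : Type*} [AddCommGroup U] [AddCommGroup W]
  [DistribMulAction R U] {q : U → W} {b : U → U → W}

namespace Hyp

variable (h : Hyp R q b)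
include h

/-- every `2`-power-order element has order at most `2`. -/
theorem sq_eq_one_of_two_pow [FaithfulSMul R U] : ∀ (k : ℕ) (x : R), x ^ 2 ^ k = 1 → x ^ 2 = 1 := by
  intro k
  induction k with
  | zero => intro x hx; rw [pow_zero, pow_one] at hx; rw [hx, one_pow]
  | succ k ih =>
    intro x hx
    rcases Nat.eq_zero_or_pos k with hk | hk
    · subst hk; simpa using hx
    · obtain ⟨j, rfl⟩ : ∃ j, k = j + 1 := ⟨k - 1, by omega⟩
      apply ih
      have h4 : (x ^ 2 ^ j) ^ 4 = 1 := by
        rw [← pow_mul]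
        have : 2 ^ j * 4 = 2 ^ (j + 1 + 1) := by ring
        rw [this]; exact hx
      have h2 := h.sq_eq_one_of_pow_four _ h4
      rw [← pow_mul] at h2
      have : 2 ^ j * 2 = 2 ^ (j + 1) := by ring
      rw [this] at h2; exact h2

/-- (Q7) Burnside hypothesis: `N_R(P) ≤ C_R(P)` for a Sylow `2`-subgroup. -/
theorem normalizer_le_centralizer [FaithfulSMul R U] [Finite R] (P : Sylow 2 R) :
    Subgroup.normalizer ((P : Subgroup R) : Set R) ≤ Subgroup.centralizer (P : Set R) := by
  haveI : Fact (Nat.Prime 2) := ⟨Nat.prime_two⟩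
  have hexp : ∀ x : R, x ∈ (P : Subgroup R) → x * x = 1 := by
    intro x hx
    obtain ⟨k, hk⟩ := P.isPGroup' ⟨x, hx⟩
    have hk' : x ^ 2 ^ k = 1 := by
      have := congrArg Subtype.val hk
      simpa using this
    have := h.sq_eq_one_of_two_pow k x hk'
    rwa [pow_two] at this
  have hab : ∀ x y : R, x ∈ (P : Subgroup R) → y ∈ (P : Subgroup R) → Commute x y := by
    intro x y hx hy
    have hxy := hexp (x * y) ((P : Subgroup R).mul_mem hx hy)
    have hx2 := hexp x hx
    have hy2 := hexp y hy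
    show x * y = y * x
    have h1 : x * y = (x * y)⁻¹ := (inv_eq_of_mul_eq_one_left hxy).symm
    rw [h1, mul_inv_rev, inv_eq_of_mul_eq_one_left hx2, inv_eq_of_mul_eq_one_left hy2]
  intro g hg
  rw [Subgroup.mem_centralizer_iff]
  intro t ht
  have ht' : t ∈ (P : Subgroup R) := ht
  have hconj : g⁻¹ * t * g ∈ (P : Subgroup R) :=
    (Subgroup.mem_normalizer_iff''.mp hg t).mp ht'
  -- odd part of the order of g
  have hord : orderOf g ≠ 0 := (orderOf_pos g).ne'
  obtain ⟨a, m, hm, hgm⟩ := Nat.exists_eq_two_pow_mul_odd hord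
  have hy2 : (g ^ m) ^ 2 ^ a = 1 := by
    rw [← pow_mul, mul_comm, ← hgm, pow_orderOf_eq_one]
  have hyN : g ^ m ∈ Subgroup.normalizer ((P : Subgroup R) : Set R) := Subgroup.pow_mem _ hg m
  have hyP : g ^ m ∈ (P : Subgroup R) := by
    have hZ : IsPGroup 2 (Subgroup.zpowers (g ^ m)) := by
      intro ⟨z, hz⟩
      obtain ⟨n, rfl⟩ := Subgroup.mem_zpowers_iff.mp hz
      refine ⟨a, ?_⟩
      apply Subtype.ext
      show ((g ^ m) ^ n) ^ 2 ^ a = 1
      rw [← zpow_natCast, ← zpow_mul, mul_comm, zpow_mul, zpow_natCast, hy2, one_zpow]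
    have hle : Subgroup.zpowers (g ^ m) ≤ Subgroup.normalizer ((P : Subgroup R) : Set R) := by
      rw [Subgroup.zpowers_le]; exact hyN
    have hsup : IsPGroup 2 (Subgroup.zpowers (g ^ m) ⊔ (P : Subgroup R) : Subgroup R) :=
      IsPGroup.to_sup_of_normal_right' hZ P.isPGroup' hle
    have := P.is_maximal' hsup le_sup_right
    have hmem : g ^ m ∈ (Subgroup.zpowers (g ^ m) ⊔ (P : Subgroup R) : Subgroup R) :=
      le_sup_left (a := Subgroup.zpowers (g ^ m)) (Subgroup.mem_zpowers _)
    rw [this] at hmem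
    exact hmem
  have hper : (g ^ m)⁻¹ * t * g ^ m = t := by
    have := hab (g ^ m) t hyP ht'
    rw [mul_assoc, ← this.eq, ← mul_assoc, inv_mul_cancel, one_mul]
  have hc : Commute t (g⁻¹ * t * g) := hab _ _ ht' hconj
  have key := h.conj_eq_of_odd (hexp t ht') hm hc hper
  -- g⁻¹ t g = t  ⇒  t g = g t
  calc t * g = g * (g⁻¹ * t * g) := by group
    _ = g * t := by rw [key]

/-- **Claim Q.**  With the odd order theorem as a hypothesis, `R` is solvable. -/
theorem isSolvable_of [FaithfulSMul R U] [Finite R]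
    (hFT : ∀ K : Subgroup R, Odd (Nat.card K) → Group.IsSolvable K) : Group.IsSolvable R := by
  haveI : Fact (Nat.Prime 2) := ⟨Nat.prime_two⟩
  obtain ⟨P⟩ : Nonempty (Sylow 2 R) := inferInstance
  have hP := h.normalizer_le_centralizer P
  have hcompl := MonoidHom.ker_transferSylow_isComplement' P hP
  set K : Subgroup R := (MonoidHom.transferSylow P hP).ker with hK
  have hcardK : Nat.card K = (P : Subgroup R).index := hcompl.index_eq_card.symm
  have hoddK : Odd (Nat.card K) := by
    rw [hcardK, ← Nat.not_even_iff_odd, even_iff_two_dvd]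
    exact P.not_dvd_index
  haveI : Group.IsSolvable K := hFT K hoddK
  haveI : Group.IsSolvable (P : Subgroup R) := by
    haveI : Group.IsNilpotent (P : Subgroup R) := P.isPGroup'.isNilpotent
    infer_instance
  exact solvable_of_ker_le_range K.subtype (MonoidHom.transferSylow P hP)
    (by rw [Subgroup.range_subtype])

end Hyp

end Cfsg.Agent.Lib.Helper38.AnisoQuad
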