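import Mathlib
import Cfsg.Agent.S1470
import Cfsg.Agent.S1471

/-!
# BG Appendix C, field-theoretic finish (helper38; module FIN of S1472)

A field `F` with `p ^ q` elements in which the set `{a | a ^ n = 1 ∧ (2 - a) ^ n = 1}`
(`n = (p ^ q - 1) / (p - 1)`) is closed under inversion has `p ≤ q` (for odd primes `p`, `q` with
`n` coprime to `p - 1`).  Transport to `GaloisField p q` and landed S1470 + S1471.
-/

set_option autoImplicit false

namespace Cfsg.Agent.Lib.Helper38.AppC

theorem norm_eq_one_iff_pow (p q : ℕ) [Fact p.Prime] (hq0 : q ≠ 0) (x : GaloisField p q) :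
    Algebra.norm (ZMod p) x = 1 ↔ x ^ ((p ^ q - 1) / (p - 1)) = 1 := by
  have h := FiniteField.algebraMap_norm_eq_pow (K := ZMod p) (K' := GaloisField p q) (x := x)
  rw [Nat.card_zmod, GaloisField.card p q hq0] at h
  constructor
  · intro h1
    rw [← h, h1, map_one]
  · intro h1
    rw [h1] at h
    exact (algebraMap (ZMod p) (GaloisField p q)).injective (by rw [h, map_one])

theorem le_of_inv_closed (p q : ℕ) [Fact p.Prime] [Fact q.Prime] (hp : p ≠ 2) (hq : q ≠ 2)
    (hA : Nat.Coprime ((p ^ q - 1) / (p - 1)) (p - 1)) (F : Type*) [Field F] [Fintype F]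
    (hF : Fintype.card F = p ^ q)
    (hinv : ∀ a : F, a ^ ((p ^ q - 1) / (p - 1)) = 1 → (2 - a) ^ ((p ^ q - 1) / (p - 1)) = 1 →
      (2 - a⁻¹) ^ ((p ^ q - 1) / (p - 1)) = 1) : p ≤ q := by
  classical
  have hq0 : q ≠ 0 := (Fact.out : q.Prime).ne_zero
  have : Fintype (GaloisField p q) := Fintype.ofFinite _
  have hcardG : Fintype.card (GaloisField p q) = p ^ q := by
    rw [Fintype.card_eq_nat_card]
    exact GaloisField.card p q hq0
  let e : F ≃+* GaloisField p q := FiniteField.ringEquivOfCardEq (hF.trans hcardG.symm)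
  have hnorm := norm_eq_one_iff_pow p q hq0
  refine Cfsg.Agent.S1470.result p q hp hq hA ?_ (Cfsg.Agent.S1471.result p q hp hq hA)
  rintro a ⟨ha1, ha2⟩
  rw [hnorm] at ha1 ha2
  refine ⟨?_, ?_⟩
  · rw [hnorm, inv_pow, ha1, inv_one]
  · rw [hnorm]
    have h1 : (e.symm a) ^ ((p ^ q - 1) / (p - 1)) = 1 := by
      rw [← map_pow, ha1, map_one]
    have h2 : (2 - e.symm a) ^ ((p ^ q - 1) / (p - 1)) = 1 := by
      have : (2 : F) - e.symm a = e.symm (2 - a) := by
        rw [map_sub, map_ofNat]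
      rw [this, ← map_pow, ha2, map_one]
    have h3 := hinv (e.symm a) h1 h2
    have h4 : e ((2 - (e.symm a)⁻¹) ^ ((p ^ q - 1) / (p - 1))) = 1 := by
      rw [h3, map_one]
    rw [map_pow, map_sub, map_inv₀, e.apply_symm_apply, map_ofNat] at h4
    exact h4

end Cfsg.Agent.Lib.Helper38.AppC
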