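import Mathlib
import Cfsg.Agent.Lib.Helper94.Blk.Ex

/-!
# S5634 part 2, module [BLK-1A] (helper38 for helper94):
a non-trivial transvection in the stabiliser of the decomposition is a block transvection
-/

set_option autoImplicit false

namespace Cfsg.Agent.Lib.Helper38.Blk1A

open Cfsg.Agent.Lib.Helper94 Cfsg.Agent.Lib.Helper94.SympData Cfsg.Agent.Lib.Helper94.Blk

variable {K V : Type*} [Field K] [AddCommGroup V] [Module K V] [FiniteDimensional K V]
  {t m : ℕ} {D : Fin t → Submodule K V}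

/-- [BLK-1A] a non-trivial transvection in the stabiliser is a block transvection -/
theorem isBlock_of_tv_mem_stabDec (hD : LDecomp m D) (hm : 2 ≤ m) {f : Module.Dual K V} {v : V}
    (hfv : f v = 0) (hf : f ≠ 0) (hv : v ≠ 0)
    (hmem : LinearEquiv.transvection hfv ∈ stabDec D) : IsBlock D f v := by
  obtain ⟨σ, hσ⟩ := hmem
  -- the permutation is trivial
  have hσ1 : ∀ l, σ l = l := by
    intro l
    obtain ⟨x, hx, hx0, hfx⟩ := exists_mem_ker hD hm l f
    by_contra hne
    apply hx0
    have h1 : LinearEquiv.transvection hfv x ∈ D (σ l) := by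
      rw [← hσ l]
      exact Submodule.mem_map_of_mem (f := ((LinearEquiv.transvection hfv : V ≃ₗ[K] V) : V →ₗ[K] V)) hx
    rw [Blk.tv_apply, hfx, zero_smul, add_zero] at h1
    exact hD.eq_zero_of_mem_of_mem (fun h => hne h.symm) hx h1
  -- `f x • v ∈ D l` for `x ∈ D l`
  have hsm : ∀ l, ∀ x ∈ D l, f x • v ∈ D l := by
    intro l x hx
    have h1 : LinearEquiv.transvection hfv x ∈ D (σ l) := by
      rw [← hσ l]
      exact Submodule.mem_map_of_mem (f := ((LinearEquiv.transvection hfv : V ≃ₗ[K] V) : V →ₗ[K] V)) hx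
    rw [hσ1 l, Blk.tv_apply] at h1
    have h2 : f x • v = (x + f x • v) - x := by abel
    rw [h2]
    exact (D l).sub_mem h1 hx
  -- a member on which `f` does not vanish
  obtain ⟨l, x, hx, hfx⟩ : ∃ l, ∃ x ∈ D l, f x ≠ 0 := by
    by_contra hcon
    push Not at hcon
    apply hf
    apply LinearMap.ext
    intro y
    rw [LinearMap.zero_apply, ← hD.sum_pr y, map_sum]
    exact Finset.sum_eq_zero fun l _ => hcon l _ (hD.pr_mem l y)
  have hvl : v ∈ D l := by
    have h1 := (D l).smul_mem (f x)⁻¹ (hsm l x hx)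
    rwa [smul_smul, inv_mul_cancel₀ hfx, one_smul] at h1
  refine ⟨l, hvl, fun l' hl' x' hx' => ?_⟩
  have h1 : f x' • v ∈ D l' := hsm l' x' hx'
  have h2 : f x' • v ∈ D l := (D l).smul_mem _ hvl
  have h3 := hD.eq_zero_of_mem_of_mem hl' h1 h2
  rcases smul_eq_zero.mp h3 with h | h
  · exact h
  · exact absurd h hv

end Cfsg.Agent.Lib.Helper38.Blk1A
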