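import Mathlib
import Cfsg.Agent.Lib.Helper94.Blk.Ex

/-!
# S5634 part 2, module [BLK-2A] (helper38 for helper94): the two basic commutators
-/

set_option autoImplicit false

namespace Cfsg.Agent.Lib.Helper38.Blk2A

open Cfsg.Agent.Lib.Helper94 Cfsg.Agent.Lib.Helper94.SympData Cfsg.Agent.Lib.Helper94.Blk

variable {K V : Type*} [Field K] [AddCommGroup V] [Module K V] [FiniteDimensional K V]
  {t m : ℕ} {D : Fin t → Submodule K V}

/-- [BLK-2A] centre in one member -/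
theorem cross_of_center_mem (hD : LDecomp m D) (hm : 2 ≤ m) {M : Subgroup (V ≃ₗ[K] V)}
    (hNM : stabDec D ⊓ SLe K V ≤ M) {f : Module.Dual K V} {v : V} (h : TvIn M f v) {i j : Fin t}
    (hij : i ≠ j) (hv : v ∈ D i) (hv0 : v ≠ 0) {x : V} (hx : x ∈ D j) (hfx : f x ≠ 0) :
    CrossIn D M i j := by
  obtain ⟨φ', hφ', hφ'x, w, _hw, hφ'w⟩ := exists_suppOn_ker hD hm j x
  have β : TvIn M φ' x := (hD.blockTv_mem hx hφ' hφ'x).mono hNM
  have hφ'v : φ' v = 0 := hφ' i hij v hv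
  refine ⟨f x • φ', v, h.comm_left β hφ'v, hv, hv0, hφ'.smul (f x), ?_⟩
  intro h0
  apply hfx
  have := congrArg (fun g : Module.Dual K V => g w) h0
  simpa [LinearMap.smul_apply, hφ'w] using this

/-- [BLK-2A'] functional supported on one member -/
theorem cross_of_suppOn (hD : LDecomp m D) (hm : 2 ≤ m) {M : Subgroup (V ≃ₗ[K] V)}
    (hNM : stabDec D ⊓ SLe K V ≤ M) {f : Module.Dual K V} {v : V} (h : TvIn M f v) {i j : Fin t}
    (hij : i ≠ j) (hf : SuppOn D f j) (hf0 : f ≠ 0) (hv : hD.pr i v ≠ 0) :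
    CrossIn D M i j := by
  obtain ⟨φ', hφ', hφ'v⟩ := exists_suppOn_eq_one hD hv
  obtain ⟨u', hu', hu'0, hφ'u'⟩ := exists_mem_ker hD hm i φ'
  have β : TvIn M φ' u' := (hD.blockTv_mem hu' hφ' hφ'u').mono hNM
  have hfu' : f u' = 0 := hf i hij u' hu'
  refine ⟨-(φ' v) • f, u', h.comm_right β hfu', hu', hu'0, hf.smul _, ?_⟩
  rw [hφ'v]
  intro h0
  apply hf0
  simpa using h0

end Cfsg.Agent.Lib.Helper38.Blk2A
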