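/-
helper38: project D4ISO (helper95, S1082): small base lemmas (membership in `O₈⁺(F)`, units from
root / Siegel matrices) used by my modules [G-COMM] [G-SIEGEL-MEM] [G-ES] [G-RED].
All names carry the prefix `h38_` so that they never clash with the official module names.
-/
import Mathlib
import Cfsg.Agent.Lib.Helper95.D4Iso.Defs
import Cfsg.Agent.Lib.Helper50.D4IsoGSiegel

set_option autoImplicit false

namespace Cfsg.Agent.Lib.Helper38.D4Iso

open Matrix Cfsg.Agent.Lib.Helper95.D4Iso Cfsg.Agent.Lib.Helper50.D4Iso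

variable {F : Type*} [Field F]

theorem h38_mem_OG_iff (g : GL I8 F) :
    g ∈ OG F ↔ ∀ x : I8 → F, Qr ((g : Matrix I8 I8 F) *ᵥ x) = Qr x := by
  constructor
  · intro h x
    exact h x 0
  · intro h u _
    exact h u

theorem h38_OG_ext (g h : ↥(OG F))
    (e : ((g : GL I8 F) : Matrix I8 I8 F) = ((h : GL I8 F) : Matrix I8 I8 F)) : g = h :=
  Subtype.ext (Units.ext e)

theorem h38_coe_mul (g h : ↥(OG F)) :
    (((g * h : ↥(OG F)) : GL I8 F) : Matrix I8 I8 F) =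
      ((g : GL I8 F) : Matrix I8 I8 F) * ((h : GL I8 F) : Matrix I8 I8 F) := rfl

theorem h38_coe_one : (((1 : ↥(OG F)) : GL I8 F) : Matrix I8 I8 F) = 1 := rfl

theorem h38_Qr_OG (g : ↥(OG F)) (x : I8 → F) :
    Qr (((g : GL I8 F) : Matrix I8 I8 F) *ᵥ x) = Qr x :=
  (h38_mem_OG_iff (g : GL I8 F)).1 g.2 x

theorem h38_Bf_OG (g : ↥(OG F)) (x y : I8 → F) :
    Bf (((g : GL I8 F) : Matrix I8 I8 F) *ᵥ x) (((g : GL I8 F) : Matrix I8 I8 F) *ᵥ y) = Bf x y :=
  Bf_of_Qr _ (h38_Qr_OG g) x y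

theorem h38_coe_mul_inv (g : ↥(OG F)) :
    ((g : GL I8 F) : Matrix I8 I8 F) * (((g⁻¹ : ↥(OG F)) : GL I8 F) : Matrix I8 I8 F) = 1 := by
  rw [← h38_coe_mul, mul_inv_cancel]
  rfl

theorem h38_coe_inv_mul (g : ↥(OG F)) :
    (((g⁻¹ : ↥(OG F)) : GL I8 F) : Matrix I8 I8 F) * ((g : GL I8 F) : Matrix I8 I8 F) = 1 := by
  rw [← h38_coe_mul, inv_mul_cancel]
  rfl

theorem h38_Bf_neg_right (u w : I8 → F) : Bf u (-w) = - Bf u w := by
  have h := Bf_smul_right (-1 : F) u w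
  rw [neg_one_smul, neg_one_mul] at h
  exact h

/-- a Siegel matrix is the matrix of an element of `O₈⁺(F)` -/
theorem h38_exists_TO (u w : I8 → F) (hu : Qr u = 0) (huw : Bf u w = 0) :
    ∃ g : ↥(OG F), ((g : GL I8 F) : Matrix I8 I8 F) = TM u w := by
  have hneg : Bf u (-w) = 0 := by rw [h38_Bf_neg_right, huw, neg_zero]
  have h1 : TM u w * TM u (-w) = 1 := by
    rw [TM_mul u w (-w) hu huw hneg, add_neg_cancel, TM_zero]
  have h2 : TM u (-w) * TM u w = 1 := by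
    rw [TM_mul u (-w) w hu hneg huw, neg_add_cancel, TM_zero]
  refine ⟨⟨⟨TM u w, TM u (-w), h1, h2⟩, ?_⟩, rfl⟩
  rw [h38_mem_OG_iff]
  intro x
  exact Qr_TM u w hu huw x

theorem h38_eV_apply (a b : I8) : (eV a : I8 → F) b = if b = a then 1 else 0 := by
  unfold eV
  rw [Pi.single_apply]

theorem h38_Bf_eV_eV (a b : I8) : Bf (eV a : I8 → F) (eV b) = if opp b = a then 1 else 0 := by
  rw [Bf_eV_right, h38_eV_apply]

/-- a root matrix is the matrix of an element of `O₈⁺(F)` -/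
theorem h38_exists_xO (a b : I8) (h : Valid a b) (t : F) :
    ∃ g : ↥(OG F), ((g : GL I8 F) : Matrix I8 I8 F) = xM a b t := by
  rw [xM_eq_TM a b h t]
  apply h38_exists_TO
  · exact Qr_eV a
  · rw [Bf_smul_right, h38_Bf_eV_eV, opp_opp, if_neg (fun e => h.1 e.symm), mul_zero]

theorem h38_mulVec_eV (g : Matrix I8 I8 F) (c a : I8) : (g *ᵥ eV c) a = g a c := by
  unfold eV
  rw [Matrix.mulVec_single_one]
  rfl

end Cfsg.Agent.Lib.Helper38.D4Iso
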