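/-
helper38: project D4ISO (helper95, S1082), module D4ISO-[G-COMM]:
the root subgroup `E0` lies in the commutator subgroup of `O₈⁺(F)`.
-/
import Mathlib
import Cfsg.Agent.Lib.Helper95.D4Iso.Defs
import Cfsg.Agent.Lib.Helper59.D4IsoGRoot
import Cfsg.Agent.Lib.Helper38.D4IsoGBase

set_option autoImplicit false

namespace Cfsg.Agent.Lib.Helper38.D4Iso

open Matrix Cfsg.Agent.Lib.Helper95.D4Iso
open scoped commutatorElement

variable {F : Type*} [Field F]

/-- **[G-COMM]** every root element is a commutator. -/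
theorem E0_le_commutator : E0 F ≤ commutator ↥(OG F) := by
  unfold E0
  rw [Subgroup.closure_le]
  rintro g ⟨a, c, hac, t, hg⟩
  obtain ⟨b, hab, hbc⟩ := Cfsg.Agent.Lib.Helper59.D4Iso.exists_mid a c hac
  obtain ⟨g1, hg1⟩ := h38_exists_xO (F := F) a b hab t
  obtain ⟨g2, hg2⟩ := h38_exists_xO (F := F) b c hbc 1
  obtain ⟨g1', hg1'⟩ := h38_exists_xO (F := F) a b hab (-t)
  obtain ⟨g2', hg2'⟩ := h38_exists_xO (F := F) b c hbc (-1)
  have e1 : g1' = g1⁻¹ := by
    apply eq_inv_of_mul_eq_one_right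
    apply h38_OG_ext
    rw [h38_coe_mul, hg1, hg1', Cfsg.Agent.Lib.Helper59.D4Iso.xM_mul a b hab, add_neg_cancel,
      Cfsg.Agent.Lib.Helper59.D4Iso.xM_zero]
    rfl
  have e2 : g2' = g2⁻¹ := by
    apply eq_inv_of_mul_eq_one_right
    apply h38_OG_ext
    rw [h38_coe_mul, hg2, hg2', Cfsg.Agent.Lib.Helper59.D4Iso.xM_mul b c hbc, add_neg_cancel,
      Cfsg.Agent.Lib.Helper59.D4Iso.xM_zero]
    rfl
  have hcomm : g = ⁅g1, g2⁆ := by
    rw [commutatorElement_def, ← e1, ← e2]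
    apply h38_OG_ext
    rw [h38_coe_mul, h38_coe_mul, h38_coe_mul, hg, hg1, hg2, hg1', hg2',
      Cfsg.Agent.Lib.Helper59.D4Iso.xM_comm a b c hab hbc hac t 1, mul_one]
  rw [SetLike.mem_coe, hcomm, commutator_def]
  exact Subgroup.commutator_mem_commutator (Subgroup.mem_top g1) (Subgroup.mem_top g2)

end Cfsg.Agent.Lib.Helper38.D4Iso
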