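/-
helper38: project D4ISO (helper95, S1082), module D4ISO-[G-SIEGEL-MEM]:
Siegel elements at a basis vector lie in `E0S S`.
-/
import Mathlib
import Cfsg.Agent.Lib.Helper95.D4Iso.Defs
import Cfsg.Agent.Lib.Helper50.D4IsoGSiegel
import Cfsg.Agent.Lib.Helper38.D4IsoGBase

set_option autoImplicit false

namespace Cfsg.Agent.Lib.Helper38.D4Iso

open Matrix Cfsg.Agent.Lib.Helper95.D4Iso Cfsg.Agent.Lib.Helper50.D4Iso

variable {F : Type*} [Field F]

theorem h38_lvl_opp (a : I8) : lvl (opp a) = lvl a := by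
  rcases a with a | a <;> rfl

/-- the partial sums `Σ_{d ∈ T} w_d e_d` -/
def h38_part (w : I8 → F) (T : Finset I8) : I8 → F := ∑ d ∈ T, w d • (eV d : I8 → F)

theorem h38_part_univ (w : I8 → F) : h38_part w Finset.univ = w := by
  unfold h38_part
  ext b
  rw [Finset.sum_apply, Finset.sum_eq_single b]
  · rw [Pi.smul_apply, h38_eV_apply, if_pos rfl, smul_eq_mul, mul_one]
  · intro d _ hd
    rw [Pi.smul_apply, h38_eV_apply, if_neg (fun e => hd e.symm), smul_zero]
  · intro h
    exact absurd (Finset.mem_univ _) h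

theorem h38_Bf_eV_smul (a d : I8) (c : F) (hc : d = opp a → c = 0) :
    Bf (eV a : I8 → F) (c • eV d) = 0 := by
  rw [Bf_smul_right, h38_Bf_eV_eV]
  by_cases h : opp d = a
  · have : d = opp a := by rw [← h, opp_opp]
    rw [hc this, zero_mul]
  · rw [if_neg h, mul_zero]

theorem h38_Bf_eV_part (a : I8) (w : I8 → F) (hw : w (opp a) = 0) (T : Finset I8) :
    Bf (eV a : I8 → F) (h38_part w T) = 0 := by
  unfold h38_part
  induction T using Finset.induction_on with
  | empty =>
    rw [Finset.sum_empty]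
    have h := Bf_smul_right (0 : F) (eV a : I8 → F) 0
    rw [zero_smul, zero_mul] at h
    exact h
  | insert d T hd ih =>
    rw [Finset.sum_insert hd, Bf_add_right, ih, add_zero]
    exact h38_Bf_eV_smul a d (w d) (fun e => by rw [e]; exact hw)

/-- one coordinate at a time -/
theorem h38_TM_eV_single_mem (S : Finset (Fin 4)) (a : I8) (ha : lvl a ∈ S) (d : I8) (c : F)
    (hc1 : d = opp a → c = 0) (hc2 : lvl d ∉ S → c = 0) (g : ↥(OG F))
    (hg : ((g : GL I8 F) : Matrix I8 I8 F) = TM (eV a) (c • eV d)) : g ∈ E0S F S := by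
  by_cases hc0 : c = 0
  · have : g = 1 := by
      apply h38_OG_ext
      rw [hg, hc0, zero_smul, TM_zero]
      rfl
    rw [this]
    exact Subgroup.one_mem _
  by_cases hda : d = a
  · have : g = 1 := by
      apply h38_OG_ext
      rw [hg, hda, TM_smul_self _ (Qr_eV a)]
      rfl
    rw [this]
    exact Subgroup.one_mem _
  have hdo : d ≠ opp a := fun e => hc0 (hc1 e)
  have hdS : lvl d ∈ S := by
    by_contra h
    exact hc0 (hc2 h)
  have hval : Valid a (opp d) := by
    refine ⟨?_, ?_⟩
    · intro e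
      apply hdo
      rw [e, opp_opp]
    · rw [opp_opp]
      exact fun e => hda e.symm
  apply Subgroup.subset_closure
  refine ⟨a, opp d, hval, ha, ?_, -c, ?_⟩
  · rw [h38_lvl_opp]
    exact hdS
  · rw [hg, xM_eq_TM a (opp d) hval (-c), neg_neg, opp_opp]

/-- **[G-SIEGEL-MEM]** Siegel elements at a basis vector lie in `E0S S`. -/
theorem TM_eV_mem (S : Finset (Fin 4)) (a : I8) (ha : lvl a ∈ S) (w : I8 → F) (hw : SuppIn S w)
    (haw : Bf (eV a) w = 0) (g : ↥(OG F))
    (hg : ((g : GL I8 F) : Matrix I8 I8 F) = TM (eV a) w) : g ∈ E0S F S := by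
  have hwa : w (opp a) = 0 := by
    rw [Bf_comm, Bf_eV_right] at haw
    exact haw
  have key : ∀ T : Finset I8, ∀ g : ↥(OG F),
      ((g : GL I8 F) : Matrix I8 I8 F) = TM (eV a) (h38_part w T) → g ∈ E0S F S := by
    intro T
    induction T using Finset.induction_on with
    | empty =>
      intro g hg
      have : g = 1 := by
        apply h38_OG_ext
        rw [hg]
        unfold h38_part
        rw [Finset.sum_empty, TM_zero]
        rfl
      rw [this]
      exact Subgroup.one_mem _
    | insert d T hd ih =>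
      intro g hg
      have hsplit : h38_part w (insert d T) = w d • (eV d : I8 → F) + h38_part w T := by
        unfold h38_part
        rw [Finset.sum_insert hd]
      have hb1 : Bf (eV a : I8 → F) (w d • eV d) = 0 :=
        h38_Bf_eV_smul a d (w d) (fun e => by rw [e]; exact hwa)
      have hb2 : Bf (eV a : I8 → F) (h38_part w T) = 0 := h38_Bf_eV_part a w hwa T
      obtain ⟨g1, hg1⟩ := h38_exists_TO (eV a : I8 → F) (w d • eV d) (Qr_eV a) hb1
      obtain ⟨g2, hg2⟩ := h38_exists_TO (eV a : I8 → F) (h38_part w T) (Qr_eV a) hb2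
      have hgg : g = g1 * g2 := by
        apply h38_OG_ext
        rw [h38_coe_mul, hg, hg1, hg2, hsplit, TM_mul _ _ _ (Qr_eV a) hb1 hb2]
      rw [hgg]
      refine Subgroup.mul_mem _ ?_ (ih g2 hg2)
      exact h38_TM_eV_single_mem S a ha d (w d) (fun e => by rw [e]; exact hwa)
        (fun h => hw d h) g1 hg1
  apply key Finset.univ g
  rw [h38_part_univ]
  exact hg

end Cfsg.Agent.Lib.Helper38.D4Iso
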