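/-
helper38: project D4ISO (helper95, S1082), module D4ISO-[G-ES], conditional form:
all Siegel elements lie in `E0`, given the statement of [G-TRANS] as a hypothesis.
-/
import Mathlib
import Cfsg.Agent.Lib.Helper95.D4Iso.Defs
import Cfsg.Agent.Lib.Helper50.D4IsoGSiegel
import Cfsg.Agent.Lib.Helper98.D4IsoGNormal
import Cfsg.Agent.Lib.Helper38.D4IsoGBase
import Cfsg.Agent.Lib.Helper38.D4IsoGSiegelMem

set_option autoImplicit false

namespace Cfsg.Agent.Lib.Helper38.D4Iso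

open Matrix Cfsg.Agent.Lib.Helper95.D4Iso Cfsg.Agent.Lib.Helper50.D4Iso

variable {F : Type*} [Field F]

/-- the statement of module [G-TRANS] (`exists_trans`) -/
def h38_TransStmt (F : Type*) [Field F] : Prop :=
  ∀ (S : Finset (Fin 4)), 2 ≤ S.card → ∀ (i₀ : Fin 4), i₀ ∈ S →
    ∀ (u : I8 → F), u ≠ 0 → Qr u = 0 → SuppIn S u →
    ∃ g : ↥(OG F), g ∈ E0S F S ∧ ((g : GL I8 F) : Matrix I8 I8 F) *ᵥ u = eV (Sum.inl i₀)

theorem h38_TM_zero_left (w : I8 → F) : TM (0 : I8 → F) w = 1 := by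
  rw [ext_iff_mulVec]
  intro x
  rw [TM_mulVec, one_mulVec]
  have h0 : Bf x (0 : I8 → F) = 0 := by
    have h := Bf_smul_right (0 : F) x (0 : I8 → F)
    rw [zero_smul, zero_mul] at h
    exact h
  rw [h0, zero_smul, smul_zero, smul_zero, add_zero, sub_zero, sub_zero]

theorem h38_suppIn_univ (u : I8 → F) : SuppIn (Finset.univ : Finset (Fin 4)) u :=
  fun _ ha => absurd (Finset.mem_univ _) ha

theorem ES_le_E0_of (htr : h38_TransStmt F) : ES F ≤ E0 F := by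
  unfold ES
  rw [Subgroup.closure_le]
  rintro g ⟨u, w, hu, huw, hg⟩
  rw [SetLike.mem_coe]
  by_cases hu0 : u = 0
  · have : g = 1 := by
      apply h38_OG_ext
      rw [hg, hu0, h38_TM_zero_left]
      rfl
    rw [this]
    exact Subgroup.one_mem _
  obtain ⟨h, hhS, hhu⟩ := htr Finset.univ (by simp) 0 (Finset.mem_univ _) u hu0 hu
    (h38_suppIn_univ u)
  have hhE : h ∈ E0 F := Cfsg.Agent.Lib.Helper98.D4Iso.E0S_le_E0 _ hhS
  -- the conjugate `h g h⁻¹` is a Siegel element at `e_0`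
  have hconj : (((h * g * h⁻¹ : ↥(OG F)) : GL I8 F) : Matrix I8 I8 F) =
      TM (eV (Sum.inl 0)) (((h : GL I8 F) : Matrix I8 I8 F) *ᵥ w) := by
    rw [h38_coe_mul, h38_coe_mul, hg,
      TM_conj ((h : GL I8 F) : Matrix I8 I8 F) (((h⁻¹ : ↥(OG F)) : GL I8 F) : Matrix I8 I8 F)
        (h38_Qr_OG h) (h38_coe_mul_inv h) u w, hhu]
  have hB : Bf (eV (Sum.inl 0) : I8 → F) (((h : GL I8 F) : Matrix I8 I8 F) *ᵥ w) = 0 := by
    rw [← hhu, h38_Bf_OG, huw]
  have hmem : h * g * h⁻¹ ∈ E0S F Finset.univ :=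
    TM_eV_mem Finset.univ (Sum.inl 0) (Finset.mem_univ _) _ (h38_suppIn_univ _) hB _ hconj
  have hmemE : h * g * h⁻¹ ∈ E0 F := Cfsg.Agent.Lib.Helper98.D4Iso.E0S_le_E0 _ hmem
  have : g = h⁻¹ * (h * g * h⁻¹) * h := by group
  rw [this]
  exact Subgroup.mul_mem _ (Subgroup.mul_mem _ (Subgroup.inv_mem _ hhE) hmemE) hhE

theorem E0_normal_of (htr : h38_TransStmt F) : (E0 F).Normal := by
  have h : E0 F = ES F :=
    le_antisymm Cfsg.Agent.Lib.Helper98.D4Iso.E0_le_ES (ES_le_E0_of htr)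
  rw [h]
  exact Cfsg.Agent.Lib.Helper98.D4Iso.ES_normal

end Cfsg.Agent.Lib.Helper38.D4Iso
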