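/-
helper38: project D4ISO (helper95, S1082), module D4ISO-[G-RED], conditional form:
every isometry can be moved by an element of `E0` to one fixing `e_c`, `f_c` for `c = 0, 1, 2`,
given the statements of [G-TRANS] and [G-MOVE] as hypotheses.
-/
import Mathlib
import Cfsg.Agent.Lib.Helper95.D4Iso.Defs
import Cfsg.Agent.Lib.Helper50.D4IsoGSiegel
import Cfsg.Agent.Lib.Helper98.D4IsoGNormal
import Cfsg.Agent.Lib.Helper98.D4IsoGFix
import Cfsg.Agent.Lib.Helper38.D4IsoGBase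
import Cfsg.Agent.Lib.Helper38.D4IsoGSiegelMem
import Cfsg.Agent.Lib.Helper38.D4IsoGESOf

set_option autoImplicit false

namespace Cfsg.Agent.Lib.Helper38.D4Iso

open Matrix Cfsg.Agent.Lib.Helper95.D4Iso Cfsg.Agent.Lib.Helper50.D4Iso

variable {F : Type*} [Field F]

/-- the statement of module [G-MOVE] (`exists_move`) -/
def h38_MoveStmt (F : Type*) [Field F] : Prop :=
  ∀ (S : Finset (Fin 4)) (a : I8), lvl a ∈ S → ∀ (u u' : I8 → F),
    Qr u = 0 → Qr u' = 0 → SuppIn S u → SuppIn S u' →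
    Bf u (eV a) = Bf u' (eV a) → Bf u (eV a) ≠ 0 →
    ∃ g : ↥(OG F), g ∈ E0S F S ∧ ((g : GL I8 F) : Matrix I8 I8 F) *ᵥ u = u' ∧
      ((g : GL I8 F) : Matrix I8 I8 F) *ᵥ eV a = eV a

/-- the levels `k, …, 3` -/
def h38_Sk (k : Fin 4) : Finset (Fin 4) := Finset.univ.filter fun i => k ≤ i

theorem h38_mem_Sk (k i : Fin 4) : i ∈ h38_Sk k ↔ k ≤ i := by
  unfold h38_Sk
  rw [Finset.mem_filter]
  exact ⟨fun h => h.2, fun h => ⟨Finset.mem_univ _, h⟩⟩

theorem h38_card_Sk (k : Fin 4) (hk : k.val ≤ 2) : 2 ≤ (h38_Sk k).card := by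
  revert hk
  revert k
  decide

theorem h38_eV_ne_zero (a : I8) : (eV a : I8 → F) ≠ 0 := by
  intro h
  have := congrFun h a
  rw [h38_eV_apply, if_pos rfl] at this
  exact one_ne_zero this

theorem h38_mulVec_ne_zero (g : ↥(OG F)) (x : I8 → F) (hx : x ≠ 0) :
    ((g : GL I8 F) : Matrix I8 I8 F) *ᵥ x ≠ 0 := by
  intro h
  apply hx
  have := congrArg (fun y => (((g⁻¹ : ↥(OG F)) : GL I8 F) : Matrix I8 I8 F) *ᵥ y) h
  simp only [mulVec_mulVec, h38_coe_inv_mul, one_mulVec, mulVec_zero] at this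
  exact this

theorem h38_lvl_inl (k : Fin 4) : lvl (Sum.inl k : I8) = k := rfl
theorem h38_lvl_inr (k : Fin 4) : lvl (Sum.inr k : I8) = k := rfl

theorem h38_opp_inl (k : Fin 4) : opp (Sum.inl k : I8) = Sum.inr k := rfl
theorem h38_opp_inr (k : Fin 4) : opp (Sum.inr k : I8) = Sum.inl k := rfl

theorem h38_eq_of_lvl_eq (c : I8) (k : Fin 4) (h : lvl c = k) : c = Sum.inl k ∨ c = Sum.inr k := by
  rcases c with c | c
  · left
    have : c = k := h
    rw [this]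
  · right
    have : c = k := h
    rw [this]

/-- coordinates of the image of a basis vector under an isometry fixing the lower levels -/
theorem h38_supp_image (k : Fin 4) (g : ↥(OG F))
    (hfix : ∀ c : I8, lvl c < k → ((g : GL I8 F) : Matrix I8 I8 F) *ᵥ eV c = eV c)
    (b : I8) (hb : lvl b = k) :
    SuppIn (h38_Sk k) (((g : GL I8 F) : Matrix I8 I8 F) *ᵥ (eV b : I8 → F)) := by
  intro a ha
  rw [h38_mem_Sk, not_le] at ha
  have ha' : lvl (opp a) < k := by rw [h38_lvl_opp]; exact ha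
  have h1 : (((g : GL I8 F) : Matrix I8 I8 F) *ᵥ (eV b : I8 → F)) a =
      Bf (((g : GL I8 F) : Matrix I8 I8 F) *ᵥ (eV b : I8 → F)) (eV (opp a)) := by
    rw [Bf_eV_right, opp_opp]
  rw [h1, ← hfix (opp a) ha', h38_Bf_OG, h38_Bf_eV_eV, opp_opp, if_neg]
  intro e
  rw [e, hb] at ha
  exact lt_irrefl _ ha

theorem h38_suppIn_eV (S : Finset (Fin 4)) (b : I8) (hb : lvl b ∈ S) :
    SuppIn S (eV b : I8 → F) := by
  intro a ha
  rw [h38_eV_apply, if_neg]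
  intro e
  rw [e] at ha
  exact ha hb

/-- one step of the reduction -/
theorem h38_step (htr : h38_TransStmt F) (hmv : h38_MoveStmt F) (k : Fin 4) (hk : k.val ≤ 2)
    (g : ↥(OG F))
    (hfix : ∀ c : I8, lvl c < k → ((g : GL I8 F) : Matrix I8 I8 F) *ᵥ eV c = eV c) :
    ∃ h : ↥(OG F), h ∈ E0 F ∧ ∀ c : I8, lvl c ≤ k →
      (((h * g : ↥(OG F)) : GL I8 F) : Matrix I8 I8 F) *ᵥ eV c = eV c := by
  have hkS : k ∈ h38_Sk k := (h38_mem_Sk k k).2 le_rfl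
  -- first step: move `g e_k` to `e_k`
  obtain ⟨h1, hh1S, hh1⟩ := htr (h38_Sk k) (h38_card_Sk k hk) k hkS
    (((g : GL I8 F) : Matrix I8 I8 F) *ᵥ (eV (Sum.inl k) : I8 → F))
    (h38_mulVec_ne_zero g _ (h38_eV_ne_zero _))
    (by rw [h38_Qr_OG, Qr_eV])
    (h38_supp_image k g hfix (Sum.inl k) rfl)
  have hfix1 : ∀ c : I8, lvl c < k →
      (((h1 * g : ↥(OG F)) : GL I8 F) : Matrix I8 I8 F) *ᵥ eV c = eV c := by
    intro c hc
    rw [h38_coe_mul, ← mulVec_mulVec, hfix c hc]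
    apply Cfsg.Agent.Lib.Helper98.D4Iso.E0S_fix (h38_Sk k) h1 hh1S c
    rw [h38_mem_Sk, not_le]
    exact hc
  have hek : (((h1 * g : ↥(OG F)) : GL I8 F) : Matrix I8 I8 F) *ᵥ eV (Sum.inl k) =
      eV (Sum.inl k) := by
    rw [h38_coe_mul, ← mulVec_mulVec, hh1]
  -- second step: move `f' = (h1 g) f_k` to `f_k`, fixing `e_k`
  have hB : Bf ((((h1 * g : ↥(OG F)) : GL I8 F) : Matrix I8 I8 F) *ᵥ (eV (Sum.inr k) : I8 → F))
      (eV (Sum.inl k)) = 1 := by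
    have : Bf ((((h1 * g : ↥(OG F)) : GL I8 F) : Matrix I8 I8 F) *ᵥ (eV (Sum.inr k) : I8 → F))
        ((((h1 * g : ↥(OG F)) : GL I8 F) : Matrix I8 I8 F) *ᵥ eV (Sum.inl k)) = 1 := by
      rw [h38_Bf_OG, h38_Bf_eV_eV, h38_opp_inl, if_pos rfl]
    rw [hek] at this
    exact this
  have hB' : Bf (eV (Sum.inr k) : I8 → F) (eV (Sum.inl k)) = 1 := by
    rw [h38_Bf_eV_eV, h38_opp_inl, if_pos rfl]
  obtain ⟨h2, hh2S, hh2, hh2e⟩ := hmv (h38_Sk k) (Sum.inl k) hkS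
    ((((h1 * g : ↥(OG F)) : GL I8 F) : Matrix I8 I8 F) *ᵥ (eV (Sum.inr k) : I8 → F))
    (eV (Sum.inr k))
    (by rw [h38_Qr_OG, Qr_eV]) (Qr_eV _)
    (h38_supp_image k (h1 * g) hfix1 (Sum.inr k) rfl)
    (h38_suppIn_eV _ _ hkS)
    (by rw [hB, hB'])
    (by rw [hB]; exact one_ne_zero)
  refine ⟨h2 * h1, ?_, ?_⟩
  · exact Cfsg.Agent.Lib.Helper98.D4Iso.E0S_le_E0 _ (Subgroup.mul_mem _ hh2S hh1S)
  · intro c hc
    have hassoc : h2 * h1 * g = h2 * (h1 * g) := mul_assoc _ _ _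
    rw [hassoc, h38_coe_mul, ← mulVec_mulVec]
    rcases lt_or_eq_of_le hc with hlt | heq
    · rw [hfix1 c hlt]
      apply Cfsg.Agent.Lib.Helper98.D4Iso.E0S_fix (h38_Sk k) h2 hh2S c
      rw [h38_mem_Sk, not_le]
      exact hlt
    · rcases h38_eq_of_lvl_eq c k heq with rfl | rfl
      · rw [hek, hh2e]
      · rw [hh2]

theorem exists_reduce_of (htr : h38_TransStmt F) (hmv : h38_MoveStmt F) (g : ↥(OG F)) :
    ∃ h : ↥(OG F), h ∈ E0 F ∧ ∀ c : I8, lvl c ≠ 3 →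
      (((h * g : ↥(OG F)) : GL I8 F) : Matrix I8 I8 F) *ᵥ eV c = eV c := by
  obtain ⟨h0, hh0, hf0⟩ := h38_step htr hmv 0 (by decide) g (fun c hc => absurd hc (by
    intro h; exact absurd h (Fin.not_lt_zero _)))
  obtain ⟨h1, hh1, hf1⟩ := h38_step htr hmv 1 (by decide) (h0 * g) (fun c hc => hf0 c (by
    rw [Fin.lt_def] at hc; rw [Fin.le_def]; simp only [Fin.val_one, Fin.val_zero] at *; omega))
  obtain ⟨h2, hh2, hf2⟩ := h38_step htr hmv 2 (by decide) (h1 * (h0 * g)) (fun c hc => hf1 c (by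
    rw [Fin.lt_def] at hc; rw [Fin.le_def]; simp only [Fin.val_one, Fin.val_two] at *; omega))
  refine ⟨h2 * h1 * h0, Subgroup.mul_mem _ (Subgroup.mul_mem _ hh2 hh1) hh0, ?_⟩
  intro c hc
  have hassoc : h2 * h1 * h0 * g = h2 * (h1 * (h0 * g)) := by group
  rw [hassoc]
  apply hf2 c
  rw [Fin.le_def]
  have h3 : (lvl c).val ≠ 3 := fun e => hc (Fin.ext e)
  have := (lvl c).isLt
  simp only [Fin.val_two]
  omega

end Cfsg.Agent.Lib.Helper38.D4Iso
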