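/-
helper38: project D4ISO (helper95, S1082), modules D4ISO-[G-ES] and D4ISO-[G-RED], final forms
(on top of helper6's [G-TRANS], [G-MOVE]).
-/
import Mathlib
import Cfsg.Agent.Lib.Helper95.D4Iso.Defs
import Cfsg.Agent.Lib.Helper6.D4IsoGMove
import Cfsg.Agent.Lib.Helper6.D4IsoGTrans
import Cfsg.Agent.Lib.Helper38.D4IsoGESOf
import Cfsg.Agent.Lib.Helper38.D4IsoGRedOf

set_option autoImplicit false

namespace Cfsg.Agent.Lib.Helper38.D4Iso

open Matrix Cfsg.Agent.Lib.Helper95.D4Iso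

variable {F : Type*} [Field F]

theorem h38_transStmt : h38_TransStmt F :=
  fun S hS i₀ hi u hu0 hu hs => Cfsg.Agent.Lib.Helper6.D4Iso.exists_trans S hS i₀ hi u hu0 hu hs

theorem h38_moveStmt : h38_MoveStmt F :=
  fun S a ha u u' hu hu' hs hs' hβ hβ0 =>
    Cfsg.Agent.Lib.Helper6.D4Iso.exists_move S a ha u u' hu hu' hs hs' hβ hβ0

/-- **[G-ES]** all Siegel elements lie in `E0`. -/
theorem ES_le_E0 : ES F ≤ E0 F := ES_le_E0_of h38_transStmt

/-- **[G-ES]** `E0` is normal in `O₈⁺(F)`. -/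
theorem E0_normal : (E0 F).Normal := E0_normal_of h38_transStmt

/-- **[G-RED]** reduction to the last hyperbolic pair. -/
theorem exists_reduce (g : ↥(OG F)) :
    ∃ h : ↥(OG F), h ∈ E0 F ∧ ∀ c : I8, lvl c ≠ 3 →
      (((h * g : ↥(OG F)) : GL I8 F) : Matrix I8 I8 F) *ᵥ eV c = eV c :=
  exists_reduce_of h38_transStmt h38_moveStmt g

end Cfsg.Agent.Lib.Helper38.D4Iso
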