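import Mathlib

/-!
# Fixed points of products of conjugates in `S_n` (helper38)

Tools for S2271: for `a b ≠ 1` in `S_n`, `n ≥ 5`, the number of fixed points of
`a^g * b^h` (`g h ∈ A_n`) is not constant.
-/

namespace Cfsg.Agent.Helper38.FixProd

open Equiv

variable {n : ℕ}

theorem exists_alt_map3 (hn : 5 ≤ n) {p₁ p₂ p₃ q₁ q₂ q₃ : Fin n}
    (hp12 : p₁ ≠ p₂) (hp13 : p₁ ≠ p₃) (hp23 : p₂ ≠ p₃)
    (hq12 : q₁ ≠ q₂) (hq13 : q₁ ≠ q₃) (hq23 : q₂ ≠ q₃) :
    ∃ h : Perm (Fin n), h ∈ alternatingGroup (Fin n) ∧ h p₁ = q₁ ∧ h p₂ = q₂ ∧ h p₃ = q₃ := by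
  have h3 : MulAction.IsMultiplyPretransitive (alternatingGroup (Fin n)) (Fin n) 3 := by
    have := alternatingGroup.isMultiplyPretransitive (Fin n)
    have hc : Nat.card (Fin n) = n := Nat.card_fin n
    exact MulAction.isMultiplyPretransitive_of_le (n := Nat.card (Fin n) - 2)
      (by omega) (by omega)
  let e₁ : Fin 3 ↪ Fin n := ⟨![p₁, p₂, p₃], by
    intro i j hij; fin_cases i <;> fin_cases j <;> simp_all⟩
  let e₂ : Fin 3 ↪ Fin n := ⟨![q₁, q₂, q₃], by
    intro i j hij; fin_cases i <;> fin_cases j <;> simp_all⟩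
  obtain ⟨g, hg⟩ := MulAction.exists_smul_eq (alternatingGroup (Fin n)) e₁ e₂
  refine ⟨g.1, g.2, ?_, ?_, ?_⟩
  · have := congrArg (fun e : Fin 3 ↪ Fin n => e 0) hg
    simp only [Function.Embedding.smul_apply, Subgroup.smul_def, Perm.smul_def] at this
    exact this
  · have := congrArg (fun e : Fin 3 ↪ Fin n => e 1) hg
    simp only [Function.Embedding.smul_apply, Subgroup.smul_def, Perm.smul_def] at this
    exact this
  · have := congrArg (fun e : Fin 3 ↪ Fin n => e 2) hg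
    simp only [Function.Embedding.smul_apply, Subgroup.smul_def, Perm.smul_def] at this
    exact this

theorem exists_three_cycle {p q r : Fin n} (hpq : p ≠ q) (hpr : p ≠ r) (hqr : q ≠ r) :
    ∃ τ : Perm (Fin n), τ ∈ alternatingGroup (Fin n) ∧ τ p = q ∧ τ q = r ∧ τ r = p ∧
      ∀ j, j ≠ p → j ≠ q → j ≠ r → τ j = j := by
  refine ⟨swap p q * swap q r, ?_, ?_, ?_, ?_, ?_⟩
  · rw [Equiv.Perm.mem_alternatingGroup]
    simp [Equiv.Perm.sign_swap hpq, Equiv.Perm.sign_swap hqr]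
  · simp [Perm.mul_apply, swap_apply_of_ne_of_ne hpq hpr]
  · simp [Perm.mul_apply, swap_apply_of_ne_of_ne hpr.symm hqr.symm]
  · simp [Perm.mul_apply]
  · intro j hjp hjq hjr
    simp [Perm.mul_apply, swap_apply_of_ne_of_ne hjq hjr, swap_apply_of_ne_of_ne hjp hjq]

theorem exists_ne4 (hn : 5 ≤ n) (p q r s : Fin n) :
    ∃ t, t ≠ p ∧ t ≠ q ∧ t ≠ r ∧ t ≠ s := by
  have hne : (({p, q, r, s} : Finset (Fin n))ᶜ).Nonempty := by
    rw [← Finset.card_pos, Finset.card_compl, Fintype.card_fin]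
    have : ({p, q, r, s} : Finset (Fin n)).card ≤ 4 := Finset.card_le_four
    omega
  obtain ⟨t, ht⟩ := hne
  simp only [Finset.mem_compl, Finset.mem_insert, Finset.mem_singleton, not_or] at ht
  exact ⟨t, ht.1, ht.2.1, ht.2.2.1, ht.2.2.2⟩

theorem conj_apply (τ a : Perm (Fin n)) (i : Fin n) : (τ * a * τ⁻¹) (τ i) = τ (a i) := by
  simp [Perm.mul_apply]

theorem conj_apply_of_fixed (τ a : Perm (Fin n)) (j : Fin n) (hj : τ j = j) :
    (τ * a * τ⁻¹) j = τ (a j) := by
  conv_lhs => rw [← hj]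
  exact conj_apply τ a j

theorem card_fix_lt {a a'' b' : Perm (Fin n)} (y : Fin n)
    (h1 : ∀ i, a (b' i) = i → a'' (b' i) = i) (h2 : a'' (b' y) = y) (h3 : a (b' y) ≠ y) :
    Nat.card (Function.fixedPoints ⇑(a * b')) < Nat.card (Function.fixedPoints ⇑(a'' * b')) := by
  rw [Nat.card_coe_set_eq, Nat.card_coe_set_eq]
  apply Set.ncard_lt_ncard _ (Set.toFinite _)
  refine ⟨fun i hi => ?_, fun hsub => ?_⟩
  · simp only [Function.mem_fixedPoints, Function.IsFixedPt, Perm.coe_mul,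
      Function.comp] at hi ⊢
    exact h1 i hi
  · have hy : y ∈ Function.fixedPoints ⇑(a'' * b') := by
      simp [Function.mem_fixedPoints, Function.IsFixedPt, h2]
    have := hsub hy
    simp only [Function.mem_fixedPoints, Function.IsFixedPt, Perm.coe_mul,
      Function.comp] at this
    exact h3 this

theorem card_fix_mul_comm (p q : Perm (Fin n)) :
    Nat.card (Function.fixedPoints ⇑(p * q)) = Nat.card (Function.fixedPoints ⇑(q * p)) := by
  refine Nat.card_congr (Equiv.subtypeEquiv q (fun i => ?_))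
  simp only [Function.mem_fixedPoints, Function.IsFixedPt, Perm.coe_mul, Function.comp]
  constructor
  · intro h; rw [h]
  · intro h; exact q.injective h

/-- The statement of S2271 for a pair `(a, b)`. -/
def Good (a b : Perm (Fin n)) : Prop :=
  ∃ g₁ h₁ g₂ h₂ : Perm (Fin n), g₁ ∈ alternatingGroup (Fin n) ∧ h₁ ∈ alternatingGroup (Fin n) ∧
    g₂ ∈ alternatingGroup (Fin n) ∧ h₂ ∈ alternatingGroup (Fin n) ∧
      Nat.card (Function.fixedPoints ⇑(g₁ * a * g₁⁻¹ * (h₁ * b * h₁⁻¹))) ≠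
        Nat.card (Function.fixedPoints ⇑(g₂ * a * g₂⁻¹ * (h₂ * b * h₂⁻¹)))

theorem good_swap {a b : Perm (Fin n)} (h : Good b a) : Good a b := by
  obtain ⟨g₁, h₁, g₂, h₂, hg₁, hh₁, hg₂, hh₂, hne⟩ := h
  refine ⟨h₁, g₁, h₂, g₂, hh₁, hg₁, hh₂, hg₂, ?_⟩
  rw [card_fix_mul_comm (h₁ * a * h₁⁻¹), card_fix_mul_comm (h₂ * a * h₂⁻¹)]
  exact hne

theorem good_of_lt {a b : Perm (Fin n)} (h τ : Perm (Fin n))
    (hh : h ∈ alternatingGroup (Fin n)) (hτ : τ ∈ alternatingGroup (Fin n))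
    (hlt : Nat.card (Function.fixedPoints ⇑(a * (h * b * h⁻¹))) <
      Nat.card (Function.fixedPoints ⇑(τ * a * τ⁻¹ * (h * b * h⁻¹)))) : Good a b := by
  refine ⟨1, h, τ, h, Subgroup.one_mem _, hh, hτ, hh, ?_⟩
  simp only [one_mul, inv_one, mul_one]
  exact hlt.ne

theorem exists_moved {b : Perm (Fin n)} (hb : b ≠ 1) : ∃ u, b u ≠ u := by
  by_contra hall
  push Not at hall
  exact hb (Equiv.ext hall)

/-- `a` has a cycle of length at least four. -/
def HasLong (a : Perm (Fin n)) : Prop := ∃ x, a x ≠ x ∧ a (a x) ≠ x ∧ a (a (a x)) ≠ x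


theorem conj_b_apply (h b : Perm (Fin n)) (u : Fin n) : (h * b * h⁻¹) (h u) = h (b u) := by
  simp [Perm.mul_apply]

/-- a third point related to `b⁻¹ u₀` -/
theorem exists_third (hn : 5 ≤ n) (b : Perm (Fin n)) (u₀ : Fin n) (hu : b u₀ ≠ u₀) :
    ∃ t, t ≠ u₀ ∧ t ≠ b u₀ ∧ (b⁻¹ u₀ = b u₀ ∨ b⁻¹ u₀ = t) := by
  by_cases hc : b⁻¹ u₀ = b u₀
  · obtain ⟨t, h1, h2, -, -⟩ := exists_ne4 hn u₀ (b u₀) u₀ u₀
    exact ⟨t, h1, h2, Or.inl hc⟩
  · refine ⟨b⁻¹ u₀, ?_, hc, Or.inr rfl⟩
    intro h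
    apply hu
    rw [Perm.inv_eq_iff_eq] at h
    exact h.symm

theorem good_of_long (hn : 5 ≤ n) (a b : Perm (Fin n)) (hb : b ≠ 1) (hL : HasLong a) :
    Good a b := by
  obtain ⟨x, hx1, hx2, hx3⟩ := hL
  obtain ⟨u₀, hu⟩ := exists_moved hb
  obtain ⟨t, ht0, ht1, ht⟩ := exists_third hn b u₀ hu
  -- distinctness
  have hzy : a (a x) ≠ a x := fun h => hx1 (a.injective h)
  have hwy : a (a (a x)) ≠ a x := fun h => hx2 (a.injective h)
  have hwz : a (a (a x)) ≠ a (a x) := fun h => hzy (a.injective h)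
  obtain ⟨h, hh, hh0, hh1, hh2⟩ := exists_alt_map3 hn (p₁ := u₀) (p₂ := b u₀) (p₃ := t)
    (q₁ := x) (q₂ := a (a x)) (q₃ := a (a (a x))) hu.symm ht0.symm ht1.symm hx2.symm hx3.symm
    hwz.symm
  obtain ⟨τ, hτ, hτx, hτy, hτz, hτo⟩ := exists_three_cycle (p := x) (q := a x) (r := a (a x))
    hx1.symm hx2.symm hzy.symm
  -- facts on b'
  have hb'x : (h * b * h⁻¹) x = a (a x) := by
    have := conj_b_apply h b u₀
    rw [hh0, hh1] at this
    exact this
  have hb'y : (h * b * h⁻¹) (a x) ≠ x := by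
    intro hcon
    -- a x = h (b⁻¹ u₀)
    have h1 : a x = h (b⁻¹ u₀) := by
      have : (h * b * h⁻¹) (h (b⁻¹ u₀)) = x := by
        rw [conj_b_apply]
        simp [hh0]
      exact (h * b * h⁻¹).injective (hcon.trans this.symm)
    rcases ht with ht | ht
    · rw [ht, hh1] at h1
      exact hzy h1.symm
    · rw [ht, hh2] at h1
      exact hwy h1.symm
  refine good_of_lt h τ hh hτ (card_fix_lt x ?_ ?_ ?_)
  · intro i hi
    -- j = b' i
    have hjx : (h * b * h⁻¹) i ≠ x := by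
      intro hj
      rw [hj] at hi
      apply hb'y
      rw [hi]
      exact hj
    have hjz : (h * b * h⁻¹) i ≠ a (a x) := by
      intro hj
      have hix : i = x := (h * b * h⁻¹).injective (hj.trans hb'x.symm)
      rw [hj, hix] at hi
      exact hx3 hi
    have hajx : a ((h * b * h⁻¹) i) ≠ x := by
      intro hj
      have hix : i = x := hi.symm.trans hj
      rw [hix, hb'x] at hj
      exact hx3 hj
    by_cases hjy : (h * b * h⁻¹) i = a x
    · rw [hjy] at hi ⊢
      rw [← hτx, conj_apply, hτy]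
      exact hi
    · rw [conj_apply_of_fixed τ a _ (hτo _ hjx hjy hjz)]
      rw [hτo _ hajx (fun h' => hjx (a.injective h')) (fun h' => hjy (a.injective h'))]
      exact hi
  · rw [hb'x]
    conv_lhs => rw [← hτy]
    rw [conj_apply, hτz]
  · rw [hb'x]
    exact hx3


theorem good_of_three_three (hn : 5 ≤ n) (a b : Perm (Fin n)) (x : Fin n) (hx : a x ≠ x)
    (hx3 : a (a (a x)) = x) (u₀ : Fin n) (hu : b u₀ ≠ u₀) (hu3 : b (b (b u₀)) = u₀) :
    Good a b := by
  have hzy : a (a x) ≠ a x := fun h => hx (a.injective h)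
  have hzx : a (a x) ≠ x := by
    intro h
    rw [h] at hx3
    exact hx hx3
  have hu21 : b (b u₀) ≠ b u₀ := fun h => hu (b.injective h)
  have hu20 : b (b u₀) ≠ u₀ := by
    intro h
    rw [h] at hu3
    exact hu hu3
  obtain ⟨v, hvx, hvy, hvz, -⟩ := exists_ne4 hn x (a x) (a (a x)) x
  obtain ⟨h, hh, hh0, hh1, hh2⟩ := exists_alt_map3 hn (p₁ := u₀) (p₂ := b u₀) (p₃ := b (b u₀))
    (q₁ := a x) (q₂ := a (a x)) (q₃ := v) hu.symm hu20.symm hu21.symm hzy.symm hvy.symm hvz.symm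
  obtain ⟨τ, hτ, hτx, hτy, hτv, hτo⟩ := exists_three_cycle (p := x) (q := a x) (r := v)
    hx.symm hvx.symm hvy.symm
  have hb'y : (h * b * h⁻¹) (a x) = a (a x) := by
    have := conj_b_apply h b u₀
    rw [hh0, hh1] at this
    exact this
  have hb'z : (h * b * h⁻¹) (a (a x)) = v := by
    have := conj_b_apply h b (b u₀)
    rw [hh1, hh2] at this
    exact this
  have hb'v : (h * b * h⁻¹) v = a x := by
    have := conj_b_apply h b (b (b u₀))
    rw [hh2, hu3, hh0] at this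
    exact this
  refine good_of_lt h τ hh hτ (card_fix_lt (a x) ?_ ?_ ?_)
  · intro i hi
    have hjx : (h * b * h⁻¹) i ≠ x := by
      intro hj
      rw [hj] at hi
      rw [← hi, hb'y] at hj
      exact hzx hj
    have hjy : (h * b * h⁻¹) i ≠ a x := by
      intro hj
      rw [hj] at hi
      rw [← hi, hb'z] at hj
      exact hvy hj
    have hjv : (h * b * h⁻¹) i ≠ v := by
      intro hj
      have hiz : i = a (a x) := (h * b * h⁻¹).injective (hj.trans hb'z.symm)
      rw [hj, hiz] at hi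
      exact hvy (a.injective hi)
    have hajx : a ((h * b * h⁻¹) i) ≠ x := by
      intro hj
      have hix : i = x := hi.symm.trans hj
      have hjz : (h * b * h⁻¹) i = a (a x) := a.injective (hj.trans hx3.symm)
      rw [hix] at hjz
      exact hx ((h * b * h⁻¹).injective (hb'y.trans hjz.symm))
    have hajv : a ((h * b * h⁻¹) i) ≠ v := by
      intro hj
      have hiv : i = v := hi.symm.trans hj
      apply hjy
      rw [hiv, hb'v]
    rw [conj_apply_of_fixed τ a _ (hτo _ hjx hjy hjv)]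
    rw [hτo _ hajx (fun h' => hjx (a.injective h')) hajv]
    exact hi
  · rw [hb'y, conj_apply_of_fixed τ a _ (hτo _ hzx hzy hvz.symm), hx3, hτx]
  · rw [hb'y, hx3]
    exact hx.symm

theorem good_of_invol (hn : 5 ≤ n) (a b : Perm (Fin n)) (ha : a ≠ 1) (hI : ∀ i, a (a i) = i)
    (hb : b ≠ 1) (hnL : ¬ HasLong b) : Good a b := by
  obtain ⟨x, hx⟩ := exists_moved ha
  obtain ⟨u, hux, huy, -, -⟩ := exists_ne4 hn x (a x) x x
  have hvx : a u ≠ x := by
    intro h
    apply huy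
    rw [← h, hI]
  have hvy : a u ≠ a x := fun h => hux (a.injective h)
  obtain ⟨u₀, hu⟩ := exists_moved hb
  have hu21 : b (b u₀) ≠ b u₀ := fun h => hu (b.injective h)
  -- the conjugate of b
  have key : ∃ h : Perm (Fin n), h ∈ alternatingGroup (Fin n) ∧ (h * b * h⁻¹) (a x) = u ∧
      (h * b * h⁻¹) x ≠ a x ∧ (h * b * h⁻¹) u ≠ a u := by
    by_cases h2 : b (b u₀) = u₀
    · obtain ⟨t, ht0, ht1, -, -⟩ := exists_ne4 hn u₀ (b u₀) u₀ u₀
      obtain ⟨s, hsy, hsu, -, -⟩ := exists_ne4 hn (a x) u u u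
      obtain ⟨h, hh, hh0, hh1, hh2⟩ := exists_alt_map3 hn (p₁ := u₀) (p₂ := b u₀) (p₃ := t)
        (q₁ := a x) (q₂ := u) (q₃ := s) hu.symm ht0.symm ht1.symm huy.symm hsy.symm hsu.symm
      have hb'y : (h * b * h⁻¹) (a x) = u := by
        have := conj_b_apply h b u₀
        rw [hh0, hh1] at this
        exact this
      have hb'u : (h * b * h⁻¹) u = a x := by
        have := conj_b_apply h b (b u₀)
        rw [hh1, h2, hh0] at this
        exact this
      refine ⟨h, hh, hb'y, ?_, ?_⟩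
      · intro hc
        exact hux ((h * b * h⁻¹).injective (hb'u.trans hc.symm))
      · rw [hb'u]
        exact hvy.symm
    · have h3 : b (b (b u₀)) = u₀ := by
        by_contra h3
        exact hnL ⟨u₀, hu, h2, h3⟩
      obtain ⟨s, hsx, hsy, hsu, hsv⟩ := exists_ne4 hn x (a x) u (a u)
      obtain ⟨h, hh, hh0, hh1, hh2⟩ := exists_alt_map3 hn (p₁ := u₀) (p₂ := b u₀)
        (p₃ := b (b u₀)) (q₁ := a x) (q₂ := u) (q₃ := s) hu.symm (Ne.symm h2) hu21.symm
        huy.symm hsy.symm hsu.symm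
      have hb'y : (h * b * h⁻¹) (a x) = u := by
        have := conj_b_apply h b u₀
        rw [hh0, hh1] at this
        exact this
      have hb'u : (h * b * h⁻¹) u = s := by
        have := conj_b_apply h b (b u₀)
        rw [hh1, hh2] at this
        exact this
      have hb's : (h * b * h⁻¹) s = a x := by
        have := conj_b_apply h b (b (b u₀))
        rw [hh2, h3, hh0] at this
        exact this
      refine ⟨h, hh, hb'y, ?_, ?_⟩
      · intro hc
        exact hsx ((h * b * h⁻¹).injective (hb's.trans hc.symm))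
      · rw [hb'u]
        exact hsv
  obtain ⟨h, hh, hb'y, hb'x, hb'u⟩ := key
  obtain ⟨τ, hτ, hτx, hτy, hτu, hτo⟩ := exists_three_cycle (p := x) (q := a x) (r := u)
    hx.symm hux.symm huy.symm
  refine good_of_lt h τ hh hτ (card_fix_lt (a x) ?_ ?_ ?_)
  · intro i hi
    have hjx : (h * b * h⁻¹) i ≠ x := by
      intro hj
      rw [hj] at hi
      rw [← hi, hb'y] at hj
      exact hux hj
    have hjy : (h * b * h⁻¹) i ≠ a x := by
      intro hj
      rw [hj, hI] at hi
      rw [← hi] at hj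
      exact hb'x hj
    have hju : (h * b * h⁻¹) i ≠ u := by
      intro hj
      have hiy : i = a x := (h * b * h⁻¹).injective (hj.trans hb'y.symm)
      rw [hj, hiy] at hi
      exact hvy hi
    have hajx : a ((h * b * h⁻¹) i) ≠ x := by
      intro hj
      apply hjy
      rw [← hj, hI]
    have haju : a ((h * b * h⁻¹) i) ≠ u := by
      intro hj
      have hiu : i = u := hi.symm.trans hj
      have hjv : (h * b * h⁻¹) i = a u := by
        rw [← hj, hI]
      rw [hiu] at hjv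
      exact hb'u hjv
    rw [conj_apply_of_fixed τ a _ (hτo _ hjx hjy hju)]
    rw [hτo _ hajx (fun h' => hjx (a.injective h')) haju]
    exact hi
  · rw [hb'y]
    conv_lhs => rw [← hτy]
    rw [conj_apply, hI, hτx]
  · rw [hb'y]
    exact hvy

theorem good_main (hn : 5 ≤ n) (a b : Perm (Fin n)) (ha : a ≠ 1) (hb : b ≠ 1) : Good a b := by
  by_cases hLa : HasLong a
  · exact good_of_long hn a b hb hLa
  by_cases hLb : HasLong b
  · exact good_swap (good_of_long hn b a ha hLb)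
  by_cases hIa : ∀ i, a (a i) = i
  · exact good_of_invol hn a b ha hIa hb hLb
  by_cases hIb : ∀ i, b (b i) = i
  · exact good_swap (good_of_invol hn b a hb hIb ha hLa)
  push Not at hIa hIb
  obtain ⟨x, hx2⟩ := hIa
  obtain ⟨u₀, hu2⟩ := hIb
  have hx1 : a x ≠ x := by
    intro h
    apply hx2
    rw [h, h]
  have hu1 : b u₀ ≠ u₀ := by
    intro h
    apply hu2
    rw [h, h]
  have hx3 : a (a (a x)) = x := by
    by_contra h3
    exact hLa ⟨x, hx1, hx2, h3⟩
  have hu3 : b (b (b u₀)) = u₀ := by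
    by_contra h3
    exact hLb ⟨u₀, hu1, hu2, h3⟩
  exact good_of_three_three hn a b x hx1 hx3 u₀ hu1 hu3

end Cfsg.Agent.Helper38.FixProd
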