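/-
helper38: module [COREMIN] of helper2's S3822 (Flavell): a minimal `A`-invariant subgroup `U₀` of the
`q`-group `U` on which the normal `r`-subgroup `R` of `A` acts nontrivially, and its Frattini
subgroup `Φ`: `U₀/Φ` is an irreducible `A`-module with `C_{U₀/Φ}(R) = 1`.
All declarations live in `Cfsg.Agent.Lib.Helper38.Flavell`.
-/
import Mathlib
import Cfsg.Agent.S0012

set_option autoImplicit false
set_option linter.style.haveILetI false

open scoped commutatorElement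

namespace Cfsg.Agent.Lib.Helper38.Flavell

section conj

variable {G : Type*} [Group G] (H : Subgroup G)

/-- conjugation by an element of the normalizer, as an automorphism of `H` -/
def cj (g : G) (hg : g ∈ Subgroup.normalizer (H : Set G)) : ↥H ≃* ↥H where
  toFun u := ⟨g * u * g⁻¹, (Subgroup.mem_normalizer_iff.mp hg u).mp u.2⟩
  invFun u := ⟨g⁻¹ * u * g, by
    have h := (Subgroup.mem_normalizer_iff.mp hg (g⁻¹ * u * g)).mpr
    apply h
    have e : g * (g⁻¹ * ↑u * g) * g⁻¹ = u := by group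
    rw [e]; exact u.2⟩
  left_inv u := by apply Subtype.ext; simp [mul_assoc]
  right_inv u := by apply Subtype.ext; simp [mul_assoc]
  map_mul' u v := by apply Subtype.ext; simp [mul_assoc]

theorem cj_coe (g : G) (hg : g ∈ Subgroup.normalizer (H : Set G)) (u : ↥H) :
    ((cj H g hg u : ↥H) : G) = g * u * g⁻¹ := rfl

/-- the Frattini subgroup is invariant under conjugation by the normalizer -/
theorem cj_mem_frattini (g : G) (hg : g ∈ Subgroup.normalizer (H : Set G)) (u : ↥H) :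
    cj H g hg u ∈ frattini ↥H ↔ u ∈ frattini ↥H := by
  have h := (frattini_characteristic (G := ↥H))
  rw [Subgroup.characteristic_iff_comap_eq] at h
  have h2 := h (cj H g hg)
  constructor
  · intro hu
    rw [← h2]
    exact hu
  · intro hu
    rw [← h2] at hu
    exact hu

/-- the induced map on the Frattini quotient -/
def qmap (g : G) (hg : g ∈ Subgroup.normalizer (H : Set G)) :
    (↥H ⧸ frattini ↥H) →* (↥H ⧸ frattini ↥H) :=
  QuotientGroup.map (frattini ↥H) (frattini ↥H) (cj H g hg).toMonoidHom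
    (fun u hu => (cj_mem_frattini H g hg u).mpr hu)

theorem qmap_mk (g : G) (hg : g ∈ Subgroup.normalizer (H : Set G)) (u : ↥H) :
    qmap H g hg (QuotientGroup.mk u) = QuotientGroup.mk (cj H g hg u) := rfl

theorem qmap_mul (g g' : G) (hg : g ∈ Subgroup.normalizer (H : Set G))
    (hg' : g' ∈ Subgroup.normalizer (H : Set G)) (x : ↥H ⧸ frattini ↥H) :
    qmap H (g * g') ((Subgroup.normalizer (H : Set G)).mul_mem hg hg') x
      = qmap H g hg (qmap H g' hg' x) := by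
  obtain ⟨u, rfl⟩ := QuotientGroup.mk_surjective x
  rw [qmap_mk, qmap_mk, qmap_mk]
  congr 1
  apply Subtype.ext
  simp [cj_coe, mul_assoc]

/-- the Frattini subgroup of `H`, viewed in the ambient group -/
abbrev fratIn (H : Subgroup G) : Subgroup G := (frattini ↥H).map H.subtype

theorem mem_fratIn {x : G} (hx : x ∈ H) :
    x ∈ fratIn H ↔ (⟨x, hx⟩ : ↥H) ∈ frattini ↥H := by
  constructor
  · rintro ⟨z, hz, rfl⟩
    exact hz
  · intro h
    exact ⟨⟨x, hx⟩, h, rfl⟩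

theorem fratIn_le : fratIn H ≤ H := by
  rintro _ ⟨z, _, rfl⟩
  exact z.2

/-- the normalizer of `H` normalizes the Frattini subgroup of `H` -/
theorem normalizer_le_normalizer_fratIn :
    Subgroup.normalizer (H : Set G) ≤ Subgroup.normalizer ((fratIn H : Subgroup G) : Set G) := by
  intro g hg
  rw [Subgroup.mem_normalizer_iff]
  intro h
  constructor
  · intro hh
    have hhH : h ∈ H := fratIn_le H hh
    have h1 := (mem_fratIn H hhH).mp hh
    have h2 := (cj_mem_frattini H g hg ⟨h, hhH⟩).mpr h1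
    exact ⟨_, h2, rfl⟩
  · intro hh
    have hhH' : g * h * g⁻¹ ∈ H := fratIn_le H hh
    have hhH : h ∈ H := (Subgroup.mem_normalizer_iff.mp hg h).mpr hhH'
    have h1 := (mem_fratIn H hhH').mp hh
    have h2 : cj H g hg ⟨h, hhH⟩ ∈ frattini ↥H := h1
    exact (mem_fratIn H hhH).mpr ((cj_mem_frattini H g hg ⟨h, hhH⟩).mp h2)

end conj

theorem core_min {G : Type*} [Group G] [Finite G] {q r : ℕ} [Fact q.Prime] [Fact r.Prime]
    (hqr : q ≠ r) (A U R : Subgroup G) (hU : IsPGroup q U)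
    (hAU : A ≤ Subgroup.normalizer (U : Set G)) (hR : IsPGroup r R) (hRA : R ≤ A)
    (hAR : A ≤ Subgroup.normalizer (R : Set G))
    (hne : ¬ ∀ f ∈ R, ∀ w ∈ U, f * w = w * f) :
    ∃ U₀ Φ : Subgroup G, U₀ ≤ U ∧ Φ < U₀ ∧ A ≤ Subgroup.normalizer (U₀ : Set G) ∧
      A ≤ Subgroup.normalizer (Φ : Set G) ∧ U₀ ≤ Subgroup.normalizer (Φ : Set G) ∧
      (∀ w ∈ U₀, ∀ w' ∈ U₀, ⁅w, w'⁆ ∈ Φ) ∧ (∀ w ∈ U₀, w ^ q ∈ Φ) ∧
      (∀ X : Subgroup G, X ≤ U₀ → X ⊔ Φ = U₀ → X = U₀) ∧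
      (∀ U₁ : Subgroup G, A ≤ Subgroup.normalizer (U₁ : Set G) → Φ ≤ U₁ → U₁ ≤ U₀ →
        U₁ = Φ ∨ U₁ = U₀) ∧
      (∀ w ∈ U₀, (∀ f ∈ R, ⁅f, w⁆ ∈ Φ) → w ∈ Φ) := by
  classical
  have hq : q.Prime := Fact.out
  have hr : r.Prime := Fact.out
  -- a minimal A-invariant subgroup of U not centralized by R
  have h𝒮 : ({X : Subgroup G | X ≤ U ∧ A ≤ Subgroup.normalizer (X : Set G) ∧
      ¬ ∀ f ∈ R, ∀ w ∈ X, f * w = w * f} : Set (Subgroup G)).Nonempty :=
    ⟨U, le_rfl, hAU, hne⟩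
  obtain ⟨U₀, ⟨hU₀U, hAU₀, hU₀nc⟩, hU₀min⟩ :=
    WellFounded.has_min (measure (fun N : Subgroup G => Nat.card N)).wf _ h𝒮
  have hmin : ∀ X : Subgroup G, X ≤ U₀ → A ≤ Subgroup.normalizer (X : Set G) → X ≠ U₀ →
      ∀ f ∈ R, ∀ w ∈ X, f * w = w * f := by
    intro X hX hAX hXne
    by_contra hnc
    have h1 : ¬ Nat.card X < Nat.card U₀ := hU₀min X ⟨hX.trans hU₀U, hAX, hnc⟩
    exact hXne (Subgroup.eq_of_le_of_card_ge hX (not_lt.mp h1))
  have hU₀q : IsPGroup q ↥U₀ := hU.to_le hU₀U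
  have hRU₀ : R ≤ Subgroup.normalizer (U₀ : Set G) := hRA.trans hAU₀
  obtain ⟨hS12c, hS12p⟩ := Cfsg.Agent.S0012.result q hU₀q
  -- U₀ is nontrivial, hence its Frattini subgroup is proper
  have hfr_ne : frattini ↥U₀ ≠ ⊤ := by
    intro h
    have h1 : (⊥ : Subgroup ↥U₀) = ⊤ :=
      frattini_nongenerating (K := (⊥ : Subgroup ↥U₀)) (by rw [h, bot_sup_eq])
    apply hU₀nc
    intro f _ w hw
    have h2 : (⟨w, hw⟩ : ↥U₀) ∈ (⊥ : Subgroup ↥U₀) := by rw [h1]; exact Subgroup.mem_top _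
    rw [Subgroup.mem_bot] at h2
    have h3 : w = 1 := congrArg Subtype.val h2
    rw [h3, mul_one, one_mul]
  have hΦle : fratIn U₀ ≤ U₀ := fratIn_le U₀
  have hΦlt : fratIn U₀ < U₀ := by
    refine lt_of_le_of_ne hΦle ?_
    intro h
    apply hfr_ne
    rw [eq_top_iff]
    intro u _
    have hu : (u : G) ∈ fratIn U₀ := by rw [h]; exact u.2
    exact (mem_fratIn U₀ u.2).mp hu
  have hcommΦ : ∀ w ∈ U₀, ∀ w' ∈ U₀, ⁅w, w'⁆ ∈ fratIn U₀ := by
    intro w hw w' hw'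
    have h1 : ⁅(⟨w, hw⟩ : ↥U₀), ⟨w', hw'⟩⁆ ∈ commutator ↥U₀ :=
      Subgroup.commutator_mem_commutator (Subgroup.mem_top _) (Subgroup.mem_top _)
    exact ⟨_, hS12c h1, rfl⟩
  have hpowΦ : ∀ w ∈ U₀, w ^ q ∈ fratIn U₀ := by
    intro w hw
    exact ⟨_, hS12p ⟨w, hw⟩, rfl⟩
  have hnongen : ∀ X : Subgroup G, X ≤ U₀ → X ⊔ fratIn U₀ = U₀ → X = U₀ := by
    intro X hX hsup
    have h1 : (X ⊔ fratIn U₀).subgroupOf U₀ = X.subgroupOf U₀ ⊔ (fratIn U₀).subgroupOf U₀ :=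
      Subgroup.subgroupOf_sup hX hΦle
    have h2 : (fratIn U₀).subgroupOf U₀ = frattini ↥U₀ :=
      Subgroup.comap_map_eq_self_of_injective U₀.subtype_injective _
    rw [hsup, Subgroup.subgroupOf_self, h2] at h1
    have h3 : X.subgroupOf U₀ = ⊤ := frattini_nongenerating h1.symm
    exact le_antisymm hX (Subgroup.subgroupOf_eq_top.mp h3)
  -- [U₀, R] = U₀
  have hDle : ⁅U₀, R⁆ ≤ U₀ := by
    rw [Subgroup.commutator_le]
    intro u hu f hf
    have h1 : f * u⁻¹ * f⁻¹ ∈ U₀ :=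
      (Subgroup.mem_normalizer_iff.mp (hRU₀ hf) u⁻¹).mp (U₀.inv_mem hu)
    have e : ⁅u, f⁆ = u * (f * u⁻¹ * f⁻¹) := by rw [commutatorElement_def]; group
    rw [e]
    exact U₀.mul_mem hu h1
  have hAD : A ≤ Subgroup.normalizer ((⁅U₀, R⁆ : Subgroup G) : Set G) := by
    intro a ha
    rw [Subgroup.mem_normalizer_iff_map_conj_eq]
    have h1 : U₀.map (MulAut.conj a) = U₀ :=
      Subgroup.mem_normalizer_iff_map_conj_eq.mp (hAU₀ ha)
    have h2 : R.map (MulAut.conj a) = R :=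
      Subgroup.mem_normalizer_iff_map_conj_eq.mp (hAR ha)
    have h3 := Subgroup.map_commutator U₀ R (MulAut.conj a).toMonoidHom
    rw [show U₀.map (MulAut.conj a).toMonoidHom = U₀ from h1,
      show R.map (MulAut.conj a).toMonoidHom = R from h2] at h3
    exact h3
  have hDeq : ⁅U₀, R⁆ = U₀ := by
    by_contra hDne
    have hcent := hmin _ hDle hAD hDne
    apply hU₀nc
    intro f hf w hw
    -- c = [w, f] is centralized by f
    have hcD : ⁅w, f⁆ ∈ ⁅U₀, R⁆ := Subgroup.commutator_mem_commutator hw hf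
    have hcf : Commute ⁅w, f⁆ f := (hcent f hf _ hcD).symm
    have h1 : w * f * w⁻¹ = ⁅w, f⁆ * f := by rw [commutatorElement_def]; group
    have h2 : (w * f * w⁻¹) ^ orderOf f = 1 := by
      rw [conj_pow, pow_orderOf_eq_one]; group
    rw [h1, hcf.mul_pow, pow_orderOf_eq_one, mul_one] at h2
    obtain ⟨k, hk⟩ := hU₀q ⟨⁅w, f⁆, hDle hcD⟩
    have hk' : ⁅w, f⁆ ^ q ^ k = 1 := by
      simpa using congrArg Subtype.val hk
    obtain ⟨j, hj⟩ := hR ⟨f, hf⟩
    have hj' : f ^ r ^ j = 1 := by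
      simpa using congrArg Subtype.val hj
    have d1 : orderOf ⁅w, f⁆ ∣ orderOf f := orderOf_dvd_of_pow_eq_one h2
    have d2 : orderOf f ∣ r ^ j := orderOf_dvd_of_pow_eq_one hj'
    have d3 : orderOf ⁅w, f⁆ ∣ q ^ k := orderOf_dvd_of_pow_eq_one hk'
    have hcop : Nat.Coprime (r ^ j) (q ^ k) :=
      Nat.Coprime.pow _ _ ((Nat.coprime_primes hr hq).mpr (Ne.symm hqr))
    have h3 : orderOf ⁅w, f⁆ = 1 := Nat.eq_one_of_dvd_coprimes hcop (d1.trans d2) d3
    have h4 : ⁅w, f⁆ = 1 := orderOf_eq_one_iff.mp h3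
    exact (commutatorElement_eq_one_iff_mul_comm.mp h4).symm
  -- the Frattini quotient and the norm map
  letI instQ : CommGroup (↥U₀ ⧸ frattini ↥U₀) :=
    { (inferInstance : Group (↥U₀ ⧸ frattini ↥U₀)) with
      mul_comm := by
        intro a b
        obtain ⟨a, rfl⟩ := QuotientGroup.mk_surjective a
        obtain ⟨b, rfl⟩ := QuotientGroup.mk_surjective b
        rw [← QuotientGroup.mk_mul, ← QuotientGroup.mk_mul, QuotientGroup.eq]
        apply hS12c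
        have : (a * b)⁻¹ * (b * a) = ⁅b⁻¹, a⁻¹⁆ := by
          rw [commutatorElement_def]; group
        rw [this]
        exact Subgroup.commutator_mem_commutator (Subgroup.mem_top _) (Subgroup.mem_top _) }
  letI : Fintype ↥R := Fintype.ofFinite ↥R
  let τ : (↥U₀ ⧸ frattini ↥U₀) → (↥U₀ ⧸ frattini ↥U₀) := fun x =>
    ∏ f : ↥R, qmap U₀ f.1 (hRU₀ f.2) x
  have hτmul : ∀ x y, τ (x * y) = τ x * τ y := by
    intro x y
    show ∏ f : ↥R, qmap U₀ f.1 (hRU₀ f.2) (x * y) = _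
    simp only [map_mul]
    exact Finset.prod_mul_distrib
  have hτone : τ 1 = 1 := by
    show ∏ f : ↥R, qmap U₀ f.1 (hRU₀ f.2) 1 = 1
    simp only [map_one]
    exact Finset.prod_const_one
  have hτq : ∀ (f₀ : ↥R) x, τ (qmap U₀ f₀.1 (hRU₀ f₀.2) x) = τ x := by
    intro f₀ x
    show ∏ f : ↥R, qmap U₀ f.1 (hRU₀ f.2) (qmap U₀ f₀.1 (hRU₀ f₀.2) x)
      = ∏ f : ↥R, qmap U₀ f.1 (hRU₀ f.2) x
    refine Fintype.prod_equiv (Equiv.mulRight f₀) _ _ ?_
    intro f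
    exact (qmap_mul U₀ f.1 f₀.1 (hRU₀ f.2) (hRU₀ f₀.2) x).symm
  let θ : ↥U₀ →* (↥U₀ ⧸ frattini ↥U₀) :=
    { toFun := fun u => τ (QuotientGroup.mk u)
      map_one' := by rw [QuotientGroup.mk_one]; exact hτone
      map_mul' := by intro u v; rw [QuotientGroup.mk_mul]; exact hτmul _ _ }
  have hθ : ∀ u : ↥U₀, θ u = 1 := by
    have hle : ⁅U₀, R⁆ ≤ θ.ker.map U₀.subtype := by
      rw [Subgroup.commutator_le]
      intro u hu f hf
      have h1 : f * u * f⁻¹ ∈ U₀ := (Subgroup.mem_normalizer_iff.mp (hRU₀ hf) u).mp hu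
      refine ⟨⟨u, hu⟩ * (cj U₀ f (hRU₀ hf) ⟨u, hu⟩)⁻¹, ?_, ?_⟩
      · rw [SetLike.mem_coe, MonoidHom.mem_ker, map_mul, map_inv]
        have h2 : θ (cj U₀ f (hRU₀ hf) ⟨u, hu⟩) = θ ⟨u, hu⟩ :=
          hτq ⟨f, hf⟩ (QuotientGroup.mk ⟨u, hu⟩)
        rw [h2, mul_inv_cancel]
      · show u * (f * u * f⁻¹)⁻¹ = ⁅u, f⁆
        rw [commutatorElement_def]; group
    intro u
    have hu : (u : G) ∈ θ.ker.map U₀.subtype := hle (by rw [hDeq]; exact u.2)
    obtain ⟨v, hv, hvu⟩ := hu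
    have : v = u := Subtype.ext hvu
    rw [← this]
    exact hv
  have hlast : ∀ w ∈ U₀, (∀ f ∈ R, ⁅f, w⁆ ∈ fratIn U₀) → w ∈ fratIn U₀ := by
    intro w hw hfw
    set x : ↥U₀ ⧸ frattini ↥U₀ := QuotientGroup.mk ⟨w, hw⟩ with hx
    have hfix : ∀ f : ↥R, qmap U₀ f.1 (hRU₀ f.2) x = x := by
      intro f
      rw [hx, qmap_mk]
      have h1 : f.1 * w * f.1⁻¹ ∈ U₀ := (Subgroup.mem_normalizer_iff.mp (hRU₀ f.2) w).mp hw
      have h2 : ⁅f.1, w⁆ ∈ U₀ := hΦle (hfw f.1 f.2)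
      have h3 := (mem_fratIn U₀ h2).mp (hfw f.1 f.2)
      rw [← mul_inv_eq_one, ← QuotientGroup.mk_inv, ← QuotientGroup.mk_mul,
        QuotientGroup.eq_one_iff]
      exact h3
    have h1 : τ x = x ^ Nat.card ↥R := by
      show ∏ f : ↥R, qmap U₀ f.1 (hRU₀ f.2) x = _
      simp only [hfix]
      rw [Finset.prod_const, Finset.card_univ, Nat.card_eq_fintype_card]
    have h2 : x ^ Nat.card ↥R = 1 := by
      rw [← h1]; exact hθ ⟨w, hw⟩
    have h3 : x ^ q = 1 := by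
      rw [hx, ← QuotientGroup.mk_pow, QuotientGroup.eq_one_iff]
      exact hS12p ⟨w, hw⟩
    obtain ⟨k, hk⟩ := IsPGroup.iff_card.mp hR
    rw [hk] at h2
    have d1 : orderOf x ∣ r ^ k := orderOf_dvd_of_pow_eq_one h2
    have d2 : orderOf x ∣ q := orderOf_dvd_of_pow_eq_one h3
    have hcop : Nat.Coprime (r ^ k) q :=
      Nat.Coprime.pow_left _ ((Nat.coprime_primes hr hq).mpr (Ne.symm hqr))
    have h4 : orderOf x = 1 := Nat.eq_one_of_dvd_coprimes hcop d1 d2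
    have h5 : x = 1 := orderOf_eq_one_iff.mp h4
    rw [hx, QuotientGroup.eq_one_iff] at h5
    exact (mem_fratIn U₀ hw).mpr h5
  refine ⟨U₀, fratIn U₀, hU₀U, hΦlt, hAU₀, hAU₀.trans (normalizer_le_normalizer_fratIn U₀),
    Subgroup.le_normalizer.trans (normalizer_le_normalizer_fratIn U₀), hcommΦ, hpowΦ, hnongen,
    ?_, hlast⟩
  intro U₁ hAU₁ hΦU₁ hU₁U₀
  by_cases h : U₁ = U₀
  · exact Or.inr h
  · left
    have hcent := hmin U₁ hU₁U₀ hAU₁ h
    refine le_antisymm ?_ hΦU₁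
    intro w hw
    apply hlast w (hU₁U₀ hw)
    intro f hf
    have : ⁅f, w⁆ = 1 := commutatorElement_eq_one_iff_mul_comm.mpr (hcent f hf w hw)
    rw [this]
    exact Subgroup.one_mem _

end Cfsg.Agent.Lib.Helper38.Flavell
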