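import Mathlib
import Cfsg.Agent.Lib.Helper2.ShultGroup
import Cfsg.Agent.Lib.Helper48.Coprime
import Cfsg.Agent.Lib.Helper54.Coprime

/-!
# A Frobenius group `T ⋊ H` acting on a `u`-group `E = [E, T]` (helper38), part A

Setting: `X` a finite group acting (via `α`) on a finite abelian group `W` of exponent `p`;
`E, T, H ≤ X` with `E` a `u`-group acting faithfully, `H` of prime order `s` normalizing `E` and `T`,
`T` normalizing `E`, `C_T(H) = 1`, and `C_W(H) = 1`.  Goal (part B): `H` centralizes `E`,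
provided (when `u = 2`) all commutators of `E` lie in `{1, c}`.

This file: the context, its conjugates, and the consequences of the Hall–Higman–Shult theorem.
-/

set_option autoImplicit false
set_option linter.unusedSectionVars false
set_option linter.unusedVariables false

namespace Cfsg.Agent.Lib.Helper38.FrobExc

open scoped commutatorElement
open Cfsg.Agent.Lib.Helper2.ShultGroup

variable {X W : Type*} [Group X] [CommGroup W]

/-- The standing hypotheses. -/
structure Ctx (α : X →* MulAut W) (p u s : ℕ) (E T H : Subgroup X) : Prop where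
  hW : ∀ w : W, w ^ p = 1
  hE : IsPGroup u E
  hH : Nat.card H = s
  hpu : p ≠ u
  hps : p ≠ s
  hus : u ≠ s
  hsT : ¬ s ∣ Nat.card T
  huT : ¬ u ∣ Nat.card T
  hHE : H ≤ Subgroup.normalizer (E : Set X)
  hTE : T ≤ Subgroup.normalizer (E : Set X)
  hHT : H ≤ Subgroup.normalizer (T : Set X)
  hTH : T ⊓ Subgroup.centralizer (H : Set X) = ⊥
  hfaith : ∀ e ∈ E, (∀ w, α e w = w) → e = 1
  hfix : ∀ w : W, (∀ h ∈ H, α h w = w) → w = 1
  hexc : u = 2 → ∃ c : X, ∀ a ∈ E, ∀ b ∈ E, ⁅a, b⁆ = 1 ∨ ⁅a, b⁆ = c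

/-- Conjugating by an element of the normalizer of `E` preserves `C(E)`. -/
theorem conj_mem_centralizer {E : Subgroup X} {x y : X}
    (hx : x ∈ Subgroup.normalizer (E : Set X)) (hy : y ∈ Subgroup.centralizer (E : Set X)) :
    x * y * x⁻¹ ∈ Subgroup.centralizer (E : Set X) := by
  rw [Subgroup.mem_centralizer_iff] at hy ⊢
  intro e he
  have he' : x⁻¹ * e * x ∈ E := by
    have := (Subgroup.mem_normalizer_iff.mp (Subgroup.inv_mem _ hx) e).mp he
    simpa using this
  have h1 := hy _ he'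
  calc e * (x * y * x⁻¹) = x * ((x⁻¹ * e * x) * y) * x⁻¹ := by group
    _ = x * (y * (x⁻¹ * e * x)) * x⁻¹ := by rw [h1]
    _ = x * y * x⁻¹ * e := by group

/-- The normalizer of `E` normalizes the center `E ⊓ C(E)`. -/
theorem normalizer_le_normalizer_center (E : Subgroup X) :
    Subgroup.normalizer (E : Set X) ≤
      Subgroup.normalizer ((E ⊓ Subgroup.centralizer (E : Set X) : Subgroup X) : Set X) := by
  intro x hx
  have key : ∀ x ∈ Subgroup.normalizer (E : Set X), ∀ y,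
      y ∈ E ⊓ Subgroup.centralizer (E : Set X) → x * y * x⁻¹ ∈ E ⊓ Subgroup.centralizer (E : Set X) := by
    intro x hx y hy
    exact ⟨(Subgroup.mem_normalizer_iff.mp hx y).mp hy.1, conj_mem_centralizer hx hy.2⟩
  rw [Subgroup.mem_normalizer_iff]
  intro y
  refine ⟨key x hx y, fun h => ?_⟩
  have := key x⁻¹ (Subgroup.inv_mem _ hx) _ h
  have e : x⁻¹ * (x * y * x⁻¹) * x⁻¹⁻¹ = y := by group
  rwa [e] at this

variable [Finite X] [Finite W] {α : X →* MulAut W} {p u s : ℕ} [hp : Fact p.Prime]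
  [hu : Fact u.Prime] [hs : Fact s.Prime] {E T H : Subgroup X}

theorem Ctx.isPGroup_H (h : Ctx α p u s E T H) : IsPGroup s H := IsPGroup.of_card (n := 1) (by rw [h.hH, pow_one])

/-- A nonidentity element of `H` generates `H`. -/
theorem Ctx.mem_zpowers (h : Ctx α p u s E T H) {x : X} (hx : x ∈ H) (hx1 : x ≠ 1) {y : X}
    (hy : y ∈ H) : y ∈ Subgroup.zpowers x := by
  have hsp : s.Prime := hs.out
  have hcard : Nat.card (Subgroup.zpowers x) = s := by
    have h1 : Nat.card (Subgroup.zpowers x) ∣ s := by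
      rw [← h.hH]
      exact Subgroup.card_dvd_of_le ((Subgroup.zpowers_le).mpr hx)
    rcases (Nat.dvd_prime hsp).mp h1 with h2 | h2
    · exfalso
      apply hx1
      rw [Nat.card_zpowers, orderOf_eq_one_iff] at h2
      exact h2
    · exact h2
  have : Subgroup.zpowers x = H :=
    Subgroup.eq_of_le_of_card_ge ((Subgroup.zpowers_le).mpr hx) (by rw [hcard, h.hH])
  rw [this]; exact hy

/-- An element commuting with a nonidentity element of `H` centralizes `H`. -/
theorem Ctx.mem_centralizer_of_commute (h : Ctx α p u s E T H) {x : X} (hx : x ∈ H) (hx1 : x ≠ 1)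
    {g : X} (hg : g * x = x * g) : g ∈ Subgroup.centralizer (H : Set X) := by
  rw [Subgroup.mem_centralizer_iff]
  intro y hy
  obtain ⟨k, rfl⟩ := Subgroup.mem_zpowers_iff.mp (h.mem_zpowers hx hx1 hy)
  have : Commute g x := hg
  exact (this.zpow_right k).eq.symm

/-- The conjugate context. -/
theorem Ctx.conj (h : Ctx α p u s E T H) {τ : X} (hτ : τ ∈ T) :
    Ctx α p u s E T (H.map (MulAut.conj τ).toMonoidHom) := by
  have hτE := h.hTE hτ
  have hτT : τ ∈ Subgroup.normalizer (T : Set X) := Subgroup.le_normalizer hτ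
  refine ⟨h.hW, h.hE, ?_, h.hpu, h.hps, h.hus, h.hsT, h.huT, ?_, h.hTE, ?_, ?_, h.hfaith, ?_, h.hexc⟩
  · rw [Subgroup.card_map_of_injective (MulAut.conj τ).injective, h.hH]
  · rintro _ ⟨x, hx, rfl⟩
    exact Subgroup.mul_mem _ (Subgroup.mul_mem _ hτE (h.hHE hx)) (Subgroup.inv_mem _ hτE)
  · rintro _ ⟨x, hx, rfl⟩
    exact Subgroup.mul_mem _ (Subgroup.mul_mem _ hτT (h.hHT hx)) (Subgroup.inv_mem _ hτT)
  · rw [eq_bot_iff]
    rintro y ⟨hyT, hyC⟩
    rw [Subgroup.mem_bot]
    have hy' : τ⁻¹ * y * τ ∈ T ⊓ Subgroup.centralizer (H : Set X) := by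
      refine ⟨T.mul_mem (T.mul_mem (T.inv_mem hτ) hyT) hτ, ?_⟩
      show τ⁻¹ * y * τ ∈ Subgroup.centralizer (H : Set X)
      have hyC' : y ∈ Subgroup.centralizer
          ((H.map (MulAut.conj τ).toMonoidHom : Subgroup X) : Set X) := hyC
      rw [Subgroup.mem_centralizer_iff]
      intro x hx
      have h1 := (Subgroup.mem_centralizer_iff.mp hyC') (τ * x * τ⁻¹) ⟨x, hx, rfl⟩
      calc x * (τ⁻¹ * y * τ) = τ⁻¹ * ((τ * x * τ⁻¹) * y) * τ := by group
        _ = τ⁻¹ * (y * (τ * x * τ⁻¹)) * τ := by rw [h1]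
        _ = τ⁻¹ * y * τ * x := by group
    rw [h.hTH, Subgroup.mem_bot] at hy'
    have : y = τ * (τ⁻¹ * y * τ) * τ⁻¹ := by group
    rw [this, hy']; group
  · intro w hw
    have h1 : α τ⁻¹ w = 1 := by
      apply h.hfix
      intro x hx
      have h2 := hw (τ * x * τ⁻¹) ⟨x, hx, rfl⟩
      have h3 : α x (α τ⁻¹ w) = α τ⁻¹ (α (τ * x * τ⁻¹) w) := by
        rw [← MulAut.mul_apply, ← MulAut.mul_apply, ← map_mul, ← map_mul]
        congr 2; group
      rw [h3, h2]
    have h2 : w = α τ (α τ⁻¹ w) := by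
      rw [← MulAut.mul_apply, ← map_mul, mul_inv_cancel, map_one, MulAut.one_apply]
    rw [h2, h1, map_one]

/-- Hall–Higman–Shult for an `H`-invariant subgroup `Y` of `E`. -/
theorem Ctx.shult (h : Ctx α p u s E T H) (Y : Subgroup X) (hYE : Y ≤ E)
    (hHY : H ≤ Subgroup.normalizer (Y : Set X)) :
    H ≤ Subgroup.centralizer (Y : Set X) ∨
      (u = 2 ∧ (∃ n : ℕ, s = 2 ^ n + 1) ∧ ∃ a ∈ Y, ∃ b ∈ Y, a * b ≠ b * a) := by
  have hYP : IsPGroup u Y := h.hE.to_le hYE
  rcases main_group (p := p) (q := u) (r := s) (P := Y) (H := H) (V := W) h.hW hYP h.hH h.hpu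
    h.hps h.hus (conjOn H Y hHY) (α.comp Y.subtype) (α.comp H.subtype)
    (fun x g v => by
      show α x (α g v) = α ((x : X) * g * (x : X)⁻¹) (α x v)
      rw [← MulAut.mul_apply, ← MulAut.mul_apply, ← map_mul, ← map_mul]
      congr 2; group)
    (fun v hv => h.hfix v (fun x hx => hv ⟨x, hx⟩)) with h1 | ⟨h2, hn, a, b, v, hab⟩
  · left
    intro x hx
    rw [Subgroup.mem_centralizer_iff]
    intro g hg
    have h2 : (g⁻¹ * (x * g * x⁻¹) : X) = 1 := by
      apply h.hfaith
      · exact E.mul_mem (E.inv_mem (hYE hg))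
          (hYE ((Subgroup.mem_normalizer_iff.mp (hHY hx) g).mp hg))
      · intro w
        exact h1 ⟨x, hx⟩ ⟨g, hg⟩ w
    have h3 : x * g * x⁻¹ = g := by
      have := congrArg (fun t => g * t) h2
      simpa using this
    calc g * x = (x * g * x⁻¹) * x := by rw [h3]
      _ = x * g := by group
  · right
    refine ⟨h2, hn, a, a.2, b, b.2, fun hcomm => hab ?_⟩
    have : a * b = b * a := Subtype.ext hcomm
    rw [this]

/-- Abelian `H`-invariant subgroups of `E` are centralized by `H`. -/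
theorem Ctx.centralizes_abelian (h : Ctx α p u s E T H) (Y : Subgroup X) (hYE : Y ≤ E)
    (hHY : H ≤ Subgroup.normalizer (Y : Set X)) (hab : ∀ a ∈ Y, ∀ b ∈ Y, a * b = b * a) :
    H ≤ Subgroup.centralizer (Y : Set X) := by
  rcases h.shult Y hYE hHY with h1 | ⟨-, -, a, ha, b, hb, hne⟩
  · exact h1
  · exact absurd (hab a ha b hb) hne

/-- `T = [T, H]`. -/
theorem Ctx.T_le_commutator (h : Ctx α p u s E T H) : T ≤ ⁅T, H⁆ := by
  intro τ hτ
  obtain ⟨c, hc, w, hw, rfl⟩ := Cfsg.Agent.Lib.Helper48.exists_centralizer_mul_commutator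
    h.isPGroup_H h.hsT h.hHT hτ
  rw [h.hTH, Subgroup.mem_bot] at hc
  rw [hc, one_mul]; exact hw

/-- If `H` and all its `T`-conjugates centralize `Y`, so does `T`. -/
theorem Ctx.T_le_centralizer (h : Ctx α p u s E T H) (Y : Subgroup X)
    (hY : ∀ τ ∈ T, H.map (MulAut.conj τ).toMonoidHom ≤ Subgroup.centralizer (Y : Set X)) :
    T ≤ Subgroup.centralizer (Y : Set X) := by
  have hH : H ≤ Subgroup.centralizer (Y : Set X) := by
    intro x hx
    apply hY 1 T.one_mem
    exact ⟨x, hx, by simp⟩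
  refine h.T_le_commutator.trans ?_
  rw [Subgroup.commutator_le]
  intro τ hτ x hx
  have h1 : τ * x * τ⁻¹ ∈ Subgroup.centralizer (Y : Set X) := hY τ hτ ⟨x, hx, rfl⟩
  have h2 : ⁅τ, x⁆ = (τ * x * τ⁻¹) * x⁻¹ := by rw [commutatorElement_def]
  rw [h2]
  exact Subgroup.mul_mem _ h1 (Subgroup.inv_mem _ (hH hx))

end Cfsg.Agent.Lib.Helper38.FrobExc
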