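import Mathlib
import Cfsg.Agent.Lib.Helper38.FrobExcA
import Cfsg.Agent.S1545

/-!
# A Frobenius group `T ⋊ H` acting on a `u`-group `E = [E, T]` (helper38), part B

Structure of `E` when all commutators lie in `{1, c}`; the Frobenius fixed-point formula.
-/

set_option autoImplicit false
set_option linter.unusedSectionVars false
set_option linter.unusedVariables false

namespace Cfsg.Agent.Lib.Helper38.FrobExc

open scoped commutatorElement
open Cfsg.Agent.Lib.Helper2.ShultGroup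

/-- Arithmetic: `2 n = j 2 ^ n` with `n ≥ 1` forces `j = 1`. -/
theorem arith_two_pow {n j : ℕ} (hn : 1 ≤ n) (h : 2 * n = j * 2 ^ n) : j = 1 := by
  have key : ∀ m : ℕ, 3 ≤ m → 2 * m < 2 ^ m := by
    intro m hm
    induction m, hm using Nat.le_induction with
    | base => norm_num
    | succ k hk ih =>
      rw [pow_succ]
      omega
  rcases Nat.lt_or_ge n 3 with h3 | h3
  · interval_cases n
    · simp at h; omega
    · simp at h; omega
  · have h1 := key n h3
    rw [h] at h1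
    have hj : j = 0 := by
      by_contra hj
      have : 1 ≤ j := Nat.one_le_iff_ne_zero.mpr hj
      have : 2 ^ n ≤ j * 2 ^ n := Nat.le_mul_of_pos_left _ this
      omega
    rw [hj, zero_mul] at h
    omega

variable {X : Type*} [Group X]

/-- A conjugation identity: if `z = [x, e]` commutes with `e` and `g`, and `x` commutes with `g`,
then `x` commutes with `[e, g]`. -/
theorem conj_comm_eq {x e g : X} (hxg : x * g = g * x)
    (hze : ⁅x, e⁆ * e = e * ⁅x, e⁆) (hzg : ⁅x, e⁆ * g = g * ⁅x, e⁆) :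
    x * ⁅e, g⁆ * x⁻¹ = ⁅e, g⁆ := by
  rw [conjugate_commutatorElement]
  have h1 : x * g * x⁻¹ = g := by rw [hxg]; group
  have h2 : x * e * x⁻¹ = ⁅x, e⁆ * e := by rw [commutatorElement_def]; group
  rw [h1, h2]
  set z := ⁅x, e⁆ with hz
  have c1 : Commute z e := hze
  have c2 : Commute z g := hzg
  have c3 : Commute z (e * g * e⁻¹) := (c1.mul_right c2).mul_right c1.inv_right
  rw [commutatorElement_def, commutatorElement_def]
  calc z * e * g * (z * e)⁻¹ * g⁻¹ = (z * (e * g * e⁻¹)) * z⁻¹ * g⁻¹ := by group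
    _ = ((e * g * e⁻¹) * z) * z⁻¹ * g⁻¹ := by rw [c3.eq]
    _ = e * g * e⁻¹ * g⁻¹ := by group

/-- All commutators of `E` lie in `{1, c}`, and `c` is a commutator. -/
structure Exc (E : Subgroup X) (c : X) : Prop where
  hc1 : c ≠ 1
  hcomm : ∀ a ∈ E, ∀ b ∈ E, ⁅a, b⁆ = 1 ∨ ⁅a, b⁆ = c
  hab : ∃ a ∈ E, ∃ b ∈ E, ⁅a, b⁆ = c

namespace Exc

variable {E : Subgroup X} {c : X}

theorem mem (hx : Exc E c) : c ∈ E := by
  obtain ⟨a, ha, b, hb, rfl⟩ := hx.hab
  rw [commutatorElement_def]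
  exact E.mul_mem (E.mul_mem (E.mul_mem ha hb) (E.inv_mem ha)) (E.inv_mem hb)

theorem conj_eq (hx : Exc E c) {x : X} (hxE : x ∈ Subgroup.normalizer (E : Set X)) :
    x * c * x⁻¹ = c := by
  obtain ⟨a, ha, b, hb, hab⟩ := hx.hab
  have h1 : x * c * x⁻¹ = ⁅x * a * x⁻¹, x * b * x⁻¹⁆ := by
    rw [← hab, conjugate_commutatorElement]
  have ha' : x * a * x⁻¹ ∈ E := (Subgroup.mem_normalizer_iff.mp hxE a).mp ha
  have hb' : x * b * x⁻¹ ∈ E := (Subgroup.mem_normalizer_iff.mp hxE b).mp hb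
  rcases hx.hcomm _ ha' _ hb' with h2 | h2
  · exfalso
    apply hx.hc1
    rw [h2] at h1
    have : c = x⁻¹ * (x * c * x⁻¹) * x := by group
    rw [this, h1]; group
  · rw [h1, h2]

theorem comm (hx : Exc E c) {x : X} (hxE : x ∈ Subgroup.normalizer (E : Set X)) :
    c * x = x * c := by
  have := hx.conj_eq hxE
  calc c * x = (x * c * x⁻¹) * x := by rw [this]
    _ = x * c := by group

theorem sq (hx : Exc E c) : c * c = 1 := by
  obtain ⟨a, ha, b, hb, hab⟩ := hx.hab
  have h1 : c⁻¹ = ⁅b, a⁆ := by rw [← hab, commutatorElement_inv]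
  rcases hx.hcomm b hb a ha with h2 | h2
  · exfalso
    apply hx.hc1
    rw [h2] at h1
    exact inv_eq_one.mp h1
  · rw [h2] at h1
    have h3 : c * c = c⁻¹ * c := by rw [h1]
    rw [h3, inv_mul_cancel]

/-- Elements `x ∈ E` commuting with `g ∈ N(E)` commute with `[e, g]` for `e ∈ E`. -/
theorem conj_comm (hx : Exc E c) {x e g : X} (hxE : x ∈ E) (heE : e ∈ E)
    (hg : g ∈ Subgroup.normalizer (E : Set X)) (hxg : x * g = g * x) :
    x * ⁅e, g⁆ * x⁻¹ = ⁅e, g⁆ := by
  apply conj_comm_eq hxg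
  · rcases hx.hcomm x hxE e heE with h | h
    · rw [h, one_mul, mul_one]
    · rw [h]; exact hx.comm (Subgroup.le_normalizer heE)
  · rcases hx.hcomm x hxE e heE with h | h
    · rw [h, one_mul, mul_one]
    · rw [h]; exact hx.comm hg

/-- Elements `x ∈ E` centralizing `K ≤ N(E)` centralize `[E, K]`. -/
theorem commutator_le_centralizer (hx : Exc E c) {K : Subgroup X}
    (hK : K ≤ Subgroup.normalizer (E : Set X)) {x : X} (hxE : x ∈ E)
    (hxK : x ∈ Subgroup.centralizer (K : Set X)) :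
    ⁅E, K⁆ ≤ Subgroup.centralizer ({x} : Set X) := by
  rw [Subgroup.commutator_le]
  intro e he g hg
  rw [Subgroup.mem_centralizer_iff]
  intro y hy
  rw [Set.mem_singleton_iff] at hy
  subst hy
  have h1 : y * g = g * y := ((Subgroup.mem_centralizer_iff.mp hxK) g hg).symm
  have h2 := hx.conj_comm hxE he (hK hg) h1
  calc y * ⁅e, g⁆ = (y * ⁅e, g⁆ * y⁻¹) * y := by group
    _ = ⁅e, g⁆ * y := by rw [h2]

end Exc

end Cfsg.Agent.Lib.Helper38.FrobExc
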