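import Mathlib
import Cfsg.Agent.Lib.Helper38.FrobExcB

/-!
# A Frobenius group `T ⋊ H` acting on a `u`-group `E = [E, T]` (helper38), part C

The center of `E`, the Frobenius fixed-point formula, and `P = [E, H]`.
-/

set_option autoImplicit false
set_option linter.unusedSectionVars false
set_option linter.unusedVariables false

namespace Cfsg.Agent.Lib.Helper38.FrobExc

open scoped commutatorElement
open Cfsg.Agent.Lib.Helper2.ShultGroup

variable {X W : Type*} [Group X] [CommGroup W]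

/-- The center of `E`, as a subgroup of `X`. -/
abbrev Zc (E : Subgroup X) : Subgroup X := E ⊓ Subgroup.centralizer (E : Set X)

variable [Finite X] [Finite W] {α : X →* MulAut W} {p u s : ℕ} [hp : Fact p.Prime]
  [hu : Fact u.Prime] [hs : Fact s.Prime] {E T H : Subgroup X} {c : X}

theorem Ctx.H_le_centralizer_Z (h : Ctx α p u s E T H) :
    H ≤ Subgroup.centralizer ((Zc E : Subgroup X) : Set X) := by
  apply h.centralizes_abelian (Zc E) inf_le_left (h.hHE.trans (normalizer_le_normalizer_center E))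
  intro a ha b hb
  exact ((Subgroup.mem_centralizer_iff.mp ha.2) b hb.1).symm

theorem Ctx.T_le_centralizer_Z (h : Ctx α p u s E T H) :
    T ≤ Subgroup.centralizer ((Zc E : Subgroup X) : Set X) := by
  apply h.T_le_centralizer
  intro τ hτ
  exact (h.conj hτ).H_le_centralizer_Z

theorem Ctx.not_dvd_card_E (h : Ctx α p u s E T H) : ¬ s ∣ Nat.card E := by
  intro hd
  obtain ⟨k, hk⟩ := IsPGroup.iff_card.mp h.hE
  rw [hk] at hd
  have := (Nat.prime_dvd_prime_iff_eq hs.out hu.out).mp (hs.out.dvd_of_dvd_pow hd)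
  exact h.hus this.symm

theorem Ctx.centT_le (h : Ctx α p u s E T H) (hx : Exc E c) (hET : E ≤ ⁅E, T⁆) :
    E ⊓ Subgroup.centralizer (T : Set X) ≤ Subgroup.centralizer (E : Set X) := by
  rintro x ⟨hxE, hxT⟩
  have h1 := hET.trans (hx.commutator_le_centralizer h.hTE hxE hxT)
  rw [Subgroup.mem_centralizer_iff]
  intro e he
  have := (Subgroup.mem_centralizer_iff.mp (h1 he)) x (Set.mem_singleton x)
  exact this.symm

theorem Ctx.T_ne_bot (h : Ctx α p u s E T H) (hx : Exc E c) (hET : E ≤ ⁅E, T⁆) : T ≠ ⊥ := by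
  intro hT
  have h1 : ⁅E, T⁆ = ⊥ := by
    rw [hT, Subgroup.commutator_bot_right]
  have h2 : c ∈ (⊥ : Subgroup X) := h1 ▸ hET hx.mem
  exact hx.hc1 (Subgroup.mem_bot.mp h2)

theorem Ctx.card_TH (h : Ctx α p u s E T H) :
    Nat.card (T ⊔ H : Subgroup X) = Nat.card T * s := by
  have hcop : (Nat.card T).Coprime (Nat.card H) := by
    rw [h.hH]
    exact ((Nat.Prime.coprime_iff_not_dvd hs.out).mpr h.hsT).symm
  have hdisj : T ⊓ H = ⊥ := (Subgroup.disjoint_of_coprime_natCard hcop).eq_bot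
  rw [Cfsg.Agent.Lib.Helper54.card_sup_of_le_normalizer h.hHT hdisj, h.hH]

theorem Ctx.coprime_E_TH (h : Ctx α p u s E T H) :
    (Nat.card E).Coprime (Nat.card (T ⊔ H : Subgroup X)) := by
  obtain ⟨k, hk⟩ := IsPGroup.iff_card.mp h.hE
  rw [hk, h.card_TH]
  apply Nat.Coprime.pow_left
  apply Nat.Coprime.mul_right
  · exact (Nat.Prime.coprime_iff_not_dvd hu.out).mpr h.huT
  · exact (Nat.coprime_primes hu.out hs.out).mpr h.hus

/-- The Frobenius fixed point formula. -/
theorem Ctx.frob_formula (h : Ctx α p u s E T H) (hx : Exc E c) (hET : E ≤ ⁅E, T⁆) :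
    Nat.card (Zc E) ^ s * Nat.card E =
      Nat.card (E ⊓ Subgroup.centralizer (H : Set X) : Subgroup X) ^ s * Nat.card (Zc E) := by
  have hcopTH : (Nat.card T).Coprime (Nat.card H) := by
    rw [h.hH]
    exact ((Nat.Prime.coprime_iff_not_dvd hs.out).mpr h.hsT).symm
  have hH1 : H ≠ ⊥ := by
    intro hH
    have := h.hH
    rw [hH, Subgroup.card_bot] at this
    exact hs.out.one_lt.ne this
  have hnil : Group.IsNilpotent E := h.hE.isNilpotent
  have key := Cfsg.Agent.S1545.result T H E (h.T_ne_bot hx hET) hH1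
    (Subgroup.disjoint_of_coprime_natCard hcopTH).eq_bot
    (fun e he t ht => (Subgroup.mem_normalizer_iff.mp (h.hHT he) t).mp ht)
    (fun e he he1 t ht hcomm => by
      have h1 : t ∈ T ⊓ Subgroup.centralizer (H : Set X) :=
        ⟨ht, h.mem_centralizer_of_commute he he1 hcomm.symm⟩
      rw [h.hTH] at h1
      exact Subgroup.mem_bot.mp h1)
    (fun x hxTH g hg =>
      (Subgroup.mem_normalizer_iff.mp ((sup_le h.hTE h.hHE) hxTH) g).mp hg)
    (Subgroup.disjoint_of_coprime_natCard h.coprime_E_TH).eq_bot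
    inferInstance h.coprime_E_TH
  have hZT : Zc E ≤ Subgroup.centralizer (T : Set X) :=
    Subgroup.le_centralizer_iff.mp h.T_le_centralizer_Z
  have hZH : Zc E ≤ Subgroup.centralizer (H : Set X) :=
    Subgroup.le_centralizer_iff.mp h.H_le_centralizer_Z
  have e1 : E ⊓ Subgroup.centralizer ((T ⊔ H : Subgroup X) : Set X) = Zc E := by
    apply le_antisymm
    · rintro x ⟨hxE, hxC⟩
      refine ⟨hxE, h.centT_le hx hET ⟨hxE, ?_⟩⟩
      exact Subgroup.centralizer_le (by exact_mod_cast (le_sup_left : T ≤ T ⊔ H)) hxC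
    · refine le_inf inf_le_left ?_
      rw [Subgroup.le_centralizer_iff]
      exact sup_le h.T_le_centralizer_Z h.H_le_centralizer_Z
  have e2 : E ⊓ Subgroup.centralizer (T : Set X) = Zc E :=
    le_antisymm (fun x hx' => ⟨hx'.1, h.centT_le hx hET hx'⟩) (le_inf inf_le_left hZT)
  rw [e1, e2, h.hH] at key
  exact key

/-- `[E, H] ≤ E`. -/
theorem Ctx.P_le (h : Ctx α p u s E T H) : ⁅E, H⁆ ≤ E :=
  Cfsg.Agent.Lib.Helper48.commutator_le_of_le_normalizer h.hHE

/-- `C_E(H)` centralizes `[E, H]`. -/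
theorem Ctx.orth (h : Ctx α p u s E T H) (hx : Exc E c) {x y : X}
    (hxC : x ∈ E ⊓ Subgroup.centralizer (H : Set X)) (hy : y ∈ ⁅E, H⁆) : x * y = y * x := by
  have h1 := hx.commutator_le_centralizer h.hHE hxC.1 hxC.2 hy
  exact (Subgroup.mem_centralizer_iff.mp h1) x (Set.mem_singleton x)

/-- `E = C_E(H) [E, H]`. -/
theorem Ctx.decomp (h : Ctx α p u s E T H) {x : X} (hxE : x ∈ E) :
    ∃ d ∈ E ⊓ Subgroup.centralizer (H : Set X), ∃ w ∈ ⁅E, H⁆, x = d * w :=
  Cfsg.Agent.Lib.Helper48.exists_centralizer_mul_commutator h.isPGroup_H h.not_dvd_card_E h.hHE hxE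

/-- Central elements of `[E, H]` are central in `E`. -/
theorem Ctx.center_P (h : Ctx α p u s E T H) (hx : Exc E c) {g : X} (hg : g ∈ ⁅E, H⁆)
    (hgc : ∀ y ∈ ⁅E, H⁆, g * y = y * g) : g ∈ Zc E := by
  refine ⟨h.P_le hg, ?_⟩
  show g ∈ Subgroup.centralizer (E : Set X)
  rw [Subgroup.mem_centralizer_iff]
  intro e he
  obtain ⟨d, hd, w, hw, rfl⟩ := h.decomp he
  have h1 : d * g = g * d := h.orth hx hd hg
  have h2 := hgc w hw
  calc d * w * g = d * (w * g) := by group
    _ = d * (g * w) := by rw [h2]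
    _ = (d * g) * w := by group
    _ = (g * d) * w := by rw [h1]
    _ = g * (d * w) := by group

/-- `C_E(H) ∩ [E, H] = Z(E) ∩ [E, H]`. -/
theorem Ctx.cent_inf_P (h : Ctx α p u s E T H) (hx : Exc E c) :
    (E ⊓ Subgroup.centralizer (H : Set X)) ⊓ ⁅E, H⁆ = Zc E ⊓ ⁅E, H⁆ := by
  apply le_antisymm
  · rintro g ⟨hgC, hgP⟩
    exact ⟨h.center_P hx hgP (fun y hy => h.orth hx hgC hy), hgP⟩
  · rintro g ⟨hgZ, hgP⟩
    exact ⟨⟨hgZ.1, Subgroup.le_centralizer_iff.mp h.H_le_centralizer_Z hgZ⟩, hgP⟩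

/-- `[E, H]` is not abelian unless `H` centralizes `E`. -/
theorem Ctx.exists_comm_P (h : Ctx α p u s E T H) (hx : Exc E c)
    (hnc : ¬ H ≤ Subgroup.centralizer (E : Set X)) :
    ∃ a ∈ ⁅E, H⁆, ∃ b ∈ ⁅E, H⁆, ⁅a, b⁆ = c := by
  by_contra hcon
  push Not at hcon
  apply hnc
  have hHP : H ≤ Subgroup.normalizer ((⁅E, H⁆ : Subgroup X) : Set X) :=
    Subgroup.normalizer_commutator_ge_right E H
  have h1 : H ≤ Subgroup.centralizer ((⁅E, H⁆ : Subgroup X) : Set X) := by
    apply h.centralizes_abelian _ h.P_le hHP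
    intro a ha b hb
    rcases hx.hcomm a (h.P_le ha) b (h.P_le hb) with h2 | h2
    · exact commutatorElement_eq_one_iff_mul_comm.mp h2
    · exact absurd h2 (hcon a ha b hb)
  have h2 : ⁅⁅E, H⁆, H⁆ = ⊥ := by
    rw [Subgroup.commutator_eq_bot_iff_le_centralizer]
    exact Subgroup.le_centralizer_iff.mp h1
  have h3 : ⁅E, H⁆ = ⊥ := by
    rw [← Cfsg.Agent.Lib.Helper48.commutator_commutator_eq h.isPGroup_H h.not_dvd_card_E h.hHE, h2]
  rw [Subgroup.commutator_eq_bot_iff_le_centralizer] at h3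
  exact Subgroup.le_centralizer_iff.mp h3

/-- The counting formula for `E = C_E(H) [E, H]`. -/
theorem Ctx.card_decomp (h : Ctx α p u s E T H) :
    Nat.card E * Nat.card ((E ⊓ Subgroup.centralizer (H : Set X)) ⊓ ⁅E, H⁆ : Subgroup X) =
      Nat.card (E ⊓ Subgroup.centralizer (H : Set X) : Subgroup X) * Nat.card (⁅E, H⁆ : Subgroup X) := by
  set C : Subgroup X := E ⊓ Subgroup.centralizer (H : Set X) with hC
  set P : Subgroup X := ⁅E, H⁆ with hP
  have hsup : C ⊔ P = E := by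
    apply le_antisymm (sup_le inf_le_left h.P_le)
    intro x hxE
    obtain ⟨d, hd, w, hw, rfl⟩ := h.decomp hxE
    exact Subgroup.mul_mem_sup hd hw
  have hCP : C ≤ Subgroup.normalizer (P : Set X) :=
    (inf_le_left : C ≤ E).trans (Subgroup.normalizer_commutator_ge_left E H)
  have h1 := Cfsg.Agent.Lib.Helper54.relIndex_sup_of_le_normalizer hCP
  rw [hsup] at h1
  have h2 := Cfsg.Agent.Lib.Helper54.card_mul_relIndex h.P_le
  have h3 := Cfsg.Agent.Lib.Helper54.card_mul_relIndex (inf_le_left : C ⊓ P ≤ C)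
  have h4 : (C ⊓ P).relIndex C = P.relIndex C := by
    rw [inf_comm]; exact Subgroup.inf_relIndex_right P C
  rw [h4] at h3
  rw [← hP] at h2
  calc Nat.card E * Nat.card (C ⊓ P : Subgroup X)
      = (Nat.card P * P.relIndex E) * Nat.card (C ⊓ P : Subgroup X) := by rw [h2]
    _ = Nat.card P * (Nat.card (C ⊓ P : Subgroup X) * P.relIndex C) := by rw [h1]; ring
    _ = Nat.card C * Nat.card P := by rw [h3]; ring

end Cfsg.Agent.Lib.Helper38.FrobExc
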