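import Mathlib
import Cfsg.Agent.Lib.Helper38.FrobExcC

/-!
# A Frobenius group `T ⋊ H` acting on a `u`-group `E = [E, T]` (helper38), part D

The class two analysis of `P = [E, H]` and the final theorems:
`Ctx.centralizes` (`H` centralizes `E`) and `Ctx.eq_bot` (`E = 1`).
-/

set_option autoImplicit false
set_option linter.unusedSectionVars false
set_option linter.unusedVariables false

namespace Cfsg.Agent.Lib.Helper38.FrobExc

open scoped commutatorElement
open Cfsg.Agent.Lib.Helper2.ShultGroup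

variable {X W : Type*} [Group X] [CommGroup W] [Finite X] [Finite W] {α : X →* MulAut W}
  {p u s : ℕ} [hp : Fact p.Prime] [hu : Fact u.Prime] [hs : Fact s.Prime] {E T H : Subgroup X} {c : X}

theorem Ctx.eq_one_of_pow_s (h : Ctx α p u s E T H) {z : X} (hzE : z ∈ E) (hz : z ^ s = 1) :
    z = 1 := by
  obtain ⟨k, hk⟩ := h.hE ⟨z, hzE⟩
  have hk' : z ^ (u ^ k) = 1 := by simpa using congrArg Subtype.val hk
  have h1 : orderOf z ∣ s := orderOf_dvd_of_pow_eq_one hz
  have h2 : orderOf z ∣ u ^ k := orderOf_dvd_of_pow_eq_one hk'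
  have h3 : Nat.Coprime s (u ^ k) :=
    Nat.Coprime.pow_right k ((Nat.coprime_primes hs.out hu.out).mpr (fun e => h.hus e.symm))
  have h4 : orderOf z ∣ 1 := by
    have := Nat.dvd_gcd h1 h2
    rwa [h3.gcd_eq_one] at this
  exact orderOf_eq_one_iff.mp (Nat.dvd_one.mp h4)

/-- The class two theorem for `P = [E, H]`. -/
theorem Ctx.class_two (h : Ctx α p u s E T H) (hx : Exc E c)
    (hnc : ¬ H ≤ Subgroup.centralizer (E : Set X)) :
    ∃ u' : ℕ, 2 ≤ u' ∧ u' + 1 = s ∧
      Nat.card (Zc E ⊓ ⁅E, H⁆ : Subgroup X) * u' ^ 2 = Nat.card (⁅E, H⁆ : Subgroup X) := by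
  classical
  set P : Subgroup X := ⁅E, H⁆ with hP
  have hPE : P ≤ E := h.P_le
  have hHP : H ≤ Subgroup.normalizer (P : Set X) := Subgroup.normalizer_commutator_ge_right E H
  have hnil : Group.IsNilpotent P := (h.hE.to_le hPE).isNilpotent
  have hcoe : ∀ a b : P, ((⁅a, b⁆ : P) : X) = ⁅(a : X), (b : X)⁆ :=
    fun a b => map_commutatorElement P.subtype a b
  have hZH := h.H_le_centralizer_Z
  obtain ⟨a₀, ha₀, b₀, hb₀, hab₀⟩ := h.exists_comm_P hx hnc
  have hcP : c ∈ P := by
    rw [← hab₀, commutatorElement_def]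
    exact P.mul_mem (P.mul_mem (P.mul_mem ha₀ hb₀) (P.inv_mem ha₀)) (P.inv_mem hb₀)
  -- central elements of `P`
  have hcen : ∀ z : P, z ∈ Subgroup.center P ↔ (z : X) ∈ Zc E := by
    intro z
    constructor
    · intro hz
      apply h.center_P hx z.2
      intro y hy
      have := (Subgroup.mem_center_iff.mp hz) ⟨y, hy⟩
      exact (congrArg Subtype.val this).symm
    · intro hz
      rw [Subgroup.mem_center_iff]
      intro g
      apply Subtype.ext
      exact (Subgroup.mem_centralizer_iff.mp hz.2) g (hPE g.2)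
  have hpP : ¬ p ∣ Nat.card P := by
    intro hd
    obtain ⟨k, hk⟩ := IsPGroup.iff_card.mp (h.hE.to_le hPE)
    rw [hk] at hd
    exact h.hpu ((Nat.prime_dvd_prime_iff_eq hp.out hu.out).mp (hp.out.dvd_of_dvd_pow hd))
  have h1 : ∀ a b : P, ⁅a, b⁆ ∈ Subgroup.center P := by
    intro a b
    rw [hcen, hcoe]
    rcases hx.hcomm a (hPE a.2) b (hPE b.2) with h2 | h2
    · rw [h2]; exact Subgroup.one_mem _
    · rw [h2]
      refine ⟨hx.mem, ?_⟩
      show c ∈ Subgroup.centralizer (E : Set X)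
      rw [Subgroup.mem_centralizer_iff]
      intro e he
      exact (hx.comm (Subgroup.le_normalizer he)).symm
  have h2 : ∀ x : H, ∀ z ∈ Subgroup.center P, conjOn H P hHP x z = z := by
    intro x z hz
    apply Subtype.ext
    rw [conjOn_apply]
    have hzZ := (hcen z).mp hz
    have := (Subgroup.mem_centralizer_iff.mp (hZH x.2)) z hzZ
    calc (x : X) * z * (x : X)⁻¹ = ((z : X) * x) * (x : X)⁻¹ := by rw [this]
      _ = z := by group
  have h3 : ∀ x : H, x ≠ 1 → ∀ g : P, g⁻¹ * conjOn H P hHP x g ∈ Subgroup.center P →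
      g ∈ Subgroup.center P := by
    intro x hx1 g hg
    have hzZ := (hcen _).mp hg
    set z : X := (g : X)⁻¹ * ((x : X) * g * (x : X)⁻¹) with hz
    have hzZ' : z ∈ Zc E := hzZ
    have hxg : (x : X) * g * (x : X)⁻¹ = g * z := by rw [hz]; group
    have hxz : (x : X) * z = z * x := ((Subgroup.mem_centralizer_iff.mp (hZH x.2)) z hzZ').symm
    have hpow : ∀ i : ℕ, (x : X) ^ i * g * ((x : X) ^ i)⁻¹ = g * z ^ i := by
      intro i
      induction i with
      | zero => simp
      | succ i ih =>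
        have hcz : Commute (x : X) (z ^ i) := Commute.pow_right hxz i
        calc (x : X) ^ (i + 1) * g * ((x : X) ^ (i + 1))⁻¹
            = (x : X) * ((x : X) ^ i * g * ((x : X) ^ i)⁻¹) * (x : X)⁻¹ := by
              rw [pow_succ']; group
          _ = (x : X) * (g * z ^ i) * (x : X)⁻¹ := by rw [ih]
          _ = ((x : X) * g * (x : X)⁻¹) * ((x : X) * z ^ i * (x : X)⁻¹) := by group
          _ = (g * z) * (z ^ i) := by
              rw [hxg, hcz.eq]; group
          _ = g * z ^ (i + 1) := by rw [pow_succ']; group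
    have hxs : (x : X) ^ s = 1 := by
      have := pow_card_eq_one' (G := H) (x := x)
      rw [h.hH] at this
      simpa using congrArg Subtype.val this
    have hzs : z ^ s = 1 := by
      have := hpow s
      rw [hxs] at this
      simpa using this.symm
    have hz1 : z = 1 := h.eq_one_of_pow_s hzZ'.1 hzs
    have hcomm : (g : X) * x = x * g := by
      rw [hz1, mul_one] at hxg
      calc (g : X) * x = ((x : X) * g * (x : X)⁻¹) * x := by rw [hxg]
        _ = x * g := by group
    have hx1' : (x : X) ≠ 1 := fun e => hx1 (Subtype.ext e)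
    have hgC : (g : X) ∈ Subgroup.centralizer (H : Set X) :=
      h.mem_centralizer_of_commute x.2 hx1' hcomm
    rw [Subgroup.mem_center_iff]
    intro y
    apply Subtype.ext
    exact (h.orth hx ⟨hPE g.2, hgC⟩ y.2).symm
  -- the element `c`
  have hcc : (⟨c, hcP⟩ : P) ∈ commutator P := by
    rw [commutator_def]
    have : (⟨c, hcP⟩ : P) = ⁅(⟨a₀, ha₀⟩ : P), ⟨b₀, hb₀⟩⁆ := by
      apply Subtype.ext
      rw [hcoe]
      exact hab₀.symm
    rw [this]
    exact Subgroup.commutator_mem_commutator (Subgroup.mem_top _) (Subgroup.mem_top _)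
  have hco : (orderOf (⟨c, hcP⟩ : P)).Prime := by
    have : orderOf (⟨c, hcP⟩ : P) = 2 := by
      rw [← Subgroup.orderOf_coe]
      apply orderOf_eq_prime
      · rw [pow_two]; exact hx.sq
      · exact hx.hc1
    rw [this]; exact Nat.prime_two
  have hcv : ∃ v, (α.comp P.subtype) (⟨c, hcP⟩ : P) v ≠ v := by
    by_contra hcon
    push Not at hcon
    exact hx.hc1 (h.hfaith c hx.mem hcon)
  obtain ⟨N, hNn, hZN, hNcomm, u', hu'2, hu's, hcard⟩ :=
    class_two_group (p := p) (r := s) (P := P) (H := H) (V := W) h.hW h.hH hpP h.hps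
      (conjOn H P hHP) (α.comp P.subtype) (α.comp H.subtype)
      (fun x g v => by
        show α x (α g v) = α ((x : X) * g * (x : X)⁻¹) (α x v)
        rw [← MulAut.mul_apply, ← MulAut.mul_apply, ← map_mul, ← map_mul]
        congr 2; group)
      h1 h2 h3 ⟨c, hcP⟩ hcc hco hcv
      (fun v hv => h.hfix v (fun x hx' => hv ⟨x, hx'⟩))
  refine ⟨u', hu'2, hu's, ?_⟩
  have hN : N = Subgroup.center P := by
    apply le_antisymm _ hZN
    intro n hn
    rw [Subgroup.mem_center_iff]
    intro g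
    have hmem : ⁅n, g⁆ ∈ Subgroup.zpowers (⟨c, hcP⟩ : P) := by
      rcases hx.hcomm n (hPE n.2) g (hPE g.2) with h4 | h4
      · have : ⁅n, g⁆ = 1 := Subtype.ext (by rw [hcoe, h4]; rfl)
        rw [this]; exact Subgroup.one_mem _
      · have : ⁅n, g⁆ = ⟨c, hcP⟩ := Subtype.ext (by rw [hcoe, h4])
        rw [this]; exact Subgroup.mem_zpowers _
    have := hNcomm n hn g hmem
    exact (commutatorElement_eq_one_iff_mul_comm.mp this).symm
  have hcenter : Subgroup.center P = (Zc E ⊓ P).subgroupOf P := by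
    ext z
    rw [hcen, Subgroup.mem_subgroupOf]
    exact ⟨fun hz => ⟨hz, z.2⟩, fun hz => hz.1⟩
  have hcardN : Nat.card N = Nat.card (Zc E ⊓ P : Subgroup X) := by
    rw [hN, hcenter]
    exact Nat.card_congr (Subgroup.subgroupOfEquivOfLe inf_le_right).toEquiv
  rw [← hcardN]
  exact hcard

/-- **Main step**: `H` centralizes `E`. -/
theorem Ctx.centralizes (h : Ctx α p u s E T H) (hET : E ≤ ⁅E, T⁆) :
    H ≤ Subgroup.centralizer (E : Set X) := by
  by_contra hnc
  rcases h.shult E le_rfl h.hHE with h1 | ⟨hu2, ⟨n, hn⟩, a, ha, b, hb, hab⟩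
  · exact hnc h1
  obtain ⟨c, hc⟩ := h.hexc hu2
  have habc : ⁅a, b⁆ = c := by
    rcases hc a ha b hb with h2 | h2
    · exact absurd (commutatorElement_eq_one_iff_mul_comm.mp h2) hab
    · exact h2
  have hc1 : c ≠ 1 := by
    intro e
    rw [e] at habc
    exact hab (commutatorElement_eq_one_iff_mul_comm.mp habc)
  have hx : Exc E c := ⟨hc1, hc, a, ha, b, hb, habc⟩
  obtain ⟨u', hu'2, hu's, hcardP⟩ := h.class_two hx hnc
  have f1 := h.frob_formula hx hET
  have f2 := h.card_decomp
  rw [h.cent_inf_P hx, ← hcardP] at f2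
  set C : Subgroup X := E ⊓ Subgroup.centralizer (H : Set X) with hC
  have hZC : Zc E ≤ C :=
    le_inf inf_le_left (Subgroup.le_centralizer_iff.mp h.H_le_centralizer_Z)
  have f3 := Cfsg.Agent.Lib.Helper54.card_mul_relIndex hZC
  set z := Nat.card (Zc E) with hz
  set zP := Nat.card (Zc E ⊓ ⁅E, H⁆ : Subgroup X) with hzP
  set c₀ := (Zc E).relIndex C with hc₀
  have hzpos : 0 < z := Nat.card_pos
  have hzPpos : 0 < zP := Nat.card_pos
  have hCpos : 0 < Nat.card C := Nat.card_pos
  have hc₀pos : 0 < c₀ := by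
    rcases Nat.eq_zero_or_pos c₀ with h0 | h0
    · rw [h0, mul_zero] at f3; omega
    · exact h0
  -- `|E| = |C| u'^2`
  have f4 : Nat.card E = Nat.card C * u' ^ 2 := by
    have : Nat.card E * zP = (Nat.card C * u' ^ 2) * zP := by rw [f2]; ring
    exact Nat.eq_of_mul_eq_mul_right hzPpos this
  -- `u'^2 = c₀^u'`
  have f5 : u' ^ 2 = c₀ ^ u' := by
    rw [f4, ← f3, ← hu's] at f1
    have e1 : z ^ (u' + 1) * (z * c₀ * u' ^ 2) = (z ^ (u' + 2) * c₀) * u' ^ 2 := by ring
    have e2 : (z * c₀) ^ (u' + 1) * z = (z ^ (u' + 2) * c₀) * c₀ ^ u' := by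
      rw [mul_pow]; ring
    rw [e1, e2] at f1
    exact Nat.eq_of_mul_eq_mul_left (Nat.mul_pos (pow_pos hzpos _) hc₀pos) f1
  -- `c₀` is a power of two
  obtain ⟨k, hk⟩ := IsPGroup.iff_card.mp h.hE
  have hc₀dvd : c₀ ∣ 2 ^ k := by
    rw [← hu2, ← hk]
    exact (Dvd.intro_left _ f3).trans (Subgroup.card_dvd_of_le inf_le_left)
  obtain ⟨j, -, hj⟩ := (Nat.dvd_prime_pow Nat.prime_two).mp hc₀dvd
  have hu'n : u' = 2 ^ n := by omega
  have hn1 : 1 ≤ n := by
    rcases Nat.eq_zero_or_pos n with h0 | h0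
    · rw [h0] at hu'n; simp at hu'n; omega
    · exact h0
  have hj1 : j = 1 := by
    apply arith_two_pow hn1
    rw [hj, hu'n, ← pow_mul, ← pow_mul] at f5
    have := Nat.pow_right_injective (le_refl 2) f5
    omega
  rw [hj1, pow_one] at hj
  -- the final contradiction
  have hidx : ((Zc E).subgroupOf C).index = 2 := hj
  obtain ⟨a', ha'⟩ := Subgroup.index_eq_two_iff.mp hidx
  have ha'Z : ¬ (a' ∈ (Zc E).subgroupOf C) := by
    rcases ha' 1 with ⟨h1, h2⟩ | ⟨h1, h2⟩
    · exact absurd (Subgroup.one_mem _) h2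
    · rwa [one_mul] at h2
  apply ha'Z
  rw [Subgroup.mem_subgroupOf]
  refine ⟨a'.2.1, ?_⟩
  show (a' : X) ∈ Subgroup.centralizer (E : Set X)
  rw [Subgroup.mem_centralizer_iff]
  intro e he
  obtain ⟨d, hd, w, hw, rfl⟩ := h.decomp he
  have h1 : (a' : X) * w = w * a' := h.orth hx a'.2 hw
  have h2 : d * (a' : X) = a' * d := by
    rcases ha' ⟨d, hd⟩ with ⟨h3, -⟩ | ⟨h3, -⟩
    · rw [Subgroup.mem_subgroupOf] at h3
      have h4 : ((⟨d, hd⟩ * a' : C) : X) = d * a' := rfl
      rw [h4] at h3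
      have h5 := (Subgroup.mem_centralizer_iff.mp h3.2) a' a'.2.1
      -- a' * (d * a') = (d * a') * a'
      have h6 : (a' : X) * d * a' = d * a' * a' := by rw [mul_assoc, h5]
      exact (mul_right_cancel h6).symm
    · rw [Subgroup.mem_subgroupOf] at h3
      exact ((Subgroup.mem_centralizer_iff.mp h3.2) a' a'.2.1).symm
  calc d * w * a' = d * (w * a') := by group
    _ = d * (a' * w) := by rw [h1]
    _ = (d * a') * w := by group
    _ = (a' * d) * w := by rw [h2]
    _ = a' * (d * w) := by group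

/-- **The Frobenius action theorem**: a `u`-group `E = [E, T]` acted on by the Frobenius group
`T ⋊ H`, faithful on `W` with `C_W(H) = 1`, is trivial. -/
theorem Ctx.eq_bot (h : Ctx α p u s E T H) (hET : E ≤ ⁅E, T⁆) : E = ⊥ := by
  have h1 : T ≤ Subgroup.centralizer (E : Set X) := by
    apply h.T_le_centralizer
    intro τ hτ
    exact (h.conj hτ).centralizes hET
  have h2 : ⁅E, T⁆ = ⊥ := by
    rw [Subgroup.commutator_eq_bot_iff_le_centralizer]
    exact Subgroup.le_centralizer_iff.mp h1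
  rw [h2] at hET
  exact le_bot_iff.mp hET

end Cfsg.Agent.Lib.Helper38.FrobExc
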