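import Mathlib
import Cfsg.Agent.Lib.Helper38.FrobExcD

/-!
# Frobenius action theorem, part E (helper38): transfer of the group hypotheses

`GHyp t u s Q T H`: `Q` a `u`-group, `T` a `t`-group, `|H|` divides the prime `s`, `H` normalizes `Q`
and `T`, `T` normalizes `Q`, `C_T(H) = 1`.  These hypotheses pass to homomorphic images (coprime
lifting of fixed points) and to `subgroupOf`.  Also: the stabilizer of a subgroup `W₁ ≤ W` in
`MulAut W` with its restriction map, and the splitting `W = C_W(z) × [W, z]` for an involution `z`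
acting on an abelian group of odd exponent.
-/

set_option autoImplicit false
set_option linter.unusedSectionVars false
set_option linter.unusedVariables false

namespace Cfsg.Agent.Lib.Helper38.FrobExc

open scoped commutatorElement

/-- The group-theoretic hypotheses of the Frobenius action theorem. -/
structure GHyp {Y : Type*} [Group Y] (t u s : ℕ) (Q T H : Subgroup Y) : Prop where
  hQ : IsPGroup u Q
  hT : IsPGroup t T
  hH : Nat.card H ∣ s
  htu : t ≠ u
  hts : t ≠ s
  hus : u ≠ s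
  hHQ : H ≤ Subgroup.normalizer (Q : Set Y)
  hTQ : T ≤ Subgroup.normalizer (Q : Set Y)
  hHT : H ≤ Subgroup.normalizer (T : Set Y)
  hTH : T ⊓ Subgroup.centralizer (H : Set Y) = ⊥

section basic

variable {Y : Type*} [Group Y] {t u s : ℕ} [ht : Fact t.Prime] [hu : Fact u.Prime]
  [hs : Fact s.Prime] {Q T H : Subgroup Y}

theorem GHyp.isPGroup_H (h : GHyp t u s Q T H) : IsPGroup s H := by
  rcases (Nat.dvd_prime hs.out).mp h.hH with h1 | h1
  · exact IsPGroup.of_card (n := 0) (by rw [h1, pow_zero])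
  · exact IsPGroup.of_card (n := 1) (by rw [h1, pow_one])

theorem not_dvd_card_of_isPGroup [Finite Y] {a b : ℕ} [Fact a.Prime] [Fact b.Prime] (hab : a ≠ b)
    {K : Subgroup Y} (hK : IsPGroup a K) : ¬ b ∣ Nat.card K := by
  obtain ⟨k, hk⟩ := IsPGroup.iff_card.mp hK
  rw [hk]
  intro hdvd
  have h1 : b ∣ a := (Fact.out : b.Prime).dvd_of_dvd_pow hdvd
  exact hab ((Nat.prime_dvd_prime_iff_eq (Fact.out : b.Prime) (Fact.out : a.Prime)).mp h1).symm

theorem GHyp.not_s_dvd_T [Finite Y] (h : GHyp t u s Q T H) : ¬ s ∣ Nat.card T :=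
  not_dvd_card_of_isPGroup h.hts h.hT

theorem GHyp.not_u_dvd_T [Finite Y] (h : GHyp t u s Q T H) : ¬ u ∣ Nat.card T :=
  not_dvd_card_of_isPGroup h.htu h.hT

theorem GHyp.not_t_dvd_Q [Finite Y] (h : GHyp t u s Q T H) : ¬ t ∣ Nat.card Q :=
  not_dvd_card_of_isPGroup h.htu.symm h.hQ

/-- A subgroup `B` all of whose elements conjugate `F` into `F` normalizes `F`. -/
theorem le_normalizer_of_conj_mem {B F : Subgroup Y}
    (h : ∀ g ∈ B, ∀ n ∈ F, g * n * g⁻¹ ∈ F) : B ≤ Subgroup.normalizer (F : Set Y) := by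
  intro g hg
  rw [Subgroup.mem_normalizer_iff]
  intro n
  refine ⟨h g hg n, fun hn => ?_⟩
  have h1 := h g⁻¹ (B.inv_mem hg) _ hn
  have e : g⁻¹ * (g * n * g⁻¹) * g⁻¹⁻¹ = n := by group
  rwa [e] at h1

/-- The hypotheses pass to homomorphic images. -/
theorem GHyp.map {X : Type*} [Group X] [Finite X] {Q T H : Subgroup X}
    (h : GHyp t u s Q T H) (φ : X →* Y) :
    GHyp t u s (Q.map φ) (T.map φ) (H.map φ) := by
  refine ⟨h.hQ.map φ, h.hT.map φ, (Subgroup.card_map_dvd H φ).trans h.hH, h.htu, h.hts, h.hus,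
    ?_, ?_, ?_, ?_⟩
  · exact (Subgroup.map_mono h.hHQ).trans (Subgroup.le_normalizer_map φ)
  · exact (Subgroup.map_mono h.hTQ).trans (Subgroup.le_normalizer_map φ)
  · exact (Subgroup.map_mono h.hHT).trans (Subgroup.le_normalizer_map φ)
  · rw [eq_bot_iff]
    rintro _ ⟨⟨τ, hτ, rfl⟩, hC⟩
    rw [Subgroup.mem_bot]
    have hC' : ∀ b ∈ H, φ b * φ τ = φ τ * φ b := by
      intro b hb
      exact (Subgroup.mem_centralizer_iff.mp hC) (φ b) ⟨b, hb, rfl⟩
    have hN : ¬ s ∣ Nat.card (T ⊓ φ.ker : Subgroup X) := fun hd =>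
      h.not_s_dvd_T (hd.trans (Subgroup.card_dvd_of_le inf_le_left))
    have hBN : H ≤ Subgroup.normalizer ((T ⊓ φ.ker : Subgroup X) : Set X) := by
      apply le_normalizer_of_conj_mem
      rintro b hb n ⟨hnT, hnK⟩
      refine ⟨(Subgroup.mem_normalizer_iff.mp (h.hHT hb) n).mp hnT, ?_⟩
      have hnK' : φ n = 1 := hnK
      show φ (b * n * b⁻¹) = 1
      rw [map_mul, map_mul, hnK', mul_one, ← map_mul, mul_inv_cancel, map_one]
    obtain ⟨n, hn, hfixed⟩ := Cfsg.Agent.Lib.Helper48.exists_fixed_in_coset H h.isPGroup_H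
      (T ⊓ φ.ker) hN hBN τ (by
        intro b hb
        refine ⟨T.mul_mem (T.inv_mem hτ) ((Subgroup.mem_normalizer_iff.mp (h.hHT hb) τ).mp hτ), ?_⟩
        show φ (τ⁻¹ * (b * τ * b⁻¹)) = 1
        rw [map_mul, map_mul, map_mul, map_inv, map_inv, hC' b hb]
        group)
    have h1 : τ * n ∈ T ⊓ Subgroup.centralizer (H : Set X) := by
      refine ⟨T.mul_mem hτ hn.1, ?_⟩
      show τ * n ∈ Subgroup.centralizer (H : Set X)
      rw [Subgroup.mem_centralizer_iff]
      intro b hb
      have := hfixed b hb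
      calc b * (τ * n) = b * (τ * n) * b⁻¹ * b := by group
        _ = τ * n * b := by rw [this]
    rw [h.hTH, Subgroup.mem_bot] at h1
    have h2 : φ n = 1 := hn.2
    have h3 : φ (τ * n) = 1 := by rw [h1, map_one]
    rw [map_mul, h2, mul_one] at h3
    exact h3

/-- The hypotheses pass to a subgroup containing `Q`, `T`, `H`. -/
theorem GHyp.subgroupOf (h : GHyp t u s Q T H) (S : Subgroup Y) (hQS : Q ≤ S) (hTS : T ≤ S)
    (hHS : H ≤ S) : GHyp t u s (Q.subgroupOf S) (T.subgroupOf S) (H.subgroupOf S) := by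
  have key : ∀ {A B : Subgroup Y}, A ≤ Subgroup.normalizer (B : Set Y) →
      A.subgroupOf S ≤ Subgroup.normalizer ((B.subgroupOf S : Subgroup S) : Set S) := by
    intro A B hAB
    apply le_normalizer_of_conj_mem
    intro g hg n hn
    rw [Subgroup.mem_subgroupOf] at hg hn ⊢
    exact (Subgroup.mem_normalizer_iff.mp (hAB hg) n).mp hn
  refine ⟨h.hQ.comap_subtype, h.hT.comap_subtype, ?_, h.htu, h.hts, h.hus, key h.hHQ, key h.hTQ,
    key h.hHT, ?_⟩
  · rw [Nat.card_congr (Subgroup.subgroupOfEquivOfLe hHS).toEquiv]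
    exact h.hH
  · rw [eq_bot_iff]
    rintro y ⟨hyT, hyC⟩
    rw [Subgroup.mem_bot]
    have hyC' : y ∈ Subgroup.centralizer ((H.subgroupOf S : Subgroup S) : Set S) := hyC
    have h1 : (y : Y) ∈ T ⊓ Subgroup.centralizer (H : Set Y) := by
      refine ⟨Subgroup.mem_subgroupOf.mp hyT, ?_⟩
      show (y : Y) ∈ Subgroup.centralizer (H : Set Y)
      rw [Subgroup.mem_centralizer_iff]
      intro b hb
      have := (Subgroup.mem_centralizer_iff.mp hyC') ⟨b, hHS hb⟩ (Subgroup.mem_subgroupOf.mpr hb)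
      exact congrArg Subtype.val this
    rw [h.hTH, Subgroup.mem_bot] at h1
    exact Subtype.ext h1

end basic

section stabilizer

variable {W : Type*} [CommGroup W]

/-- The automorphisms of `W` mapping `W₁` onto itself. -/
def stab (W₁ : Subgroup W) : Subgroup (MulAut W) where
  carrier := {g | (∀ w ∈ W₁, g w ∈ W₁) ∧ (∀ w ∈ W₁, g⁻¹ w ∈ W₁)}
  one_mem' := ⟨fun w hw => hw, fun w hw => by rw [inv_one]; exact hw⟩
  mul_mem' := fun {a b} ha hb => ⟨fun w hw => ha.1 _ (hb.1 w hw), fun w hw => by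
    rw [mul_inv_rev]; exact hb.2 _ (ha.2 w hw)⟩
  inv_mem' := fun {a} ha => ⟨ha.2, fun w hw => by rw [inv_inv]; exact ha.1 w hw⟩

theorem mem_stab {W₁ : Subgroup W} {g : MulAut W} :
    g ∈ stab W₁ ↔ (∀ w ∈ W₁, g w ∈ W₁) ∧ (∀ w ∈ W₁, g⁻¹ w ∈ W₁) := Iff.rfl

/-- A subgroup mapping `W₁` into itself lies in the stabilizer. -/
theorem le_stab {W₁ : Subgroup W} {B : Subgroup (MulAut W)} (h : ∀ g ∈ B, ∀ w ∈ W₁, g w ∈ W₁) :
    B ≤ stab W₁ := fun g hg => ⟨h g hg, h g⁻¹ (B.inv_mem hg)⟩

/-- Restriction to `W₁`. -/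
def res (W₁ : Subgroup W) : stab W₁ →* MulAut W₁ where
  toFun g :=
    { toFun := fun w => ⟨(g : MulAut W) w, g.2.1 w w.2⟩
      invFun := fun w => ⟨(g : MulAut W)⁻¹ w, g.2.2 w w.2⟩
      left_inv := fun w => Subtype.ext (by simp)
      right_inv := fun w => Subtype.ext (by simp)
      map_mul' := fun a b => Subtype.ext (by simp) }
  map_one' := by
    ext w
    rfl
  map_mul' := fun a b => by
    ext w
    rfl

@[simp] theorem res_apply (W₁ : Subgroup W) (g : stab W₁) (w : W₁) :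
    ((res W₁ g w : W₁) : W) = (g : MulAut W) w := rfl

end stabilizer

section involution

variable {W : Type*} [CommGroup W]

/-- Fixed points of an automorphism. -/
def fixOf (z : MulAut W) : Subgroup W where
  carrier := {w | z w = w}
  one_mem' := map_one z
  mul_mem' := fun {a b} ha hb => by
    show z (a * b) = a * b
    rw [map_mul, show z a = a from ha, show z b = b from hb]
  inv_mem' := fun {a} ha => by
    show z a⁻¹ = a⁻¹
    rw [map_inv, show z a = a from ha]

/-- Inverted points of an automorphism. -/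
def invOf (z : MulAut W) : Subgroup W where
  carrier := {w | z w = w⁻¹}
  one_mem' := by
    show z 1 = 1⁻¹
    rw [map_one, inv_one]
  mul_mem' := fun {a b} ha hb => by
    show z (a * b) = (a * b)⁻¹
    rw [map_mul, show z a = a⁻¹ from ha, show z b = b⁻¹ from hb, mul_inv]
  inv_mem' := fun {a} ha => by
    show z a⁻¹ = a⁻¹⁻¹
    rw [map_inv, show z a = a⁻¹ from ha]

theorem mem_fixOf {z : MulAut W} {w : W} : w ∈ fixOf z ↔ z w = w := Iff.rfl

theorem mem_invOf {z : MulAut W} {w : W} : w ∈ invOf z ↔ z w = w⁻¹ := Iff.rfl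

/-- Automorphisms commuting with `z` preserve `fixOf z`. -/
theorem map_mem_fixOf {z g : MulAut W} (hgz : g * z = z * g) {w : W} (hw : w ∈ fixOf z) :
    g w ∈ fixOf z := by
  rw [mem_fixOf] at hw ⊢
  have : z (g w) = g (z w) := by
    rw [← MulAut.mul_apply, ← MulAut.mul_apply, hgz]
  rw [this, hw]

/-- Automorphisms commuting with `z` preserve `invOf z`. -/
theorem map_mem_invOf {z g : MulAut W} (hgz : g * z = z * g) {w : W} (hw : w ∈ invOf z) :
    g w ∈ invOf z := by
  rw [mem_invOf] at hw ⊢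
  have : z (g w) = g (z w) := by
    rw [← MulAut.mul_apply, ← MulAut.mul_apply, hgz]
  rw [this, hw, map_inv]

/-- For an involution `z` on an abelian group of odd prime exponent, `W = C_W(z) · [W, z]`. -/
theorem exists_fix_mul_inv {p : ℕ} [hp : Fact p.Prime] (hp2 : p ≠ 2) (hW : ∀ w : W, w ^ p = 1)
    {z : MulAut W} (hz : z * z = 1) (w : W) :
    ∃ a ∈ fixOf z, ∃ b ∈ invOf z, w = a * b := by
  have hzz : ∀ v : W, z (z v) = v := by
    intro v
    rw [← MulAut.mul_apply, hz, MulAut.one_apply]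
  obtain ⟨k, hk⟩ : ∃ k, p = 2 * k + 1 := by
    rcases hp.out.eq_two_or_odd with h2 | h2
    · exact absurd h2 hp2
    · exact ⟨p / 2, by omega⟩
  refine ⟨(w * z w) ^ (k + 1), ?_, (w * (z w)⁻¹) ^ (k + 1), ?_, ?_⟩
  · apply Subgroup.pow_mem
    rw [mem_fixOf, map_mul, hzz, mul_comm]
  · apply Subgroup.pow_mem
    rw [mem_invOf, map_mul, map_inv, hzz, mul_inv, inv_inv, mul_comm]
  · rw [← mul_pow]
    have e : w * z w * (w * (z w)⁻¹) = w ^ 2 := by
      rw [pow_two]
      calc w * z w * (w * (z w)⁻¹) = w * w * (z w * (z w)⁻¹) := by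
            simp only [mul_assoc, mul_left_comm]
        _ = w * w := by rw [mul_inv_cancel, mul_one]
    rw [e, ← pow_mul]
    have e2 : 2 * (k + 1) = p + 1 := by omega
    rw [e2, pow_succ, hW, one_mul]

end involution

end Cfsg.Agent.Lib.Helper38.FrobExc
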