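import Mathlib
import Cfsg.Agent.Lib.Helper38.FrobExcE

/-!
# Frobenius action theorem, part F (helper38): removing faithfulness and the `|E'| ≤ 2` hypothesis

`commutator_trivial`: a finite group `X` acting (via `α`) on a finite abelian group `W` of prime
exponent `p`; `Q` a `u`-group, `T` a `t`-group, `|H| ∣ s`, with `H ≤ N(Q) ∩ N(T)`, `T ≤ N(Q)`,
`C_T(H) = 1`, `C_W(H) = 1`, and `p ∉ {u, s}`.  Then `[Q, T]` acts trivially on `W`.

Proof: pass to the images in `MulAut W`; choose `M ≤ Q` minimal `T,H`-invariant with `[M, T] ≠ 1`;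
then `M = [M, T]`, the subgroup generated by squares is central and centralized by `T` and `H`; for
`u = 2` either some commutator `z` splits `W = C_W(z) × [W, z]` properly (induction on `|W|`), or all
commutators lie in `{1, inversion}` and `Ctx.eq_bot` applies.
-/

set_option autoImplicit false
set_option linter.unusedSectionVars false
set_option linter.unusedVariables false

namespace Cfsg.Agent.Lib.Helper38.FrobExc

open scoped commutatorElement

universe v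

section minimal

variable {Y : Type*} [Group Y] [Finite Y] {t u s : ℕ} [ht : Fact t.Prime] [hu : Fact u.Prime]
  [hs : Fact s.Prime] {Q T H : Subgroup Y}

/-- A minimal `T,H`-invariant subgroup `M ≤ Q` with `[M, T] ≠ 1`. -/
theorem GHyp.exists_minimal (h : GHyp t u s Q T H) (hne : ⁅Q, T⁆ ≠ ⊥) :
    ∃ M : Subgroup Y, M ≤ Q ∧ T ≤ Subgroup.normalizer (M : Set Y) ∧
      H ≤ Subgroup.normalizer (M : Set Y) ∧ ⁅M, T⁆ = M ∧ M ≠ ⊥ ∧
      ∀ N : Subgroup Y, N ≤ M → N ≠ M → T ≤ Subgroup.normalizer (N : Set Y) →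
        H ≤ Subgroup.normalizer (N : Set Y) → ⁅N, T⁆ = ⊥ := by
  classical
  let P : Subgroup Y → Prop := fun M => M ≤ Q ∧ T ≤ Subgroup.normalizer (M : Set Y) ∧
      H ≤ Subgroup.normalizer (M : Set Y) ∧ ⁅M, T⁆ ≠ ⊥
  have hex : ∃ k, ∃ M, P M ∧ Nat.card M = k := ⟨_, Q, ⟨le_rfl, h.hTQ, h.hHQ, hne⟩, rfl⟩
  obtain ⟨M, hM, hMk⟩ := Nat.find_spec hex
  have hmin : ∀ M', P M' → Nat.card M ≤ Nat.card M' := fun M' hM' => by
    rw [hMk]; exact Nat.find_min' hex ⟨M', hM', rfl⟩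
  obtain ⟨hMQ, hTM, hHM, hMT⟩ := hM
  have htM : ¬ t ∣ Nat.card M := fun hd => h.not_t_dvd_Q (hd.trans (Subgroup.card_dvd_of_le hMQ))
  have h1 : ⁅M, T⁆ ≤ M := Cfsg.Agent.Lib.Helper48.commutator_le_of_le_normalizer hTM
  have h2 : ⁅⁅M, T⁆, T⁆ = ⁅M, T⁆ := Cfsg.Agent.Lib.Helper48.commutator_commutator_eq h.hT htM hTM
  have hP1 : P ⁅M, T⁆ := by
    refine ⟨h1.trans hMQ, Subgroup.normalizer_commutator_ge_right M T, ?_, ?_⟩
    · exact (le_inf hHM h.hHT).trans
        (Cfsg.Agent.Lib.Helper48.normalizer_inf_le_normalizer_commutator M T)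
    · rw [h2]; exact hMT
  have hMT' : ⁅M, T⁆ = M := Subgroup.eq_of_le_of_card_ge h1 (hmin _ hP1)
  refine ⟨M, hMQ, hTM, hHM, hMT', ?_, ?_⟩
  · intro hbot
    apply hMT
    rw [hbot] at hMT' ⊢
    exact hMT'
  · intro N hNM hNne hTN hHN
    by_contra hNT
    have hPN : P N := ⟨hNM.trans hMQ, hTN, hHN, hNT⟩
    exact hNne (Subgroup.eq_of_le_of_card_ge hNM (hmin _ hPN))

/-- Three subgroups lemma: a subgroup `N` normalized by `M = [M, T]` and centralized by `T` is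
centralized by `M`. -/
theorem central_of_minimal {M T N : Subgroup Y} (hMT : ⁅M, T⁆ = M)
    (hMN : M ≤ Subgroup.normalizer (N : Set Y)) (hNT : ⁅N, T⁆ = ⊥) : ⁅M, N⁆ = ⊥ := by
  have h1 : ⁅⁅M, N⁆, T⁆ = ⊥ := by
    have h3 : ⁅M, N⁆ ≤ N := by
      rw [Subgroup.commutator_comm]
      exact Cfsg.Agent.Lib.Helper48.commutator_le_of_le_normalizer hMN
    rw [eq_bot_iff, ← hNT]
    exact Subgroup.commutator_mono h3 le_rfl
  have h2 : ⁅⁅N, T⁆, M⁆ = ⊥ := by
    rw [hNT]; exact Subgroup.commutator_bot_left M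
  have h3 := Subgroup.commutator_commutator_eq_bot_of_rotate h1 h2
  rwa [Subgroup.commutator_comm T M, hMT] at h3

/-- The subgroup generated by the squares of the elements of `M`. -/
def sqSub (M : Subgroup Y) : Subgroup Y := Subgroup.closure {g | ∃ x ∈ M, g = x * x}

theorem sqSub_le (M : Subgroup Y) : sqSub M ≤ M := by
  rw [sqSub, Subgroup.closure_le]
  rintro _ ⟨x, hx, rfl⟩
  exact M.mul_mem hx hx

theorem normalizer_le_sqSub (M : Subgroup Y) :
    Subgroup.normalizer (M : Set Y) ≤ Subgroup.normalizer ((sqSub M : Subgroup Y) : Set Y) := by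
  apply le_normalizer_of_conj_mem
  intro g hg n hn
  induction hn using Subgroup.closure_induction with
  | mem y hy =>
    obtain ⟨x, hx, rfl⟩ := hy
    apply Subgroup.subset_closure
    refine ⟨g * x * g⁻¹, (Subgroup.mem_normalizer_iff.mp hg x).mp hx, ?_⟩
    group
  | one =>
    have : g * 1 * g⁻¹ = 1 := by group
    rw [this]; exact Subgroup.one_mem _
  | mul a b _ _ iha ihb =>
    have : g * (a * b) * g⁻¹ = (g * a * g⁻¹) * (g * b * g⁻¹) := by group
    rw [this]; exact Subgroup.mul_mem _ iha ihb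
  | inv a _ iha =>
    have : g * a⁻¹ * g⁻¹ = (g * a * g⁻¹)⁻¹ := by group
    rw [this]; exact Subgroup.inv_mem _ iha

theorem commutator_mem_sqSub {M : Subgroup Y} {a b : Y} (ha : a ∈ M) (hb : b ∈ M) :
    ⁅a, b⁆ ∈ sqSub M := by
  have e : ⁅a, b⁆ = (a * b) * (a * b) * ((b⁻¹ * a⁻¹ * b) * (b⁻¹ * a⁻¹ * b)) * (b⁻¹ * b⁻¹) := by
    rw [commutatorElement_def]; group
  rw [e]
  have hmem : ∀ x ∈ M, x * x ∈ sqSub M := fun x hx => Subgroup.subset_closure ⟨x, hx, rfl⟩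
  refine Subgroup.mul_mem _ (Subgroup.mul_mem _ (hmem _ (M.mul_mem ha hb)) (hmem _ ?_))
    (hmem _ (M.inv_mem hb))
  exact M.mul_mem (M.mul_mem (M.inv_mem hb) (M.inv_mem ha)) hb

theorem mul_self_mem_sqSub {M : Subgroup Y} {a : Y} (ha : a ∈ M) : a * a ∈ sqSub M :=
  Subgroup.subset_closure ⟨a, ha, rfl⟩

/-- In a nontrivial `2`-group the squares generate a proper subgroup. -/
theorem sqSub_ne {M : Subgroup Y} (hM : IsPGroup 2 M) (hM1 : M ≠ ⊥) : sqSub M ≠ M := by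
  have : Fact (Nat.Prime 2) := ⟨Nat.prime_two⟩
  obtain ⟨k, hk⟩ := IsPGroup.iff_card.mp hM
  have hk0 : k ≠ 0 := by
    rintro rfl
    rw [pow_zero] at hk
    exact hM1 (Subgroup.card_eq_one.mp hk)
  obtain ⟨k', rfl⟩ : ∃ k', k = k' + 1 := ⟨k - 1, by omega⟩
  obtain ⟨K, hK⟩ := Sylow.exists_subgroup_card_pow_prime (G := M) 2 (n := k')
    (by rw [hk]; exact pow_dvd_pow 2 (Nat.le_succ k'))
  have hidx : K.index = 2 := by
    have h1 := Subgroup.card_mul_index K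
    rw [hK, hk, pow_succ] at h1
    exact Nat.eq_of_mul_eq_mul_left (pow_pos (by norm_num) k') h1
  intro heq
  have hle : sqSub M ≤ K.map M.subtype := by
    rw [sqSub, Subgroup.closure_le]
    rintro _ ⟨x, hx, rfl⟩
    exact ⟨⟨x, hx⟩ * ⟨x, hx⟩, Subgroup.mul_self_mem_of_index_two hidx _, rfl⟩
  rw [heq] at hle
  have h2 : Nat.card M ≤ Nat.card (K.map M.subtype) := Subgroup.card_le_of_le hle
  rw [Subgroup.card_map_of_injective M.subtype_injective, hK, hk] at h2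
  have : 2 ^ k' < 2 ^ (k' + 1) := Nat.pow_lt_pow_right (by norm_num) (Nat.lt_succ_self k')
  omega

end minimal

section main

variable {W : Type v} [CommGroup W] [Finite W] {p t u s : ℕ} [hp : Fact p.Prime]
  [ht : Fact t.Prime] [hu : Fact u.Prime] [hs : Fact s.Prime]

/-- Building the context of the Frobenius action theorem inside `MulAut W`. -/
theorem mkCtx {Q T H : Subgroup (MulAut W)} (hyp : GHyp t u s Q T H) (hW : ∀ w : W, w ^ p = 1)
    (hpu : p ≠ u) (hps : p ≠ s) (hHs : Nat.card H = s)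
    (hfix : ∀ w : W, (∀ h ∈ H, h w = w) → w = 1) (E : Subgroup (MulAut W)) (hEQ : E ≤ Q)
    (hTE : T ≤ Subgroup.normalizer (E : Set (MulAut W)))
    (hHE : H ≤ Subgroup.normalizer (E : Set (MulAut W)))
    (hexc : u = 2 → ∃ c : MulAut W, ∀ a ∈ E, ∀ b ∈ E, ⁅a, b⁆ = 1 ∨ ⁅a, b⁆ = c) :
    Ctx (MonoidHom.id (MulAut W)) p u s E T H where
  hW := hW
  hE := hyp.hQ.to_le hEQ
  hH := hHs
  hpu := hpu
  hps := hps
  hus := hyp.hus
  hsT := hyp.not_s_dvd_T
  huT := hyp.not_u_dvd_T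
  hHE := hHE
  hTE := hTE
  hHT := hyp.hHT
  hTH := hyp.hTH
  hfaith := fun e _ he => by
    ext w
    exact he w
  hfix := hfix
  hexc := hexc

/-- Restricting to an invariant subgroup `W₁` of `W`. -/
theorem restrict_apply (W₁ : Subgroup W) (Q T H : Subgroup (MulAut W)) (hyp : GHyp t u s Q T H)
    (hQW : ∀ g ∈ Q, ∀ w ∈ W₁, g w ∈ W₁) (hTW : ∀ g ∈ T, ∀ w ∈ W₁, g w ∈ W₁)
    (hHW : ∀ g ∈ H, ∀ w ∈ W₁, g w ∈ W₁)
    (IH : ∀ (Q' T' H' : Subgroup (MulAut W₁)), GHyp t u s Q' T' H' →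
      (∀ w : W₁, (∀ h ∈ H', h w = w) → w = 1) → ∀ x ∈ Q', ∀ y ∈ T', ⁅x, y⁆ = 1)
    (hfix : ∀ w ∈ W₁, (∀ h ∈ H, h w = w) → w = 1) :
    ∀ x ∈ Q, ∀ y ∈ T, ∀ w ∈ W₁, ⁅x, y⁆ w = w := by
  have hQS : Q ≤ stab W₁ := le_stab hQW
  have hTS : T ≤ stab W₁ := le_stab hTW
  have hHS : H ≤ stab W₁ := le_stab hHW
  have hyp1 := hyp.subgroupOf (stab W₁) hQS hTS hHS
  have hyp2 := hyp1.map (res W₁)
  intro x hx y hy w hw
  have h1 := IH _ _ _ hyp2 (by
    intro w' hw'
    apply Subtype.ext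
    apply hfix w' w'.2
    intro h hh
    have := hw' (res W₁ ⟨h, hHS hh⟩) ⟨⟨h, hHS hh⟩, Subgroup.mem_subgroupOf.mpr hh, rfl⟩
    exact congrArg Subtype.val this) (res W₁ ⟨x, hQS hx⟩)
    ⟨⟨x, hQS hx⟩, Subgroup.mem_subgroupOf.mpr hx, rfl⟩ (res W₁ ⟨y, hTS hy⟩)
    ⟨⟨y, hTS hy⟩, Subgroup.mem_subgroupOf.mpr hy, rfl⟩
  rw [← map_commutatorElement] at h1
  have h2 := congrArg (fun f : MulAut W₁ => ((f ⟨w, hw⟩ : W₁) : W)) h1
  exact h2

/-- The main induction: inside `MulAut W`, `[Q, T] = 1`. -/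
theorem main_aux (p t u s : ℕ) [hp : Fact p.Prime] [ht : Fact t.Prime] [hu : Fact u.Prime]
    [hs : Fact s.Prime] (hpu : p ≠ u) (hps : p ≠ s) :
    ∀ n : ℕ, ∀ (W : Type v) [CommGroup W] [Finite W], Nat.card W = n → (∀ w : W, w ^ p = 1) →
      ∀ (Q T H : Subgroup (MulAut W)), GHyp t u s Q T H →
        (∀ w : W, (∀ h ∈ H, h w = w) → w = 1) → ∀ x ∈ Q, ∀ y ∈ T, ⁅x, y⁆ = 1 := by
  intro n
  induction n using Nat.strong_induction_on with
  | _ n IH =>
  intro W _ _ hcard hW Q T H hyp hfix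
  by_contra hcon
  push Not at hcon
  obtain ⟨x₀, hx₀, y₀, hy₀, hxy₀⟩ := hcon
  have hne : ⁅Q, T⁆ ≠ ⊥ := by
    intro hbot
    apply hxy₀
    have : ⁅x₀, y₀⁆ ∈ ⁅Q, T⁆ := Subgroup.commutator_mem_commutator hx₀ hy₀
    rwa [hbot, Subgroup.mem_bot] at this
  -- `|H| = s`
  have hHs : Nat.card H = s := by
    rcases (Nat.dvd_prime hs.out).mp hyp.hH with h1 | h1
    · exfalso
      have hH1 : H = ⊥ := Subgroup.card_eq_one.mp h1
      have hall : ∀ w : W, w = 1 := fun w => hfix w (fun h hh => by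
        rw [hH1, Subgroup.mem_bot] at hh
        rw [hh]; rfl)
      apply hxy₀
      ext w
      rw [hall w, map_one, MulAut.one_apply]
    · exact h1
  obtain ⟨M, hMQ, hTM, hHM, hMT, hM1, hmin⟩ := hyp.exists_minimal hne
  have mk := mkCtx hyp hW hpu hps hHs hfix
  by_cases hu2 : u = 2
  · have hp2 : p ≠ 2 := fun h => hpu (h.trans hu2.symm)
    have hFM : sqSub M ≤ M := sqSub_le M
    have hFne : sqSub M ≠ M := sqSub_ne (hu2 ▸ hyp.hQ.to_le hMQ) hM1
    have hTF : T ≤ Subgroup.normalizer ((sqSub M : Subgroup (MulAut W)) : Set (MulAut W)) :=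
      hTM.trans (normalizer_le_sqSub M)
    have hHF : H ≤ Subgroup.normalizer ((sqSub M : Subgroup (MulAut W)) : Set (MulAut W)) :=
      hHM.trans (normalizer_le_sqSub M)
    have hMF : M ≤ Subgroup.normalizer ((sqSub M : Subgroup (MulAut W)) : Set (MulAut W)) :=
      Subgroup.le_normalizer.trans (normalizer_le_sqSub M)
    have hFT : ⁅sqSub M, T⁆ = ⊥ := hmin _ hFM hFne hTF hHF
    have hMFc : ⁅M, sqSub M⁆ = ⊥ := central_of_minimal hMT hMF hFT
    -- elements of `F` commute with `M`, `T`, `H`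
    have hzM : ∀ z ∈ sqSub M, ∀ g ∈ M, g * z = z * g := by
      intro z hz g hg
      have h1 : M ≤ Subgroup.centralizer ((sqSub M : Subgroup (MulAut W)) : Set (MulAut W)) :=
        Subgroup.commutator_eq_bot_iff_le_centralizer.mp hMFc
      exact ((Subgroup.mem_centralizer_iff.mp (h1 hg)) z hz).symm
    have hzT : ∀ z ∈ sqSub M, ∀ g ∈ T, g * z = z * g := by
      intro z hz g hg
      have h1 : sqSub M ≤ Subgroup.centralizer (T : Set (MulAut W)) :=
        Subgroup.commutator_eq_bot_iff_le_centralizer.mp hFT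
      exact (Subgroup.mem_centralizer_iff.mp (h1 hz)) g hg
    have hFab : ∀ a ∈ sqSub M, ∀ b ∈ sqSub M, a * b = b * a := fun a ha b hb =>
      hzM b hb a (hFM ha)
    have ctxF := mk (sqSub M) (hFM.trans hMQ) hTF hHF (fun _ => ⟨1, fun a ha b hb =>
      Or.inl (commutatorElement_eq_one_iff_mul_comm.mpr (hFab a ha b hb))⟩)
    have hHFc : H ≤ Subgroup.centralizer ((sqSub M : Subgroup (MulAut W)) : Set (MulAut W)) :=
      ctxF.centralizes_abelian (sqSub M) le_rfl hHF hFab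
    have hzH : ∀ z ∈ sqSub M, ∀ g ∈ H, g * z = z * g := by
      intro z hz g hg
      exact ((Subgroup.mem_centralizer_iff.mp (hHFc hg)) z hz).symm
    -- commutators are involutions
    have hzz : ∀ a ∈ M, ∀ b ∈ M, ⁅a, b⁆ * ⁅a, b⁆ = 1 := by
      intro a ha b hb
      have h1 : ⁅a * a, b⁆ = 1 := by
        rw [commutatorElement_eq_one_iff_mul_comm]
        exact (hzM (a * a) (mul_self_mem_sqSub ha) b hb).symm
      rw [commutatorElement_mul_left_eq_conj_mul] at h1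
      have h2 : a * ⁅a, b⁆ = ⁅a, b⁆ * a := hzM _ (commutator_mem_sqSub ha hb) a ha
      rw [h2, mul_assoc ⁅a, b⁆ a a⁻¹, mul_inv_cancel, mul_one] at h1
      exact h1
    by_cases hA : ∃ a ∈ M, ∃ b ∈ M, fixOf ⁅a, b⁆ ≠ ⊤ ∧ invOf ⁅a, b⁆ ≠ ⊤
    · obtain ⟨a, ha, b, hb, hfix1, hinv1⟩ := hA
      have hzF : ⁅a, b⁆ ∈ sqSub M := commutator_mem_sqSub ha hb
      have hypM : GHyp t u s M T H := ⟨hyp.hQ.to_le hMQ, hyp.hT, hyp.hH, hyp.htu, hyp.hts, hyp.hus,
        hHM, hTM, hyp.hHT, hyp.hTH⟩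
      have key : ∀ W₁ : Subgroup W, W₁ ≠ ⊤ → (∀ g ∈ M, ∀ w ∈ W₁, g w ∈ W₁) →
          (∀ g ∈ T, ∀ w ∈ W₁, g w ∈ W₁) → (∀ g ∈ H, ∀ w ∈ W₁, g w ∈ W₁) →
          ∀ x ∈ M, ∀ y ∈ T, ∀ w ∈ W₁, ⁅x, y⁆ w = w := by
        intro W₁ hW₁ hMW hTW hHW
        have hlt : Nat.card W₁ < n := by
          rw [← hcard]
          apply lt_of_le_of_ne (Subgroup.card_le_card_group W₁)
          intro heq
          exact hW₁ (Subgroup.eq_top_of_card_eq W₁ heq)
        apply restrict_apply W₁ M T H hypM hMW hTW hHW _ (fun w _ hw => hfix w hw)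
        intro Q' T' H' hyp' hfix'
        exact IH (Nat.card W₁) hlt W₁ rfl (fun w => Subtype.ext (by
          rw [Subgroup.coe_pow, hW]; rfl)) Q' T' H' hyp' hfix'
      have k1 := key (fixOf ⁅a, b⁆) hfix1
        (fun g hg w hw => map_mem_fixOf (hzM _ hzF g hg) hw)
        (fun g hg w hw => map_mem_fixOf (hzT _ hzF g hg) hw)
        (fun g hg w hw => map_mem_fixOf (hzH _ hzF g hg) hw)
      have k2 := key (invOf ⁅a, b⁆) hinv1
        (fun g hg w hw => map_mem_invOf (hzM _ hzF g hg) hw)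
        (fun g hg w hw => map_mem_invOf (hzT _ hzF g hg) hw)
        (fun g hg w hw => map_mem_invOf (hzH _ hzF g hg) hw)
      apply hM1
      rw [← hMT, eq_bot_iff, Subgroup.commutator_le]
      intro x hx y hy
      rw [Subgroup.mem_bot]
      ext w
      obtain ⟨a', ha', b', hb', rfl⟩ := exists_fix_mul_inv hp2 hW (hzz a ha b hb) w
      rw [map_mul, k1 x hx y hy a' ha', k2 x hx y hy b' hb', MulAut.one_apply]
    · push Not at hA
      have hexc : ∃ c : MulAut W, ∀ a ∈ M, ∀ b ∈ M, ⁅a, b⁆ = 1 ∨ ⁅a, b⁆ = c := by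
        refine ⟨MulEquiv.inv W, fun a ha b hb => ?_⟩
        by_cases h1 : fixOf ⁅a, b⁆ = ⊤
        · left
          ext w
          have : w ∈ fixOf ⁅a, b⁆ := h1 ▸ Subgroup.mem_top w
          exact this
        · right
          have h2 := hA a ha b hb h1
          ext w
          have : w ∈ invOf ⁅a, b⁆ := h2 ▸ Subgroup.mem_top w
          exact this
      have ctx := mk M hMQ hTM hHM (fun _ => hexc)
      exact hM1 (ctx.eq_bot (le_of_eq hMT.symm))
  · have ctx := mk M hMQ hTM hHM (fun h => absurd h hu2)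
    exact hM1 (ctx.eq_bot (le_of_eq hMT.symm))

/-- **Frobenius action theorem, general form.**  A finite group `X` acts on a finite abelian group
`W` of prime exponent `p`; `Q` a `u`-group, `T` a `t`-group, `|H|` divides the prime `s`, with
`H ≤ N(Q) ∩ N(T)`, `T ≤ N(Q)`, `C_T(H) = 1`, `C_W(H) = 1`, `p ≠ u`, `p ≠ s`.  Then `[Q, T]` acts
trivially on `W`. -/
theorem commutator_trivial {X : Type*} [Group X] [Finite X] {W : Type*} [CommGroup W] [Finite W]
    {p t u s : ℕ} [hp : Fact p.Prime] [ht : Fact t.Prime] [hu : Fact u.Prime] [hs : Fact s.Prime]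
    (α : X →* MulAut W) {Q T H : Subgroup X} (hyp : GHyp t u s Q T H) (hW : ∀ w : W, w ^ p = 1)
    (hpu : p ≠ u) (hps : p ≠ s) (hfix : ∀ w : W, (∀ h ∈ H, α h w = w) → w = 1) :
    ∀ x ∈ Q, ∀ y ∈ T, ∀ w : W, α ⁅x, y⁆ w = w := by
  intro x hx y hy w
  have h1 := main_aux p t u s hpu hps (Nat.card W) W rfl hW (Q.map α) (T.map α) (H.map α)
    (hyp.map α) (by
      intro w hw
      apply hfix w
      intro h hh
      exact hw (α h) ⟨h, hh, rfl⟩) (α x) ⟨x, hx, rfl⟩ (α y) ⟨y, hy, rfl⟩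
  rw [map_commutatorElement, h1, MulAut.one_apply]

end main

end Cfsg.Agent.Lib.Helper38.FrobExc
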