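import Mathlib
import Cfsg.Agent.Lib.Helper38.FrobExcF

/-!
# Frobenius action theorem, part G (helper38): representation form (S4306 MODULE [E])

`frob_kernel_trivial_on_quotient`: the statement requested by helper76 (#2494), for a field of prime
characteristic `p`: a `q`-group `Q`, a `t`-group `T₀` normalizing `Q`, an element `h` with `h ^ s = 1`
normalizing both, `C_{T₀}(h) = 1`, acting on a subspace `W` with `C_W(h) = 0` and `q, s ≠ p`
(`t = p` allowed).  Then `[Q, T₀]` acts trivially on `W`.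

Reduction to `commutator_trivial`: replace `W` by the finite additive subgroup generated by the
`⟨Q, T₀, h⟩`-orbit of one vector.
-/

set_option autoImplicit false
set_option linter.unusedSectionVars false
set_option linter.unusedVariables false

namespace Cfsg.Agent.Lib.Helper38.FrobExc

open scoped commutatorElement

section bridge

variable {X : Type*} [Group X] {𝔽 : Type*} [Field 𝔽] {E : Type*} [AddCommGroup E] [Module 𝔽 E]

/-- The elements of `X` mapping the subspace `W` into itself in both directions. -/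
def stabRep (ρ : X →* Module.End 𝔽 E) (W : Submodule 𝔽 E) : Subgroup X where
  carrier := {g | (∀ v ∈ W, ρ g v ∈ W) ∧ (∀ v ∈ W, ρ g⁻¹ v ∈ W)}
  one_mem' := ⟨fun v hv => by rw [map_one]; exact hv, fun v hv => by rw [inv_one, map_one]; exact hv⟩
  mul_mem' := fun {a b} ha hb => ⟨fun v hv => by
    rw [map_mul]; exact ha.1 _ (hb.1 v hv), fun v hv => by
    rw [mul_inv_rev, map_mul]; exact hb.2 _ (ha.2 v hv)⟩
  inv_mem' := fun {a} ha => ⟨ha.2, fun v hv => by rw [inv_inv]; exact ha.1 v hv⟩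

/-- The action of a subgroup `J` on an invariant additive subgroup `W₀`, written
multiplicatively. -/
@[reducible] def actOn (ρ : X →* Module.End 𝔽 E) (J : Subgroup X) (W₀ : AddSubgroup E)
    (hinv : ∀ g ∈ J, ∀ v ∈ W₀, ρ g v ∈ W₀) : MulDistribMulAction J (Multiplicative W₀) where
  smul g v := Multiplicative.ofAdd
    ⟨ρ (g : X) ((Multiplicative.toAdd v : W₀) : E), hinv g g.2 _ (Multiplicative.toAdd v).2⟩
  one_smul v := by
    apply Multiplicative.toAdd.injective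
    apply Subtype.ext
    show ρ ((1 : J) : X) ((Multiplicative.toAdd v : W₀) : E) = _
    rw [Subgroup.coe_one, map_one]; rfl
  mul_smul a b v := by
    apply Multiplicative.toAdd.injective
    apply Subtype.ext
    show ρ ((a * b : J) : X) ((Multiplicative.toAdd v : W₀) : E) =
      ρ (a : X) (ρ (b : X) ((Multiplicative.toAdd v : W₀) : E))
    rw [Subgroup.coe_mul, map_mul]; rfl
  smul_mul a v w := by
    apply Multiplicative.toAdd.injective
    apply Subtype.ext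
    show ρ (a : X) (((Multiplicative.toAdd v : W₀) : E) + ((Multiplicative.toAdd w : W₀) : E)) =
      ρ (a : X) ((Multiplicative.toAdd v : W₀) : E) + ρ (a : X) ((Multiplicative.toAdd w : W₀) : E)
    rw [map_add]
  smul_one a := by
    apply Multiplicative.toAdd.injective
    apply Subtype.ext
    show ρ (a : X) (0 : E) = 0
    rw [map_zero]

/-- **S4306 MODULE [E]**, without the unused hypotheses on the field. -/
theorem frob_kernel_trivial_aux [Finite X] (ρ : X →* Module.End 𝔽 E) (W : Submodule 𝔽 E)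
    {p q t s : ℕ} [hp : Fact p.Prime] [CharP 𝔽 p] [Fact q.Prime] [Fact t.Prime] [Fact s.Prime]
    (hqt : q ≠ t) (hqs : q ≠ s) (hts : t ≠ s) (hq𝔽 : (q : 𝔽) ≠ 0) (hs𝔽 : (s : 𝔽) ≠ 0)
    (Q T₀ : Subgroup X) (h : X) (hQ : IsPGroup q Q) (hT : IsPGroup t T₀) (hh : h ^ s = 1)
    (hhQ : h ∈ Subgroup.normalizer (Q : Set X)) (hhT : h ∈ Subgroup.normalizer (T₀ : Set X))
    (hTQ : T₀ ≤ Subgroup.normalizer (Q : Set X)) (hfpfT : ∀ y ∈ T₀, y * h = h * y → y = 1)
    (hWQ : ∀ g ∈ Q, ∀ w ∈ W, ρ g w ∈ W) (hWT : ∀ g ∈ T₀, ∀ w ∈ W, ρ g w ∈ W)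
    (hWh : ∀ w ∈ W, ρ h w ∈ W) (hfix : ∀ w ∈ W, ρ h w = w → w = 0) :
    ∀ x ∈ Q, ∀ y ∈ T₀, ∀ w ∈ W, ρ ⁅x, y⁆ w = w := by
  intro x hx y hy w hw
  have hpq : p ≠ q := by
    rintro rfl
    exact hq𝔽 (CharP.cast_eq_zero 𝔽 p)
  have hps : p ≠ s := by
    rintro rfl
    exact hs𝔽 (CharP.cast_eq_zero 𝔽 p)
  -- the group `J = ⟨Q, T₀, h⟩` stabilizes `W`
  set J : Subgroup X := Q ⊔ T₀ ⊔ Subgroup.zpowers h with hJ
  have hQJ : Q ≤ J := le_sup_left.trans le_sup_left
  have hTJ : T₀ ≤ J := le_sup_right.trans le_sup_left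
  have hHJ : Subgroup.zpowers h ≤ J := le_sup_right
  have hhS : h ∈ stabRep ρ W := by
    refine ⟨hWh, ?_⟩
    have hpow : ∀ k : ℕ, ∀ v ∈ W, ρ (h ^ k) v ∈ W := by
      intro k
      induction k with
      | zero => intro v hv; rw [pow_zero, map_one]; exact hv
      | succ k ih => intro v hv; rw [pow_succ, map_mul]; exact ih _ (hWh v hv)
    have hs1 : 1 ≤ s := (Fact.out : s.Prime).one_le
    have hinv : h⁻¹ = h ^ (s - 1) := by
      apply inv_eq_of_mul_eq_one_right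
      rw [← pow_succ', Nat.sub_add_cancel hs1, hh]
    rw [hinv]
    exact hpow _
  have hJS : J ≤ stabRep ρ W := by
    refine sup_le (sup_le ?_ ?_) ?_
    · intro g hg; exact ⟨hWQ g hg, hWQ g⁻¹ (Q.inv_mem hg)⟩
    · intro g hg; exact ⟨hWT g hg, hWT g⁻¹ (T₀.inv_mem hg)⟩
    · exact Subgroup.zpowers_le.mpr hhS
  -- the finite subgroup `W₀`
  set W₀ : AddSubgroup E := AddSubgroup.closure (Set.range (fun g : J => ρ (g : X) w)) with hW₀
  have hW₀W : ∀ v ∈ W₀, v ∈ W := by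
    intro v hv
    have : W₀ ≤ W.toAddSubgroup := by
      rw [hW₀, AddSubgroup.closure_le]
      rintro _ ⟨g, rfl⟩
      exact (hJS g.2).1 w hw
    exact this hv
  have hinv : ∀ g ∈ J, ∀ v ∈ W₀, ρ g v ∈ W₀ := by
    intro g hg v hv
    induction hv using AddSubgroup.closure_induction with
    | mem z hz =>
      obtain ⟨g', rfl⟩ := hz
      apply AddSubgroup.subset_closure
      refine ⟨⟨g, hg⟩ * g', ?_⟩
      show ρ (g * (g' : X)) w = ρ g (ρ (g' : X) w)
      rw [map_mul]; rfl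
    | zero => rw [map_zero]; exact AddSubgroup.zero_mem _
    | add a b _ _ iha ihb => rw [map_add]; exact AddSubgroup.add_mem _ iha ihb
    | neg a _ iha => rw [map_neg]; exact AddSubgroup.neg_mem _ iha
  have hwW₀ : w ∈ W₀ := by
    apply AddSubgroup.subset_closure
    refine ⟨1, ?_⟩
    show ρ ((1 : J) : X) w = w
    rw [Subgroup.coe_one, map_one]; rfl
  have hpE : ∀ v : E, p • v = 0 := by
    intro v
    rw [← Nat.cast_smul_eq_nsmul 𝔽, CharP.cast_eq_zero 𝔽 p, zero_smul]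
  have hfg : AddGroup.FG W₀ := AddGroup.closure_finite_fg _
  have hfin : Finite W₀ := by
    apply AddCommGroup.finite_of_fg_isAddTorsion
    intro v
    rw [isOfFinAddOrder_iff_nsmul_eq_zero]
    refine ⟨p, hp.out.pos, ?_⟩
    apply Subtype.ext
    rw [AddSubgroup.coe_nsmul]
    exact hpE _
  have hfinM : Finite (Multiplicative W₀) := hfin
  let act := actOn ρ J W₀ hinv
  let α : J →* MulAut (Multiplicative W₀) := MulDistribMulAction.toMulAut J (Multiplicative W₀)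
  have hα : ∀ (g : J) (v : W₀), ((Multiplicative.toAdd (α g (Multiplicative.ofAdd v)) : W₀) : E) =
      ρ (g : X) (v : E) := fun g v => rfl
  -- the hypotheses
  have hyp0 : GHyp t q s Q T₀ (Subgroup.zpowers h) := by
    refine ⟨hQ, hT, ?_, hqt.symm, hts, hqs, Subgroup.zpowers_le.mpr hhQ, hTQ,
      Subgroup.zpowers_le.mpr hhT, ?_⟩
    · rw [Nat.card_zpowers]
      exact orderOf_dvd_of_pow_eq_one hh
    · rw [eq_bot_iff]
      rintro z ⟨hzT, hzC⟩
      rw [Subgroup.mem_bot]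
      apply hfpfT z hzT
      have hzC' : z ∈ Subgroup.centralizer ((Subgroup.zpowers h : Subgroup X) : Set X) := hzC
      exact ((Subgroup.mem_centralizer_iff.mp hzC') h (Subgroup.mem_zpowers h)).symm
  have hyp := hyp0.subgroupOf J hQJ hTJ hHJ
  have key := commutator_trivial (p := p) α hyp (by
      intro v
      apply Multiplicative.toAdd.injective
      apply Subtype.ext
      show ((p • (Multiplicative.toAdd v) : W₀) : E) = 0
      rw [AddSubgroup.coe_nsmul]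
      exact hpE _) hpq hps (by
      intro v hv
      apply Multiplicative.toAdd.injective
      apply Subtype.ext
      show ((Multiplicative.toAdd v : W₀) : E) = 0
      apply hfix _ (hW₀W _ (Multiplicative.toAdd v).2)
      have h1 := hv ⟨h, hHJ (Subgroup.mem_zpowers h)⟩
        (Subgroup.mem_subgroupOf.mpr (Subgroup.mem_zpowers h))
      have h2 := hα ⟨h, hHJ (Subgroup.mem_zpowers h)⟩ (Multiplicative.toAdd v)
      rw [ofAdd_toAdd, h1] at h2
      exact h2.symm)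
    ⟨x, hQJ hx⟩ (Subgroup.mem_subgroupOf.mpr hx) ⟨y, hTJ hy⟩ (Subgroup.mem_subgroupOf.mpr hy)
    (Multiplicative.ofAdd ⟨w, hwW₀⟩)
  have h3 := hα ⁅(⟨x, hQJ hx⟩ : J), ⟨y, hTJ hy⟩⁆ ⟨w, hwW₀⟩
  rw [key] at h3
  exact h3.symm

/-- **S4306 MODULE [E]** (helper76 #2494), with `𝔽` of prime characteristic `p`. -/
theorem frob_kernel_trivial_on_quotient [Finite X] [IsAlgClosed 𝔽] [FiniteDimensional 𝔽 E]
    (ρ : X →* Module.End 𝔽 E) (W : Submodule 𝔽 E)
    {p q t s : ℕ} [Fact p.Prime] [CharP 𝔽 p] [Fact q.Prime] [Fact t.Prime] [Fact s.Prime]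
    (hqt : q ≠ t) (hqs : q ≠ s) (hts : t ≠ s) (hq𝔽 : (q : 𝔽) ≠ 0) (hs𝔽 : (s : 𝔽) ≠ 0)
    (Q T₀ : Subgroup X) (h : X) (hQ : IsPGroup q Q) (hT : IsPGroup t T₀) (hh : h ^ s = 1)
    (hhQ : h ∈ Subgroup.normalizer (Q : Set X)) (hhT : h ∈ Subgroup.normalizer (T₀ : Set X))
    (hTQ : T₀ ≤ Subgroup.normalizer (Q : Set X)) (hfpfT : ∀ y ∈ T₀, y * h = h * y → y = 1)
    (hWQ : ∀ g ∈ Q, ∀ w ∈ W, ρ g w ∈ W) (hWT : ∀ g ∈ T₀, ∀ w ∈ W, ρ g w ∈ W)
    (hWh : ∀ w ∈ W, ρ h w ∈ W) (hfix : ∀ w ∈ W, ρ h w = w → w = 0) :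
    ∀ x ∈ Q, ∀ y ∈ T₀, ∀ w ∈ W, ρ ⁅x, y⁆ w = w :=
  frob_kernel_trivial_aux ρ W (p := p) hqt hqs hts hq𝔽 hs𝔽 Q T₀ h hQ hT hh hhQ hhT hTQ hfpfT hWQ hWT
    hWh hfix

end bridge

end Cfsg.Agent.Lib.Helper38.FrobExc
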