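import Mathlib
import Cfsg.Agent.Lib.Helper38.AnisoQuad

/-!
# GOUT block PL: the quadratic package of a class-two `2`-group

`Q` a group whose squares and commutators are central, `R` acting on `Q` and fixing the centre pointwise,
elements with `a ^ 2 = 1` central.  With `U = Q/Z(Q)` and `W = Z(Q)/{z²}` (given abstractly by surjections
`π`, `κ`), squaring induces an anisotropic `R`-invariant quadratic map `U → W`; by Claim Q
(`Helper38.AnisoQuad`) the image of `R` in `Aut U` is solvable.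
-/

set_option autoImplicit false

namespace Cfsg.Agent.Lib.Helper38.GOutPL

open scoped commutatorElement

universe u

/-- An abelian quotient, packaged as an additive group with a surjection. -/
theorem exists_abelian_quot {G : Type u} [Group G] (N : Subgroup G) [hN : N.Normal]
    (hc : ∀ a b : G, a * b * a⁻¹ * b⁻¹ ∈ N) :
    ∃ (U : Type u) (_ : AddCommGroup U) (π : G → U),
      Function.Surjective π ∧ (∀ a b : G, π (a * b) = π a + π b) ∧ (∀ a : G, π a = 0 ↔ a ∈ N) := by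
  have hcomm : ∀ x y : G ⧸ N, x * y = y * x := by
    intro x y
    obtain ⟨a, rfl⟩ := QuotientGroup.mk_surjective x
    obtain ⟨b, rfl⟩ := QuotientGroup.mk_surjective y
    rw [← QuotientGroup.mk_mul, ← QuotientGroup.mk_mul, QuotientGroup.eq]
    have h1 := hc b⁻¹ a⁻¹
    have e : (a * b)⁻¹ * (b * a) = b⁻¹ * a⁻¹ * b⁻¹⁻¹ * a⁻¹⁻¹ := by group
    rw [e]
    exact h1
  let cg : CommGroup (G ⧸ N) := { (inferInstance : Group (G ⧸ N)) with mul_comm := hcomm }
  refine ⟨Additive (G ⧸ N), @Additive.addCommGroup _ cg,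
    fun a => Additive.ofMul (QuotientGroup.mk a), ?_, ?_, ?_⟩
  · intro x
    obtain ⟨a, ha⟩ := QuotientGroup.mk_surjective (Additive.toMul x)
    exact ⟨a, by show Additive.ofMul (QuotientGroup.mk a) = x; rw [ha]; rfl⟩
  · intro a b
    rfl
  · intro a
    show Additive.ofMul (QuotientGroup.mk a : G ⧸ N) = Additive.ofMul 1 ↔ a ∈ N
    rw [Additive.ofMul.injective.eq_iff, QuotientGroup.eq_one_iff]

/-- The abstract data. -/
structure Pkg {Q : Type*} [Group Q] {R : Type*} [Group R] (α : R →* MulAut Q)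
    (U W : Type*) [AddCommGroup U] [AddCommGroup W] where
  π : Q → U
  κ : Subgroup.center Q → W
  π_surj : Function.Surjective π
  π_mul : ∀ a b, π (a * b) = π a + π b
  π_ker : ∀ a, π a = 0 ↔ a ∈ Subgroup.center Q
  κ_surj : Function.Surjective κ
  κ_mul : ∀ z z', κ (z * z') = κ z + κ z'
  κ_ker : ∀ z, κ z = 0 ↔ ∃ z' : Subgroup.center Q, z' ^ 2 = z
  sq_mem : ∀ a : Q, a ^ 2 ∈ Subgroup.center Q
  comm_mem : ∀ a b : Q, ⁅a, b⁆ ∈ Subgroup.center Q
  fixZ : ∀ (r : R) (z : Q), z ∈ Subgroup.center Q → α r z = z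
  inv_central : ∀ a : Q, a ^ 2 = 1 → a ∈ Subgroup.center Q

namespace Pkg

variable {Q : Type*} [Group Q] {R : Type*} [Group R] {α : R →* MulAut Q}
  {U W : Type*} [AddCommGroup U] [AddCommGroup W] (p : Pkg α U W)

include p

theorem π_one : p.π 1 = 0 := (p.π_ker 1).mpr (Subgroup.one_mem _)

theorem π_inv (a : Q) : p.π a⁻¹ = - p.π a := by
  have h := p.π_mul a⁻¹ a
  rw [inv_mul_cancel, p.π_one] at h
  exact eq_neg_of_add_eq_zero_left h.symm

theorem π_eq_iff (a b : Q) : p.π a = p.π b ↔ a⁻¹ * b ∈ Subgroup.center Q := by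
  rw [← p.π_ker, p.π_mul, p.π_inv, neg_add_eq_zero]

/-- A set-theoretic section of `π`. -/
noncomputable def lift (x : U) : Q := Classical.choose (p.π_surj x)

theorem π_lift (x : U) : p.π (p.lift x) = x := Classical.choose_spec (p.π_surj x)

/-- The induced action on `U`. -/
noncomputable def act (r : R) (x : U) : U := p.π (α r (p.lift x))

theorem act_π (r : R) (a : Q) : p.act r (p.π a) = p.π (α r a) := by
  unfold act
  rw [p.π_eq_iff, ← map_inv, ← map_mul]
  have h1 : (p.lift (p.π a))⁻¹ * a ∈ Subgroup.center Q := (p.π_eq_iff _ _).mp (p.π_lift _)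
  rw [p.fixZ r _ h1]
  exact h1

/-- The induced action as a `DistribMulAction`. -/
@[reducible] noncomputable def dma : DistribMulAction R U where
  smul := p.act
  one_smul := by
    intro x
    obtain ⟨a, rfl⟩ := p.π_surj x
    show p.act 1 (p.π a) = p.π a
    rw [p.act_π, map_one]
    rfl
  mul_smul := by
    intro r s x
    obtain ⟨a, rfl⟩ := p.π_surj x
    show p.act (r * s) (p.π a) = p.act r (p.act s (p.π a))
    rw [p.act_π, p.act_π, p.act_π, map_mul]
    rfl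
  smul_zero := by
    intro r
    show p.act r 0 = 0
    rw [← p.π_one, p.act_π, map_one]
  smul_add := by
    intro r x y
    obtain ⟨a, rfl⟩ := p.π_surj x
    obtain ⟨b, rfl⟩ := p.π_surj y
    show p.act r (p.π a + p.π b) = p.act r (p.π a) + p.act r (p.π b)
    rw [← p.π_mul, p.act_π, p.act_π, p.act_π, map_mul, p.π_mul]

/-- The square, as an element of the centre. -/
def sqZ (a : Q) : Subgroup.center Q := ⟨a ^ 2, p.sq_mem a⟩

/-- The commutator, as an element of the centre. -/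
def kZ (a b : Q) : Subgroup.center Q := ⟨⁅b, a⁆, p.comm_mem b a⟩

/-- The quadratic map. -/
noncomputable def q (x : U) : W := p.κ (p.sqZ (p.lift x))

/-- Its polar form. -/
noncomputable def b (x y : U) : W := p.q (x + y) + p.q x + p.q y

theorem κ_sq (z : Subgroup.center Q) : p.κ (z ^ 2) = 0 := (p.κ_ker _).mpr ⟨z, rfl⟩

theorem hW (w : W) : w + w = 0 := by
  obtain ⟨z, rfl⟩ := p.κ_surj w
  rw [← p.κ_mul, ← sq, p.κ_sq]

theorem hU (x : U) : x + x = 0 := by
  obtain ⟨a, rfl⟩ := p.π_surj x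
  rw [← p.π_mul, ← sq, p.π_ker]
  exact p.sq_mem a

theorem q_π (a : Q) : p.q (p.π a) = p.κ (p.sqZ a) := by
  unfold q
  have h1 : a⁻¹ * p.lift (p.π a) ∈ Subgroup.center Q := (p.π_eq_iff _ _).mp (p.π_lift _).symm
  have hcomm : Commute a (a⁻¹ * p.lift (p.π a)) := Subgroup.mem_center_iff.mp h1 a
  have e : p.sqZ (p.lift (p.π a)) =
      p.sqZ a * (⟨a⁻¹ * p.lift (p.π a), h1⟩ : Subgroup.center Q) ^ 2 := by
    apply Subtype.ext
    show (p.lift (p.π a)) ^ 2 = a ^ 2 * (a⁻¹ * p.lift (p.π a)) ^ 2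
    rw [← hcomm.mul_pow, mul_inv_cancel_left]
  rw [e, p.κ_mul, p.κ_sq, add_zero]

theorem hq (x y : U) : p.q (x + y) = p.q x + p.q y + p.b x y := by
  unfold b
  have h1 := p.hW (p.q x)
  have h2 := p.hW (p.q y)
  calc p.q (x + y) = p.q (x + y) + (p.q x + p.q x) + (p.q y + p.q y) := by
        rw [h1, h2, add_zero, add_zero]
    _ = p.q x + p.q y + (p.q (x + y) + p.q x + p.q y) := by abel

theorem sq_mul (a c : Q) : (a * c) ^ 2 = a ^ 2 * c ^ 2 * ⁅c, a⁆ := by
  have hcen := Subgroup.mem_center_iff.mp (p.comm_mem c a)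
  have h1 : c * a = ⁅c, a⁆ * (a * c) := by rw [commutatorElement_def]; group
  generalize ⁅c, a⁆ = k at hcen h1 ⊢
  calc (a * c) ^ 2 = a * (c * a) * c := by rw [sq]; group
    _ = a * (k * (a * c)) * c := by rw [h1]
    _ = (a * k) * (a * c * c) := by group
    _ = (k * a) * (a * c * c) := by rw [hcen a]
    _ = k * (a ^ 2 * c ^ 2) := by rw [sq, sq]; group
    _ = a ^ 2 * c ^ 2 * k := (hcen _).symm

theorem b_π (a c : Q) : p.b (p.π a) (p.π c) = p.κ (p.kZ a c) := by
  unfold b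
  rw [← p.π_mul, p.q_π, p.q_π, p.q_π]
  have e : p.sqZ (a * c) = p.sqZ a * p.sqZ c * p.kZ a c := Subtype.ext (p.sq_mul a c)
  rw [e, p.κ_mul, p.κ_mul]
  have h1 := p.hW (p.κ (p.sqZ a))
  have h2 := p.hW (p.κ (p.sqZ c))
  calc p.κ (p.sqZ a) + p.κ (p.sqZ c) + p.κ (p.kZ a c) + p.κ (p.sqZ a) + p.κ (p.sqZ c)
      = (p.κ (p.sqZ a) + p.κ (p.sqZ a)) + (p.κ (p.sqZ c) + p.κ (p.sqZ c)) + p.κ (p.kZ a c) := by
        abel
    _ = p.κ (p.kZ a c) := by rw [h1, h2, zero_add, zero_add]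

theorem comm_mul (w a c : Q) : ⁅w, a * c⁆ = ⁅w, a⁆ * ⁅w, c⁆ := by
  have hcen := Subgroup.mem_center_iff.mp (p.comm_mem w c)
  have h1 : ⁅w, a * c⁆ = ⁅w, a⁆ * (a * ⁅w, c⁆ * a⁻¹) := by
    simp only [commutatorElement_def]
    group
  rw [h1, hcen a, mul_inv_cancel_right]

theorem hb (x y w : U) : p.b (x + y) w = p.b x w + p.b y w := by
  obtain ⟨a, rfl⟩ := p.π_surj x
  obtain ⟨c, rfl⟩ := p.π_surj y
  obtain ⟨d, rfl⟩ := p.π_surj w
  rw [← p.π_mul, p.b_π, p.b_π, p.b_π, ← p.κ_mul]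
  congr 1
  exact Subtype.ext (p.comm_mul d a c)

theorem haniso (x : U) (hx : p.q x = 0) : x = 0 := by
  obtain ⟨a, rfl⟩ := p.π_surj x
  rw [p.q_π, p.κ_ker] at hx
  obtain ⟨z, hz⟩ := hx
  have hz' : (z : Q) ^ 2 = a ^ 2 := by
    have := congrArg Subtype.val hz
    simpa [sqZ] using this
  rw [p.π_ker]
  have hzi : (z : Q)⁻¹ ∈ Subgroup.center Q := Subgroup.inv_mem _ z.2
  have hcomm : Commute a (z : Q)⁻¹ := Subgroup.mem_center_iff.mp hzi a
  have h1 : (a * (z : Q)⁻¹) ^ 2 = 1 := by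
    rw [hcomm.mul_pow, inv_pow, hz', mul_inv_cancel]
  have h2 := p.inv_central _ h1
  have e : a = (a * (z : Q)⁻¹) * z := by group
  rw [e]
  exact Subgroup.mul_mem _ h2 z.2

theorem q_act (r : R) (x : U) : p.q (p.act r x) = p.q x := by
  obtain ⟨a, rfl⟩ := p.π_surj x
  rw [p.act_π, p.q_π, p.q_π]
  congr 1
  apply Subtype.ext
  show (α r a) ^ 2 = a ^ 2
  rw [← map_pow, p.fixZ r _ (p.sq_mem a)]

end Pkg

end Cfsg.Agent.Lib.Helper38.GOutPL
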