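import Mathlib
import Cfsg.Agent.Lib.Helper76.GOut.PLDefs
import Cfsg.Agent.Lib.Helper30.GOutPLStab2
import Cfsg.Agent.Lib.Helper30.GOutPLComm

/-!
# GOUT block PL: the hypotheses `PLHyp` without the centrality of the involutions

`WHyp α` is `PLHyp α` with `inv` weakened to "elements with `u ^ 2 = 1` are fixed"; centrality follows:
the normal closure of these elements is fixed pointwise, and a normal subgroup that is fixed pointwise is
central because `[Q, R] = Q`.
-/

set_option autoImplicit false

namespace Cfsg.Agent.Lib.Helper38.GOutPL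

open Cfsg.Agent.Lib.Helper76.GOut

/-- `PLHyp` without the centrality of the elements of order at most two. -/
structure WHyp {Q R : Type*} [Group Q] [Group R] (α : R →* MulAut Q) : Prop where
  perf : commutator R = ⊤
  min : ∀ M : Subgroup Q, M ≠ ⊤ → (∀ r : R, ∀ u ∈ M, α r u ∈ M) → ∀ r : R, ∀ u ∈ M, α r u = u
  fix : ∀ u : Q, u ^ 2 = 1 → ∀ r : R, α r u = u
  nontriv : ∃ (r : R) (u : Q), α r u ≠ u

variable {Q R : Type*} [Group Q] [Group R] {α : R →* MulAut Q}

theorem _root_.Cfsg.Agent.Lib.Helper76.GOut.PLHyp.toWHyp38 (h : PLHyp α) : WHyp α :=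
  ⟨h.perf, h.min, fun u hu => (h.inv u hu).2, h.nontriv⟩

theorem WHyp.closure_comm_eq_top (h : WHyp α) : Subgroup.closure (commSet30 α) = ⊤ := by
  by_contra hne
  have hnorm : (Subgroup.closure (commSet30 α)).Normal := commClosure_normal30 α
  have hfix := h.min (Subgroup.closure (commSet30 α)) hne
    (fun r u hu => commClosure_invariant30 α r u hu)
  have htriv := trivial_of_stab2 α h.perf (Subgroup.closure (commSet30 α)) hfix
    (fun r u => Subgroup.subset_closure ⟨r, u, rfl⟩)
  obtain ⟨r, u, hru⟩ := h.nontriv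
  exact hru (htriv r u)

/-- A normal subgroup that is fixed pointwise is central. -/
theorem WHyp.le_center_of_fixed (h : WHyp α) (M : Subgroup Q) [hM : M.Normal]
    (hfix : ∀ r : R, ∀ u ∈ M, α r u = u) : M ≤ Subgroup.center Q := by
  intro m hm
  have hcl : Subgroup.closure (commSet30 α) ≤ Subgroup.centralizer {m} := by
    rw [Subgroup.closure_le]
    rintro x ⟨r, u, rfl⟩
    rw [SetLike.mem_coe, Subgroup.mem_centralizer_iff]
    intro y hy
    rw [Set.mem_singleton_iff] at hy
    subst hy
    have h1 : u * y * u⁻¹ ∈ M := hM.conj_mem y hm u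
    have h2 := hfix r _ h1
    rw [map_mul, map_mul, map_inv, hfix r y hm] at h2
    calc y * (u⁻¹ * α r u) = u⁻¹ * (u * y * u⁻¹) * α r u := by group
      _ = u⁻¹ * (α r u * y * (α r u)⁻¹) * α r u := by rw [h2]
      _ = u⁻¹ * α r u * y := by group
  rw [h.closure_comm_eq_top] at hcl
  rw [Subgroup.mem_center_iff]
  intro g
  have h3 := hcl (Subgroup.mem_top g)
  rw [Subgroup.mem_centralizer_iff] at h3
  exact (h3 m rfl).symm

/-- A proper invariant normal subgroup is central. -/
theorem WHyp.le_center_of_normal (h : WHyp α) (M : Subgroup Q) [M.Normal] (hM : M ≠ ⊤)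
    (hinv : ∀ r : R, ∀ u ∈ M, α r u ∈ M) : M ≤ Subgroup.center Q :=
  h.le_center_of_fixed M (h.min M hM hinv)

/-- The elements with `u ^ 2 = 1` are central. -/
theorem WHyp.mem_center_of_sq (h : WHyp α) (u : Q) (hu : u ^ 2 = 1) : u ∈ Subgroup.center Q := by
  have hfix : ∀ r : R, ∀ x ∈ Subgroup.normalClosure {x : Q | x ^ 2 = 1}, α r x = x := by
    intro r x hx
    induction hx using Subgroup.closure_induction with
    | mem x hx =>
      rw [Group.mem_conjugatesOfSet_iff] at hx
      obtain ⟨y, hy, hyx⟩ := hx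
      rw [isConj_iff] at hyx
      obtain ⟨c, rfl⟩ := hyx
      apply h.fix
      rw [conj_pow, (show y ^ 2 = 1 from hy)]
      group
    | one => exact map_one _
    | mul x y _ _ hx hy => rw [map_mul, hx, hy]
    | inv x _ hx => rw [map_inv, hx]
  exact h.le_center_of_fixed _ hfix (Subgroup.subset_normalClosure hu)

theorem WHyp.toPLHyp (h : WHyp α) : PLHyp α :=
  ⟨h.perf, h.min, fun u hu => ⟨h.mem_center_of_sq u hu, h.fix u hu⟩, h.nontriv⟩

end Cfsg.Agent.Lib.Helper38.GOutPL
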