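import Mathlib
import Cfsg.Agent.S0205
import Cfsg.Agent.Lib.Helper76.GOut.PLDefs
import Cfsg.Agent.Lib.Helper30.GOutPLStab2
import Cfsg.Agent.Lib.Helper30.GOutPLComm
import Cfsg.Agent.Lib.Helper30.GOutPLNonab
import Cfsg.Agent.Lib.Helper38.GOutPLPkg
import Cfsg.Agent.Lib.Helper38.GOutPLWeak

/-!
# GOUT block PL: `PL_core` in one step

From `PLHyp α`: `Q` has class two with `Q/Z(Q)` elementary abelian, `R` fixes `Z(Q)` pointwise; the
quadratic package (`GOutPLPkg`) and Claim Q give that the image of `R` in `Aut (Q/Z(Q))` is solvable, hence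
trivial (`R` is perfect); `trivial_of_stab2` finishes.
-/

set_option autoImplicit false
set_option linter.style.haveILetI false
set_option linter.unusedSectionVars false

namespace Cfsg.Agent.Lib.Helper38.GOutPL

open Cfsg.Agent.Lib.Helper76.GOut
open scoped commutatorElement

universe u v

section assembly

variable {Q : Type u} [Group Q] {R : Type v} [Group R] {α : R →* MulAut Q}
  {U W : Type u} [AddCommGroup U] [AddCommGroup W]

/-- The package is contradictory for a perfect group acting nontrivially. -/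
theorem Pkg.false_of [Finite R] (p : Pkg α U W) (hperf : commutator R = ⊤)
    (hnt : ∃ (r : R) (a : Q), α r a ≠ a)
    (hFT : ∀ (K : Type u) [Group K] [Finite K], Odd (Nat.card K) → Group.IsSolvable K) : False := by
  letI : DistribMulAction R U := p.dma
  have hsmul : ∀ (r : R) (x : U), r • x = p.act r x := fun _ _ => rfl
  let T : R →* Equiv.Perm U := MulAction.toPermHom R U
  have hT : ∀ (r : R) (x : U), T r x = r • x := fun _ _ => rfl
  let R' : Subgroup (Equiv.Perm U) := T.range
  haveI : Finite R' := Finite.of_surjective T.rangeRestrict T.rangeRestrict_surjective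
  letI : DistribMulAction R' U :=
    { smul := fun g x => (g : Equiv.Perm U) x
      one_smul := fun _ => rfl
      mul_smul := fun _ _ _ => rfl
      smul_zero := by
        rintro ⟨g, r, rfl⟩
        exact smul_zero r
      smul_add := by
        rintro ⟨g, r, rfl⟩ x y
        exact smul_add r x y }
  have hsmul' : ∀ (g : R') (x : U), g • x = (g : Equiv.Perm U) x := fun _ _ => rfl
  haveI : FaithfulSMul R' U := by
    refine ⟨fun {g g'} hgg => Subtype.ext (Equiv.ext fun x => ?_)⟩
    have := hgg x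
    rwa [hsmul', hsmul'] at this
  have hyp : AnisoQuad.Hyp R' p.q p.b := by
    refine ⟨p.hW, p.hU, p.hq, p.hb, p.haniso, ?_⟩
    rintro ⟨g, r, rfl⟩ x
    show p.q (T r x) = p.q x
    rw [hT, hsmul]
    exact p.q_act r x
  haveI hsolv : Group.IsSolvable R' := hyp.isSolvable_of (fun K hK => hFT K hK)
  have hcomm' : commutator R' = ⊤ := by
    have h1 : (commutator R).map T.rangeRestrict = commutator R' := by
      rw [commutator_def, commutator_def, Subgroup.map_commutator, ← MonoidHom.range_eq_map,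
        MonoidHom.range_eq_top.mpr T.rangeRestrict_surjective]
    rw [← h1, hperf, ← MonoidHom.range_eq_map, MonoidHom.range_eq_top.mpr T.rangeRestrict_surjective]
  have htriv : ∀ r : R, T r = 1 := by
    by_contra hne
    push Not at hne
    obtain ⟨r, hr⟩ := hne
    haveI : Nontrivial R' := ⟨⟨⟨T r, r, rfl⟩, 1, fun h => hr (congrArg Subtype.val h)⟩⟩
    exact (Group.IsSolvable.commutator_lt_top_of_nontrivial R').ne hcomm'
  obtain ⟨r0, a0, hra⟩ := hnt
  apply hra
  refine trivial_of_stab2 α hperf (Subgroup.center Q) p.fixZ (fun r a => ?_) r0 a0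
  rw [← p.π_eq_iff, ← p.act_π, ← hsmul, ← hT, htriv r]
  rfl

end assembly

section core

variable {Q : Type u} {R : Type v} [Group Q] [Finite Q] [Group R] {α : R →* MulAut Q}

theorem center_ne_top38 (hQ : IsPGroup 2 Q) (h : PLHyp α) : Subgroup.center Q ≠ ⊤ := by
  intro htop
  apply not_commutative hQ h
  intro a c
  have : c ∈ Subgroup.center Q := by rw [htop]; exact Subgroup.mem_top c
  exact Subgroup.mem_center_iff.mp this a

theorem center_invariant38 (φ : MulAut Q) (z : Q) (hz : z ∈ Subgroup.center Q) :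
    φ z ∈ Subgroup.center Q :=
  (Subgroup.characteristic_iff_le_comap.mp inferInstance) φ hz

theorem center_fixed38 (hQ : IsPGroup 2 Q) (h : PLHyp α) (r : R) (z : Q)
    (hz : z ∈ Subgroup.center Q) : α r z = z :=
  h.min _ (center_ne_top38 hQ h) (fun r u hu => center_invariant38 (α r) u hu) r z hz

theorem comm_mem_center38 (hQ : IsPGroup 2 Q) (h : PLHyp α) (a c : Q) :
    ⁅a, c⁆ ∈ Subgroup.center Q := by
  haveI : Fact (Nat.Prime 2) := ⟨Nat.prime_two⟩
  obtain ⟨r0, u0, hru0⟩ := h.nontriv
  haveI : Nontrivial Q := ⟨⟨u0, 1, by rintro rfl; exact hru0 (map_one _)⟩⟩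
  haveI : Group.IsNilpotent Q := hQ.isNilpotent
  have hlt : commutator Q < ⊤ := Group.IsSolvable.commutator_lt_top_of_nontrivial Q
  have hinv : ∀ r : R, ∀ u ∈ commutator Q, α r u ∈ commutator Q := fun r u hu =>
    (Subgroup.characteristic_iff_le_comap.mp inferInstance) (α r) hu
  have hle := h.toWHyp38.le_center_of_normal (commutator Q) hlt.ne hinv
  apply hle
  rw [commutator_eq_closure]
  exact Subgroup.subset_closure ⟨a, c, rfl⟩

theorem exists_sq_mem_center38 (hQ : IsPGroup 2 Q) (h : PLHyp α) :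
    ∃ c : Q, c ∉ Subgroup.center Q ∧ c ^ 2 ∈ Subgroup.center Q := by
  classical
  obtain ⟨a, haZ⟩ : ∃ a : Q, a ∉ Subgroup.center Q := by
    by_contra hall
    push Not at hall
    exact center_ne_top38 hQ h ((Subgroup.eq_top_iff' _).mpr hall)
  have hex : ∃ k : ℕ, a ^ 2 ^ k ∈ Subgroup.center Q := by
    obtain ⟨k, hk⟩ := hQ a
    exact ⟨k, by rw [hk]; exact Subgroup.one_mem _⟩
  have hk0 : Nat.find hex ≠ 0 := by
    intro h0
    have := Nat.find_spec hex
    rw [h0, pow_zero, pow_one] at this
    exact haZ this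
  obtain ⟨k, hk⟩ := Nat.exists_eq_succ_of_ne_zero hk0
  refine ⟨a ^ 2 ^ k, ?_, ?_⟩
  · exact Nat.find_min hex (by omega)
  · have := Nat.find_spec hex
    rw [hk, pow_succ, pow_mul] at this
    exact this

theorem sq_mem_center38 (hQ : IsPGroup 2 Q) (h : PLHyp α) (a : Q) :
    a ^ 2 ∈ Subgroup.center Q := by
  have hcm := comm_mem_center38 hQ h
  obtain ⟨U, instU, π, hπs, hπm, hπk⟩ := exists_abelian_quot (Subgroup.center Q)
    (fun a c => by rw [← commutatorElement_def]; exact hcm a c)
  have hπ1 : π 1 = 0 := (hπk 1).mpr (Subgroup.one_mem _)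
  have hπinv : ∀ a, π a⁻¹ = -π a := by
    intro a
    have h1 := hπm a⁻¹ a
    rw [inv_mul_cancel, hπ1] at h1
    exact eq_neg_of_add_eq_zero_left h1.symm
  have hπeq : ∀ a c, π a = π c ↔ a⁻¹ * c ∈ Subgroup.center Q := by
    intro a c
    rw [← hπk, hπm, hπinv, neg_add_eq_zero]
  let M : Subgroup Q :=
    { carrier := {a | ∃ c : Q, π a = π c + π c}
      one_mem' := ⟨1, by rw [hπ1, add_zero]⟩
      mul_mem' := by
        rintro a a' ⟨c, hc⟩ ⟨c', hc'⟩
        exact ⟨c * c', by rw [hπm, hπm, hc, hc']; abel⟩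
      inv_mem' := by
        rintro a ⟨c, hc⟩
        exact ⟨c⁻¹, by rw [hπinv, hπinv, hc]; abel⟩ }
  have hMn : M.Normal := ⟨fun n ⟨c, hc⟩ g => ⟨c, by rw [hπm, hπm, hπinv, ← hc]; abel⟩⟩
  have hMinv : ∀ r : R, ∀ u ∈ M, α r u ∈ M := by
    rintro r u ⟨c, hc⟩
    refine ⟨α r c, ?_⟩
    rw [← hπm, eq_comm, hπeq] at hc
    have h1 := center_invariant38 (α r) _ hc
    rw [map_mul, map_inv, ← hπeq, map_mul, hπm] at h1
    exact h1.symm
  have hMtop : M ≠ ⊤ := by
    intro htop
    have hsurj : Function.Surjective (fun x : U => x + x) := by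
      intro x
      obtain ⟨a, rfl⟩ := hπs x
      have ha : a ∈ M := by rw [htop]; exact Subgroup.mem_top a
      obtain ⟨c, hc⟩ := ha
      exact ⟨π c, hc.symm⟩
    haveI : Finite U := Finite.of_surjective π hπs
    have hinj := Finite.injective_iff_surjective.mpr hsurj
    obtain ⟨c, hcZ, hc2⟩ := exists_sq_mem_center38 hQ h
    apply hcZ
    rw [← hπk]
    apply hinj
    show π c + π c = 0 + 0
    rw [← hπm, ← sq, add_zero, hπk]
    exact hc2
  have hle := h.toWHyp38.le_center_of_normal M hMtop hMinv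
  apply hle
  exact ⟨a, by rw [sq, hπm]⟩

/-- **PL_core** (the statement of `Helper76.GOut.PL_core`), in one step via Claim Q. -/
theorem PL_core [Finite R] (hQ : IsPGroup 2 Q) (h : PLHyp α) : False := by
  have hcm := comm_mem_center38 hQ h
  have hsq := sq_mem_center38 hQ h
  have hfix := center_fixed38 hQ h
  obtain ⟨U, instU, π, hπs, hπm, hπk⟩ := exists_abelian_quot (Subgroup.center Q)
    (fun a c => by rw [← commutatorElement_def]; exact hcm a c)
  have hZc : ∀ a c : Subgroup.center Q, a * c = c * a := fun a c =>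
    Subtype.ext (Subgroup.mem_center_iff.mp c.2 a)
  let S : Subgroup (Subgroup.center Q) :=
    { carrier := {z | ∃ z' : Subgroup.center Q, z' ^ 2 = z}
      one_mem' := ⟨1, one_pow 2⟩
      mul_mem' := by
        rintro _ _ ⟨a, rfl⟩ ⟨c, rfl⟩
        exact ⟨a * c, Commute.mul_pow (hZc a c) 2⟩
      inv_mem' := by
        rintro _ ⟨a, rfl⟩
        exact ⟨a⁻¹, inv_pow a 2⟩ }
  have hSn : S.Normal := by
    refine ⟨fun n hn g => ?_⟩
    have e : g * n * g⁻¹ = n := by rw [hZc g n, mul_inv_cancel_right]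
    rw [e]
    exact hn
  obtain ⟨W, instW, κ, hκs, hκm, hκk⟩ := exists_abelian_quot S
    (fun a c => by
      have e : a * c * a⁻¹ * c⁻¹ = 1 := by rw [hZc a c, mul_inv_cancel_right, mul_inv_cancel]
      rw [e]
      exact Subgroup.one_mem _)
  let p : Pkg α U W :=
    { π := π, κ := κ, π_surj := hπs, π_mul := hπm, π_ker := hπk, κ_surj := hκs, κ_mul := hκm
      κ_ker := fun z => hκk z
      sq_mem := hsq, comm_mem := hcm, fixZ := hfix
      inv_central := fun a ha => (h.inv a ha).1 }
  exact p.false_of h.perf h.nontriv (fun K _ _ hK => Cfsg.Agent.S0205.result hK)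

end core

end Cfsg.Agent.Lib.Helper38.GOutPL
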