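import Mathlib
import Cfsg.Agent.Lib.Helper14.GOut.PLPerf
import Cfsg.Agent.Lib.Helper38.GOutPLCore

/-!
# GOUT block PL, general form: for ANY finite `2`-group `T` the group `cOmega T` of automorphisms fixing
every `x` with `x ^ 2 = 1` is solvable (no centrality hypothesis).
-/

set_option autoImplicit false
set_option linter.style.haveILetI false

namespace Cfsg.Agent.Lib.Helper38.GOutPL

open Cfsg.Agent.Lib.Helper76.GOut

universe u v

/-- Restriction of an action by automorphisms to an invariant subgroup. -/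
def restrictHom {P : Type u} [Group P] {R : Type v} [Group R] (act : R →* MulAut P)
    (Q0 : Subgroup P) (hinv : ∀ r : R, ∀ u ∈ Q0, act r u ∈ Q0) : R →* MulAut Q0 where
  toFun r :=
    { toFun := fun u => ⟨act r u, hinv r u u.2⟩
      invFun := fun u => ⟨act r⁻¹ u, hinv r⁻¹ u u.2⟩
      left_inv := fun u => Subtype.ext (by simp)
      right_inv := fun u => Subtype.ext (by simp)
      map_mul' := fun u v => Subtype.ext (by simp) }
  map_one' := by
    ext u
    simp
  map_mul' := fun r s => by
    ext u
    simp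

theorem restrictHom_apply {P : Type u} [Group P] {R : Type v} [Group R] (act : R →* MulAut P)
    (Q0 : Subgroup P) (hinv : ∀ r : R, ∀ u ∈ Q0, act r u ∈ Q0) (r : R) (u : Q0) :
    ((restrictHom act Q0 hinv r u : Q0) : P) = act r u := rfl

/-- **PL, general form.** -/
theorem PL_gen {T : Type u} [Group T] [Finite T] (hT : IsPGroup 2 T) :
    Group.IsSolvable (cOmega T) := by
  by_contra hns
  haveI : Finite (MulAut T) :=
    Finite.of_injective (fun φ : MulAut T => (φ : T → T)) DFunLike.coe_injective
  obtain ⟨R, hRne, hRperf⟩ := Cfsg.Agent.Lib.Helper14.GOut.exists_perfect_of_not_solvable hns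
  let act : ↥R →* MulAut T := (cOmega T).subtype.comp R.subtype
  have hact : ∀ (r : R) (x : T), x ^ 2 = 1 → act r x = x := fun r x hx => (r : cOmega T).2 x hx
  let 𝒮 : Set (Subgroup T) :=
    {M | (∀ r : R, ∀ u ∈ M, act r u ∈ M) ∧ ∃ r : R, ∃ u ∈ M, act r u ≠ u}
  have htop : ⊤ ∈ 𝒮 := by
    refine ⟨fun _ _ _ => Subgroup.mem_top _, ?_⟩
    obtain ⟨r, hr1⟩ := (Subgroup.ne_bot_iff_exists_ne_one).mp hRne
    by_contra hall
    push Not at hall
    apply hr1
    apply Subtype.ext
    apply Subtype.ext
    apply MulEquiv.ext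
    intro x
    exact hall r x (Subgroup.mem_top x)
  obtain ⟨Q0, hQ0, hmin⟩ := wellFounded_lt.has_min 𝒮 ⟨⊤, htop⟩
  obtain ⟨hinv, r0, u0, hu0, hru0⟩ := hQ0
  have hW : WHyp (restrictHom act Q0 hinv) := by
    refine ⟨hRperf, ?_, ?_, ⟨r0, ⟨u0, hu0⟩, fun h => hru0 (congrArg Subtype.val h)⟩⟩
    · intro M hM hMinv r u hu
      by_contra hne
      have hM' : M.map Q0.subtype ∈ 𝒮 := by
        refine ⟨?_, r, u, Subgroup.mem_map_of_mem _ hu, fun h => hne (Subtype.ext h)⟩
        rintro s _ ⟨v, hv, rfl⟩
        exact ⟨restrictHom act Q0 hinv s v, hMinv s v hv, rfl⟩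
      have hlt : M.map Q0.subtype < Q0 := by
        refine lt_of_le_of_ne (Subgroup.map_subtype_le M) ?_
        intro heq
        apply hM
        rw [eq_top_iff]
        intro v _
        have hv : (v : T) ∈ M.map Q0.subtype := by rw [heq]; exact v.2
        obtain ⟨w, hw, hwv⟩ := hv
        have : w = v := Subtype.ext hwv
        rwa [← this]
      exact hmin _ hM' hlt
    · intro u hu r
      apply Subtype.ext
      rw [restrictHom_apply]
      apply hact
      have := congrArg Subtype.val hu
      simpa using this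
  exact PL_core (hT.to_subgroup Q0) hW.toPLHyp

end Cfsg.Agent.Lib.Helper38.GOutPL
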