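import Mathlib
import Cfsg.Agent.Lib.Helper38.GOutPLGen

/-!
# GOUT module [PL-GEN]: `PL_gen` and `PL_core` under the skeleton's names (namespace of helper76's sheet)
-/

set_option autoImplicit false

namespace Cfsg.Agent.Lib.Helper76.GOut

/-- [PL-GEN]: for ANY finite `2`-group the automorphisms fixing all `x` with `x ^ 2 = 1` form a solvable
group. -/
theorem PL_gen {T : Type*} [Group T] [Finite T] (hT : IsPGroup 2 T) : Group.IsSolvable (cOmega T) :=
  Cfsg.Agent.Lib.Helper38.GOutPL.PL_gen hT

end Cfsg.Agent.Lib.Helper76.GOut
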