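import Mathlib
import Cfsg.Agent.Lib.Helper76.GOut.QFDefs
import Cfsg.Agent.Lib.Helper38.AnisoQuad

/-!
# GOUT block QF in one step (hedge of the whole block)

`QF_main_of` : the statement of `Cfsg.Agent.Lib.Helper76.GOut.QF_main` (irreducibility is not needed)
with the odd order theorem as a hypothesis, from `Helper38.AnisoQuad` (Claim Q).
-/

set_option autoImplicit false

namespace Cfsg.Agent.Lib.Helper38.GOutQF

open Cfsg.Agent.Lib.Helper76.GOut

variable {V : Type*} [AddCommGroup V] [Module (ZMod 2) V] [Finite V]
variable {R : Type*} [Group R]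

/-- Block QF of project GOUT, with the odd order theorem as a hypothesis; no irreducibility. -/
theorem QF_main_of [Finite R] (ρ : R →* (V ≃ₗ[ZMod 2] V)) (hρ : Function.Injective ρ)
    (han : Aniso ρ)
    (hFT : ∀ K : Subgroup R, Odd (Nat.card K) → Group.IsSolvable K) : Group.IsSolvable R := by
  letI : DistribMulAction R V := DistribMulAction.compHom V ρ
  have hsmul : ∀ (g : R) (v : V), g • v = ρ g v := fun _ _ => rfl
  haveI : FaithfulSMul R V := by
    refine ⟨fun {g g'} hgg => hρ ?_⟩
    apply LinearEquiv.ext
    intro v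
    have := hgg v
    rwa [hsmul, hsmul] at this
  let Idx := {q : V → ZMod 2 // IsInv ρ q}
  let Q : V → (Idx → ZMod 2) := fun v q => q.1 v
  let B : V → V → (Idx → ZMod 2) := fun u v q => polar q.1 u v
  have hyp : AnisoQuad.Hyp R Q B := by
    refine ⟨?_, ?_, ?_, ?_, ?_, ?_⟩
    · intro w; funext q; exact zmod2_add_self _
    · intro u; exact add_self' u
    · intro u v; funext q; exact q.2.1.map_add u v
    · intro u v w; funext q; exact q.2.1 u v w
    · intro u hu
      by_contra hne
      obtain ⟨q, hq, hqu⟩ := han u hne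
      exact hqu (congrFun hu ⟨q, hq⟩)
    · intro g u; funext q
      show q.1 (g • u) = q.1 u
      rw [hsmul]; exact q.2.2 g u
  exact hyp.isSolvable_of hFT

end Cfsg.Agent.Lib.Helper38.GOutQF
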