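import Mathlib
import Cfsg.Agent.S0205
import Cfsg.Agent.Lib.Helper38.GOutQFMain

/-!
# GOUT block QF: `QF_main` (exact skeleton statement), via Claim Q and the odd order theorem.
-/

set_option autoImplicit false

namespace Cfsg.Agent.Lib.Helper38.GOutQF

open Cfsg.Agent.Lib.Helper76.GOut

variable {V : Type*} [AddCommGroup V] [Module (ZMod 2) V] [Finite V]
variable {R : Type*} [Group R]

/-- **Block QF** (statement of `Helper76.GOut.QF_main`; irreducibility is not used). -/
theorem QF_main [Finite R] (ρ : R →* (V ≃ₗ[ZMod 2] V)) (hρ : Function.Injective ρ)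
    (_hirr : Irr ρ) (han : Aniso ρ) : IsSolvable R :=
  QF_main_of ρ hρ han (fun _ hK => Cfsg.Agent.S0205.result hK)

end Cfsg.Agent.Lib.Helper38.GOutQF
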