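import Mathlib

/-!
# Parity lemmas for permutations with few fixed points
-/

set_option autoImplicit false

namespace Cfsg.Agent.Lib.Helper38.PermParity

open Equiv Equiv.Perm

variable {α : Type*} [Fintype α] [DecidableEq α]

/-- If `σ` (with `σ ^ p = 1`) has the unique fixed point `a` and commutes with `τ`, then `τ` fixes
`a` and the number of fixed points of `τ` is `≡ 1 mod p`. -/
theorem commuting_fix_modEq {p : ℕ} [hp : Fact p.Prime]
    (σ τ : Perm α) (hc : σ * τ = τ * σ) (hσ : σ ^ p = 1) (a : α) (ha : ∀ b, σ b = b ↔ b = a) :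
    τ a = a ∧ τ.supportᶜ.card ≡ 1 [MOD p] := by
  have hcomm : ∀ b, σ (τ b) = τ (σ b) := fun b => by
    have := congrArg (fun f : Perm α => f b) hc
    simpa using this
  have hτa : τ a = a := (ha (τ a)).1 (by rw [hcomm, (ha a).2 rfl])
  have hq : ∀ b, (τ (σ b) = σ b) ↔ (τ b = b) := fun b => by
    rw [← hcomm]; exact σ.injective.eq_iff
  refine ⟨hτa, ?_⟩
  have h := card_compl_support_modEq (p := p) (n := 1)
    (σ := σ.subtypePerm (p := fun b => τ b = b) hq) (by
    rw [pow_one, subtypePerm_pow]
    ext ⟨b, hb⟩
    simp [hσ])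
  have h1 : (σ.subtypePerm (p := fun b => τ b = b) hq).supportᶜ = {⟨a, hτa⟩} := by
    ext ⟨b, hb⟩
    simp [Subtype.ext_iff, ha b]
  have h2 : Fintype.card {b // τ b = b} = τ.supportᶜ.card := by
    rw [Fintype.card_subtype]
    congr 1
    ext b; simp
  rw [h1, Finset.card_singleton, h2] at h
  exact h.symm

/-- An even involution on `21` points whose number of fixed points is `≡ 1 mod 5` has exactly one
fixed point. -/
theorem involution_unique_fix (hα : Fintype.card α = 21) (τ : Perm α) (hτ2 : τ ^ 2 = 1)
    (hτ1 : τ ≠ 1) (hsign : sign τ = 1) (a : α) (ha : τ a = a)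
    (hmod : τ.supportᶜ.card ≡ 1 [MOD 5]) : ∀ b, τ b = b ↔ b = a := by
  have : Fact (Nat.Prime 2) := ⟨Nat.prime_two⟩
  have hct := cycleType_of_pow_prime_eq_one (p := 2) hτ2
  have hsum : τ.support.card = τ.cycleType.card * 2 := by
    rw [← sum_cycleType, hct, Multiset.sum_replicate, smul_eq_mul, Multiset.card_replicate]
  have hFM : τ.supportᶜ.card + τ.support.card = 21 := by
    rw [Finset.card_compl, hα]
    have := τ.support.card_le_univ
    rw [hα] at this
    omega
  have hs := sign_of_cycleType τ
  rw [hsign, sum_cycleType, hsum] at hs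
  -- parity of cycleType.card
  have heven : Even (τ.cycleType.card) := by
    by_contra hodd
    rw [Nat.not_even_iff_odd] at hodd
    have h3 : Odd (τ.cycleType.card * 2 + τ.cycleType.card) := by
      have : Even (τ.cycleType.card * 2) := ⟨τ.cycleType.card, by ring⟩
      exact this.add_odd hodd
    rw [h3.neg_one_pow] at hs
    exact absurd hs (by decide)
  have hpos : τ.cycleType.card ≠ 0 := by
    intro h0
    apply hτ1
    rw [← cycleType_eq_zero, ← Multiset.card_eq_zero, h0]
  unfold Nat.ModEq at hmod
  obtain ⟨k, hk⟩ := heven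
  have hF1 : τ.supportᶜ.card = 1 := by omega
  intro b
  constructor
  · intro hb
    obtain ⟨c, hc'⟩ := Finset.card_eq_one.1 hF1
    have hb' : b ∈ τ.supportᶜ := by simp [hb]
    have ha' : a ∈ τ.supportᶜ := by simp [ha]
    rw [hc', Finset.mem_singleton] at hb' ha'
    rw [hb', ha']
  · rintro rfl; exact ha

/-- On `21` points, if `g ^ 2` is an involution with a unique fixed point, then `g` is odd. -/
theorem sign_of_sq_unique_fix (hα : Fintype.card α = 21) (g : Perm α) (hg4 : g ^ 4 = 1) (a : α)
    (ha : ∀ b, (g ^ 2) b = b ↔ b = a) : sign g = -1 := by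
  -- g fixes a
  have hga : g a = a := by
    have h1 : (g ^ 2) (g a) = g a := by
      have : (g ^ 2) (g a) = g ((g ^ 2) a) := by
        rw [← Perm.mul_apply, ← Perm.mul_apply, ← pow_succ, ← pow_succ']
      rw [this, (ha a).2 rfl]
    exact (ha (g a)).1 h1
  -- every cycle has length 4
  have hall : ∀ n ∈ g.cycleType, n = 4 := by
    intro n hn
    have hdvd : n ∣ 4 := (dvd_of_mem_cycleType hn).trans (orderOf_dvd_of_pow_eq_one hg4)
    have h2 : 2 ≤ n := two_le_of_mem_cycleType hn
    have hle : n ≤ 4 := Nat.le_of_dvd (by norm_num) hdvd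
    have h3 : n ≠ 3 := by rintro rfl; omega
    have hn2 : n ≠ 2 := by
      rintro rfl
      obtain ⟨c, τ, hgc, hdisj, hcyc, hcard⟩ := mem_cycleType_iff.1 hn
      -- take b in the support of c
      have hne : c.support.Nonempty := by
        rw [← Finset.card_pos, hcard]; norm_num
      obtain ⟨b, hb⟩ := hne
      have hc2 : c ^ 2 = 1 := by
        rw [← hcard, ← hcyc.orderOf]; exact pow_orderOf_eq_one c
      have hτb : ∀ d ∈ c.support, τ d = d := fun d hd => by
        have := hdisj d
        rcases this with h | h
        · exact absurd h (Perm.mem_support.1 hd)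
        · exact h
      have hcb : c b ∈ c.support := by
        rw [Perm.mem_support] at hb ⊢
        intro h
        exact hb (c.injective h)
      have hgb : g b = c b := by rw [hgc, Perm.mul_apply, hτb b hb]
      have hgcb : g (c b) = c (c b) := by rw [hgc, Perm.mul_apply, hτb (c b) hcb]
      have hg2b : (g ^ 2) b = b := by
        rw [pow_two, Perm.mul_apply, hgb, hgcb, ← Perm.mul_apply, ← pow_two, hc2]
        rfl
      have hba : b = a := (ha b).1 hg2b
      rw [hba] at hb hgb
      rw [Perm.mem_support] at hb
      exact hb (hgb ▸ hga)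
    omega
  have hct : g.cycleType = Multiset.replicate g.cycleType.card 4 :=
    Multiset.eq_replicate.2 ⟨rfl, hall⟩
  have hsum : g.support.card = g.cycleType.card * 4 := by
    rw [← sum_cycleType, hct, Multiset.sum_replicate, smul_eq_mul, Multiset.card_replicate]
  -- support = complement of {a}
  have hsupp : g.support.card = 20 := by
    have h1 : g.supportᶜ = {a} := by
      ext b
      simp only [Finset.mem_compl, Perm.mem_support, not_not, Finset.mem_singleton]
      constructor
      · intro hb
        apply (ha b).1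
        rw [pow_two, Perm.mul_apply, hb, hb]
      · rintro rfl; exact hga
    have h2 := Finset.card_compl g.support
    rw [h1, Finset.card_singleton, hα] at h2
    have := g.support.card_le_univ
    rw [hα] at this
    omega
  have hk : g.cycleType.card = 5 := by omega
  rw [sign_of_cycleType, sum_cycleType, hsupp, hk]
  decide

end Cfsg.Agent.Lib.Helper38.PermParity
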