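import Mathlib
import Cfsg.Agent.S0713
import Cfsg.Agent.Lib.Helper17.Burnside
import Cfsg.Agent.Lib.Helper17.SylowCard
import Cfsg.Agent.Lib.Helper72.SylowCount

/-!
# Sylow numbers `n_p = 2p + 1` in simple groups

Tools for M. Hall style "impossible Sylow numbers" (e.g. `n_7 = 15`, `n_17 = 35`): the conjugation
action on the Sylow `p`-subgroups is primitive and faithful; Jordan's theorem (S0713) kills the case
where two Sylow subgroups share an element of order `p`; otherwise `|P| = p`, `C(P) = P` and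
`|G| = (2p+1) p e` with `e ∣ p - 1`.
-/

set_option autoImplicit false

namespace Cfsg.Agent.Lib.Helper38.SylNum

open Equiv Equiv.Perm

section perm
variable {α : Type*} [Fintype α] [DecidableEq α]

/-- Two commuting permutations `σ` (of `p`-power order, with a unique fixed point `a`) and `τ`
(of prime order `r ≠ p`) on fewer than `3p+1` points: `τ` fixes only `a`, and `r ∣ n - 1`. -/
theorem commuting_prime_fix {p r : ℕ} [hp : Fact p.Prime] (hr : r.Prime) (hrp : r ≠ p)
    (σ τ : Perm α) (hc : σ * τ = τ * σ) (hσ : σ ^ p = 1) (a : α) (ha : ∀ b, σ b = b ↔ b = a)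
    (hτ : orderOf τ = r) (hcard : Fintype.card α < 3 * p + 1) :
    τ a = a ∧ (∀ b, τ b = b → b = a) ∧ r ∣ Fintype.card α - 1 := by
  have hcomm : ∀ b, σ (τ b) = τ (σ b) := fun b => by
    have := congrArg (fun f : Perm α => f b) hc
    simpa using this
  have hτa : τ a = a := (ha (τ a)).1 (by rw [hcomm, (ha a).2 rfl])
  -- n ≡ 1 mod p
  have hn : (1 : ℕ) ≡ Fintype.card α [MOD p] := by
    have h := card_compl_support_modEq (p := p) (n := 1) (σ := σ) (by simpa using hσ)
    have h1 : σ.supportᶜ = {a} := by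
      ext b; simp [ha b]
    rwa [h1, Finset.card_singleton] at h
  -- restricted permutation
  have hq : ∀ b, (τ (σ b) = σ b) ↔ (τ b = b) := fun b => by
    rw [← hcomm]; exact σ.injective.eq_iff
  have hF : τ.supportᶜ.card ≡ 1 [MOD p] := by
    have h := card_compl_support_modEq (p := p) (n := 1) (σ := σ.subtypePerm (p := fun b => τ b = b) hq) (by
      rw [pow_one, subtypePerm_pow]
      ext ⟨b, hb⟩
      simp [hσ])
    have h1 : (σ.subtypePerm (p := fun b => τ b = b) hq).supportᶜ = {⟨a, hτa⟩} := by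
      ext ⟨b, hb⟩
      simp [Subtype.ext_iff, ha b]
    have h2 : Fintype.card {b // τ b = b} = τ.supportᶜ.card := by
      rw [Fintype.card_subtype]
      congr 1
      ext b; simp
    rw [h1, Finset.card_singleton, h2] at h
    exact h.symm
  -- cycle type of τ
  obtain ⟨k, hk⟩ := cycleType_prime_order (σ := τ) (hτ ▸ hr)
  have hM : τ.support.card = (k + 1) * r := by
    rw [← sum_cycleType, hk, hτ, Multiset.sum_replicate, smul_eq_mul]
  have hFM : τ.supportᶜ.card + τ.support.card = Fintype.card α := by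
    rw [Finset.card_compl]
    have := τ.support.card_le_univ
    omega
  have haF : a ∈ τ.supportᶜ := by simp [hτa]
  have hFpos : 1 ≤ τ.supportᶜ.card := Finset.card_pos.2 ⟨a, haF⟩
  have hp2 : 2 ≤ p := hp.out.two_le
  have hr2 : 2 ≤ r := hr.two_le
  -- F = 1
  have hF1 : τ.supportᶜ.card = 1 := by
    by_contra hne
    obtain ⟨i, hi⟩ := (Nat.modEq_iff_dvd' hFpos).1 hF.symm
    obtain ⟨j, hj⟩ := (Nat.modEq_iff_dvd' (Fintype.card_pos_iff.2 ⟨a⟩)).1 hn
    have hi1 : 1 ≤ i := by
      rcases Nat.eq_zero_or_pos i with h0 | h0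
      · subst h0; omega
      · exact h0
    have hMp : τ.support.card = p := by
      have hj2 : j ≤ 2 := by
        by_contra hcon
        have : 3 * p ≤ p * j := by nlinarith
        omega
      have hji : i < j := by
        by_contra hcon
        have : p * j ≤ p * i := Nat.mul_le_mul_left p (by omega)
        have hk1 : 1 * r ≤ (k + 1) * r := Nat.mul_le_mul_right r (by omega)
        omega
      have hi' : i = 1 := by omega
      have hj' : j = 2 := by omega
      subst hi' hj'
      omega
    have hdvd : r ∣ p := by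
      rw [← hMp, hM]; exact Dvd.intro_left _ rfl
    exact hrp ((Nat.prime_dvd_prime_iff_eq hr hp.out).1 hdvd)
  refine ⟨hτa, fun b hb => ?_, ?_⟩
  · obtain ⟨c, hc'⟩ := Finset.card_eq_one.1 hF1
    have hb' : b ∈ τ.supportᶜ := by simp [hb]
    rw [hc'] at hb' haF
    rw [Finset.mem_singleton] at hb' haF
    rw [hb', haF]
  · have : Fintype.card α - 1 = (k + 1) * r := by omega
    rw [this]; exact Dvd.intro_left _ rfl

end perm

section sylow
open MulAction Subgroup

variable {G : Type*} [Group G] {p : ℕ}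

theorem isPGroup_zpowers_of_orderOf {x : G} (hx : orderOf x = p) : IsPGroup p (zpowers x) := by
  apply IsPGroup.of_card (n := 1)
  rw [Nat.card_zpowers, hx, pow_one]

/-- A `p`-element fixes a Sylow `p`-subgroup (under conjugation) iff it lies in it. -/
theorem smul_eq_iff_mem_of_pelement (P : Sylow p G) (x : G) (hx : IsPGroup p (zpowers x)) :
    x • P = P ↔ x ∈ P := by
  rw [Sylow.smul_eq_iff_mem_normalizer]
  constructor
  · intro h
    have h1 : zpowers x ⊓ normalizer ((P : Subgroup G) : Set G) = zpowers x ⊓ P :=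
      hx.inf_normalizer_sylow P
    have h2 : x ∈ zpowers x ⊓ normalizer ((P : Subgroup G) : Set G) := ⟨mem_zpowers x, h⟩
    rw [h1] at h2
    exact h2.2
  · intro h; exact le_normalizer h

variable [Finite G] [hp : Fact p.Prime]

/-- The conjugation action on Sylow `p`-subgroups is primitive when no proper divisor `≠ 1` of
`n_p` is `≡ 1 mod p`. -/
theorem isPreprimitive_sylow
    (hdiv : ∀ d, d ∣ Nat.card (Sylow p G) → d % p = 1 → d = 1 ∨ d = Nat.card (Sylow p G))
    (h1 : Nat.card (Sylow p G) ≠ 1) : IsPreprimitive G (Sylow p G) := by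
  obtain ⟨P⟩ := (Sylow.nonempty : Nonempty (Sylow p G))
  have : Nontrivial (Sylow p G) := by
    rw [← Finite.one_lt_card_iff_nontrivial]
    have : Nat.card (Sylow p G) ≠ 0 := Nat.card_pos.ne'
    omega
  rw [← isCoatom_stabilizer_iff_preprimitive G P, Sylow.stabilizer_eq_normalizer]
  constructor
  · intro htop
    apply h1
    rw [P.card_eq_index_normalizer, htop, index_top]
  · intro M hM
    have hPM : (P : Subgroup G) ≤ M := le_normalizer.trans hM.le
    have hr := Cfsg.Agent.Lib.Helper72.card_sylow_subgroup_eq_relIndex' P M hPM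
    have hmod := card_sylow_modEq_one p M
    have hmul : (normalizer ((P : Subgroup G) : Set G)).relIndex M * M.index
        = Nat.card (Sylow p G) := by
      rw [P.card_eq_index_normalizer]; exact relIndex_mul_index hM.le
    have hrd : (normalizer ((P : Subgroup G) : Set G)).relIndex M ∣ Nat.card (Sylow p G) :=
      Dvd.intro _ hmul
    have hrp : (normalizer ((P : Subgroup G) : Set G)).relIndex M % p = 1 := by
      rw [hr] at hmod
      unfold Nat.ModEq at hmod
      rw [hmod, Nat.mod_eq_of_lt hp.out.one_lt]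
    rcases hdiv _ hrd hrp with h | h
    · exfalso
      have := relIndex_eq_one.1 h
      exact hM.not_ge this
    · rw [h] at hmul
      have hpos : 0 < Nat.card (Sylow p G) := Nat.card_pos
      have : M.index = 1 := by
        have h3 : Nat.card (Sylow p G) * M.index = Nat.card (Sylow p G) * 1 := by
          rw [hmul, mul_one]
        exact Nat.eq_of_mul_eq_mul_left hpos h3
      exact index_eq_one.1 this

/-- For a simple group with `n_p ≠ 1` the action on Sylow subgroups is faithful. -/
theorem toPermHom_injective_of_simple [IsSimpleGroup G] (h1 : Nat.card (Sylow p G) ≠ 1) :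
    Function.Injective (MulAction.toPermHom G (Sylow p G)) := by
  rw [← MonoidHom.ker_eq_bot_iff]
  rcases (MonoidHom.normal_ker (MulAction.toPermHom G (Sylow p G))).eq_bot_or_eq_top with h | h
  · exact h
  · exfalso
    apply h1
    obtain ⟨P⟩ := (Sylow.nonempty : Nonempty (Sylow p G))
    rw [P.card_eq_index_normalizer]
    show (normalizer ((P : Subgroup G) : Set G)).index = 1
    have : normalizer ((P : Subgroup G) : Set G) = ⊤ := by
      rw [eq_top_iff]
      intro g _
      show g ∈ normalizer (P : Set G)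
      rw [← Sylow.smul_eq_iff_mem_normalizer]
      have hg : g ∈ (MulAction.toPermHom G (Sylow p G)).ker := by rw [h]; trivial
      rw [MonoidHom.mem_ker] at hg
      have := congrArg (fun f : Equiv.Perm (Sylow p G) => f P) hg
      simpa using this
    rw [this, index_top]

/-- Case A: an element of order `p` lying in two distinct Sylow `p`-subgroups is impossible
(via Jordan's theorem), when `p + 3 ≤ n_p < 3p+1` and `n_p ≤ p^2`. -/
theorem no_common_pelement
    (hprim : IsPreprimitive G (Sylow p G))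
    (hinj : Function.Injective (MulAction.toPermHom G (Sylow p G)))
    (hn1 : p + 3 ≤ Nat.card (Sylow p G)) (hn2 : Nat.card (Sylow p G) < 3 * p + 1)
    (hn3 : Nat.card (Sylow p G) ≤ p * p)
    (P Q : Sylow p G) (hPQ : Q ≠ P) (x : G) (hxP : x ∈ P) (hxQ : x ∈ Q)
    (hx : orderOf x = p) : False := by
  classical
  have : Fintype (Sylow p G) := Fintype.ofFinite _
  have hp2 : 2 ≤ p := hp.out.two_le
  set φ := MulAction.toPermHom G (Sylow p G) with hφ
  set σ := φ x with hσ
  have hcard : Fintype.card (Sylow p G) = Nat.card (Sylow p G) := (Nat.card_eq_fintype_card).symm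
  have hord : orderOf σ = p := by rw [hσ, orderOf_injective φ hinj, hx]
  have hσP : σ P = P := by
    show x • P = P
    exact (Sylow.smul_eq_iff_mem_normalizer).2 (le_normalizer hxP)
  have hσQ : σ Q = Q := by
    show x • Q = Q
    exact (Sylow.smul_eq_iff_mem_normalizer).2 (le_normalizer hxQ)
  have hmod : σ.supportᶜ.card ≡ Fintype.card (Sylow p G) [MOD p] :=
    Equiv.Perm.card_compl_support_modEq (p := p) (n := 1)
      (by rw [pow_one]; have h0 := pow_orderOf_eq_one σ; rwa [hord] at h0)
  have hmod1 : Nat.card (Sylow p G) ≡ 1 [MOD p] := card_sylow_modEq_one p G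
  have h2 : 2 ≤ σ.supportᶜ.card := by
    have hsub : ({P, Q} : Finset (Sylow p G)) ⊆ σ.supportᶜ := by
      intro b hb
      simp only [Finset.mem_insert, Finset.mem_singleton] at hb
      rcases hb with rfl | rfl <;> simp [hσP, hσQ]
    calc 2 = ({P, Q} : Finset (Sylow p G)).card := (Finset.card_pair hPQ.symm).symm
      _ ≤ _ := Finset.card_le_card hsub
  have h3 : p + 1 ≤ σ.supportᶜ.card := by
    have hm : σ.supportᶜ.card ≡ 1 [MOD p] := (hcard ▸ hmod).trans hmod1
    obtain ⟨i, hi⟩ := (Nat.modEq_iff_dvd' (by omega)).1 hm.symm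
    rcases Nat.eq_zero_or_pos i with h0 | h0
    · subst h0; omega
    · have : p ≤ p * i := Nat.le_mul_of_pos_right p h0
      omega
  have hsupp : σ.support.card + σ.supportᶜ.card = Fintype.card (Sylow p G) := by
    rw [Finset.card_compl]; have := σ.support.card_le_univ; omega
  have hcyc : σ.IsCycle :=
    Equiv.Perm.isCycle_of_prime_order (hord.symm ▸ hp.out) (by rw [hord]; omega)
  have hsc : σ.support.card = p := by rw [← hcyc.orderOf, hord]
  -- Jordan
  have hprim' : IsPreprimitive φ.range (Sylow p G) := by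
    let f : Sylow p G →ₑ[⇑φ.rangeRestrict] Sylow p G :=
      { toFun := id, map_smul' := fun g a => rfl }
    exact IsPreprimitive.of_surjective (f := f) Function.surjective_id
  have hJ := Cfsg.Agent.S0713.result φ.range hprim' hp.out (by omega) (by omega) hcyc hsc ⟨x, rfl⟩
  obtain ⟨a, ha⟩ : ∃ a, σ a ≠ a := by
    by_contra hcon
    push Not at hcon
    have : σ.support = ∅ := by ext b; simp [hcon b]
    rw [this] at hsc
    simp at hsc
    omega
  have haP : a ≠ P := fun h => ha (h ▸ hσP)
  have hPorb : P ∉ orbit ↥(P : Subgroup G) a := by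
    rintro ⟨y, hy⟩
    apply haP
    have hy' : (y : G) • a = P := hy
    have h4 : (y : G)⁻¹ • P = P :=
      (Sylow.smul_eq_iff_mem_normalizer).2 (le_normalizer (inv_mem y.2))
    have h5 : (y : G)⁻¹ • P = a := inv_smul_eq_iff.2 hy'.symm
    exact h5.symm.trans h4
  obtain ⟨k, hk⟩ := (P.isPGroup').card_orbit a
  have hT1 : (insert P (orbit ↥(P : Subgroup G) a)).ncard
      = (orbit ↥(P : Subgroup G) a).ncard + 1 :=
    Set.ncard_insert_of_notMem hPorb (Set.toFinite _)
  have hT2 : (insert P (orbit ↥(P : Subgroup G) a)).ncard ≤ Nat.card (Sylow p G) := by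
    rw [← Set.ncard_univ]; exact Set.ncard_le_ncard (Set.subset_univ _) (Set.toFinite _)
  have hTk : (orbit ↥(P : Subgroup G) a).ncard = p ^ k := by
    rw [← hk, Nat.card_coe_set_eq]
  have hk1 : p ^ k ≤ p := by
    have h5 : p ^ k < p ^ 2 := by rw [pow_two]; omega
    have h6 : k < 2 := (Nat.pow_lt_pow_iff_right hp.out.one_lt).1 h5
    interval_cases k <;> simp <;> omega
  obtain ⟨b, hb⟩ : ∃ b, b ∉ insert P (orbit ↥(P : Subgroup G) a) := by
    by_contra hcon
    push Not at hcon
    have : insert P (orbit ↥(P : Subgroup G) a) = Set.univ := Set.eq_univ_of_forall hcon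
    rw [this, Set.ncard_univ] at hT1
    omega
  have hbP : b ≠ P := fun h => hb (h ▸ Set.mem_insert _ _)
  have hborb : b ∉ orbit ↥(P : Subgroup G) a := fun h => hb (Set.mem_insert_of_mem _ h)
  have hba : b ≠ a := fun h => hborb (by rw [h]; exact mem_orbit_self a)
  have hσa_orb : σ a ∈ orbit ↥(P : Subgroup G) a := ⟨⟨x, hxP⟩, rfl⟩
  have hbσ : b ≠ σ a := fun h => hborb (h ▸ hσa_orb)
  have hPσ : P ≠ σ a := fun h => hPorb (h ▸ hσa_orb)
  obtain ⟨d, hd⟩ : ∃ d, d ∉ ({P, a, b, σ a} : Finset (Sylow p G)) := by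
    by_contra hcon
    push Not at hcon
    have hsub : (Finset.univ : Finset (Sylow p G)) ⊆ {P, a, b, σ a} := fun z _ => hcon z
    have h4 := Finset.card_le_card hsub
    have h5 : ({P, a, b, σ a} : Finset (Sylow p G)).card ≤ 4 := Finset.card_le_four
    rw [Finset.card_univ] at h4
    omega
  simp only [Finset.mem_insert, Finset.mem_singleton, not_or] at hd
  obtain ⟨hdP, hda, hdb, hdσ⟩ := hd
  set g : Perm (Sylow p G) := swap a b * swap b d with hg
  have hgalt : g ∈ alternatingGroup (Sylow p G) := by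
    rw [Equiv.Perm.mem_alternatingGroup, hg, Equiv.Perm.sign_mul, Equiv.Perm.sign_swap hba.symm,
      Equiv.Perm.sign_swap (Ne.symm hdb)]
    decide
  obtain ⟨h, hh⟩ := hJ hgalt
  have hgP : g P = P := by
    rw [hg, Perm.mul_apply, swap_apply_of_ne_of_ne hbP.symm (Ne.symm hdP),
      swap_apply_of_ne_of_ne haP.symm hbP.symm]
  have hga : g a = b := by
    rw [hg, Perm.mul_apply, swap_apply_of_ne_of_ne hba.symm (Ne.symm hda), swap_apply_left]
  have hgσ : g (σ a) = σ a := by
    rw [hg, Perm.mul_apply, swap_apply_of_ne_of_ne hbσ.symm (Ne.symm hdσ),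
      swap_apply_of_ne_of_ne ha hbσ.symm]
  have hhP : h • P = P := by
    have : φ h P = P := by rw [hh]; exact hgP
    exact this
  have hhN : h ∈ normalizer ((P : Subgroup G) : Set G) :=
    (Sylow.smul_eq_iff_mem_normalizer).1 hhP
  have hyP : h * x * h⁻¹ ∈ (P : Subgroup G) := (mem_normalizer_iff.1 hhN x).1 hxP
  have hha : h • a = b := by
    have : φ h a = b := by rw [hh]; exact hga
    exact this
  have hhσ : h • (σ a) = σ a := by
    have : φ h (σ a) = σ a := by rw [hh]; exact hgσ
    exact this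
  have hyb : (h * x * h⁻¹) • b = σ a := by
    rw [mul_smul, mul_smul, ← hha, inv_smul_smul]
    exact hhσ
  apply hborb
  refine ⟨⟨(h * x * h⁻¹)⁻¹ * x, mul_mem (inv_mem hyP) hxP⟩, ?_⟩
  show ((h * x * h⁻¹)⁻¹ * x) • a = b
  rw [mul_smul, inv_smul_eq_iff, hyb]
  rfl

/-- If no element of order `p` lies in two Sylow `p`-subgroups and `1 < n_p ≤ p^2`, then the Sylow
`p`-subgroups have order `p`. -/
theorem card_sylow_eq_prime
    (hTI : ∀ P Q : Sylow p G, Q ≠ P → ∀ x : G, x ∈ P → x ∈ Q → orderOf x ≠ p)
    (hn3 : Nat.card (Sylow p G) ≤ p * p) (h1 : Nat.card (Sylow p G) ≠ 1) (P : Sylow p G) :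
    Nat.card (P : Subgroup G) = p := by
  have : Nontrivial (Sylow p G) := by
    rw [← Finite.one_lt_card_iff_nontrivial]
    have : Nat.card (Sylow p G) ≠ 0 := Nat.card_pos.ne'
    omega
  obtain ⟨Q, hQP⟩ := exists_ne P
  have hinf : (P : Subgroup G) ⊓ Q = ⊥ := by
    by_contra hne
    have hH : IsPGroup p ↥((P : Subgroup G) ⊓ Q) := P.isPGroup'.to_le inf_le_left
    obtain ⟨k, hk⟩ := hH.exists_card_eq
    have hk0 : k ≠ 0 := by
      rintro rfl
      rw [pow_zero] at hk
      exact hne (Subgroup.card_eq_one.1 hk)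
    have hdvd : p ∣ Nat.card ↥((P : Subgroup G) ⊓ Q) := by
      rw [hk]; exact dvd_pow_self p hk0
    obtain ⟨x, hx⟩ := exists_prime_orderOf_dvd_card' p hdvd
    have hx' : orderOf (x : G) = p := by rw [Subgroup.orderOf_coe, hx]
    exact hTI P Q hQP (x : G) x.2.1 x.2.2 hx'
  have hstab : stabilizer ↥(P : Subgroup G) Q = ⊥ := by
    rw [eq_bot_iff]
    intro y hy
    rw [mem_stabilizer_iff] at hy
    have hy' : (y : G) • Q = Q := hy
    have hyN : (y : G) ∈ normalizer ((Q : Subgroup G) : Set G) :=
      (Sylow.smul_eq_iff_mem_normalizer).1 hy'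
    have h2 : (y : G) ∈ (P : Subgroup G) ⊓ normalizer ((Q : Subgroup G) : Set G) := ⟨y.2, hyN⟩
    have h3 : (P : Subgroup G) ⊓ normalizer ((Q : Subgroup G) : Set G) = (P : Subgroup G) ⊓ Q :=
      P.isPGroup'.inf_normalizer_sylow Q
    rw [h3, hinf, Subgroup.mem_bot] at h2
    rw [Subgroup.mem_bot]
    exact Subtype.ext h2
  have horb : Nat.card (orbit ↥(P : Subgroup G) Q) = Nat.card (P : Subgroup G) := by
    have h0 := MulAction.index_stabilizer ↥(P : Subgroup G) Q
    rw [hstab, Subgroup.index_bot] at h0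
    rw [Nat.card_coe_set_eq, ← h0]
  have hPorb : P ∉ orbit ↥(P : Subgroup G) Q := by
    rintro ⟨y, hy⟩
    apply hQP
    have hy' : (y : G) • Q = P := hy
    have h4 : (y : G)⁻¹ • P = P :=
      (Sylow.smul_eq_iff_mem_normalizer).2 (le_normalizer (inv_mem y.2))
    have h5 : (y : G)⁻¹ • P = Q := inv_smul_eq_iff.2 hy'.symm
    exact h5.symm.trans h4
  have hT1 : (insert P (orbit ↥(P : Subgroup G) Q)).ncard
      = (orbit ↥(P : Subgroup G) Q).ncard + 1 :=
    Set.ncard_insert_of_notMem hPorb (Set.toFinite _)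
  have hT2 : (insert P (orbit ↥(P : Subgroup G) Q)).ncard ≤ Nat.card (Sylow p G) := by
    rw [← Set.ncard_univ]; exact Set.ncard_le_ncard (Set.subset_univ _) (Set.toFinite _)
  rw [← Nat.card_coe_set_eq (orbit ↥(P : Subgroup G) Q), horb] at hT1
  obtain ⟨k, hk⟩ := P.isPGroup'.exists_card_eq
  have h5 : p ^ k < p ^ 2 := by rw [pow_two, ← hk]; omega
  have h6 : k < 2 := (Nat.pow_lt_pow_iff_right hp.out.one_lt).1 h5
  interval_cases k
  · exfalso
    apply hQP
    rw [pow_zero] at hk
    have hQ1 : Nat.card (Q : Subgroup G) = 1 := by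
      rw [Sylow.card_eq_multiplicity, ← Sylow.card_eq_multiplicity P, hk]
    apply Sylow.ext
    rw [Subgroup.card_eq_one.1 hk, Subgroup.card_eq_one.1 hQ1]
  · rw [hk, pow_one]

/-- If the Sylow `p`-subgroup `P` has order `p`, then `|N(P)| = p * e` with `e ∣ p - 1`,
where `e = |N(P) : C(P)|`, provided `|C(P)| = p`. -/
theorem card_normalizer_of_card_centralizer (P : Sylow p G)
    (hP : Nat.card (P : Subgroup G) = p)
    (hC : Nat.card (centralizer ((P : Subgroup G) : Set G)) = p) :
    ∃ e, e ∣ p - 1 ∧ Nat.card (normalizer ((P : Subgroup G) : Set G)) = p * e ∧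
      (e = 1 → normalizer ((P : Subgroup G) : Set G) ≤ centralizer ((P : Subgroup G) : Set G)) := by
  refine ⟨(centralizer ((P : Subgroup G) : Set G)).relIndex (normalizer ((P : Subgroup G) : Set G)),
    ?_, ?_, fun h => relIndex_eq_one.1 h⟩
  · have h1 := Cfsg.Agent.Lib.Helper17.relIndex_centralizer_normalizer_dvd_card_mulAut
      (P : Subgroup G)
    have : IsCyclic ↥(P : Subgroup G) := isCyclic_of_prime_card hP
    rwa [IsCyclic.card_mulAut, hP, Nat.totient_prime hp.out] at h1
  · have h2 := relIndex_mul_relIndex ⊥ (centralizer ((P : Subgroup G) : Set G))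
      (normalizer ((P : Subgroup G) : Set G)) bot_le (centralizer_le_normalizer _)
    rw [relIndex_bot_left, relIndex_bot_left, hC] at h2
    exact h2.symm

/-- In a simple group with `n_p = 2p+1` (`p` odd), acting faithfully, with TI-type hypothesis and
`|P| = p`: `C(P) = P`. -/
theorem card_centralizer_eq_prime [IsSimpleGroup G]
    (hinj : Function.Injective (MulAction.toPermHom G (Sylow p G)))
    (hTI : ∀ P Q : Sylow p G, Q ≠ P → ∀ x : G, x ∈ P → x ∈ Q → orderOf x ≠ p)
    (hn : Nat.card (Sylow p G) = 2 * p + 1) (hp2 : p ≠ 2)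
    (P : Sylow p G) (hP : Nat.card (P : Subgroup G) = p) :
    Nat.card (centralizer ((P : Subgroup G) : Set G)) = p := by
  classical
  have : Fintype (Sylow p G) := Fintype.ofFinite _
  have hcard : Fintype.card (Sylow p G) = 2 * p + 1 := by rw [← Nat.card_eq_fintype_card, hn]
  have hppos : 0 < p := hp.out.pos
  set φ := MulAction.toPermHom G (Sylow p G) with hφ
  -- a generator
  obtain ⟨x0, hx0⟩ := exists_prime_orderOf_dvd_card' (G := ↥(P : Subgroup G)) p (by rw [hP])
  set x : G := (x0 : G) with hxdef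
  have hxP : x ∈ (P : Subgroup G) := x0.2
  have hx : orderOf x = p := by rw [hxdef, Subgroup.orderOf_coe, hx0]
  -- P is abelian
  have hcyc : IsCyclic ↥(P : Subgroup G) := isCyclic_of_prime_card hP
  have hPc : (P : Subgroup G) ≤ centralizer ((P : Subgroup G) : Set G) := by
    intro z hz
    rw [mem_centralizer_iff]
    intro y hy
    have hcomm := (IsCyclic.commGroup (α := ↥(P : Subgroup G))).mul_comm ⟨y, hy⟩ ⟨z, hz⟩
    exact congrArg Subtype.val hcomm
  have hdvdC : p ∣ Nat.card (centralizer ((P : Subgroup G) : Set G)) := by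
    have := Subgroup.card_dvd_of_le hPc
    rwa [hP] at this
  by_contra hne
  obtain ⟨m, hm⟩ := hdvdC
  have hm1 : m ≠ 1 := by
    rintro rfl
    exact hne (by rw [hm, mul_one])
  obtain ⟨r, hr, hrm⟩ := Nat.exists_prime_and_dvd hm1
  have hrp : r ≠ p := by
    rintro rfl
    have h1 : r ^ 2 ∣ Nat.card G := by
      have h2 : r ^ 2 ∣ Nat.card (centralizer ((P : Subgroup G) : Set G)) := by
        rw [hm, pow_two]; exact Nat.mul_dvd_mul_left r hrm
      exact h2.trans (Subgroup.card_subgroup_dvd_card _)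
    have h3 := P.pow_dvd_card_of_pow_dvd_card h1
    rw [hP, pow_two] at h3
    have h4 : r * r ≤ r := Nat.le_of_dvd hppos h3
    have h5 : 2 ≤ r := hr.two_le
    nlinarith
  have hrC : r ∣ Nat.card (centralizer ((P : Subgroup G) : Set G)) := by
    rw [hm]; exact Dvd.dvd.mul_left hrm p
  have : Fact r.Prime := ⟨hr⟩
  obtain ⟨u0, hu0⟩ := exists_prime_orderOf_dvd_card'
    (G := ↥(centralizer ((P : Subgroup G) : Set G))) r hrC
  set u : G := (u0 : G) with hudef
  have huC : u ∈ centralizer ((P : Subgroup G) : Set G) := u0.2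
  have hu : orderOf u = r := by rw [hudef, Subgroup.orderOf_coe, hu0]
  have hxu : x * u = u * x := (mem_centralizer_iff.1 huC) x hxP
  -- apply the permutation lemma
  have key := commuting_prime_fix (p := p) hr hrp (φ x) (φ u)
    (by rw [← map_mul, ← map_mul, hxu])
    (by
      have h0 : x ^ p = 1 := by have := pow_orderOf_eq_one x; rwa [hx] at this
      rw [← map_pow, h0, map_one]) P
    (by
      intro b
      constructor
      · intro hb
        have hb' : x • b = b := hb
        have hxb : x ∈ b := (smul_eq_iff_mem_of_pelement b x (isPGroup_zpowers_of_orderOf hx)).1 hb'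
        by_contra hbP
        exact hTI P b hbP x hxP hxb hx
      · rintro rfl
        show x • b = b
        exact (Sylow.smul_eq_iff_mem_normalizer).2 (le_normalizer hxP))
    (by rw [orderOf_injective φ hinj, hu])
    (by rw [hcard]; omega)
  obtain ⟨hτP, hfix, hdvd⟩ := key
  rw [hcard] at hdvd
  have hr2 : r = 2 := by
    have h1 : r ∣ 2 * p := by
      have : 2 * p + 1 - 1 = 2 * p := by omega
      rwa [this] at hdvd
    rcases (Nat.Prime.dvd_mul hr).1 h1 with h | h
    · exact (Nat.prime_dvd_prime_iff_eq hr Nat.prime_two).1 h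
    · exact absurd ((Nat.prime_dvd_prime_iff_eq hr hp.out).1 h) hrp
  subst hr2
  have hτ2 : (φ u) ^ 2 = 1 := by
    have h0 : u ^ 2 = 1 := by have := pow_orderOf_eq_one u; rwa [hu] at this
    rw [← map_pow, h0, map_one]
  have hsign := Equiv.Perm.sign_of_pow_two_eq_one hτ2
  have hfp : Fintype.card (Function.fixedPoints (φ u)) = 1 := by
    rw [Fintype.card_eq_one_iff]
    exact ⟨⟨P, hτP⟩, fun ⟨b, hb⟩ => Subtype.ext (hfix b hb)⟩
  have hodd : Odd p := hp.out.eq_two_or_odd'.resolve_left hp2
  rw [hfp, hcard] at hsign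
  have hpp : (2 * p + 1 - 1) / 2 = p := by omega
  rw [hpp, hodd.neg_one_pow] at hsign
  -- the sign hom
  set ψ : G →* ℤˣ := (Equiv.Perm.sign).comp φ with hψ
  have hψu : ψ u = -1 := hsign
  rcases (MonoidHom.normal_ker ψ).eq_bot_or_eq_top with h | h
  · have hx2 : x ^ 2 ∈ ψ.ker := by
      rw [MonoidHom.mem_ker, map_pow, Int.units_sq]
    rw [h, Subgroup.mem_bot] at hx2
    have h1 : orderOf x ∣ 2 := orderOf_dvd_of_pow_eq_one hx2
    rw [hx] at h1
    exact hp2 ((Nat.prime_dvd_prime_iff_eq hp.out Nat.prime_two).1 h1)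
  · have : u ∈ ψ.ker := by rw [h]; trivial
    rw [MonoidHom.mem_ker, hψu] at this
    exact absurd this (by decide)

/-- **Structure theorem.** In a finite simple group with `n_p = 2p+1` for an odd prime `p`, a
Sylow `p`-subgroup `P` has order `p`, and `|N(P)| = p e`, `|G| = (2p+1) p e` with `e ∣ p - 1`;
moreover `e = 1` forces `N(P) ≤ C(P)`. -/
theorem structure_of_card_sylow [IsSimpleGroup G] (hp2 : p ≠ 2)
    (hn : Nat.card (Sylow p G) = 2 * p + 1) :
    ∃ (P : Sylow p G) (e : ℕ), Nat.card (P : Subgroup G) = p ∧ e ∣ p - 1 ∧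
      Nat.card (normalizer ((P : Subgroup G) : Set G)) = p * e ∧
      Nat.card G = (2 * p + 1) * (p * e) ∧
      (e = 1 → normalizer ((P : Subgroup G) : Set G) ≤ centralizer ((P : Subgroup G) : Set G)) := by
  have hp3 : 3 ≤ p := by
    have := hp.out.two_le
    omega
  have h1 : Nat.card (Sylow p G) ≠ 1 := by rw [hn]; omega
  have hdiv : ∀ d, d ∣ Nat.card (Sylow p G) → d % p = 1 → d = 1 ∨ d = Nat.card (Sylow p G) := by
    rw [hn]
    intro d hd hmod
    have hle : d ≤ 2 * p + 1 := Nat.le_of_dvd (by omega) hd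
    have hdm := Nat.div_add_mod d p
    rw [hmod] at hdm
    have hi : d / p ≤ 2 := by
      by_contra hcon
      have : p * 3 ≤ p * (d / p) := Nat.mul_le_mul_left p (by omega)
      omega
    interval_cases hq : d / p
    · left; omega
    · exfalso
      have hd1 : d = p + 1 := by omega
      rw [hd1] at hd
      have h2 : p + 1 ∣ (2 * p + 1) - (p + 1) := Nat.dvd_sub hd dvd_rfl
      have h3 : (2 * p + 1) - (p + 1) = p := by omega
      rw [h3] at h2
      have := Nat.le_of_dvd (by omega) h2
      omega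
    · right; omega
  have hprim := isPreprimitive_sylow (G := G) (p := p) hdiv h1
  have hinj := toPermHom_injective_of_simple (G := G) (p := p) h1
  have hsq : 2 * p + 1 ≤ p * p := by nlinarith
  have hTI : ∀ P Q : Sylow p G, Q ≠ P → ∀ x : G, x ∈ P → x ∈ Q → orderOf x ≠ p := by
    intro P Q hPQ x hxP hxQ hx
    exact no_common_pelement hprim hinj (by rw [hn]; omega) (by rw [hn]; omega)
      (by rw [hn]; exact hsq) P Q hPQ x hxP hxQ hx
  obtain ⟨P⟩ := (Sylow.nonempty : Nonempty (Sylow p G))
  have hP := card_sylow_eq_prime hTI (by rw [hn]; exact hsq) h1 P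
  have hC := card_centralizer_eq_prime hinj hTI hn hp2 P hP
  obtain ⟨e, he1, he2, he3⟩ := card_normalizer_of_card_centralizer P hP hC
  refine ⟨P, e, hP, he1, he2, ?_, he3⟩
  rw [← Cfsg.Agent.Lib.Helper17.card_sylow_mul_card_normalizer P, hn, he2]

end sylow

end Cfsg.Agent.Lib.Helper38.SylNum
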