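import Mathlib
import Cfsg.Agent.Lib.Helper38.SylNum

/-!
# Sylow numbers `n_p ≤ p^2`: distinct Sylow subgroups intersect trivially (faithful case)

If the conjugation action of `G` on its Sylow `p`-subgroups is faithful and `n_p ≤ p^2`, then
any two distinct Sylow `p`-subgroups meet trivially (a "linear space" counting argument), so
they have order `p`.
-/

set_option autoImplicit false

namespace Cfsg.Agent.Lib.Helper38.SylNum

open Equiv Equiv.Perm MulAction Subgroup

variable {G : Type*} [Group G] [Finite G] {p : ℕ} [hp : Fact p.Prime]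

/-- If `n_p ≤ p^2`, two distinct Sylow `p`-subgroups meet in a subgroup of index `p`. -/
theorem card_inf_mul_prime (hn : Nat.card (Sylow p G) ≤ p * p) (R T : Sylow p G) (hRT : T ≠ R) :
    Nat.card ↥((R : Subgroup G) ⊓ T) * p = Nat.card (R : Subgroup G) := by
  have hp2 : 2 ≤ p := hp.out.two_le
  -- orbit of T under R
  obtain ⟨k, hk⟩ := (R.isPGroup').card_orbit T
  have hRorb : R ∉ orbit ↥(R : Subgroup G) T := by
    rintro ⟨y, hy⟩
    apply hRT
    have hy' : (y : G) • T = R := hy
    have h4 : (y : G)⁻¹ • R = R :=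
      (Sylow.smul_eq_iff_mem_normalizer).2 (le_normalizer (inv_mem y.2))
    have h5 : (y : G)⁻¹ • R = T := inv_smul_eq_iff.2 hy'.symm
    exact h5.symm.trans h4
  have hT1 : (insert R (orbit ↥(R : Subgroup G) T)).ncard
      = (orbit ↥(R : Subgroup G) T).ncard + 1 :=
    Set.ncard_insert_of_notMem hRorb (Set.toFinite _)
  have hT2 : (insert R (orbit ↥(R : Subgroup G) T)).ncard ≤ Nat.card (Sylow p G) := by
    rw [← Set.ncard_univ]; exact Set.ncard_le_ncard (Set.subset_univ _) (Set.toFinite _)
  have hTk : (orbit ↥(R : Subgroup G) T).ncard = p ^ k := by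
    rw [← hk, Nat.card_coe_set_eq]
  have hstab : stabilizer ↥(R : Subgroup G) T = (T : Subgroup G).subgroupOf R := by
    ext y
    rw [mem_stabilizer_iff, mem_subgroupOf]
    have h3 : (R : Subgroup G) ⊓ normalizer ((T : Subgroup G) : Set G) = (R : Subgroup G) ⊓ T :=
      R.isPGroup'.inf_normalizer_sylow T
    constructor
    · intro hy
      have hy' : (y : G) • T = T := hy
      have hyN : (y : G) ∈ normalizer ((T : Subgroup G) : Set G) :=
        (Sylow.smul_eq_iff_mem_normalizer).1 hy'
      have h2 : (y : G) ∈ (R : Subgroup G) ⊓ normalizer ((T : Subgroup G) : Set G) := ⟨y.2, hyN⟩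
      rw [h3] at h2
      exact h2.2
    · intro hy
      show (y : G) • T = T
      exact (Sylow.smul_eq_iff_mem_normalizer).2 (le_normalizer hy)
  have hidx := MulAction.index_stabilizer ↥(R : Subgroup G) T
  rw [hstab, hTk] at hidx
  -- k = 1
  have hk1 : k = 1 := by
    have h5 : p ^ k < p ^ 2 := by rw [pow_two]; omega
    have h6 : k < 2 := (Nat.pow_lt_pow_iff_right hp.out.one_lt).1 h5
    rcases Nat.eq_zero_or_pos k with h0 | h0
    · exfalso
      subst h0
      rw [pow_zero] at hidx
      have hle : (R : Subgroup G) ≤ T := by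
        intro y hy
        have := (Subgroup.index_eq_one.1 hidx)
        have hy2 : (⟨y, hy⟩ : ↥(R : Subgroup G)) ∈ (T : Subgroup G).subgroupOf R := by
          rw [this]; trivial
        exact hy2
      exact hRT (Sylow.ext (R.3 T.2 hle))
    · omega
  rw [hk1, pow_one] at hidx
  have h7 : ((R : Subgroup G) ⊓ T).relIndex R = p := by
    rw [inf_comm, inf_relIndex_right]; exact hidx
  have h8 := relIndex_mul_relIndex ⊥ ((R : Subgroup G) ⊓ T) (R : Subgroup G) bot_le inf_le_left
  rw [relIndex_bot_left, relIndex_bot_left, h7] at h8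
  exact h8

omit [Finite G] in
/-- The number of Sylow `p`-subgroups containing a given `p`-subgroup is `≡ 1 mod p`. -/
theorem card_filter_ge_modEq_one [Fintype (Sylow p G)] (D : Subgroup G) (hD : IsPGroup p D)
    [DecidablePred fun U : Sylow p G => D ≤ U] :
    (Finset.univ.filter (fun U : Sylow p G => D ≤ U)).card ≡ 1 [MOD p] := by
  have h1 := hD.card_modEq_card_fixedPoints (Sylow p G)
  have h2 : Nat.card (Sylow p G) ≡ 1 [MOD p] := card_sylow_modEq_one p G
  have h3 : Nat.card (fixedPoints ↥D (Sylow p G))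
      = (Finset.univ.filter (fun U : Sylow p G => D ≤ U)).card := by
    have e : ↥(fixedPoints ↥D (Sylow p G)) ≃ {U : Sylow p G // D ≤ U} :=
      Equiv.subtypeEquivRight (fun U => hD.sylow_mem_fixedPoints_iff)
    rw [Nat.card_congr e, Nat.card_eq_fintype_card, Fintype.card_subtype]
  rw [← h3]
  exact h1.symm.trans h2

/-- **Line-counting argument.** If the conjugation action on the Sylow `p`-subgroups is faithful
and `n_p ≤ p^2`, then distinct Sylow `p`-subgroups intersect trivially. -/
theorem inf_eq_bot_of_card_le_sq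
    (hinj : Function.Injective (MulAction.toPermHom G (Sylow p G)))
    (hn : Nat.card (Sylow p G) ≤ p * p) (P Q : Sylow p G) (hPQ : Q ≠ P) :
    (P : Subgroup G) ⊓ Q = ⊥ := by
  classical
  have : Fintype (Sylow p G) := Fintype.ofFinite _
  have hp2 : 2 ≤ p := hp.out.two_le
  have hppos : 0 < p := hp.out.pos
  by_contra hD
  have hDp : IsPGroup p ↥((P : Subgroup G) ⊓ Q) := P.isPGroup'.to_le inf_le_left
  have hm : ∀ U : Sylow p G, Nat.card (U : Subgroup G) = Nat.card (P : Subgroup G) := fun U => by
    rw [Sylow.card_eq_multiplicity, ← Sylow.card_eq_multiplicity P]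
  have hA : ∀ R T : Sylow p G, T ≠ R →
      Nat.card ↥((R : Subgroup G) ⊓ T) * p = Nat.card (P : Subgroup G) := fun R T h => by
    rw [card_inf_mul_prime hn R T h, hm]
  have hAle : ∀ R T R' T' : Sylow p G, T ≠ R → T' ≠ R' →
      Nat.card ↥((R : Subgroup G) ⊓ T) ≤ Nat.card ↥((R' : Subgroup G) ⊓ T') := by
    intro R T R' T' h h'
    have h1 := hA R T h
    have h2 := hA R' T' h'
    have h3 : Nat.card ↥((R : Subgroup G) ⊓ T) * p = Nat.card ↥((R' : Subgroup G) ⊓ T') * p := by
      rw [h1, h2]
    exact (Nat.eq_of_mul_eq_mul_right hppos h3).le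
  have hC : ∀ R T U : Sylow p G, T ≠ R → U ≠ R → (R : Subgroup G) ⊓ T ≤ U →
      (R : Subgroup G) ⊓ U = (R : Subgroup G) ⊓ T := by
    intro R T U hT hU hle
    have h1 : (R : Subgroup G) ⊓ T ≤ (R : Subgroup G) ⊓ U := le_inf inf_le_left hle
    exact (Subgroup.eq_of_le_of_card_ge h1 (hAle R U R T hU hT)).symm
  set ℓ : Finset (Sylow p G) :=
    Finset.univ.filter (fun U : Sylow p G => (P : Subgroup G) ⊓ Q ≤ U) with hℓ
  have hℓmod : ℓ.card ≡ 1 [MOD p] := card_filter_ge_modEq_one _ hDp
  have hPℓ : P ∈ ℓ := by simp [hℓ]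
  have hQℓ : Q ∈ ℓ := by simp [hℓ]
  have hℓ2 : p + 1 ≤ ℓ.card := by
    have h2 : 2 ≤ ℓ.card := by
      have hsub : ({P, Q} : Finset (Sylow p G)) ⊆ ℓ := by
        intro b hb
        simp only [Finset.mem_insert, Finset.mem_singleton] at hb
        rcases hb with rfl | rfl
        · exact hPℓ
        · exact hQℓ
      calc 2 = ({P, Q} : Finset (Sylow p G)).card := (Finset.card_pair hPQ.symm).symm
        _ ≤ _ := Finset.card_le_card hsub
    obtain ⟨i, hi⟩ := (Nat.modEq_iff_dvd' (by omega)).1 hℓmod.symm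
    rcases Nat.eq_zero_or_pos i with h0 | h0
    · subst h0; omega
    · have : p ≤ p * i := Nat.le_mul_of_pos_right p h0
      omega
  by_cases hall : ∀ U : Sylow p G, U ∈ ℓ
  · apply hD
    rw [eq_bot_iff]
    intro d hd
    have h1 : MulAction.toPermHom G (Sylow p G) d = 1 := by
      apply Equiv.ext
      intro U
      have hdU : d ∈ (U : Subgroup G) := (Finset.mem_filter.1 (hall U)).2 hd
      show d • U = U
      exact (Sylow.smul_eq_iff_mem_normalizer).2 (le_normalizer hdU)
    have h2 : d = 1 := hinj (h1.trans (map_one _).symm)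
    rw [h2]; exact one_mem _
  · push Not at hall
    obtain ⟨R, hR⟩ := hall
    have hRD : ¬ (P : Subgroup G) ⊓ Q ≤ R := by simpa [hℓ] using hR
    have hne : ∀ S ∈ ℓ, S ≠ R := fun S hS h => hR (h ▸ hS)
    let θ : Sylow p G → Subgroup G := fun U => (R : Subgroup G) ⊓ U
    have hinjθ : Set.InjOn θ ℓ := by
      intro S hS S' hS' hθ
      by_contra hSS
      have hSD : (P : Subgroup G) ⊓ Q ≤ S := (Finset.mem_filter.1 hS).2
      have hSD' : (P : Subgroup G) ⊓ Q ≤ S' := (Finset.mem_filter.1 hS').2
      have h1 : (P : Subgroup G) ⊓ Q ≤ (S : Subgroup G) ⊓ S' := le_inf hSD hSD'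
      have h3 : (P : Subgroup G) ⊓ Q = (S : Subgroup G) ⊓ S' :=
        Subgroup.eq_of_le_of_card_ge h1 (hAle S S' P Q (Ne.symm hSS) hPQ)
      have hθ' : (R : Subgroup G) ⊓ S = (R : Subgroup G) ⊓ S' := hθ
      have hE : (R : Subgroup G) ⊓ S ≤ (P : Subgroup G) ⊓ Q := by
        rw [h3]
        refine le_inf inf_le_right ?_
        rw [hθ']; exact inf_le_right
      have h5 : (R : Subgroup G) ⊓ S = (P : Subgroup G) ⊓ Q :=
        Subgroup.eq_of_le_of_card_ge hE (hAle P Q R S hPQ (hne S hS))
      exact hRD (h5 ▸ inf_le_left)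
    have hfib : ∀ S ∈ ℓ,
        p ≤ ((Finset.univ.erase R).filter (fun U : Sylow p G => θ U = θ S)).card := by
      intro S hS
      have hSR := hne S hS
      have heq : insert R ((Finset.univ.erase R).filter (fun U : Sylow p G => θ U = θ S))
          = Finset.univ.filter (fun U : Sylow p G => (R : Subgroup G) ⊓ S ≤ U) := by
        ext U
        simp only [Finset.mem_insert, Finset.mem_filter, Finset.mem_erase, Finset.mem_univ,
          true_and, and_true]
        constructor
        · rintro (rfl | ⟨hU, hθU⟩)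
          · exact inf_le_left
          · have : (U : Subgroup G) ⊓ ↑U ≤ ↑U := inf_le_left
            show (R : Subgroup G) ⊓ S ≤ U
            have hθU' : (R : Subgroup G) ⊓ U = (R : Subgroup G) ⊓ S := hθU
            rw [← hθU']; exact inf_le_right
        · intro hle
          by_cases hUR : U = R
          · left; exact hUR
          · right; exact ⟨hUR, hC R S U hSR hUR hle⟩
      have hmod := card_filter_ge_modEq_one ((R : Subgroup G) ⊓ S)
        (R.isPGroup'.to_le inf_le_left)
      rw [← heq, Finset.card_insert_of_notMem (by simp)] at hmod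
      have hSmem : S ∈ (Finset.univ.erase R).filter (fun U : Sylow p G => θ U = θ S) := by
        simp [hSR]
      have hpos : 0 < ((Finset.univ.erase R).filter (fun U : Sylow p G => θ U = θ S)).card :=
        Finset.card_pos.2 ⟨S, hSmem⟩
      have hdvd : p ∣ ((Finset.univ.erase R).filter (fun U : Sylow p G => θ U = θ S)).card := by
        have := (Nat.modEq_iff_dvd' (by omega)).1 hmod.symm
        simpa using this
      exact Nat.le_of_dvd hpos hdvd
    have hcount := Finset.card_eq_sum_card_fiberwise (s := Finset.univ.erase R)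
      (t := (Finset.univ.erase R).image θ) (f := θ)
      (fun x hx => Finset.mem_image_of_mem θ hx)
    have hsub : ℓ.image θ ⊆ (Finset.univ.erase R).image θ :=
      Finset.image_subset_image
        (fun S hS => Finset.mem_erase.2 ⟨hne S hS, Finset.mem_univ _⟩)
    have h1 : ∑ b ∈ ℓ.image θ,
        ((Finset.univ.erase R).filter (fun U : Sylow p G => θ U = b)).card
        ≤ (Finset.univ.erase R).card := by
      rw [hcount]; exact Finset.sum_le_sum_of_subset hsub
    have h2 : (ℓ.image θ).card * p ≤ ∑ b ∈ ℓ.image θ,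
        ((Finset.univ.erase R).filter (fun U : Sylow p G => θ U = b)).card := by
      rw [← smul_eq_mul, ← Finset.sum_const]
      apply Finset.sum_le_sum
      intro b hb
      obtain ⟨S, hS, rfl⟩ := Finset.mem_image.1 hb
      exact hfib S hS
    have h3 : (ℓ.image θ).card = ℓ.card := Finset.card_image_of_injOn hinjθ
    have h4 : (Finset.univ.erase R).card = Nat.card (Sylow p G) - 1 := by
      rw [Finset.card_erase_of_mem (Finset.mem_univ _), Finset.card_univ,
        Nat.card_eq_fintype_card]
    rw [h3] at h2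
    rw [h4] at h1
    have h5 : (p + 1) * p ≤ ℓ.card * p := Nat.mul_le_mul_right p hℓ2
    have h6 : Nat.card (Sylow p G) - 1 < p * p := by
      have : 0 < Nat.card (Sylow p G) := Nat.card_pos
      omega
    nlinarith

/-- Faithful action and `1 < n_p ≤ p^2` force the Sylow `p`-subgroups to have order `p`. -/
theorem card_sylow_eq_prime_of_card_le_sq
    (hinj : Function.Injective (MulAction.toPermHom G (Sylow p G)))
    (hn : Nat.card (Sylow p G) ≤ p * p) (h1 : Nat.card (Sylow p G) ≠ 1) (P : Sylow p G) :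
    Nat.card (P : Subgroup G) = p := by
  refine card_sylow_eq_prime ?_ hn h1 P
  intro P Q hPQ x hxP hxQ hx
  have h := inf_eq_bot_of_card_le_sq hinj hn P Q hPQ
  have hx1 : x ∈ (P : Subgroup G) ⊓ Q := ⟨hxP, hxQ⟩
  rw [h, Subgroup.mem_bot] at hx1
  rw [hx1, orderOf_one] at hx
  exact hp.out.one_lt.ne hx

/-- Under the same hypotheses, a nontrivial `p`-element fixes exactly one Sylow `p`-subgroup. -/
theorem smul_eq_iff_eq_of_card_le_sq
    (hinj : Function.Injective (MulAction.toPermHom G (Sylow p G)))
    (hn : Nat.card (Sylow p G) ≤ p * p) (P : Sylow p G) (x : G) (hxP : x ∈ P) (hx1 : x ≠ 1)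
    (b : Sylow p G) : x • b = b ↔ b = P := by
  constructor
  · intro hb
    have hxp : IsPGroup p (zpowers x) := P.isPGroup'.to_le (zpowers_le.2 hxP)
    have hxb : x ∈ b := (smul_eq_iff_mem_of_pelement b x hxp).1 hb
    by_contra hbP
    have h := inf_eq_bot_of_card_le_sq hinj hn P b hbP
    have hx2 : x ∈ (P : Subgroup G) ⊓ b := ⟨hxP, hxb⟩
    rw [h, Subgroup.mem_bot] at hx2
    exact hx1 hx2
  · rintro rfl
    exact (Sylow.smul_eq_iff_mem_normalizer).2 (le_normalizer hxP)

end Cfsg.Agent.Lib.Helper38.SylNum
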