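import Mathlib
import Cfsg.Agent.Lib.Helper38.SylNumTI
import Cfsg.Agent.Lib.Helper38.PermParity

/-!
# No simple group has 21 Sylow 5-subgroups, part A: fixed points and parity
-/

set_option autoImplicit false

namespace Cfsg.Agent.Lib.Helper38.Hall21

open Subgroup MulAction Equiv Cfsg.Agent.Lib.Helper17 Cfsg.Agent.Lib.Helper38.SylNum
  Cfsg.Agent.Lib.Helper38.PermParity

instance fact5 : Fact (Nat.Prime 5) := ⟨by norm_num⟩

section
variable {S : Type*} [Group S] [Finite S] [IsSimpleGroup S]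

theorem hinj (h21 : Nat.card (Sylow 5 S) = 21) :
    Function.Injective (MulAction.toPermHom S (Sylow 5 S)) :=
  toPermHom_injective_of_simple (by rw [h21]; norm_num)

theorem card_P (h21 : Nat.card (Sylow 5 S) = 21) (P : Sylow 5 S) :
    Nat.card (P : Subgroup S) = 5 :=
  card_sylow_eq_prime_of_card_le_sq (hinj h21) (by rw [h21]; norm_num) (by rw [h21]; norm_num) P

theorem fix_iff (h21 : Nat.card (Sylow 5 S) = 21) (P : Sylow 5 S) (x : S) (hxP : x ∈ P)
    (hx1 : x ≠ 1) (b : Sylow 5 S) : x • b = b ↔ b = P :=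
  smul_eq_iff_eq_of_card_le_sq (hinj h21) (by rw [h21]; norm_num) P x hxP hx1 b

variable [Fintype (Sylow 5 S)] [DecidableEq (Sylow 5 S)]

omit [Finite S] [IsSimpleGroup S] [DecidableEq (Sylow 5 S)] in
theorem card_Ω (h21 : Nat.card (Sylow 5 S) = 21) : Fintype.card (Sylow 5 S) = 21 := by
  rw [← Nat.card_eq_fintype_card, h21]

/-- Every element acts as an even permutation. -/
theorem sign_one (h21 : Nat.card (Sylow 5 S) = 21) (g : S) :
    Perm.sign (MulAction.toPermHom S (Sylow 5 S) g) = 1 := by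
  set ψ : S →* ℤˣ := (Perm.sign).comp (MulAction.toPermHom S (Sylow 5 S)) with hψ
  rcases (MonoidHom.normal_ker ψ).eq_bot_or_eq_top with h | h
  · exfalso
    obtain ⟨P⟩ := (Sylow.nonempty : Nonempty (Sylow 5 S))
    have h3 : 3 ∣ Nat.card S := by
      have h1 : Nat.card (Sylow 5 S) ∣ Nat.card S := by
        rw [P.card_eq_index_normalizer]; exact Subgroup.index_dvd_card _
      rw [h21] at h1
      exact (by norm_num : 3 ∣ 21).trans h1
    have : Fact (Nat.Prime 3) := ⟨by norm_num⟩
    obtain ⟨y, hy⟩ := exists_prime_orderOf_dvd_card' 3 h3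
    have hy2 : y ^ 2 ∈ ψ.ker := by
      rw [MonoidHom.mem_ker, map_pow, Int.units_sq]
    rw [h, Subgroup.mem_bot] at hy2
    have h1 : orderOf y ∣ 2 := orderOf_dvd_of_pow_eq_one hy2
    rw [hy] at h1
    omega
  · have : g ∈ ψ.ker := by rw [h]; trivial
    exact this

/-- (F1) An involution centralizing a Sylow 5-subgroup `P` fixes only `P`. -/
theorem invol_centralizer_fix (h21 : Nat.card (Sylow 5 S) = 21) (P : Sylow 5 S) (t : S)
    (ht : t ∈ centralizer ((P : Subgroup S) : Set S)) (ht2 : t ^ 2 = 1) (ht1 : t ≠ 1) :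
    ∀ b : Sylow 5 S, t • b = b ↔ b = P := by
  have hP := card_P h21 P
  obtain ⟨x0, hx0⟩ := exists_prime_orderOf_dvd_card' (G := ↥(P : Subgroup S)) 5 (by rw [hP])
  have hxP : (x0 : S) ∈ (P : Subgroup S) := x0.2
  have hx : orderOf (x0 : S) = 5 := by rw [Subgroup.orderOf_coe, hx0]
  have hx1 : (x0 : S) ≠ 1 := by
    intro h
    rw [h, orderOf_one] at hx
    omega
  have hx5 : (x0 : S) ^ 5 = 1 := by
    have := pow_orderOf_eq_one (x0 : S)
    rwa [hx] at this
  have hcomm : (x0 : S) * t = t * (x0 : S) := (mem_centralizer_iff.1 ht) _ hxP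
  set φ := MulAction.toPermHom S (Sylow 5 S) with hφ
  have key := commuting_fix_modEq (p := 5) (φ (x0 : S)) (φ t)
    (by rw [← map_mul, ← map_mul, hcomm])
    (by rw [← map_pow, hx5, map_one]) P
    (fun b => fix_iff h21 P _ hxP hx1 b)
  have h := involution_unique_fix (card_Ω h21) (φ t)
    (by rw [← map_pow, ht2, map_one])
    (by
      intro h1
      exact ht1 ((hinj h21) (h1.trans (map_one _).symm)))
    (sign_one h21 t) P key.1 key.2
  exact h

/-- (F2') An involution with a unique fixed point has no square root. -/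
theorem no_sqrt (h21 : Nat.card (Sylow 5 S) = 21) (t : S) (ht2 : t ^ 2 = 1) (a : Sylow 5 S)
    (ha : ∀ b : Sylow 5 S, t • b = b ↔ b = a) (g : S) (hg : g ^ 2 = t) : False := by
  set φ := MulAction.toPermHom S (Sylow 5 S) with hφ
  have h4 : g ^ 4 = 1 := by
    have : g ^ 4 = (g ^ 2) ^ 2 := by rw [← pow_mul]
    rw [this, hg, ht2]
  have h := sign_of_sq_unique_fix (card_Ω h21) (φ g)
    (by rw [← map_pow, h4, map_one]) a
    (fun b => by
      rw [← map_pow, hg]
      exact ha b)
  have h1 := sign_one h21 g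
  rw [h] at h1
  exact absurd h1 (by decide)

end

end Cfsg.Agent.Lib.Helper38.Hall21
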