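import Mathlib
import Cfsg.Agent.Lib.Helper38.Hall21A

/-!
# No simple group has 21 Sylow 5-subgroups, part B: a Sylow 2-subgroup of `N(P)` is abelian
-/

set_option autoImplicit false

namespace Cfsg.Agent.Lib.Helper38.Hall21

open Subgroup MulAction Equiv Cfsg.Agent.Lib.Helper38.SylNum

section
variable {S : Type*} [Group S] [Finite S] [IsSimpleGroup S]
/-- (B4) The fourth power of an element of `N(P)` centralizes `P`. -/
theorem pow_four_mem_centralizer (h21 : Nat.card (Sylow 5 S) = 21) (P : Sylow 5 S) (u : S)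
    (hu : u ∈ normalizer ((P : Subgroup S) : Set S)) :
    u ^ 4 ∈ centralizer ((P : Subgroup S) : Set S) := by
  have hP := card_P h21 P
  have hcyc : IsCyclic ↥(P : Subgroup S) := isCyclic_of_prime_card hP
  have hcard : Nat.card (MulAut ↥(P : Subgroup S)) = 4 := by
    rw [IsCyclic.card_mulAut, hP]; rfl
  set ψ := (P : Subgroup S).normalizerMonoidHom with hψ
  have h1 : (ψ ⟨u, hu⟩) ^ 4 = 1 := by
    rw [← hcard]; exact pow_card_eq_one'
  have h2 : (⟨u, hu⟩ : ↥(normalizer ((P : Subgroup S) : Set S))) ^ 4 ∈ ψ.ker := by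
    rw [MonoidHom.mem_ker, map_pow, h1]
  rw [hψ, normalizerMonoidHom_ker, mem_subgroupOf] at h2
  simpa using h2

omit [Finite S] [IsSimpleGroup S] in
/-- (B5) An involution of `N(P)` outside `C(P)` inverts `P` (when `|P| = 5`). -/
theorem conj_eq_inv_of_not_mem (P : Sylow 5 S) (hP : Nat.card (P : Subgroup S) = 5) (j : S)
    (hjN : j ∈ normalizer ((P : Subgroup S) : Set S))
    (hjC : j ∉ centralizer ((P : Subgroup S) : Set S)) (hj2 : j ^ 2 = 1)
    (x : S) (hx : x ∈ (P : Subgroup S)) : j * x * j⁻¹ = x⁻¹ := by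
  have hcyc : IsCyclic ↥(P : Subgroup S) := isCyclic_of_prime_card hP
  have hcomm : ∀ a ∈ (P : Subgroup S), ∀ b ∈ (P : Subgroup S), a * b = b * a := by
    intro a ha b hb
    have h := (IsCyclic.commGroup (α := ↥(P : Subgroup S))).mul_comm ⟨a, ha⟩ ⟨b, hb⟩
    exact congrArg Subtype.val h
  have hy : j * x * j⁻¹ ∈ (P : Subgroup S) := (mem_normalizer_iff.1 hjN x).1 hx
  have hjinv : j⁻¹ = j := by rw [inv_eq_iff_mul_eq_one, ← pow_two, hj2]
  set z := x * (j * x * j⁻¹) with hz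
  have hzP : z ∈ (P : Subgroup S) := mul_mem hx hy
  have hjz : j * z * j⁻¹ = z := by
    have h1 : j * z * j⁻¹ = (j * x * j⁻¹) * (j * (j * x * j⁻¹) * j⁻¹) := by rw [hz]; group
    have h2 : j * (j * x * j⁻¹) * j⁻¹ = x := by
      rw [hjinv]
      have : j * (j * x * j) * j = (j * j) * x * (j * j) := by group
      rw [this, ← pow_two, hj2, one_mul, mul_one]
    rw [h1, h2, hz]
    exact hcomm _ hy _ hx
  by_contra hne
  have hz1 : z ≠ 1 := by
    intro h
    apply hne
    exact (eq_inv_of_mul_eq_one_right h)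
  apply hjC
  rw [mem_centralizer_iff]
  intro y hyP
  -- y is a power of z
  have hmem : (⟨y, hyP⟩ : ↥(P : Subgroup S)) ∈ zpowers (⟨z, hzP⟩ : ↥(P : Subgroup S)) :=
    mem_zpowers_of_prime_card hP (by
      intro h
      exact hz1 (congrArg Subtype.val h))
  obtain ⟨k, hk⟩ := hmem
  have hk' : z ^ k = y := by
    have := congrArg Subtype.val hk
    simpa using this
  have hjz' : j * z = z * j := by
    have := hjz
    rw [mul_inv_eq_iff_eq_mul] at this
    exact this
  have hcz : Commute j z := hjz'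
  rw [← hk']
  exact ((hcz.zpow_right k).eq).symm


variable [Fintype (Sylow 5 S)] [DecidableEq (Sylow 5 S)]

/-- (B1) A `2`-element of `C(P)` is an involution or trivial. -/
theorem sq_eq_one_of_mem (h21 : Nat.card (Sylow 5 S) = 21) (P : Sylow 5 S) (T : Sylow 2 S)
    (v : S) (hvT : v ∈ T) (hvC : v ∈ centralizer ((P : Subgroup S) : Set S)) : v ^ 2 = 1 := by
  obtain ⟨k, hk⟩ := T.isPGroup' ⟨v, hvT⟩
  have hk' : v ^ 2 ^ k = 1 := by
    have := congrArg Subtype.val hk
    simpa using this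
  obtain ⟨j, hjk, hj⟩ := (Nat.dvd_prime_pow Nat.prime_two).1 (orderOf_dvd_of_pow_eq_one hk')
  by_contra hne
  have hj2 : 2 ≤ j := by
    by_contra hlt
    have hj1 : j ≤ 1 := by omega
    apply hne
    have hd : orderOf v ∣ 2 := by
      rw [hj]
      interval_cases j <;> norm_num
    exact orderOf_dvd_iff_pow_eq_one.1 hd
  -- g := v^(2^(j-2)), t := g^2
  set g := v ^ 2 ^ (j - 2) with hg
  set t := g ^ 2 with ht
  have htv : t = v ^ 2 ^ (j - 1) := by
    rw [ht, hg, ← pow_mul]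
    congr 1
    have : j - 1 = (j - 2) + 1 := by omega
    rw [this, pow_succ]
  have ht2 : t ^ 2 = 1 := by
    rw [htv, ← pow_mul]
    have : 2 ^ (j - 1) * 2 = 2 ^ j := by
      have : j = (j - 1) + 1 := by omega
      conv_rhs => rw [this, pow_succ]
    rw [this, ← hj, pow_orderOf_eq_one]
  have ht1 : t ≠ 1 := by
    intro h
    rw [htv] at h
    have hd := orderOf_dvd_of_pow_eq_one h
    rw [hj] at hd
    have hlt : 2 ^ (j - 1) < 2 ^ j := Nat.pow_lt_pow_right (by norm_num) (by omega)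
    have := Nat.le_of_dvd (by positivity) hd
    omega
  have htC : t ∈ centralizer ((P : Subgroup S) : Set S) := by
    rw [htv]; exact pow_mem hvC _
  exact no_sqrt h21 t ht2 P (invol_centralizer_fix h21 P t htC ht2 ht1) g rfl

omit [Finite S] [IsSimpleGroup S] [Fintype (Sylow 5 S)] [DecidableEq (Sylow 5 S)] in
/-- (B2) `C(P)` is normalized by `N(P)`. -/
theorem conj_mem_centralizer (P : Sylow 5 S) (u v : S)
    (hu : u ∈ normalizer ((P : Subgroup S) : Set S))
    (hv : v ∈ centralizer ((P : Subgroup S) : Set S)) :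
    u * v * u⁻¹ ∈ centralizer ((P : Subgroup S) : Set S) := by
  rw [mem_centralizer_iff] at hv ⊢
  intro y hy
  have hy' : u⁻¹ * y * u ∈ (P : Subgroup S) := by
    have := (mem_normalizer_iff.1 (inv_mem hu) y).1 hy
    simpa using this
  have h := hv _ hy'
  -- y * (u v u⁻¹) = (u v u⁻¹) * y
  calc y * (u * v * u⁻¹) = u * ((u⁻¹ * y * u) * v) * u⁻¹ := by group
    _ = u * (v * (u⁻¹ * y * u)) * u⁻¹ := by rw [h]
    _ = u * v * u⁻¹ * y := by group

/-- (B3) An element `u` of `T` whose square centralizes `P` centralizes `T ∩ C(P)`. -/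
theorem conj_eq_of_sq_mem (h21 : Nat.card (Sylow 5 S) = 21) (P : Sylow 5 S) (T : Sylow 2 S)
    (hTN : (T : Subgroup S) ≤ normalizer ((P : Subgroup S) : Set S))
    (u : S) (huT : u ∈ T) (hu2 : u ^ 2 ∈ centralizer ((P : Subgroup S) : Set S))
    (t : S) (htT : t ∈ T) (htC : t ∈ centralizer ((P : Subgroup S) : Set S)) :
    u * t * u⁻¹ = t := by
  by_contra hne
  have ht2 : t ^ 2 = 1 := sq_eq_one_of_mem h21 P T t htT htC
  have ht'T : u * t * u⁻¹ ∈ (T : Subgroup S) := mul_mem (mul_mem huT htT) (inv_mem huT)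
  have ht'C := conj_mem_centralizer P u t (hTN huT) htC
  have hu22 : (u ^ 2) ^ 2 = 1 := sq_eq_one_of_mem h21 P T _ (pow_mem huT 2) hu2
  by_cases hu1 : u ^ 2 = 1
  · -- (u t)^2 = (u t u⁻¹) t
    have huinv : u⁻¹ = u := by
      rw [inv_eq_iff_mul_eq_one, ← pow_two, hu1]
    have hsq : (u * t) ^ 2 = u * t * u⁻¹ * t := by
      rw [huinv, pow_two]; group
    set r := u * t * u⁻¹ * t with hr
    have hrT : r ∈ (T : Subgroup S) := mul_mem ht'T htT
    have hrC : r ∈ centralizer ((P : Subgroup S) : Set S) := mul_mem ht'C htC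
    have hr2 : r ^ 2 = 1 := sq_eq_one_of_mem h21 P T r hrT hrC
    have hr1 : r ≠ 1 := by
      intro h
      apply hne
      have h2 : u * t * u⁻¹ = t⁻¹ := eq_inv_of_mul_eq_one_left h
      rw [h2, inv_eq_iff_mul_eq_one, ← pow_two, ht2]
    exact no_sqrt h21 r hr2 P (invol_centralizer_fix h21 P r hrC hr2 hr1) (u * t) hsq
  · exact no_sqrt h21 (u ^ 2) hu22 P (invol_centralizer_fix h21 P _ hu2 hu22 hu1) u rfl

/-- (B6) `P · (T ∩ C(P))` acts semiregularly off the point `P`. -/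
theorem eq_one_of_smul_eq (h21 : Nat.card (Sylow 5 S) = 21) (P : Sylow 5 S) (T : Sylow 2 S)
    (x' w : S) (hx' : x' ∈ (P : Subgroup S)) (hwT : w ∈ T)
    (hwC : w ∈ centralizer ((P : Subgroup S) : Set S)) (β : Sylow 5 S) (hβ : β ≠ P)
    (hfix : (x' * w) • β = β) : x' = 1 ∧ w = 1 := by
  have hw2 : w ^ 2 = 1 := sq_eq_one_of_mem h21 P T w hwT hwC
  have hcomm : x' * w = w * x' := (mem_centralizer_iff.1 hwC) x' hx'
  have hsq : (x' * w) ^ 2 = x' ^ 2 := by
    have hc : Commute x' w := hcomm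
    rw [hc.mul_pow, hw2, mul_one]
  have hfix2 : (x' ^ 2) • β = β := by
    rw [← hsq, pow_two, mul_smul, hfix, hfix]
  have hx2 : x' ^ 2 = 1 := by
    by_contra hne
    exact hβ ((fix_iff h21 P (x' ^ 2) (pow_mem hx' 2) hne β).1 hfix2)
  have hx5 : x' ^ 5 = 1 := by
    have h := card_P h21 P
    have h5 : (⟨x', hx'⟩ : ↥(P : Subgroup S)) ^ Nat.card ↥(P : Subgroup S) = 1 := pow_card_eq_one'
    rw [h] at h5
    have := congrArg Subtype.val h5
    simpa using this
  have hx1 : x' = 1 := by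
    have h1 : orderOf x' ∣ 2 := orderOf_dvd_of_pow_eq_one hx2
    have h2 : orderOf x' ∣ 5 := orderOf_dvd_of_pow_eq_one hx5
    have h3 : orderOf x' ∣ Nat.gcd 2 5 := Nat.dvd_gcd h1 h2
    have h4 : orderOf x' = 1 := by simpa using h3
    exact orderOf_eq_one_iff.1 h4
  refine ⟨hx1, ?_⟩
  by_contra hw1
  rw [hx1, one_mul] at hfix
  exact hβ ((invol_centralizer_fix h21 P w hwC hw2 hw1 β).1 hfix)

/-- (B7) If `T ∩ C(P)` has at least three elements, `P · (T ∩ C(P))` is transitive off `P`. -/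
theorem exists_smul_eq (h21 : Nat.card (Sylow 5 S) = 21) (P : Sylow 5 S) (T : Sylow 2 S)
    (hTN : (T : Subgroup S) ≤ normalizer ((P : Subgroup S) : Set S))
    (t t' : S) (htT : t ∈ T) (htC : t ∈ centralizer ((P : Subgroup S) : Set S))
    (ht'T : t' ∈ T) (ht'C : t' ∈ centralizer ((P : Subgroup S) : Set S))
    (ht1 : t ≠ 1) (ht'1 : t' ≠ 1) (htt' : t ≠ t') (β γ : Sylow 5 S) (hβ : β ≠ P) (hγ : γ ≠ P) :
    ∃ x' ∈ (P : Subgroup S), ∃ w ∈ (T : Subgroup S),
      w ∈ centralizer ((P : Subgroup S) : Set S) ∧ γ = (x' * w) • β := by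
  set V : Subgroup S := (T : Subgroup S) ⊓ centralizer ((P : Subgroup S) : Set S) with hV
  set K : Subgroup S := (P : Subgroup S) ⊔ V with hK
  -- (k1) elements of K are products
  have hk1 : ∀ k ∈ K, ∃ a ∈ (P : Subgroup S), ∃ b ∈ V, k = a * b := by
    intro k hk
    have comm : ∀ (m : ↥(P : Subgroup S)) (n : ↥V),
        Commute ((P : Subgroup S).subtype m) (V.subtype n) :=
      fun m n => (mem_centralizer_iff.1 n.2.2) m.1 m.2
    have hrange : ((P : Subgroup S).subtype.noncommCoprod V.subtype comm).range = K := by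
      rw [MonoidHom.noncommCoprod_range, Subgroup.range_subtype, Subgroup.range_subtype]
    rw [← hrange] at hk
    obtain ⟨⟨a, b⟩, rfl⟩ := hk
    exact ⟨a.1, a.2, b.1, b.2, rfl⟩
  -- (k2) 20 ∣ card K
  have hP := card_P h21 P
  have h5 : 5 ∣ Nat.card K := by
    have := Subgroup.card_dvd_of_le (le_sup_left : (P : Subgroup S) ≤ K)
    rwa [hP] at this
  have h4 : 4 ∣ Nat.card K := by
    have hV2 : IsPGroup 2 V := T.isPGroup'.to_le inf_le_left
    obtain ⟨k, hk⟩ := hV2.exists_card_eq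
    have hk2 : 2 ≤ k := by
      by_contra hlt
      have hk1' : k ≤ 1 := by omega
      interval_cases k
      · rw [pow_zero] at hk
        have := Subgroup.card_eq_one.1 hk
        have htV : t ∈ V := ⟨htT, htC⟩
        rw [this, Subgroup.mem_bot] at htV
        exact ht1 htV
      · rw [pow_one] at hk
        obtain ⟨y, -, hy⟩ := (Nat.card_eq_two_iff' (1 : ↥V)).1 hk
        have e1 := hy ⟨t, ⟨htT, htC⟩⟩ (fun h => ht1 (congrArg Subtype.val h))
        have e2 := hy ⟨t', ⟨ht'T, ht'C⟩⟩ (fun h => ht'1 (congrArg Subtype.val h))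
        exact htt' (congrArg Subtype.val (e1.trans e2.symm))
    have h4V : 4 ∣ Nat.card V := by
      rw [hk]
      exact (by norm_num : (4 : ℕ) = 2 ^ 2) ▸ pow_dvd_pow 2 hk2
    exact h4V.trans (Subgroup.card_dvd_of_le le_sup_right)
  have h20 : 20 ∣ Nat.card K :=
    (by norm_num : (20 : ℕ) = 4 * 5) ▸ Nat.Coprime.mul_dvd_of_dvd_of_dvd (by norm_num) h4 h5
  have hK20 : 20 ≤ Nat.card K := Nat.le_of_dvd Nat.card_pos h20
  -- K ≤ N(P)
  have hKN : K ≤ normalizer ((P : Subgroup S) : Set S) :=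
    sup_le le_normalizer (inf_le_left.trans hTN)
  -- (k3) stabilizer trivial
  have hstab : stabilizer ↥K β = ⊥ := by
    rw [eq_bot_iff]
    intro k hk
    rw [mem_stabilizer_iff] at hk
    obtain ⟨a, ha, b, hb, hab⟩ := hk1 (k : S) k.2
    have hk' : (a * b) • β = β := by rw [← hab]; exact hk
    have := eq_one_of_smul_eq h21 P T a b ha hb.1 hb.2 β hβ hk'
    rw [Subgroup.mem_bot]
    apply Subtype.ext
    rw [hab, this.1, this.2, one_mul]; rfl
  have horb : (orbit ↥K β).ncard = Nat.card K := by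
    have h0 := MulAction.index_stabilizer ↥K β
    rw [hstab, Subgroup.index_bot] at h0
    exact h0.symm
  -- (k4) orbit ⊆ {P}ᶜ
  have hsub : orbit ↥K β ⊆ ({P}ᶜ : Set (Sylow 5 S)) := by
    rintro _ ⟨k, rfl⟩ hmem
    have hkP : (k : S) • β = P := hmem
    have h4' : (k : S)⁻¹ • P = P :=
      (Sylow.smul_eq_iff_mem_normalizer).2 (inv_mem (hKN k.2))
    have h5' : (k : S)⁻¹ • P = β := inv_smul_eq_iff.2 hkP.symm
    exact hβ (h5'.symm.trans h4')
  have hcompl : ({P}ᶜ : Set (Sylow 5 S)).ncard = 20 := by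
    rw [Set.ncard_compl, Set.ncard_singleton, h21]
  have heq : orbit ↥K β = ({P}ᶜ : Set (Sylow 5 S)) :=
    Set.eq_of_subset_of_ncard_le hsub (by rw [hcompl, horb]; exact hK20) (Set.toFinite _)
  have hγmem : γ ∈ orbit ↥K β := by rw [heq]; exact hγ
  obtain ⟨k, hk⟩ := hγmem
  obtain ⟨a, ha, b, hb, hab⟩ := hk1 (k : S) k.2
  refine ⟨a, ha, b, hb.1, hb.2, ?_⟩
  rw [← hab]
  exact hk.symm

/-- (B8) An element `u` of `T` whose square does not centralize `P` still centralizes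
`T ∩ C(P)`. -/
theorem conj_eq_of_sq_not_mem (h21 : Nat.card (Sylow 5 S) = 21) (P : Sylow 5 S) (T : Sylow 2 S)
    (hTN : (T : Subgroup S) ≤ normalizer ((P : Subgroup S) : Set S))
    (u : S) (huT : u ∈ T) (hu2 : u ^ 2 ∉ centralizer ((P : Subgroup S) : Set S))
    (t : S) (htT : t ∈ T) (htC : t ∈ centralizer ((P : Subgroup S) : Set S)) :
    u * t * u⁻¹ = t := by
  by_contra hne
  have hP := card_P h21 P
  set j := u ^ 2 with hj
  have hjT : j ∈ (T : Subgroup S) := pow_mem huT 2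
  have hjN : j ∈ normalizer ((P : Subgroup S) : Set S) := hTN hjT
  have hu4 : u ^ 4 ∈ centralizer ((P : Subgroup S) : Set S) :=
    pow_four_mem_centralizer h21 P u (hTN huT)
  have hj2C : j ^ 2 ∈ centralizer ((P : Subgroup S) : Set S) := by
    have : j ^ 2 = u ^ 4 := by rw [hj, ← pow_mul]
    rw [this]; exact hu4
  -- j centralizes T ∩ C
  have hjcent : ∀ s : S, s ∈ T → s ∈ centralizer ((P : Subgroup S) : Set S) → j * s * j⁻¹ = s :=
    fun s hsT hsC => conj_eq_of_sq_mem h21 P T hTN j hjT hj2C s hsT hsC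
  -- j^2 = 1
  have hj21 : j ^ 2 = 1 := by
    by_contra hne1
    have h22 : (j ^ 2) ^ 2 = 1 := sq_eq_one_of_mem h21 P T _ (pow_mem hjT 2) hj2C
    exact no_sqrt h21 (j ^ 2) h22 P (invol_centralizer_fix h21 P _ hj2C h22 hne1) j rfl
  have hjinv : j⁻¹ = j := by rw [inv_eq_iff_mul_eq_one, ← pow_two, hj21]
  -- j has another fixed point
  have hjP : j • P = P := (Sylow.smul_eq_iff_mem_normalizer).2 hjN
  have hex : ∃ β : Sylow 5 S, j • β = β ∧ β ≠ P := by
    by_contra hcon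
    push Not at hcon
    refine no_sqrt h21 j hj21 P (fun b => ⟨fun hb => ?_, fun hb => hb ▸ hjP⟩) u rfl
    exact hcon b hb
  obtain ⟨β, hjβ, hβ⟩ := hex
  -- the elements t, t'
  have ht2 : t ^ 2 = 1 := sq_eq_one_of_mem h21 P T t htT htC
  set t' := u * t * u⁻¹ with ht'
  have ht'T : t' ∈ (T : Subgroup S) := mul_mem (mul_mem huT htT) (inv_mem huT)
  have ht'C : t' ∈ centralizer ((P : Subgroup S) : Set S) :=
    conj_mem_centralizer P u t (hTN huT) htC
  have ht1 : t ≠ 1 := by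
    intro h
    apply hne
    simp [ht', h]
  have ht'1 : t' ≠ 1 := by
    intro h
    apply ht1
    have : t = u⁻¹ * t' * u := by rw [ht']; group
    rw [this, h]; group
  set r₀ := t' * t with hr₀
  have hr₀T : r₀ ∈ (T : Subgroup S) := mul_mem ht'T htT
  have hr₀C : r₀ ∈ centralizer ((P : Subgroup S) : Set S) := mul_mem ht'C htC
  have hr₀2 : r₀ ^ 2 = 1 := sq_eq_one_of_mem h21 P T r₀ hr₀T hr₀C
  have hr₀1 : r₀ ≠ 1 := by
    intro h
    apply hne
    have h2 : t' = t⁻¹ := eq_inv_of_mul_eq_one_left h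
    rw [h2, inv_eq_iff_mul_eq_one, ← pow_two, ht2]
  -- (u t)^2 = j r₀
  have hjt' : j * t' = t' * j := by
    have := hjcent t' ht'T ht'C
    rw [mul_inv_eq_iff_eq_mul] at this
    exact this
  have hsq : (u * t) ^ 2 = j * r₀ := by
    have h1 : (u * t) ^ 2 = t' * j * t := by rw [ht', hj, pow_two, pow_two]; group
    rw [h1, ← hjt', hr₀, mul_assoc]
  have hjr₀ : j * r₀ = r₀ * j := by
    have := hjcent r₀ hr₀T hr₀C
    rw [mul_inv_eq_iff_eq_mul] at this
    exact this
  have hjr₀2 : (j * r₀) ^ 2 = 1 := by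
    have hc : Commute j r₀ := hjr₀
    rw [hc.mul_pow, hj21, hr₀2, mul_one]
  have hr₀N : r₀ ∈ normalizer ((P : Subgroup S) : Set S) := hTN hr₀T
  -- unique fixed point of j r₀
  have hfix : ∀ b : Sylow 5 S, (j * r₀) • b = b ↔ b = P := by
    intro γ
    constructor
    · intro hγfix
      by_contra hγ
      obtain ⟨x', hx', w, hwT, hwC, hγeq⟩ :=
        exists_smul_eq h21 P T hTN t t' htT htC ht'T ht'C ht1 ht'1 (Ne.symm hne) β γ hβ hγ
      -- j inverts x'
      have hjx : j * x' * j⁻¹ = x'⁻¹ := conj_eq_inv_of_not_mem P hP j hjN hu2 hj21 x' hx'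
      have hjx' : j * x' = x'⁻¹ * j := by
        rw [mul_inv_eq_iff_eq_mul] at hjx; exact hjx
      have hr₀x : x' * r₀ = r₀ * x' := (mem_centralizer_iff.1 hr₀C) x' hx'
      have hwx : x' * w = w * x' := (mem_centralizer_iff.1 hwC) x' hx'
      have hjw : j * (r₀ * w) = (r₀ * w) * j := by
        have := hjcent (r₀ * w) (mul_mem hr₀T hwT) (mul_mem hr₀C hwC)
        rw [mul_inv_eq_iff_eq_mul] at this
        exact this
      -- (j r₀)(x' w) = x'⁻¹ (r₀ w) j
      have hprod : (j * r₀) * (x' * w) = x'⁻¹ * (r₀ * w) * j := by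
        calc (j * r₀) * (x' * w) = j * (r₀ * x') * w := by group
          _ = j * (x' * r₀) * w := by rw [hr₀x]
          _ = (j * x') * (r₀ * w) := by group
          _ = x'⁻¹ * j * (r₀ * w) := by rw [hjx']
          _ = x'⁻¹ * (j * (r₀ * w)) := by group
          _ = x'⁻¹ * ((r₀ * w) * j) := by rw [hjw]
          _ = x'⁻¹ * (r₀ * w) * j := by group
      have h1 : (x'⁻¹ * (r₀ * w)) • β = (x' * w) • β := by
        have h2 : ((j * r₀) * (x' * w)) • β = (x' * w) • β := by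
          rw [mul_smul, ← hγeq]; exact hγfix
        rw [hprod, mul_smul, hjβ] at h2
        exact h2
      -- ((x' w)⁻¹ x'⁻¹ r₀ w) β = β
      have h3 : ((x' * w)⁻¹ * (x'⁻¹ * (r₀ * w))) • β = β := by
        rw [mul_smul, h1, inv_smul_smul]
      have h4 : (x' * w)⁻¹ * (x'⁻¹ * (r₀ * w)) = (x' ^ 2)⁻¹ * (w⁻¹ * r₀ * w) := by
        have hwx' : w⁻¹ * x'⁻¹ = x'⁻¹ * w⁻¹ := by
          rw [← mul_inv_rev, ← mul_inv_rev, hwx]
        calc (x' * w)⁻¹ * (x'⁻¹ * (r₀ * w)) = (w⁻¹ * x'⁻¹) * x'⁻¹ * (r₀ * w) := by group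
          _ = (x'⁻¹ * w⁻¹) * x'⁻¹ * (r₀ * w) := by rw [hwx']
          _ = x'⁻¹ * (w⁻¹ * x'⁻¹) * (r₀ * w) := by group
          _ = x'⁻¹ * (x'⁻¹ * w⁻¹) * (r₀ * w) := by rw [hwx']
          _ = (x' ^ 2)⁻¹ * (w⁻¹ * r₀ * w) := by group
      rw [h4] at h3
      have hcC : w⁻¹ * r₀ * w ∈ centralizer ((P : Subgroup S) : Set S) :=
        mul_mem (mul_mem (inv_mem hwC) hr₀C) hwC
      have hcT : w⁻¹ * r₀ * w ∈ (T : Subgroup S) := mul_mem (mul_mem (inv_mem hwT) hr₀T) hwT
      have h5 := eq_one_of_smul_eq h21 P T ((x' ^ 2)⁻¹) (w⁻¹ * r₀ * w)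
        (inv_mem (pow_mem hx' 2)) hcT hcC β hβ h3
      apply hr₀1
      have h6 : w⁻¹ * r₀ * w = 1 := h5.2
      have : r₀ = w * (w⁻¹ * r₀ * w) * w⁻¹ := by group
      rw [this, h6]; group
    · rintro rfl
      rw [mul_smul, (Sylow.smul_eq_iff_mem_normalizer).2 hr₀N, hjP]
  exact no_sqrt h21 (j * r₀) hjr₀2 P hfix (u * t) hsq

/-- (B9) The Sylow 2-subgroup `T ≤ N(P)` is abelian. -/
theorem comm_of_mem (h21 : Nat.card (Sylow 5 S) = 21) (P : Sylow 5 S) (T : Sylow 2 S)
    (hTN : (T : Subgroup S) ≤ normalizer ((P : Subgroup S) : Set S))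
    (a b : S) (ha : a ∈ T) (hb : b ∈ T) : a * b = b * a := by
  have hP := card_P h21 P
  have hcyc : IsCyclic ↥(P : Subgroup S) := isCyclic_of_prime_card hP
  have hcycA : IsCyclic (MulAut ↥(P : Subgroup S)) := by
    have : Fact (Nat.card ↥(P : Subgroup S)).Prime := ⟨by rw [hP]; norm_num⟩
    exact isCyclic_of_injective (IsCyclic.mulAutMulEquiv ↥(P : Subgroup S)).toMonoidHom
      (IsCyclic.mulAutMulEquiv ↥(P : Subgroup S)).injective
  set f : ↥(T : Subgroup S) →* MulAut ↥(P : Subgroup S) :=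
    ((P : Subgroup S).normalizerMonoidHom).comp (Subgroup.inclusion hTN) with hf
  have hker : f.ker ≤ center ↥(T : Subgroup S) := by
    intro v hv
    rw [MonoidHom.mem_ker, hf, MonoidHom.comp_apply] at hv
    have hv' : (Subgroup.inclusion hTN v) ∈ ((P : Subgroup S).normalizerMonoidHom).ker := hv
    rw [normalizerMonoidHom_ker, mem_subgroupOf] at hv'
    have hvC : (v : S) ∈ centralizer ((P : Subgroup S) : Set S) := hv'
    rw [Subgroup.mem_center_iff]
    intro u
    apply Subtype.ext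
    have hconj : (u : S) * (v : S) * (u : S)⁻¹ = (v : S) := by
      by_cases hu2 : (u : S) ^ 2 ∈ centralizer ((P : Subgroup S) : Set S)
      · exact conj_eq_of_sq_mem h21 P T hTN u u.2 hu2 v v.2 hvC
      · exact conj_eq_of_sq_not_mem h21 P T hTN u u.2 hu2 v v.2 hvC
    rw [mul_inv_eq_iff_eq_mul] at hconj
    exact hconj
  have hc := MonoidHom.isMulCommutative_of_isCyclic_of_ker_le_center f hker
  have h := hc.is_comm.comm ⟨a, ha⟩ ⟨b, hb⟩
  exact congrArg Subtype.val h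

end

end Cfsg.Agent.Lib.Helper38.Hall21
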