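import Mathlib
import Cfsg.Agent.Lib.Helper38.Hall21B
import Cfsg.Agent.Lib.Helper55.TransferEval
import Cfsg.Agent.Lib.Helper76.SylowNorm

/-!
# No simple group has 21 Sylow 5-subgroups, part C: the transfer argument
-/

set_option autoImplicit false

namespace Cfsg.Agent.Lib.Helper38.Hall21

open Subgroup MulAction Equiv Cfsg.Agent.Lib.Helper17 Cfsg.Agent.Lib.Helper38.SylNum

section
variable {S : Type*} [Group S] [Finite S] [IsSimpleGroup S]
variable [Fintype (Sylow 5 S)] [DecidableEq (Sylow 5 S)]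

theorem false_of_card_sylow_five (h21 : Nat.card (Sylow 5 S) = 21) : False := by
  obtain ⟨P⟩ := (Sylow.nonempty : Nonempty (Sylow 5 S))
  have hP := card_P h21 P
  have hcyc : IsCyclic ↥(P : Subgroup S) := isCyclic_of_prime_card hP
  have hidx : (normalizer ((P : Subgroup S) : Set S)).index = 21 := by
    rw [← h21]; exact (P.card_eq_index_normalizer).symm
  have h21S : 21 ∣ Nat.card S := by rw [← hidx]; exact Subgroup.index_dvd_card _
  have h5S : 5 ∣ Nat.card S := by
    have := Subgroup.card_subgroup_dvd_card (P : Subgroup S)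
    rwa [hP] at this
  have hnp : ¬ (Nat.card S).Prime := by
    intro hpr
    have e1 := (Nat.prime_dvd_prime_iff_eq (by norm_num : Nat.Prime 5) hpr).1 h5S
    have e2 := (Nat.prime_dvd_prime_iff_eq (by norm_num : Nat.Prime 3) hpr).1
      ((by norm_num : 3 ∣ 21).trans h21S)
    omega
  have hnc : ¬ IsMulCommutative S := not_comm_of_simple_of_not_prime hnp
  have hNC : ¬ (normalizer ((P : Subgroup S) : Set S) ≤ centralizer ((P : Subgroup S) : Set S)) :=
    not_normalizer_le_centralizer_of_simple hnc P h5S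
  -- Sylow 2-subgroup inside N(P)
  have : Fact (Nat.Prime 2) := ⟨Nat.prime_two⟩
  obtain ⟨T, hTN⟩ := Cfsg.Agent.Lib.Helper76.exists_sylow_le_of_not_dvd_index 2
    (normalizer ((P : Subgroup S) : Set S)) (by rw [hidx]; norm_num)
  -- an element of T acting nontrivially on P
  have hrel4 : (centralizer ((P : Subgroup S) : Set S)).relIndex
      (normalizer ((P : Subgroup S) : Set S)) ∣ 4 := by
    have h1 := relIndex_centralizer_normalizer_dvd_card_mulAut (P : Subgroup S)
    rwa [IsCyclic.card_mulAut, hP, Nat.totient_prime (by norm_num : Nat.Prime 5)] at h1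
  have hw : ∃ w ∈ (T : Subgroup S), w ∉ centralizer ((P : Subgroup S) : Set S) := by
    by_contra hcon
    push Not at hcon
    have hTC : (T : Subgroup S) ≤ centralizer ((P : Subgroup S) : Set S) := hcon
    have h1 := relIndex_mul_relIndex (T : Subgroup S) (centralizer ((P : Subgroup S) : Set S))
      (normalizer ((P : Subgroup S) : Set S)) hTC (centralizer_le_normalizer _)
    have h2 : (centralizer ((P : Subgroup S) : Set S)).relIndex
        (normalizer ((P : Subgroup S) : Set S)) ∣ (T : Subgroup S).index :=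
      (Dvd.intro_left _ h1).trans (relIndex_dvd_index_of_le hTN)
    have h3 : (centralizer ((P : Subgroup S) : Set S)).relIndex
        (normalizer ((P : Subgroup S) : Set S)) ≠ 1 := fun h => hNC (relIndex_eq_one.1 h)
    have h4 : 2 ∣ (centralizer ((P : Subgroup S) : Set S)).relIndex
        (normalizer ((P : Subgroup S) : Set S)) := by
      have hle := Nat.le_of_dvd (by norm_num) hrel4
      interval_cases hr : (centralizer ((P : Subgroup S) : Set S)).relIndex
        (normalizer ((P : Subgroup S) : Set S)) <;> omega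
    exact T.not_dvd_index (h4.trans h2)
  obtain ⟨w, hwT, hwC⟩ := hw
  have hw1 : w ≠ 1 := fun h => hwC (h ▸ one_mem _)
  have h2S : 2 ∣ Nat.card S := by
    have hT2 : 2 ∣ Nat.card (T : Subgroup S) := by
      obtain ⟨k, hk⟩ := T.isPGroup'.exists_card_eq
      rcases Nat.eq_zero_or_pos k with h0 | h0
      · exfalso
        rw [h0, pow_zero] at hk
        have := Subgroup.card_eq_one.1 hk
        rw [this, Subgroup.mem_bot] at hwT
        exact hw1 hwT
      · rw [hk]; exact dvd_pow_self 2 h0.ne'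
    exact hT2.trans (Subgroup.card_subgroup_dvd_card _)
  -- T is abelian
  have hTcomm : ∀ a b : S, a ∈ T → b ∈ T → a * b = b * a :=
    fun a b ha hb => comm_of_mem h21 P T hTN a b ha hb
  have hTmc : IsMulCommutative ↥(T : Subgroup S) :=
    ⟨⟨fun a b => Subtype.ext (hTcomm a b a.2 b.2)⟩⟩
  -- the homomorphism to an abelian group
  set e := IsCyclic.mulAutMulEquiv ↥(P : Subgroup S) with he
  set ϕN : ↥(normalizer ((P : Subgroup S) : Set S)) →* (ZMod (Nat.card ↥(P : Subgroup S)))ˣ :=
    e.toMonoidHom.comp ((P : Subgroup S).normalizerMonoidHom) with hϕN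
  have hkerN : ∀ g : ↥(normalizer ((P : Subgroup S) : Set S)),
      ϕN g = 1 ↔ (g : S) ∈ centralizer ((P : Subgroup S) : Set S) := by
    intro g
    rw [hϕN, MonoidHom.comp_apply]
    have h1 : e.toMonoidHom ((P : Subgroup S).normalizerMonoidHom g) = 1 ↔
        (P : Subgroup S).normalizerMonoidHom g = 1 := by
      constructor
      · intro h
        exact e.injective (h.trans (map_one e).symm)
      · intro h
        rw [h]; exact map_one _
    rw [h1, ← MonoidHom.mem_ker, normalizerMonoidHom_ker, mem_subgroupOf]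
  by_cases hV : (T : Subgroup S) ⊓ centralizer ((P : Subgroup S) : Set S) = ⊥
  · -- T embeds into a cyclic group, hence is cyclic
    have hcycA : IsCyclic (ZMod (Nat.card ↥(P : Subgroup S)))ˣ := by
      have : Fact (Nat.card ↥(P : Subgroup S)).Prime := ⟨by rw [hP]; norm_num⟩
      infer_instance
    have hinjT : Function.Injective (ϕN.comp (Subgroup.inclusion hTN)) := by
      rw [← MonoidHom.ker_eq_bot_iff, eq_bot_iff]
      intro v hv
      rw [MonoidHom.mem_ker, MonoidHom.comp_apply, hkerN] at hv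
      have hv' : (v : S) ∈ (T : Subgroup S) ⊓ centralizer ((P : Subgroup S) : Set S) :=
        ⟨v.2, hv⟩
      rw [hV, Subgroup.mem_bot] at hv'
      rw [Subgroup.mem_bot]
      exact Subtype.ext hv'
    have hTcyc : IsCyclic ↥(T : Subgroup S) := isCyclic_of_injective _ hinjT
    have hmin : (Nat.card S).minFac = 2 := (Nat.minFac_eq_two_iff _).2 h2S
    exact not_normalizer_le_centralizer_of_simple hnc T h2S
      (IsCyclic.normalizer_le_centralizer hmin hTcyc)
  · -- an involution t in T ∩ C(P)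
    obtain ⟨⟨t, htT, htC⟩, ht1⟩ := (Subgroup.ne_bot_iff_exists_ne_one).1 hV
    have ht1' : t ≠ 1 := fun h => ht1 (Subtype.ext h)
    have ht2 : t ^ 2 = 1 := sq_eq_one_of_mem h21 P T t htT htC
    have htfix := invol_centralizer_fix h21 P t htC ht2 ht1'
    -- N(T) ≤ N(P)
    have hNT : ∀ n : S, n ∈ normalizer ((T : Subgroup S) : Set S) →
        n ∈ normalizer ((P : Subgroup S) : Set S) := by
      intro n hn
      have h1 : n * t * n⁻¹ ∈ (T : Subgroup S) := (mem_normalizer_iff.1 hn t).1 htT
      have h2 : (n * t * n⁻¹) • P = P :=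
        (Sylow.smul_eq_iff_mem_normalizer).2 (hTN h1)
      have h3 : t • (n⁻¹ • P) = n⁻¹ • P := by
        have : (n * t * n⁻¹) • P = n • (t • (n⁻¹ • P)) := by rw [mul_smul, mul_smul]
        rw [this] at h2
        exact (smul_eq_iff_eq_inv_smul n).1 h2
      have h4 : n⁻¹ • P = P := (htfix _).1 h3
      have h5 : n⁻¹ ∈ normalizer ((P : Subgroup S) : Set S) :=
        (Sylow.smul_eq_iff_mem_normalizer).1 h4
      simpa using inv_mem h5
    -- transfer
    set ϕT : ↥(T : Subgroup S) →* (ZMod (Nat.card ↥(P : Subgroup S)))ˣ :=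
      ϕN.comp (Subgroup.inclusion hTN) with hϕT
    have key : ∀ (k : ℕ) (g₀ : S) (hk : g₀⁻¹ * w ^ k * g₀ ∈ (T : Subgroup S)),
        ϕT ⟨g₀⁻¹ * w ^ k * g₀, hk⟩ = ϕT ⟨w, hwT⟩ ^ k := by
      intro k g₀ hk
      obtain ⟨n, hn, hconj⟩ := T.conj_eq_normalizer_conj_of_mem (w ^ k) g₀ (pow_mem hwT k) hk
      have hnN : n ∈ normalizer ((P : Subgroup S) : Set S) := hNT n hn
      have heq : (Subgroup.inclusion hTN ⟨g₀⁻¹ * w ^ k * g₀, hk⟩ :
          ↥(normalizer ((P : Subgroup S) : Set S))) =
          (⟨n, hnN⟩ : ↥(normalizer ((P : Subgroup S) : Set S)))⁻¹ *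
            (Subgroup.inclusion hTN ⟨w, hwT⟩) ^ k * ⟨n, hnN⟩ := by
        apply Subtype.ext
        simpa using hconj
      show ϕN (Subgroup.inclusion hTN ⟨g₀⁻¹ * w ^ k * g₀, hk⟩)
        = (ϕN (Subgroup.inclusion hTN ⟨w, hwT⟩)) ^ k
      rw [heq, map_mul, map_mul, map_inv, map_pow, mul_comm, mul_inv_cancel_left]
    have htr := Cfsg.Agent.Lib.Helper55.transfer_eq_pow_index ϕT w hwT key
    -- ϕT w ≠ 1, of order dividing 4
    have hϕw1 : ϕT ⟨w, hwT⟩ ≠ 1 := by
      intro h
      have h' : ϕN (Subgroup.inclusion hTN ⟨w, hwT⟩) = 1 := h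
      rw [hkerN] at h'
      exact hwC h'
    have hϕw4 : ϕT ⟨w, hwT⟩ ^ 4 = 1 := by
      rw [← map_pow]
      show ϕN (Subgroup.inclusion hTN (⟨w, hwT⟩ ^ 4)) = 1
      rw [hkerN]
      exact pow_four_mem_centralizer h21 P w (hTN hwT)
    have htrne : MonoidHom.transfer ϕT w ≠ 1 := by
      rw [htr]
      intro h
      have h1 : orderOf (ϕT ⟨w, hwT⟩) ∣ (T : Subgroup S).index := orderOf_dvd_of_pow_eq_one h
      have h2 : orderOf (ϕT ⟨w, hwT⟩) ∣ 4 := orderOf_dvd_of_pow_eq_one hϕw4
      have hodd : ¬ 2 ∣ (T : Subgroup S).index := T.not_dvd_index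
      have hcop : Nat.Coprime (T : Subgroup S).index 4 := by
        have : Nat.Coprime (T : Subgroup S).index 2 :=
          (Nat.coprime_comm.1 ((Nat.Prime.coprime_iff_not_dvd Nat.prime_two).2 hodd))
        exact (this.pow_right 2)
      have h3 : orderOf (ϕT ⟨w, hwT⟩) = 1 := Nat.eq_one_of_dvd_coprimes hcop h1 h2
      exact hϕw1 (orderOf_eq_one_iff.1 h3)
    -- simplicity
    rcases (MonoidHom.normal_ker (MonoidHom.transfer ϕT)).eq_bot_or_eq_top with h | h
    · apply hnc
      refine ⟨⟨fun a b => ?_⟩⟩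
      have hinj := (MonoidHom.ker_eq_bot_iff _).1 h
      apply hinj
      rw [map_mul, map_mul, mul_comm]
    · have : w ∈ (MonoidHom.transfer ϕT).ker := by rw [h]; trivial
      exact htrne this

end

end Cfsg.Agent.Lib.Helper38.Hall21
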