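/-
helper38: modules [HALL-UP], [HALL-DOWN], [HALL-ODD] of helper71's S2538/S2535
(Hall subgroups of alternating groups).
All declarations live in `Cfsg.Agent.Lib.Helper38.HallAlt`.
-/
import Mathlib
import Cfsg.Prelude.Def_HallClasses

set_option autoImplicit false

namespace Cfsg.Agent.Lib.Helper38.HallAlt

open Cfsg Equiv

variable {β : Type} [Fintype β] [DecidableEq β]

/-- the alternating group has index dividing two -/
theorem alt_index_dvd_two : (alternatingGroup β).index ∣ 2 := by
  have h1 : (alternatingGroup β) = (Perm.sign : Perm β →* ℤˣ).ker := rfl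
  rw [h1, Subgroup.index_ker]
  have h2 : Nat.card (Perm.sign : Perm β →* ℤˣ).range ∣ Nat.card ℤˣ :=
    Subgroup.card_subgroup_dvd_card _
  have h3 : Nat.card ℤˣ = 2 := by
    rw [Nat.card_eq_fintype_card]; rfl
  rwa [h3] at h2

/-- a subgroup not inside the alternating group meets it in index two, and the alternating
group then has index two -/
theorem relIndex_alt_eq_two (K : Subgroup (Perm β)) (hKA : ¬ K ≤ alternatingGroup β) :
    (alternatingGroup β).relIndex K = 2 ∧ (alternatingGroup β).index = 2 := by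
  have h1 : (alternatingGroup β).relIndex K ∣ (alternatingGroup β).index :=
    Subgroup.relIndex_dvd_index_of_normal _ _
  have h2 : (alternatingGroup β).relIndex K ≠ 1 := by
    rw [Ne, Subgroup.relIndex_eq_one]; exact hKA
  have h3 := alt_index_dvd_two (β := β)
  have h4 : (alternatingGroup β).relIndex K ∣ 2 := h1.trans h3
  have h5 : (alternatingGroup β).relIndex K = 2 := by
    rcases (Nat.dvd_prime Nat.prime_two).mp h4 with h | h
    · exact absurd h h2
    · exact h
  refine ⟨h5, ?_⟩
  rw [h5] at h1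
  exact Nat.dvd_antisymm h3 h1

/-- [HALL-UP] -/
theorem hall_up (π : Set ℕ) (M K : Subgroup (Perm β))
    (hM : IsPiHallOf π M (alternatingGroup β)) (hMK : M ≤ K)
    (hK : ∀ p : ℕ, p.Prime → p ∣ Nat.card K → p ∈ π) (hKA : ¬ K ≤ alternatingGroup β) :
    IsPiHall π K ∧ K ⊓ alternatingGroup β = M := by
  obtain ⟨hMA, hMπ, hMi⟩ := hM
  have hle : M ≤ K ⊓ alternatingGroup β := le_inf hMK hMA
  -- K ⊓ A = M
  have hrel : M.relIndex (K ⊓ alternatingGroup β) = 1 := by
    by_contra hne
    obtain ⟨r, hr, hrd⟩ := Nat.exists_prime_and_dvd hne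
    have h1 : r ∣ Nat.card (K ⊓ alternatingGroup β : Subgroup (Perm β)) :=
      hrd.trans (Subgroup.relIndex_dvd_card _ _)
    have h2 : r ∣ Nat.card K :=
      h1.trans (Subgroup.card_dvd_of_le inf_le_left)
    have h3 : M.relIndex (K ⊓ alternatingGroup β) ∣ M.relIndex (alternatingGroup β) := by
      rw [← Subgroup.relIndex_mul_relIndex M (K ⊓ alternatingGroup β) (alternatingGroup β) hle
        inf_le_right]
      exact Dvd.intro _ rfl
    exact hMi r hr (hK r hr h2) (hrd.trans h3)
  have heq : K ⊓ alternatingGroup β = M :=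
    le_antisymm (Subgroup.relIndex_eq_one.mp hrel) hle
  refine ⟨⟨hK, ?_⟩, heq⟩
  obtain ⟨hA2, hAi⟩ := relIndex_alt_eq_two K hKA
  -- M.relIndex K = 2
  have hMK2 : M.relIndex K = 2 := by
    have h := Subgroup.relIndex_mul_relIndex M (K ⊓ alternatingGroup β) K hle inf_le_left
    rw [hrel, one_mul] at h
    rw [← h, inf_comm, Subgroup.inf_relIndex_right, hA2]
  have e1 : M.relIndex K * K.index = M.index := Subgroup.relIndex_mul_index hMK
  have e2 : M.relIndex (alternatingGroup β) * (alternatingGroup β).index = M.index :=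
    Subgroup.relIndex_mul_index hMA
  rw [hMK2] at e1
  rw [hAi] at e2
  have e3 : K.index = M.relIndex (alternatingGroup β) := by omega
  intro p hp hpπ
  rw [e3]
  exact hMi p hp hpπ

/-- [HALL-DOWN] -/
theorem hall_down (π : Set ℕ) (K : Subgroup (Perm β)) (hK : IsPiHall π K) :
    IsPiHallOf π (K ⊓ alternatingGroup β) (alternatingGroup β) := by
  obtain ⟨hKπ, hKi⟩ := hK
  refine ⟨inf_le_right, ?_, ?_⟩
  · intro p hp hpd
    exact hKπ p hp (hpd.trans (Subgroup.card_dvd_of_le inf_le_left))
  · have hdvd : (K ⊓ alternatingGroup β).relIndex (alternatingGroup β) ∣ K.index := by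
      by_cases hKA : K ≤ alternatingGroup β
      · rw [inf_eq_left.mpr hKA]
        exact Subgroup.relIndex_dvd_index_of_le hKA
      · obtain ⟨hA2, hAi⟩ := relIndex_alt_eq_two K hKA
        have e1 : (K ⊓ alternatingGroup β).relIndex K * K.index
            = (K ⊓ alternatingGroup β).index := Subgroup.relIndex_mul_index inf_le_left
        have e2 : (K ⊓ alternatingGroup β).relIndex (alternatingGroup β)
            * (alternatingGroup β).index = (K ⊓ alternatingGroup β).index :=
          Subgroup.relIndex_mul_index inf_le_right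
        rw [inf_comm, Subgroup.inf_relIndex_right, hA2] at e1
        rw [hAi, inf_comm] at e2
        have e3 : (alternatingGroup β ⊓ K).relIndex (alternatingGroup β) = K.index := by omega
        rw [inf_comm, e3]
    intro p hp hpπ hpd
    exact hKi p hp hpπ (hpd.trans hdvd)

/-- [HALL-ODD] -/
theorem hall_of_two_not_mem (π : Set ℕ) (M : Subgroup (Perm β))
    (hM : IsPiHallOf π M (alternatingGroup β)) (h2 : 2 ∉ π) : IsPiHall π M := by
  obtain ⟨hMA, hMπ, hMi⟩ := hM
  refine ⟨hMπ, ?_⟩
  intro p hp hpπ hpd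
  rw [← Subgroup.relIndex_mul_index hMA] at hpd
  rcases (Nat.Prime.dvd_mul hp).mp hpd with h | h
  · exact hMi p hp hpπ h
  · have h3 : p ∣ 2 := h.trans alt_index_dvd_two
    have h4 : p = 2 := (Nat.prime_dvd_prime_iff_eq hp Nat.prime_two).mp h3
    exact h2 (h4 ▸ hpπ)

end Cfsg.Agent.Lib.Helper38.HallAlt
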