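import Mathlib
import Cfsg.Agent.Lib.Helper96.NilpotentPerm

/-!
# Nilpotent subgroups of `Perm Ω` of order `3 * 2^k` (helper38)

Equality case of the bound on nilpotent subgroups of symmetric / alternating groups of degree
`n ≡ 3 (mod 4)`: such a subgroup is `Q × ⟨z⟩` with `z` a 3-cycle and `Q` a 2-group fixing the
support of `z` pointwise.
-/

set_option autoImplicit false

namespace Cfsg.Agent.Lib.Helper38.NilpThree

open Equiv Equiv.Perm Subgroup
open scoped Pointwise

/-- Numeric core: if `2^k` divides `(m+3-3c)! * 3^c * c!` with `k + 1 ≥ ν₂(m!)`, `4 ∣ m`, then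
`c = 1`. -/
theorem c_eq_one (m c k : ℕ) (hm : m % 4 = 0) (hc : 1 ≤ c) (h3c : 3 * c ≤ m + 3)
    (hk : m.factorial.factorization 2 ≤ k + 1)
    (hdvd : 2 ^ k ∣ (m + 3 - 3 * c).factorial * 3 ^ c * c.factorial) : c = 1 := by
  by_contra hne
  have hc2 : 2 ≤ c := by omega
  have hm4 : 4 ≤ m := by omega
  -- remove the power of 3
  have hcop : Nat.Coprime (2 ^ k) (3 ^ c) := Nat.Coprime.pow _ _ (by norm_num)
  have h1 : 2 ^ k ∣ (m + 3 - 3 * c).factorial * c.factorial := by
    have : 2 ^ k ∣ 3 ^ c * ((m + 3 - 3 * c).factorial * c.factorial) := by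
      convert hdvd using 1; ring
    exact hcop.dvd_of_dvd_mul_left this
  have h2 : (m + 3 - 3 * c).factorial * c.factorial ∣ (m + 3 - 3 * c + c).factorial :=
    Nat.factorial_mul_factorial_dvd_factorial_add _ _
  have h3 : (m + 3 - 3 * c + c).factorial ∣ (m - 1).factorial :=
    Nat.factorial_dvd_factorial (by omega)
  have h4 : 2 ^ k ∣ (m - 1).factorial := h1.trans (h2.trans h3)
  have h5 : k ≤ (m - 1).factorial.factorization 2 :=
    (Nat.Prime.pow_dvd_iff_le_factorization Nat.prime_two (Nat.factorial_ne_zero _)).1 h4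
  have h6 : m.factorial = m * (m - 1).factorial := by
    obtain ⟨j, rfl⟩ : ∃ j, m = j + 1 := ⟨m - 1, by omega⟩
    simp [Nat.factorial_succ]
  have h7 : m.factorial.factorization 2 = m.factorization 2 + (m - 1).factorial.factorization 2 := by
    rw [h6, Nat.factorization_mul (by omega) (Nat.factorial_ne_zero _)]
    simp
  have h8 : 2 ≤ m.factorization 2 := by
    have : 2 ^ 2 ∣ m := by
      have : 4 ∣ m := Nat.dvd_of_mod_eq_zero hm
      simpa using this
    exact (Nat.Prime.pow_dvd_iff_le_factorization Nat.prime_two (by omega)).1 this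
  omega

/-- Two `p`-subgroups of `H` of full `p`-power order are conjugate under `H`. -/
theorem exists_conj_of_card_eq {G : Type*} [Group G] [Finite G] (p : ℕ) [Fact p.Prime]
    (H Q₁ Q₂ : Subgroup G) (h1 : Q₁ ≤ H) (h2 : Q₂ ≤ H)
    (hc1 : Nat.card Q₁ = p ^ (Nat.card H).factorization p)
    (hc2 : Nat.card Q₂ = p ^ (Nat.card H).factorization p) :
    ∃ h ∈ H, Q₂ = Q₁.map (MulAut.conj h).toMonoidHom := by
  have e1 : Nat.card (Q₁.subgroupOf H) = p ^ (Nat.card H).factorization p := by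
    rw [Nat.card_congr (Subgroup.subgroupOfEquivOfLe h1).toEquiv, hc1]
  have e2 : Nat.card (Q₂.subgroupOf H) = p ^ (Nat.card H).factorization p := by
    rw [Nat.card_congr (Subgroup.subgroupOfEquivOfLe h2).toEquiv, hc2]
  obtain ⟨h, hh⟩ := MulAction.exists_smul_eq H (Sylow.ofCard _ e1) (Sylow.ofCard _ e2)
  refine ⟨h, h.2, ?_⟩
  have hh' : (MulAut.conj h) • (Q₁.subgroupOf H) = Q₂.subgroupOf H := by
    have := congrArg (fun S : Sylow p H => (S : Subgroup H)) hh
    simp only [Sylow.coe_ofCard] at this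
    exact this
  ext x
  constructor
  · intro hx
    have hxH : x ∈ H := h2 hx
    have : (⟨x, hxH⟩ : H) ∈ Q₂.subgroupOf H := by
      rw [Subgroup.mem_subgroupOf]; exact hx
    rw [← hh', Subgroup.mem_pointwise_smul_iff_inv_smul_mem] at this
    rw [Subgroup.mem_subgroupOf] at this
    rw [Subgroup.mem_map]
    refine ⟨_, this, ?_⟩
    simp [MulAut.conj_apply, MulAut.smul_def, mul_assoc]
  · intro hx
    rw [Subgroup.mem_map] at hx
    obtain ⟨y, hy, rfl⟩ := hx
    have hyH : y ∈ H := h1 hy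
    have : (MulAut.conj h) • (⟨y, hyH⟩ : H) ∈ Q₂.subgroupOf H := by
      rw [← hh']
      exact Subgroup.smul_mem_pointwise_smul _ _ _ (by rw [Subgroup.mem_subgroupOf]; exact hy)
    rw [Subgroup.mem_subgroupOf] at this
    simpa [MulAut.conj_apply, MulAut.smul_def] using this


variable {Ω : Type*} [Fintype Ω] [DecidableEq Ω]

/-- An element of order 3 has cycle type `3^c`, and its centralizer has order
`(n - 3c)! * 3^c * c!`. -/
theorem card_centralizer_of_orderOf_three (z : Perm Ω) (hz : orderOf z = 3) :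
    ∃ c : ℕ, 1 ≤ c ∧ 3 * c ≤ Fintype.card Ω ∧ z.cycleType = Multiset.replicate c 3 ∧
      Nat.card (centralizer ({z} : Set (Perm Ω))) =
        (Fintype.card Ω - 3 * c).factorial * 3 ^ c * c.factorial := by
  obtain ⟨k, hk⟩ := cycleType_prime_order (σ := z) (by rw [hz]; norm_num)
  rw [hz] at hk
  obtain ⟨c, hc, hck⟩ : ∃ c, c ≠ 0 ∧ c = k + 1 := ⟨k + 1, by omega, rfl⟩
  rw [← hck] at hk
  refine ⟨c, by omega, ?_, hk, ?_⟩
  · have h1 : z.cycleType.sum = z.support.card := sum_cycleType z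
    rw [hk, Multiset.sum_replicate, smul_eq_mul] at h1
    have h2 : z.support.card ≤ Fintype.card Ω := Finset.card_le_univ _
    omega
  · have hfs : (Multiset.replicate c 3).toFinset = {3} := by
      ext x
      simp [hc]
    rw [nat_card_centralizer, hk, hfs, Multiset.sum_replicate, Multiset.prod_replicate,
      Finset.prod_singleton, Multiset.count_replicate_self, smul_eq_mul, mul_comm c 3]

/-- A 2-element commuting with a 3-cycle fixes its support pointwise. -/
theorem apply_eq_of_commute_threeCycle {z q : Perm Ω} (hz : z.IsThreeCycle) (hqz : Commute q z)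
    {k : ℕ} (hq : q ^ (2 ^ k) = 1) {x : Ω} (hx : x ∈ z.support) : q x = x := by
  have hcyc : z.IsCycle := hz.isCycle
  have hzx : z x ≠ x := mem_support.1 hx
  have hqx : z (q x) ≠ q x := by
    intro h
    apply hzx
    have : q (z x) = q x := by
      rw [← Perm.mul_apply, hqz.eq, Perm.mul_apply, h]
    exact q.injective this
  obtain ⟨i, hi⟩ := hcyc.exists_pow_eq hzx hqx
  -- q^j x = z^(i*j) x
  have hpow : ∀ j : ℕ, (q ^ j) x = (z ^ (i * j)) x := by
    intro j
    induction j with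
    | zero => simp
    | succ j ih =>
      rw [pow_succ', Perm.mul_apply, ih]
      have hc : Commute q (z ^ (i * j)) := hqz.pow_right _
      rw [← Perm.mul_apply, hc.eq, Perm.mul_apply, ← hi, ← Perm.mul_apply, ← pow_add]
      congr 2
  have h1 := hpow (2 ^ k)
  rw [hq, Perm.one_apply] at h1
  have h2 : z ^ (i * 2 ^ k) = 1 := (hcyc.pow_eq_one_iff' hzx).2 h1.symm
  have h3 : orderOf z ∣ i * 2 ^ k := orderOf_dvd_of_pow_eq_one h2
  rw [hz.orderOf] at h3
  have h4 : 3 ∣ i := by
    have hcop : Nat.Coprime 3 (2 ^ k) := Nat.Coprime.pow_right _ (by norm_num)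
    exact hcop.dvd_of_dvd_mul_right h3
  have h5 : z ^ i = 1 := by
    obtain ⟨t, rfl⟩ := h4
    rw [pow_mul, ← hz.orderOf, pow_orderOf_eq_one, one_pow]
  rw [← hi, h5, Perm.one_apply]

/-- The pointwise stabilizer of a finset in `Perm Ω`. -/
def fixS (s : Finset Ω) : Subgroup (Perm Ω) where
  carrier := {f | ∀ a ∈ s, f a = a}
  one_mem' := fun a _ => rfl
  mul_mem' := fun {f g} hf hg a ha => by
    rw [Perm.mul_apply, hg a ha, hf a ha]
  inv_mem' := fun {f} hf a ha => by
    rw [Perm.inv_eq_iff_eq, hf a ha]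

omit [Fintype Ω] [DecidableEq Ω] in
theorem mem_fixS {s : Finset Ω} {f : Perm Ω} : f ∈ fixS s ↔ ∀ a ∈ s, f a = a := Iff.rfl

theorem card_fixS (s : Finset Ω) : Nat.card (fixS s) = (Fintype.card Ω - s.card).factorial := by
  have e : Perm {a // a ∉ s} ≃ fixS s :=
    (Perm.subtypeEquivSubtypePerm (fun a => a ∉ s)).trans
      (Equiv.subtypeEquivRight (fun f => by
        rw [mem_fixS]
        constructor
        · intro h a ha
          exact h a (not_not.2 ha)
        · intro h a ha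
          exact h a (not_not.1 ha)))
  rw [← Nat.card_congr e, Nat.card_eq_fintype_card, Fintype.card_perm]
  congr 1
  rw [Fintype.card_subtype_compl, Fintype.card_coe]

/-- Structure of a nilpotent subgroup of order `3 * 2^k` with `k + 1 ≥ ν₂(m!)` in `Perm Ω`,
`|Ω| = m + 3`, `4 ∣ m`. -/
theorem structure_of_card (m k : ℕ) (hΩ : Fintype.card Ω = m + 3) (hm : m % 4 = 0)
    (hk : m.factorial.factorization 2 ≤ k + 1)
    (N : Subgroup (Perm Ω)) (hN : Group.IsNilpotent N) (hcard : Nat.card N = 3 * 2 ^ k) :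
    ∃ (z : Perm Ω) (Q : Subgroup (Perm Ω)), z.IsThreeCycle ∧ Q ≤ fixS z.support ∧
      Nat.card Q = 2 ^ k ∧ N = Q ⊔ zpowers z := by
  have : Fact (Nat.Prime 2) := ⟨Nat.prime_two⟩
  have : Fact (Nat.Prime 3) := ⟨Nat.prime_three⟩
  have := hN
  let P2 : Sylow 2 N := default
  have hP2 : Nat.card P2 = 2 ^ k := by
    rw [Sylow.card_eq_multiplicity, hcard, Nat.factorization_mul (by norm_num) (by positivity),
      Nat.factorization_pow]
    simp [Nat.factorization_eq_zero_of_not_dvd (show ¬ 2 ∣ 3 by norm_num),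
      Nat.Prime.factorization_self Nat.prime_two]
  obtain ⟨z, hz⟩ := exists_prime_orderOf_dvd_card' (G := N) 3 (by rw [hcard]; exact dvd_mul_right _ _)
  have hzp : IsPGroup 3 (zpowers z) := by
    apply IsPGroup.of_card (n := 1)
    rw [Nat.card_zpowers, hz, pow_one]
  obtain ⟨P3, hP3⟩ := hzp.exists_le_sylow
  have hdis : Disjoint (P2 : Subgroup N) (P3 : Subgroup N) :=
    IsPGroup.disjoint_of_ne 2 3 (by norm_num) _ _ P2.isPGroup' P3.isPGroup'
  have hcomm : ∀ q ∈ (P2 : Subgroup N), Commute q z := fun q hq =>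
    Subgroup.commute_of_normal_of_disjoint _ _ inferInstance inferInstance hdis q z hq
      (hP3 (mem_zpowers z))
  set Q : Subgroup (Perm Ω) := (P2 : Subgroup N).map N.subtype with hQ
  have hQcard : Nat.card Q = 2 ^ k := by
    rw [hQ, Subgroup.card_map_of_injective N.subtype_injective, hP2]
  set z' : Perm Ω := (z : Perm Ω) with hz'
  have hz'3 : orderOf z' = 3 := by rw [hz', Subgroup.orderOf_coe, hz]
  have hQz : ∀ x ∈ Q, Commute x z' := by
    intro x hx
    obtain ⟨q, hq, rfl⟩ := Subgroup.mem_map.1 hx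
    have := hcomm q hq
    have h2 := congrArg (fun t : N => (t : Perm Ω)) this.eq
    exact h2
  have hQle : Q ≤ centralizer ({z'} : Set (Perm Ω)) := by
    intro x hx
    rw [Subgroup.mem_centralizer_iff]
    intro y hy
    rw [Set.mem_singleton_iff] at hy
    subst hy
    exact ((hQz x hx).eq).symm
  have hdvd : 2 ^ k ∣ Nat.card (centralizer ({z'} : Set (Perm Ω))) := by
    rw [← hQcard]; exact Subgroup.card_dvd_of_le hQle
  obtain ⟨c, hc1, hc3, hct, hcc⟩ := card_centralizer_of_orderOf_three z' hz'3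
  rw [hcc, hΩ] at hdvd
  rw [hΩ] at hc3
  have hc : c = 1 := c_eq_one m c k hm hc1 hc3 hk hdvd
  have hthree : z'.IsThreeCycle := by
    show z'.cycleType = {3}
    rw [hct, hc, Multiset.replicate_one]
  refine ⟨z', Q, hthree, ?_, hQcard, ?_⟩
  · intro x hx
    rw [mem_fixS]
    intro a ha
    obtain ⟨q, hq, rfl⟩ := Subgroup.mem_map.1 hx
    have hpow : (N.subtype q) ^ (2 ^ k) = 1 := by
      have h1 : (⟨q, hq⟩ : (P2 : Subgroup N)) ^ Nat.card (P2 : Subgroup N) = 1 := pow_card_eq_one'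
      rw [hP2] at h1
      have h2 := congrArg (fun t : (P2 : Subgroup N) => ((t : N) : Perm Ω)) h1
      simpa using h2
    exact apply_eq_of_commute_threeCycle hthree (hQz _ hx) hpow ha
  · have hle : Q ⊔ zpowers z' ≤ N := by
      apply sup_le
      · rw [hQ]; exact Subgroup.map_subtype_le _
      · rw [zpowers_le]; exact z.2
    symm
    apply Subgroup.eq_of_le_of_card_ge hle
    have d1 : 2 ^ k ∣ Nat.card (Q ⊔ zpowers z' : Subgroup (Perm Ω)) := by
      rw [← hQcard]; exact Subgroup.card_dvd_of_le le_sup_left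
    have d2 : 3 ∣ Nat.card (Q ⊔ zpowers z' : Subgroup (Perm Ω)) := by
      have : Nat.card (zpowers z') = 3 := by rw [Nat.card_zpowers, hz'3]
      rw [← this]; exact Subgroup.card_dvd_of_le le_sup_right
    have hcop : Nat.Coprime 3 (2 ^ k) := Nat.Coprime.pow_right _ (by norm_num)
    have d3 : 3 * 2 ^ k ∣ Nat.card (Q ⊔ zpowers z' : Subgroup (Perm Ω)) :=
      hcop.mul_dvd_of_dvd_of_dvd d2 d1
    rw [hcard]
    exact Nat.le_of_dvd Nat.card_pos d3

theorem commute_of_mem_fixS {z h : Perm Ω} (hh : h ∈ fixS z.support) : Commute h z := by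
  apply Perm.Disjoint.commute
  rw [disjoint_iff_eq_or_eq]
  intro x
  by_cases hx : x ∈ z.support
  · exact Or.inl (hh x hx)
  · exact Or.inr (notMem_support.1 hx)

theorem map_conj_le_fixS {z₁ z₂ g : Perm Ω} (hg : g * z₁ * g⁻¹ = z₂) {Q : Subgroup (Perm Ω)}
    (hQ : Q ≤ fixS z₁.support) : Q.map (MulAut.conj g).toMonoidHom ≤ fixS z₂.support := by
  intro x hx
  obtain ⟨q, hq, rfl⟩ := Subgroup.mem_map.1 hx
  rw [mem_fixS]
  intro a ha
  rw [← hg, support_conj, Finset.mem_map] at ha
  obtain ⟨b, hb, rfl⟩ := ha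
  have := hQ hq b hb
  simp [MulAut.conj_apply, this]

/-- Conjugacy of two subgroups of the form `Q ⊔ ⟨z⟩`. -/
theorem conj_of_structure (m : ℕ) (hΩ : Fintype.card Ω = m + 3)
    (z₁ z₂ : Perm Ω) (Q₁ Q₂ : Subgroup (Perm Ω)) (h1 : z₁.IsThreeCycle) (h2 : z₂.IsThreeCycle)
    (hQ1 : Q₁ ≤ fixS z₁.support) (hQ2 : Q₂ ≤ fixS z₂.support)
    (c1 : Nat.card Q₁ = 2 ^ m.factorial.factorization 2)
    (c2 : Nat.card Q₂ = 2 ^ m.factorial.factorization 2) :
    ∃ g : Perm Ω, Q₂ ⊔ zpowers z₂ = (Q₁ ⊔ zpowers z₁).map (MulAut.conj g).toMonoidHom := by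
  have : Fact (Nat.Prime 2) := ⟨Nat.prime_two⟩
  obtain ⟨g, hg⟩ := isConj_iff.1 (isConj_iff_cycleType_eq.2 (h1.trans h2.symm))
  have hQ1' := map_conj_le_fixS hg hQ1
  have hcardH : Nat.card (fixS z₂.support) = m.factorial := by
    rw [card_fixS, h2.card_support, hΩ]; simp
  have c1' : Nat.card (Q₁.map (MulAut.conj g).toMonoidHom) = 2 ^ m.factorial.factorization 2 := by
    rw [Subgroup.card_map_of_injective (MulEquiv.injective _), c1]
  obtain ⟨h, hh, hconj⟩ := exists_conj_of_card_eq 2 (fixS z₂.support) _ Q₂ hQ1' hQ2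
    (by rw [hcardH]; exact c1') (by rw [hcardH]; exact c2)
  have hcomm : h * z₂ * h⁻¹ = z₂ := by
    rw [(commute_of_mem_fixS hh).eq, mul_inv_cancel_right]
  refine ⟨h * g, ?_⟩
  have e1 : (MulAut.conj (h * g)).toMonoidHom =
      (MulAut.conj h).toMonoidHom.comp (MulAut.conj g).toMonoidHom := by
    ext x : 1
    simp [MulAut.conj_apply, mul_assoc]
  have e2 : (MulAut.conj (h * g)).toMonoidHom z₁ = z₂ := by
    simp only [MulEquiv.coe_toMonoidHom, MulAut.conj_apply]
    rw [mul_inv_rev, ← mul_assoc, mul_assoc h g z₁, mul_assoc h (g * z₁), hg, hcomm]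
  rw [Subgroup.map_sup, MonoidHom.map_zpowers, e2, e1, ← Subgroup.map_map, ← hconj]

/-- The embedding `Perm (Fin m) × Perm (Fin 3) →* Perm (Fin n)` for `m + 3 = n`. -/
noncomputable def embed (m n : ℕ) (h : m + 3 = n) : Perm (Fin m) × Perm (Fin 3) →* Perm (Fin n) :=
  ((finSumFinEquiv.trans (finCongr h)).permCongrHom.toMonoidHom).comp (sumCongrHom (Fin m) (Fin 3))

theorem embed_injective (m n : ℕ) (h : m + 3 = n) : Function.Injective (embed m n h) := by
  unfold embed
  rw [MonoidHom.coe_comp]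
  exact (MulEquiv.injective _).comp sumCongrHom_injective

theorem sign_embed (m n : ℕ) (h : m + 3 = n) (σ : Perm (Fin m)) (τ : Perm (Fin 3)) :
    Perm.sign (embed m n h (σ, τ)) = Perm.sign σ * Perm.sign τ := by
  unfold embed
  simp [Equiv.permCongrHom, sumCongrHom]

/-- The 3-cycle of `Perm (Fin 3)`. -/
def c3 : Perm (Fin 3) := finRotate 3

theorem orderOf_c3 : orderOf c3 = 3 := by
  have : Fact (Nat.Prime 3) := ⟨Nat.prime_three⟩
  exact orderOf_eq_prime (by decide) (by decide)

theorem sign_c3 : Perm.sign c3 = 1 := by decide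

/-- Existence: image of `P × ⟨c3⟩` is nilpotent, isomorphic to `P × C₃`. -/
theorem exists_nilpotent (m n : ℕ) (h : m + 3 = n) (P : Subgroup (Perm (Fin m)))
    (hP : IsPGroup 2 P) :
    Group.IsNilpotent ((P.prod (zpowers c3)).map (embed m n h)) ∧
      Nonempty (((P.prod (zpowers c3)).map (embed m n h)) ≃* (P × Multiplicative (ZMod 3))) := by
  have : Fact (Nat.Prime 2) := ⟨Nat.prime_two⟩
  have : Fact (Nat.Prime 3) := ⟨Nat.prime_three⟩
  have hZ : Nat.card (zpowers c3) = 3 := by rw [Nat.card_zpowers, orderOf_c3]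
  have e1 : (P.prod (zpowers c3)) ≃* ((P.prod (zpowers c3)).map (embed m n h)) :=
    Subgroup.equivMapOfInjective _ _ (embed_injective m n h)
  have e2 : (P.prod (zpowers c3)) ≃* (P × zpowers c3) := Subgroup.prodEquiv _ _
  have e3 : zpowers c3 ≃* Multiplicative (ZMod 3) :=
    mulEquivOfPrimeCardEq (p := 3) hZ (by simp)
  have hnP : Group.IsNilpotent P := hP.isNilpotent
  have hnZ : Group.IsNilpotent (zpowers c3) :=
    (IsPGroup.of_card (p := 3) (n := 1) (by rw [hZ, pow_one])).isNilpotent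
  have hn : Group.IsNilpotent (P × zpowers c3) := inferInstance
  constructor
  · exact Group.nilpotent_of_mulEquiv (e2.symm.trans e1)
  · exact ⟨e1.symm.trans (e2.trans (MulEquiv.prodCongr (MulEquiv.refl _) e3))⟩

end Cfsg.Agent.Lib.Helper38.NilpThree
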