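import Mathlib
import Cfsg.Agent.Lib.Helper38.NilpThree

/-!
# Alternating-group versions of the `NilpThree` lemmas (helper38)
-/

set_option autoImplicit false

namespace Cfsg.Agent.Lib.Helper38.NilpThree

open Equiv Equiv.Perm Subgroup
open scoped Pointwise

/-- General existence: the image of `P × B` under an injective hom, `P` a 2-group, `|B| = 3`. -/
theorem exists_nilpotent_gen {A B G : Type*} [Group A] [Group B] [Group G]
    (ψ : A × B →* G) (hψ : Function.Injective ψ) (P : Subgroup A) [Finite P] (hP : IsPGroup 2 P)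
    (hB : Nat.card B = 3) :
    Group.IsNilpotent ((P.prod (⊤ : Subgroup B)).map ψ) ∧
      Nonempty (((P.prod (⊤ : Subgroup B)).map ψ) ≃* (P × Multiplicative (ZMod 3))) := by
  have : Fact (Nat.Prime 2) := ⟨Nat.prime_two⟩
  have : Fact (Nat.Prime 3) := ⟨Nat.prime_three⟩
  have : Finite B := Nat.finite_of_card_ne_zero (by rw [hB]; norm_num)
  have e1 : (P.prod (⊤ : Subgroup B)) ≃* ((P.prod (⊤ : Subgroup B)).map ψ) :=
    Subgroup.equivMapOfInjective _ _ hψ
  have e2 : (P.prod (⊤ : Subgroup B)) ≃* (P × (⊤ : Subgroup B)) := Subgroup.prodEquiv _ _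
  have e3 : (⊤ : Subgroup B) ≃* Multiplicative (ZMod 3) :=
    Subgroup.topEquiv.trans (mulEquivOfPrimeCardEq (p := 3) hB (by simp))
  have hnP : Group.IsNilpotent P := hP.isNilpotent
  have hnZ : Group.IsNilpotent (⊤ : Subgroup B) :=
    (IsPGroup.of_card (p := 3) (n := 1) (by rw [Subgroup.card_top, hB, pow_one])).isNilpotent
  have hn : Group.IsNilpotent (P × (⊤ : Subgroup B)) := inferInstance
  constructor
  · exact Group.nilpotent_of_mulEquiv (e2.symm.trans e1)
  · exact ⟨e1.symm.trans (e2.trans (MulEquiv.prodCongr (MulEquiv.refl _) e3))⟩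

theorem zpowers_c3_le : zpowers c3 ≤ alternatingGroup (Fin 3) :=
  (zpowers_le).2 (mem_alternatingGroup.2 sign_c3)

/-- The embedding `A_m × ⟨c3⟩ →* A_n`. -/
noncomputable def embedAlt (m n : ℕ) (h : m + 3 = n) :
    alternatingGroup (Fin m) × zpowers c3 →* alternatingGroup (Fin n) :=
  MonoidHom.codRestrict
    ((embed m n h).comp (MonoidHom.prodMap (alternatingGroup (Fin m)).subtype (zpowers c3).subtype))
    (alternatingGroup (Fin n)) (fun x => by
      obtain ⟨a, b⟩ := x
      rw [mem_alternatingGroup]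
      have h1 : Perm.sign (a : Perm (Fin m)) = 1 := mem_alternatingGroup.1 a.2
      have h2 : Perm.sign (b : Perm (Fin 3)) = 1 := mem_alternatingGroup.1 (zpowers_c3_le b.2)
      show Perm.sign (embed m n h ((a : Perm (Fin m)), (b : Perm (Fin 3)))) = 1
      rw [sign_embed, h1, h2, one_mul])

theorem embedAlt_injective (m n : ℕ) (h : m + 3 = n) : Function.Injective (embedAlt m n h) := by
  unfold embedAlt
  rw [MonoidHom.injective_codRestrict, MonoidHom.coe_comp]
  apply (embed_injective m n h).comp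
  rw [MonoidHom.coe_prodMap]
  exact Function.Injective.prodMap (Subgroup.subtype_injective _) (Subgroup.subtype_injective _)

variable {Ω : Type*} [Fintype Ω] [DecidableEq Ω]

/-- The even part of the pointwise stabilizer has half its order. -/
theorem two_mul_card_fixS_inf_alt (s : Finset Ω) (hs : s.card + 2 ≤ Fintype.card Ω) :
    2 * Nat.card (alternatingGroup Ω ⊓ fixS s : Subgroup (Perm Ω)) =
      (Fintype.card Ω - s.card).factorial := by
  have hnt : Nontrivial Ω := by
    rw [← Fintype.one_lt_card_iff_nontrivial]; omega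
  -- a transposition in fixS s
  have h1 : 1 < sᶜ.card := by rw [Finset.card_compl]; omega
  obtain ⟨a, ha, b, hb, hab⟩ := Finset.one_lt_card.1 h1
  rw [Finset.mem_compl] at ha hb
  have hsw : swap a b ∈ fixS s := by
    rw [mem_fixS]
    intro x hx
    exact swap_apply_of_ne_of_ne (fun h => ha (h ▸ hx)) (fun h => hb (h ▸ hx))
  have hnot : ¬ fixS s ≤ alternatingGroup Ω := by
    intro hle
    have := mem_alternatingGroup.1 (hle hsw)
    rw [sign_swap hab] at this
    exact absurd this (by decide)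
  have hrel : (alternatingGroup Ω).relIndex (fixS s) = 2 := by
    have hd : (alternatingGroup Ω).relIndex (fixS s) ∣ 2 := by
      rw [← alternatingGroup.index_eq_two (α := Ω)]
      exact Subgroup.relIndex_dvd_index_of_normal _ _
    rcases (Nat.dvd_prime Nat.prime_two).1 hd with h | h
    · exact absurd (Subgroup.relIndex_eq_one.1 h) hnot
    · exact h
  have h2 : Nat.card ((alternatingGroup Ω).subgroupOf (fixS s)) * 2 = Nat.card (fixS s) := by
    have := Subgroup.card_mul_index ((alternatingGroup Ω).subgroupOf (fixS s))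
    rwa [← Subgroup.relIndex, hrel] at this
  have h3 : Nat.card ((alternatingGroup Ω).subgroupOf (fixS s)) =
      Nat.card (alternatingGroup Ω ⊓ fixS s : Subgroup (Perm Ω)) := by
    rw [← Subgroup.inf_subgroupOf_right]
    exact Nat.card_congr (Subgroup.subgroupOfEquivOfLe inf_le_right).toEquiv
  rw [← card_fixS, ← h2, h3, mul_comm]

/-- Conjugacy (by an even permutation) of two subgroups of the form `Q ⊔ ⟨z⟩` of even
permutations. -/
theorem conj_of_structure_alt (m : ℕ) (hΩ : Fintype.card Ω = m + 3) (hm2 : 2 ≤ m)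
    (z₁ z₂ : Perm Ω) (Q₁ Q₂ : Subgroup (Perm Ω)) (h1 : z₁.IsThreeCycle) (h2 : z₂.IsThreeCycle)
    (hQ1 : Q₁ ≤ fixS z₁.support) (hQ2 : Q₂ ≤ fixS z₂.support)
    (hA1 : Q₁ ≤ alternatingGroup Ω) (hA2 : Q₂ ≤ alternatingGroup Ω)
    (c1 : 2 * Nat.card Q₁ = 2 ^ m.factorial.factorization 2)
    (c2 : 2 * Nat.card Q₂ = 2 ^ m.factorial.factorization 2) :
    ∃ g : Perm Ω, Perm.sign g = 1 ∧
      Q₂ ⊔ zpowers z₂ = (Q₁ ⊔ zpowers z₁).map (MulAut.conj g).toMonoidHom := by
  have : Fact (Nat.Prime 2) := ⟨Nat.prime_two⟩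
  have h5 : 5 ≤ Nat.card Ω := by rw [Nat.card_eq_fintype_card]; omega
  -- conjugate the 3-cycles by an even permutation
  obtain ⟨g, hgs, hg⟩ : ∃ g : Perm Ω, Perm.sign g = 1 ∧ g * z₁ * g⁻¹ = z₂ := by
    have hc := alternatingGroup.isThreeCycle_isConj h5
      (σ := ⟨z₁, h1.mem_alternatingGroup⟩) (τ := ⟨z₂, h2.mem_alternatingGroup⟩) h1 h2
    obtain ⟨c, hc⟩ := isConj_iff.1 hc
    refine ⟨c, mem_alternatingGroup.1 c.2, ?_⟩
    have := congrArg (fun t : alternatingGroup Ω => (t : Perm Ω)) hc
    simpa using this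
  have hQ1' := map_conj_le_fixS hg hQ1
  have hA1' : Q₁.map (MulAut.conj g).toMonoidHom ≤ alternatingGroup Ω := by
    intro x hx
    obtain ⟨q, hq, rfl⟩ := Subgroup.mem_map.1 hx
    have := mem_alternatingGroup.1 (hA1 hq)
    rw [mem_alternatingGroup]
    simp [MulAut.conj_apply, this]
  set H := (alternatingGroup Ω ⊓ fixS z₂.support : Subgroup (Perm Ω)) with hH
  have hcardH : 2 * Nat.card H = m.factorial := by
    rw [hH, two_mul_card_fixS_inf_alt _ (by rw [h2.card_support, hΩ]; omega), h2.card_support, hΩ]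
    simp
  have hfac : m.factorial.factorization 2 = 1 + (Nat.card H).factorization 2 := by
    rw [← hcardH, Nat.factorization_mul two_ne_zero Nat.card_pos.ne']
    simp [Nat.prime_two.factorization_self]
  have c1' : Nat.card (Q₁.map (MulAut.conj g).toMonoidHom) = 2 ^ (Nat.card H).factorization 2 := by
    rw [Subgroup.card_map_of_injective (MulEquiv.injective _)]
    rw [hfac, pow_add, pow_one] at c1
    omega
  have c2' : Nat.card Q₂ = 2 ^ (Nat.card H).factorization 2 := by
    rw [hfac, pow_add, pow_one] at c2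
    omega
  obtain ⟨h, hh, hconj⟩ := exists_conj_of_card_eq 2 H _ Q₂ (le_inf hA1' hQ1') (le_inf hA2 hQ2)
    c1' c2'
  have hcomm : h * z₂ * h⁻¹ = z₂ := by
    rw [(commute_of_mem_fixS hh.2).eq, mul_inv_cancel_right]
  refine ⟨h * g, ?_, ?_⟩
  · rw [map_mul, hgs, mem_alternatingGroup.1 hh.1, one_mul]
  have e1 : (MulAut.conj (h * g)).toMonoidHom =
      (MulAut.conj h).toMonoidHom.comp (MulAut.conj g).toMonoidHom := by
    ext x : 1
    simp [MulAut.conj_apply, mul_assoc]
  have e2 : (MulAut.conj (h * g)).toMonoidHom z₁ = z₂ := by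
    simp only [MulEquiv.coe_toMonoidHom, MulAut.conj_apply]
    rw [mul_inv_rev, ← mul_assoc, mul_assoc h g z₁, mul_assoc h (g * z₁), hg, hcomm]
  rw [Subgroup.map_sup, MonoidHom.map_zpowers, e2, e1, ← Subgroup.map_map, ← hconj]

end Cfsg.Agent.Lib.Helper38.NilpThree
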