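/-
helper38: project ASCHOE (helper55), auxiliary file for ASCHOE-[E-O3O4P].
`SO₄⁺(F)` (`2 ≠ 0`): a matrix on `F^(2×2)` preserving the quadratic form `det` and of determinant one is a
Kronecker product `x ⊗ y`.  Proof: Cartan–Dieudonné (`Cfsg.Agent.S0792.cartan_dieudonne`): every isometry is a
product of reflections; a reflection of `(M₂(F), det)` is `m ↦ x mᵀ y`, i.e. `(x ⊗ y) τ` with `τ` the transposition
matrix; an even number of them is a Kronecker product, an odd number has determinant `-1`.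
-/
import Mathlib
import Cfsg.Agent.S0792

set_option autoImplicit false

namespace Cfsg.Agent.Lib.Helper38.OeSO4

open scoped Matrix Kronecker
open Cfsg.Agent.Lib.Helper13

variable {F : Type*} [Field F]

/-- the standard alternating `2 × 2` matrix -/
def J2 : Matrix (Fin 2) (Fin 2) F := !![0, 1; -1, 0]

/-- the quadratic form `det` on `F^(2×2)` -/
def detQ : QuadraticForm F (Fin 2 × Fin 2 → F) :=
  QuadraticMap.linMulLin (LinearMap.proj (0, 0)) (LinearMap.proj (1, 1)) -
    QuadraticMap.linMulLin (LinearMap.proj (0, 1)) (LinearMap.proj (1, 0))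

theorem detQ_apply (m : Fin 2 × Fin 2 → F) :
    detQ m = m (0, 0) * m (1, 1) - m (0, 1) * m (1, 0) := by
  simp [detQ]

theorem polar_detQ (x y : Fin 2 × Fin 2 → F) :
    QuadraticMap.polar (⇑(detQ (F := F))) x y =
      x (0, 0) * y (1, 1) + y (0, 0) * x (1, 1) - x (0, 1) * y (1, 0) - y (0, 1) * x (1, 0) := by
  simp only [QuadraticMap.polar, detQ_apply, Pi.add_apply]
  ring

theorem detQ_nondegenerate : (QuadraticMap.polarBilin (detQ (F := F))).Nondegenerate := by
  refine ⟨fun x hx => ?_, fun y hy => ?_⟩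
  · have h := fun y => hx y
    simp only [QuadraticMap.polarBilin_apply_apply, polar_detQ] at h
    have h1 := h (Pi.single (1, 1) 1)
    have h2 := h (Pi.single (0, 0) 1)
    have h3 := h (Pi.single (1, 0) 1)
    have h4 := h (Pi.single (0, 1) 1)
    simp at h1 h2 h3 h4
    funext ⟨a, b⟩
    fin_cases a <;> fin_cases b <;> simp_all
  · have h := fun x => hy x
    simp only [QuadraticMap.polarBilin_apply_apply, polar_detQ] at h
    have h1 := h (Pi.single (1, 1) 1)
    have h2 := h (Pi.single (0, 0) 1)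
    have h3 := h (Pi.single (1, 0) 1)
    have h4 := h (Pi.single (0, 1) 1)
    simp at h1 h2 h3 h4
    funext ⟨a, b⟩
    fin_cases a <;> fin_cases b <;> simp_all

/-- the transposition matrix on `F^(2×2)` -/
def tau : Matrix (Fin 2 × Fin 2) (Fin 2 × Fin 2) F :=
  Equiv.Perm.permMatrix F (Equiv.prodComm (Fin 2) (Fin 2))

theorem tau_mul (N : Matrix (Fin 2 × Fin 2) (Fin 2 × Fin 2) F) :
    tau * N = N.submatrix Prod.swap id := by
  unfold tau Equiv.Perm.permMatrix
  rw [PEquiv.toMatrix_toPEquiv_mul]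
  rfl

theorem mul_tau (N : Matrix (Fin 2 × Fin 2) (Fin 2 × Fin 2) F) :
    N * tau = N.submatrix id Prod.swap := by
  unfold tau Equiv.Perm.permMatrix
  rw [PEquiv.mul_toMatrix_toPEquiv]
  rfl

theorem tau_mul_kron (a b : Matrix (Fin 2) (Fin 2) F) : tau * (a ⊗ₖ b) = (b ⊗ₖ a) * tau := by
  rw [tau_mul, mul_tau]
  ext ⟨i, j⟩ ⟨k, l⟩
  simp [Matrix.kroneckerMap_apply, mul_comm]

theorem tau_mul_tau : (tau : Matrix (Fin 2 × Fin 2) (Fin 2 × Fin 2) F) * tau = 1 := by
  rw [tau_mul]
  unfold tau Equiv.Perm.permMatrix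
  ext ⟨i, j⟩ ⟨k, l⟩
  simp [PEquiv.toMatrix_apply, Matrix.one_apply, Prod.ext_iff]

theorem det_tau : (tau : Matrix (Fin 2 × Fin 2) (Fin 2 × Fin 2) F).det = -1 := by
  unfold tau
  rw [Matrix.det_permutation]
  have : Equiv.Perm.sign (Equiv.prodComm (Fin 2) (Fin 2)) = -1 := by decide
  rw [this]
  simp

/-- the predicate: Kronecker product, or Kronecker product times the transposition -/
def Kind (T : Module.End F (Fin 2 × Fin 2 → F)) : Prop :=
  ∃ x y : Matrix (Fin 2) (Fin 2) F, x.det * y.det = 1 ∧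
    (T = Matrix.toLin' (x ⊗ₖ y) ∨ T = Matrix.toLin' ((x ⊗ₖ y) * tau))

theorem kind_one : Kind (1 : Module.End F (Fin 2 × Fin 2 → F)) := by
  refine ⟨1, 1, by simp, Or.inl ?_⟩
  rw [Matrix.one_kronecker_one, Matrix.toLin'_one]
  rfl

theorem kind_mul {T S : Module.End F (Fin 2 × Fin 2 → F)} (hT : Kind T) (hS : Kind S) :
    Kind (T * S) := by
  obtain ⟨x, y, hxy, hT⟩ := hT
  obtain ⟨x', y', hxy', hS⟩ := hS
  rcases hT with rfl | rfl <;> rcases hS with rfl | rfl
  · refine ⟨x * x', y * y', ?_, Or.inl ?_⟩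
    · rw [Matrix.det_mul, Matrix.det_mul]
      linear_combination hxy * (x'.det * y'.det) + hxy'
    · rw [Module.End.mul_eq_comp, ← Matrix.toLin'_mul, ← Matrix.mul_kronecker_mul]
  · refine ⟨x * x', y * y', ?_, Or.inr ?_⟩
    · rw [Matrix.det_mul, Matrix.det_mul]
      linear_combination hxy * (x'.det * y'.det) + hxy'
    · rw [Module.End.mul_eq_comp, ← Matrix.toLin'_mul, ← Matrix.mul_assoc, ← Matrix.mul_kronecker_mul]
  · refine ⟨x * y', y * x', ?_, Or.inr ?_⟩
    · rw [Matrix.det_mul, Matrix.det_mul]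
      linear_combination hxy * (x'.det * y'.det) + hxy'
    · rw [Module.End.mul_eq_comp, ← Matrix.toLin'_mul, Matrix.mul_assoc, tau_mul_kron, ← Matrix.mul_assoc,
        ← Matrix.mul_kronecker_mul]
  · refine ⟨x * y', y * x', ?_, Or.inl ?_⟩
    · rw [Matrix.det_mul, Matrix.det_mul]
      linear_combination hxy * (x'.det * y'.det) + hxy'
    · rw [Module.End.mul_eq_comp, ← Matrix.toLin'_mul, Matrix.mul_assoc, ← Matrix.mul_assoc tau,
        tau_mul_kron, Matrix.mul_assoc, tau_mul_tau, Matrix.mul_one, ← Matrix.mul_kronecker_mul]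

/-- a reflection of `(M₂(F), det)` is `m ↦ x mᵀ y` -/
theorem kind_refl (u : Fin 2 × Fin 2 → F) (hu : detQ u ≠ 0) : Kind (reflLin detQ u) := by
  set d : F := detQ u with hd
  have hd' : u (0, 0) * u (1, 1) - u (0, 1) * u (1, 0) = d := (detQ_apply u).symm
  let U : Matrix (Fin 2) (Fin 2) F := Matrix.of fun a b => u (a, b)
  have hU : U.det = d := by
    rw [Matrix.det_fin_two, ← hd']
    rfl
  have hJ : (J2 : Matrix (Fin 2) (Fin 2) F).det = 1 := by
    simp [J2, Matrix.det_fin_two]
  refine ⟨(-d⁻¹) • (U * J2), Uᵀ * J2, ?_, Or.inr ?_⟩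
  · rw [Matrix.det_smul, Matrix.det_mul, Matrix.det_mul, Matrix.det_transpose, hU, hJ]
    simp only [Fintype.card_fin]
    field_simp
  · apply LinearMap.ext
    intro m
    funext ⟨a, b⟩
    rw [reflLin_apply, Matrix.toLin'_apply, mul_tau]
    simp only [Matrix.mulVec, dotProduct, Matrix.submatrix_apply, Matrix.kroneckerMap_apply,
      Fintype.sum_prod_type, Fin.sum_univ_two, polar_detQ, Pi.sub_apply, Pi.smul_apply, smul_eq_mul,
      Matrix.smul_apply, Matrix.mul_apply, J2, U, Matrix.of_apply, Matrix.transpose_apply, id,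
      Prod.swap, ← hd]
    fin_cases a <;> fin_cases b <;> simp <;> field_simp
    · linear_combination (-m (0, 0)) * hd'
    · linear_combination (-m (0, 1)) * hd'
    · linear_combination (-m (1, 0)) * hd'
    · linear_combination (-m (1, 1)) * hd'

/-- every isometry of `(M₂(F), det)` is of one of the two kinds -/
theorem kind_of_isometry (h2 : (2 : F) ≠ 0) (g : Module.End F (Fin 2 × Fin 2 → F))
    (hg : ∀ m, detQ (g m) = detQ m) : Kind g := by
  have hfr : Module.finrank F (Fin 2 × Fin 2 → F) = 4 := by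
    simp
  have h1 := Cfsg.Agent.S0792.cartan_dieudonne h2 4 (Fin 2 × Fin 2 → F) detQ hfr detQ_nondegenerate g hg
  have key : ∀ T ∈ Submonoid.closure (Cfsg.Agent.S0792.reflSet (detQ (F := F))), Kind T := by
    intro T hT
    induction hT using Submonoid.closure_induction with
    | mem T hT =>
      obtain ⟨u, hu, rfl⟩ := hT
      exact kind_refl u hu
    | one => exact kind_one
    | mul T S _ _ hT hS => exact kind_mul hT hS
  exact key g h1

/-- `SO₄⁺`: a matrix preserving `det` on `F^(2×2)`, of determinant one, is a Kronecker product -/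
theorem so4_kron (h2 : (2 : F) ≠ 0) (M : Matrix (Fin 2 × Fin 2) (Fin 2 × Fin 2) F)
    (hM : ∀ v, detQ (M *ᵥ v) = detQ v) (hdet : M.det = 1) :
    ∃ x y : Matrix (Fin 2) (Fin 2) F, x.det * y.det = 1 ∧ M = x ⊗ₖ y := by
  obtain ⟨x, y, hxy, h⟩ := kind_of_isometry h2 (Matrix.toLin' M) (fun m => by
    rw [Matrix.toLin'_apply]; exact hM m)
  rcases h with h | h
  · exact ⟨x, y, hxy, Matrix.toLin'.injective h⟩
  · exfalso
    have h3 : M = (x ⊗ₖ y) * tau := Matrix.toLin'.injective h
    rw [h3, Matrix.det_mul, Matrix.det_kronecker, det_tau] at hdet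
    simp only [Fintype.card_fin] at hdet
    have h4 : (x.det * y.det) ^ 2 = 1 := by rw [hxy]; ring
    have h5 : x.det ^ 2 * y.det ^ 2 = 1 := by rw [← mul_pow]; exact h4
    rw [h5] at hdet
    apply h2
    linear_combination -hdet

end Cfsg.Agent.Lib.Helper38.OeSO4
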