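/-
helper38: project ASCHOE (helper55): module ASCHOE-[E-O3O4P]
`Cfsg.Agent.Lib.Helper55.Oe.le_tensorAlt_of_tensorSym_three_four` (exact sheet statement):
`(O₃ ⊗ O₄⁺) ∩ Ω ≤ Sp₂ ⊗ Sp₆`.
-/
import Mathlib
import Cfsg.Prelude.Def_GeometricClasses
import Cfsg.Agent.Lib.Helper99.AschDefs
import Cfsg.Agent.Lib.Helper55.Oe.Defs
import Cfsg.Agent.Lib.Helper55.Oe.Between
import Cfsg.Agent.Lib.Helper5.AschOBasic
import Cfsg.Agent.Lib.Helper25.AschSpFormKit
import Cfsg.Agent.Lib.Helper94.TensorBasic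
import Cfsg.Agent.Lib.Helper94.TensorMono
import Cfsg.Agent.Lib.Helper94.TensorSp2
import Cfsg.Agent.Lib.Helper94.TensorOrth3
import Cfsg.Agent.Lib.Helper94.HypBasis4
import Cfsg.Agent.Lib.Helper45.OeESwap
import Cfsg.Agent.Lib.Helper38.OeSO4

set_option autoImplicit false
set_option linter.unusedSectionVars false

namespace Cfsg.Agent.Lib.Helper38.OeEO3O4P

open Cfsg Cfsg.Geo Cfsg.Agent.Lib.Helper38.OeSO4
open scoped MatrixGroups Matrix Kronecker

variable {F : Type*} [Field F]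

/-- `Fin 4 ≃ Fin 2 × Fin 2` -/
def s4 : Fin 4 ≃ Fin 2 × Fin 2 := (finProdFinEquiv : Fin 2 × Fin 2 ≃ Fin 4).symm

/-- `Fin 3 × Fin 2 ≃ Fin 6` -/
def t6 : Fin 3 × Fin 2 ≃ Fin 6 := (finProdFinEquiv : Fin 3 × Fin 2 ≃ Fin 6)

/-- the regrouping `F³ ⊗ (F² ⊗ F²) = F² ⊗ (F³ ⊗ F²)` on index sets -/
def rho : Fin 3 × Fin 4 ≃ Fin 2 × Fin 6 where
  toFun p := ((s4 p.2).2, t6 (p.1, (s4 p.2).1))
  invFun q := ((t6.symm q.2).1, s4.symm ((t6.symm q.2).2, q.1))
  left_inv p := by simp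
  right_inv q := by simp

theorem rho_symm_apply (q : Fin 2 × Fin 6) :
    rho.symm q = ((t6.symm q.2).1, s4.symm ((t6.symm q.2).2, q.1)) := rfl

/-- a hyperbolic frame of a four-dimensional symmetric form of plus type, indexed by `Fin 2 × Fin 2`, with Gram matrix
`J ⊗ J` -/
theorem exists_hyp_frame (h2 : (2 : F) ≠ 0) (f₂ : (Fin 4 → F) → (Fin 4 → F) → F) (h₂ : IsSymmetricForm f₂)
    (hp : IsPlusTypeOn (fun v : Fin 4 → F => f₂ v v) ⊤) :
    ∃ w : Fin 2 × Fin 2 → (Fin 4 → F), ∀ p q, f₂ (w p) (w q) = (J2 ⊗ₖ J2 : Matrix _ _ F) p q := by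
  classical
  have hD := Cfsg.Agent.Lib.Helper94.symQuadData h₂ h2
  obtain ⟨U, -, hU, hUd⟩ := hp
  rw [finrank_top, Module.finrank_fin_fun] at hUd
  have hUd' : Module.finrank F U = 2 := by omega
  obtain ⟨e, f, e', f', -, he, hf, he', hf', hef, hef', h1, h2', h3, h4⟩ :=
    hD.exists_hyp_basis4 ⊤ U (by rw [finrank_top, Module.finrank_fin_fun])
      (fun w _ hw => by
        obtain ⟨x, hx⟩ := (h₂.nondegenerate w hw).2
        exact ⟨x, trivial, hx⟩) le_top
      (fun u hu => by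
        show 2⁻¹ * f₂ u u = 0
        have h0 : f₂ u u = 0 := hU u hu
        rw [h0, mul_zero]) hUd'
  simp only [Cfsg.Agent.Lib.Helper94.bilinOf_apply] at hef hef' h1 h2' h3 h4
  have hz : ∀ v : Fin 4 → F, 2⁻¹ * f₂ v v = 0 → f₂ v v = 0 := by
    intro v hv
    rcases mul_eq_zero.1 hv with h | h
    · exact absurd h (inv_ne_zero h2)
    · exact h
  have he0 := hz _ he
  have hf0 := hz _ hf
  have he'0 := hz _ he'
  have hf'0 := hz _ hf'
  have hnl : ∀ x y, f₂ (-x) y = - f₂ x y := by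
    intro x y
    have := h₂.bilinear.smul_left (-1) x y
    simpa using this
  have hnr : ∀ x y, f₂ x (-y) = - f₂ x y := by
    intro x y
    have := h₂.bilinear.smul_right (-1) x y
    simpa using this
  have s1 := h₂.symm f e
  have s2 := h₂.symm e' e
  have s3 := h₂.symm f' e
  have s4' := h₂.symm e' f
  have s5 := h₂.symm f' f
  have s6 := h₂.symm f' e'
  rw [hef] at s1
  rw [h1] at s2
  rw [h2'] at s3
  rw [h3] at s4'
  rw [h4] at s5
  rw [hef'] at s6
  refine ⟨fun p => if p = (0, 0) then e else if p = (1, 1) then f else if p = (0, 1) then e' else -f', ?_⟩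
  rintro ⟨a, b⟩ ⟨a', b'⟩
  fin_cases a <;> fin_cases b <;> fin_cases a' <;> fin_cases b' <;>
    simp [J2, Matrix.kroneckerMap_apply, hnl, hnr, he0, hf0, he'0, hf'0, hef, hef', h1, h2', h3, h4, s1, s2, s3,
      s4', s5, s6]

/-- the matrix whose columns are the members of a frame -/
def frameMat (w : Fin 2 × Fin 2 → (Fin 4 → F)) : Matrix (Fin 4) (Fin 4) F :=
  Matrix.of fun k l => w (s4 l) k

/-- `J ⊗ J` indexed by `Fin 4` -/
def J4 : Matrix (Fin 4) (Fin 4) F := (J2 ⊗ₖ J2 : Matrix _ _ F).submatrix s4 s4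

theorem frameMat_gram (f₂ : (Fin 4 → F) → (Fin 4 → F) → F) (hb : IsBilinearForm f₂)
    (w : Fin 2 × Fin 2 → (Fin 4 → F)) (hw : ∀ p q, f₂ (w p) (w q) = (J2 ⊗ₖ J2 : Matrix _ _ F) p q) :
    (frameMat w)ᵀ * gramMatrix f₂ * frameMat w = J4 := by
  ext l l'
  rw [J4, Matrix.submatrix_apply, ← hw, Cfsg.Agent.Lib.Helper5.AschO.bilin_eq_dotProduct hb, Matrix.mul_assoc,
    Matrix.mul_apply]
  simp only [dotProduct, Matrix.mulVec, Matrix.mul_apply, Matrix.transpose_apply, frameMat, Matrix.of_apply]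

theorem det_J2 : (J2 : Matrix (Fin 2) (Fin 2) F).det = 1 := by
  simp [J2, Matrix.det_fin_two]

theorem det_J4 : (J4 : Matrix (Fin 4) (Fin 4) F).det = 1 := by
  rw [J4, Matrix.det_submatrix_equiv_self, Matrix.det_kronecker, det_J2]
  simp

theorem frameMat_det_ne_zero (f₂ : (Fin 4 → F) → (Fin 4 → F) → F) (hb : IsBilinearForm f₂)
    (w : Fin 2 × Fin 2 → (Fin 4 → F)) (hw : ∀ p q, f₂ (w p) (w q) = (J2 ⊗ₖ J2 : Matrix _ _ F) p q) :
    (frameMat w).det ≠ 0 := by
  intro h0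
  have h := congrArg Matrix.det (frameMat_gram f₂ hb w hw)
  rw [Matrix.det_mul, Matrix.det_mul, Matrix.det_transpose, h0, det_J4] at h
  simp at h

/-- `(A x) · G (A y) = x · (Aᵀ G A) y` -/
theorem dot_mulVec_mulVec {κ : Type*} [Fintype κ] (A G : Matrix κ κ F) (x y : κ → F) :
    (A *ᵥ x) ⬝ᵥ (G *ᵥ (A *ᵥ y)) = x ⬝ᵥ ((Aᵀ * G * A) *ᵥ y) := by
  rw [← Matrix.mulVec_mulVec, ← Matrix.mulVec_mulVec, Matrix.dotProduct_mulVec x Aᵀ, Matrix.vecMul_transpose]

/-- two matrices defining the same bilinear form are equal -/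
theorem matrix_eq_of_dot {κ : Type*} [Fintype κ] [DecidableEq κ] (M N : Matrix κ κ F)
    (h : ∀ x y : κ → F, x ⬝ᵥ (M *ᵥ y) = x ⬝ᵥ (N *ᵥ y)) : M = N := by
  ext i j
  have := h (Pi.single i 1) (Pi.single j 1)
  simpa using this

/-- an isometry of a bilinear form preserves its Gram matrix -/
theorem gram_of_isometry {m : ℕ} {f : (Fin m → F) → (Fin m → F) → F} (hb : IsBilinearForm f)
    (A : Matrix (Fin m) (Fin m) F) (h : ∀ u u', f (A *ᵥ u) (A *ᵥ u') = f u u') :
    Aᵀ * gramMatrix f * A = gramMatrix f := by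
  apply matrix_eq_of_dot
  intro x y
  rw [← dot_mulVec_mulVec, ← Cfsg.Agent.Lib.Helper5.AschO.bilin_eq_dotProduct hb,
    ← Cfsg.Agent.Lib.Helper5.AschO.bilin_eq_dotProduct hb, h]

theorem two_detQ (v : Fin 2 × Fin 2 → F) :
    2 * detQ v = v ⬝ᵥ ((J2 ⊗ₖ J2 : Matrix _ _ F) *ᵥ v) := by
  simp only [detQ_apply, dotProduct, Matrix.mulVec, Fintype.sum_prod_type, Fin.sum_univ_two, J2,
    Matrix.kroneckerMap_apply]
  simp
  ring

/-- reindexing a Gram-matrix form along a bijection of the index sets -/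
theorem formOfGram_comp_equiv {κ κ' : Type} [Fintype κ] [Fintype κ'] (r : κ ≃ κ') (M : Matrix κ κ F)
    (x y : κ' → F) :
    formOfGram id M (x ∘ r) (y ∘ r) = formOfGram id (M.submatrix r.symm r.symm) x y := by
  unfold formOfGram
  rw [← Equiv.sum_comp r (fun a' => ∑ b', x a' * M.submatrix r.symm r.symm a' b' * id (y b'))]
  refine Finset.sum_congr rfl fun a _ => ?_
  rw [← Equiv.sum_comp r]
  refine Finset.sum_congr rfl fun b _ => ?_
  simp

end Cfsg.Agent.Lib.Helper38.OeEO3O4P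

namespace Cfsg.Agent.Lib.Helper55.Oe

open Cfsg Cfsg.Geo Cfsg.Agent.Lib.Helper99.Asch Cfsg.Agent.Lib.Helper38.OeSO4
  Cfsg.Agent.Lib.Helper38.OeEO3O4P Cfsg.Agent.Lib.Helper25.AschSp Cfsg.Agent.Lib.Helper94
  Cfsg.Agent.Lib.Helper23.AschSp
open scoped MatrixGroups Matrix Kronecker

variable {n : ℕ} {F : Type*} [Field F] [Fintype F]

/-- ASCHOE-[E-O3O4P] (exact sheet statement) -/
theorem le_tensorAlt_of_tensorSym_three_four {Q : (Fin n → F) → F} (hQ : IsNondegenerateQuadraticForm Q)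
    (h2 : (2 : F) ≠ 0) (e : Fin n ≃ Fin 3 × Fin 4) (P : GL (Fin n) F)
    (f₁ : (Fin 3 → F) → (Fin 3 → F) → F) (f₂ : (Fin 4 → F) → (Fin 4 → F) → F)
    (h₁ : IsSymmetricForm f₁) (h₂ : IsSymmetricForm f₂)
    (hp : IsPlusTypeOn (fun v : Fin 4 → F => f₂ v v) ⊤)
    (hT : IsTensorFormStructure id (QuadraticMap.polar Q) f₁ f₂ e P) :
    ∃ (e' : Fin n ≃ Fin 2 × Fin 6) (P' : GL (Fin n) F)
      (g₁ : (Fin 2 → F) → (Fin 2 → F) → F) (g₂ : (Fin 6 → F) → (Fin 6 → F) → F),
      IsSymplecticForm g₁ ∧ IsSymplecticForm g₂ ∧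
      IsTensorFormStructure id (QuadraticMap.polar Q) g₁ g₂ e' P' ∧
      (∀ (x₁ : Fin 2 → F) (x₂ : Fin 6 → F),
        Q (Matrix.mulVec (P' : Matrix (Fin n) (Fin n) F)
          ((fun a : Fin 2 × Fin 6 => x₁ a.1 * x₂ a.2) ∘ e')) = 0) ∧
      tensorProductSubgroup 3 4 e P ⊓ omegaGL Q ≤ tensorProductSubgroup 2 6 e' P' := by
  classical
  obtain ⟨c, hc, hform⟩ := hT
  obtain ⟨w, hw⟩ := exists_hyp_frame h2 f₂ h₂ hp
  have hTG : (frameMat w)ᵀ * gramMatrix f₂ * frameMat w = J4 := frameMat_gram f₂ h₂.bilinear w hw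
  have hTdet : (frameMat w).det ≠ 0 := frameMat_det_ne_zero f₂ h₂.bilinear w hw
  generalize frameMat w = T at hTG hTdet
  have hTu : IsUnit T.det := isUnit_iff_ne_zero.2 hTdet
  have hTT' : T * T⁻¹ = 1 := Matrix.mul_nonsing_inv T hTu
  have hT'T : T⁻¹ * T = 1 := Matrix.nonsing_inv_mul T hTu
  -- the base change in the second factor
  let R : GL (Fin 3 × Fin 4) F :=
    ⟨(1 : Matrix (Fin 3) (Fin 3) F) ⊗ₖ T, (1 : Matrix (Fin 3) (Fin 3) F) ⊗ₖ T⁻¹,
      by rw [← Matrix.mul_kronecker_mul, hTT', one_mul, Matrix.one_kronecker_one],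
      by rw [← Matrix.mul_kronecker_mul, hT'T, one_mul, Matrix.one_kronecker_one]⟩
  have hRval : (R : Matrix (Fin 3 × Fin 4) (Fin 3 × Fin 4) F) = (1 : Matrix (Fin 3) (Fin 3) F) ⊗ₖ T := rfl
  have hRinv : ((R⁻¹ : GL (Fin 3 × Fin 4) F) : Matrix (Fin 3 × Fin 4) (Fin 3 × Fin 4) F) =
      (1 : Matrix (Fin 3) (Fin 3) F) ⊗ₖ T⁻¹ := rfl
  -- symmetry facts
  have hG₁s : ∀ a b, gramMatrix f₁ b a = gramMatrix f₁ a b := fun a b => h₁.symm _ _
  have hJt : ∀ a b, (J2 : Matrix (Fin 2) (Fin 2) F) b a = - J2 a b := by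
    intro a b
    fin_cases a <;> fin_cases b <;> simp [J2]
  have hJd : ∀ a, (J2 : Matrix (Fin 2) (Fin 2) F) a a = 0 := by
    intro a
    fin_cases a <;> simp [J2]
  have hJalt : IsAltMat (J2 : Matrix (Fin 2) (Fin 2) F) := by
    refine ⟨?_, hJd⟩
    ext a b
    rw [Matrix.transpose_apply, Matrix.neg_apply, hJt]
  have hG₁det : (gramMatrix f₁).det ≠ 0 := det_gramMatrix_ne_zero h₁.bilinear h₁.nondegenerate
  -- the new data
  let G₆ : Matrix (Fin 6) (Fin 6) F :=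
    (gramMatrix f₁ ⊗ₖ (J2 : Matrix (Fin 2) (Fin 2) F)).submatrix t6.symm t6.symm
  have hG₆alt : IsAltMat G₆ := by
    refine ⟨?_, fun j => ?_⟩
    · ext j j'
      simp only [G₆, Matrix.transpose_apply, Matrix.neg_apply, Matrix.submatrix_apply,
        Matrix.kroneckerMap_apply]
      rw [hJt, hG₁s]
      ring
    · simp only [G₆, Matrix.submatrix_apply, Matrix.kroneckerMap_apply]
      rw [hJd, mul_zero]
  have hG₆det : G₆.det ≠ 0 := by
    simp only [G₆]
    rw [Matrix.det_submatrix_equiv_self, Matrix.det_kronecker, det_J2]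
    simp only [Fintype.card_fin, one_pow, mul_one]
    exact pow_ne_zero _ hG₁det
  have hRGR : (R : Matrix (Fin 3 × Fin 4) (Fin 3 × Fin 4) F)ᵀ * (gramMatrix f₁ ⊗ₖ gramMatrix f₂) *
      (R : Matrix (Fin 3 × Fin 4) (Fin 3 × Fin 4) F) = gramMatrix f₁ ⊗ₖ (J4 : Matrix (Fin 4) (Fin 4) F) := by
    rw [hRval, ← Matrix.kroneckerMap_transpose, Matrix.transpose_one, ← Matrix.mul_kronecker_mul,
      ← Matrix.mul_kronecker_mul, one_mul, mul_one, hTG]
  have hsub : (gramMatrix f₁ ⊗ₖ (J4 : Matrix (Fin 4) (Fin 4) F)).submatrix rho.symm rho.symm =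
      (J2 : Matrix (Fin 2) (Fin 2) F) ⊗ₖ G₆ := by
    ext ⟨b, j⟩ ⟨b', j'⟩
    simp only [Matrix.submatrix_apply, rho_symm_apply, Matrix.kroneckerMap_apply, J4, G₆,
      Equiv.apply_symm_apply]
    ring
  have hP'vec : ∀ x : Fin 2 × Fin 6 → F,
      ((P * glReindex e.symm R : GL (Fin n) F) : Matrix (Fin n) (Fin n) F) *ᵥ (x ∘ (e.trans rho)) =
        (P : Matrix (Fin n) (Fin n) F) *ᵥ
          (((R : Matrix (Fin 3 × Fin 4) (Fin 3 × Fin 4) F) *ᵥ (x ∘ rho)) ∘ e) := by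
    intro x
    rw [Units.val_mul, ← Matrix.mulVec_mulVec]
    congr 1
    have h2' : ((glReindex e.symm R : GL (Fin n) F) : Matrix (Fin n) (Fin n) F) =
        (R : Matrix (Fin 3 × Fin 4) (Fin 3 × Fin 4) F).submatrix e e := rfl
    rw [h2', Matrix.submatrix_mulVec_equiv]
    congr 2
    ext a
    simp
  have hstruct : ∀ x y : Fin 2 × Fin 6 → F,
      QuadraticMap.polar Q
        (((P * glReindex e.symm R : GL (Fin n) F) : Matrix (Fin n) (Fin n) F) *ᵥ (x ∘ (e.trans rho)))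
        (((P * glReindex e.symm R : GL (Fin n) F) : Matrix (Fin n) (Fin n) F) *ᵥ (y ∘ (e.trans rho))) =
      c * formOfGram id ((J2 : Matrix (Fin 2) (Fin 2) F) ⊗ₖ G₆) x y := by
    intro x y
    rw [hP'vec, hP'vec, hform, formOfGram_id_eq, dot_mulVec_mulVec, ← formOfGram_id_eq, hRGR,
      formOfGram_comp_equiv, hsub]
  refine ⟨e.trans rho, P * glReindex e.symm R, formOfGram id (J2 : Matrix (Fin 2) (Fin 2) F), formOfGram id G₆,
    isSymplecticForm_formOfGram _ hJalt (by rw [det_J2]; exact one_ne_zero),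
    isSymplecticForm_formOfGram _ hG₆alt hG₆det, ⟨c, hc, fun x y => ?_⟩, fun x₁ x₂ => ?_, ?_⟩
  · rw [hstruct, gramMatrix_formOfGram, gramMatrix_formOfGram]
  · rw [Cfsg.Agent.Lib.Helper5.AschO.Q_eq_half_polar hQ h2, hstruct]
    have h0 := formOfGram_kronecker_pureT (F := F) id (fun _ _ => rfl) (J2 : Matrix (Fin 2) (Fin 2) F) G₆
      x₁ x₁ x₂ x₂
    rw [formOfGram_self_of_isAltMat _ hJalt, zero_mul] at h0
    have h1 : formOfGram id ((J2 : Matrix (Fin 2) (Fin 2) F) ⊗ₖ G₆) (fun a : Fin 2 × Fin 6 => x₁ a.1 * x₂ a.2)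
        (fun a : Fin 2 × Fin 6 => x₁ a.1 * x₂ a.2) = 0 := h0
    rw [h1, mul_zero, zero_div]
  · rintro g ⟨hgT, hgΩ⟩
    obtain ⟨_, ⟨k, ⟨A, Bm, hk⟩, rfl⟩, rfl⟩ := hgT
    have hgI := omegaGL_le_isometryGroup Q hgΩ
    have hgQ := (Cfsg.Agent.Lib.Helper5.AschO.mem_isometryGroup_iff _).1 hgI
    have hgB : ∀ u v, QuadraticMap.polar Q
        ((((MulAut.conj P).toMonoidHom ((glReindex e.symm).toMonoidHom k) : GL (Fin n) F) :
          Matrix (Fin n) (Fin n) F) *ᵥ u)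
        ((((MulAut.conj P).toMonoidHom ((glReindex e.symm).toMonoidHom k) : GL (Fin n) F) :
          Matrix (Fin n) (Fin n) F) *ᵥ v) = QuadraticMap.polar Q u v := by
      intro u v
      have := Cfsg.Agent.Lib.Helper5.AschO.polar_map_of_similarity
        ((((MulAut.conj P).toMonoidHom ((glReindex e.symm).toMonoidHom k) : GL (Fin n) F) :
          Matrix (Fin n) (Fin n) F)) 1 (by intro v; rw [one_mul]; exact hgQ v) u v
      rw [one_mul] at this
      exact this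
    have hact := fun x => conj_reindex_mulVec e P k x
    have hpure : ∀ u u' w w', f₁ ((A : Matrix (Fin 3) (Fin 3) F) *ᵥ u) ((A : Matrix (Fin 3) (Fin 3) F) *ᵥ u') *
        f₂ ((Bm : Matrix (Fin 4) (Fin 4) F) *ᵥ w) ((Bm : Matrix (Fin 4) (Fin 4) F) *ᵥ w') =
        f₁ u u' * f₂ w w' := by
      intro u u' w w'
      have h1 := tens_form h₁.bilinear h₂.bilinear hform ((A : Matrix (Fin 3) (Fin 3) F) *ᵥ u)
        ((A : Matrix (Fin 3) (Fin 3) F) *ᵥ u') ((Bm : Matrix (Fin 4) (Fin 4) F) *ᵥ w)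
        ((Bm : Matrix (Fin 4) (Fin 4) F) *ᵥ w')
      have h2' := tens_form h₁.bilinear h₂.bilinear hform u u' w w'
      rw [← kronecker_mulVec_pureT, ← kronecker_mulVec_pureT, ← hk, ← hact, ← hact, hgB, h2'] at h1
      exact (mul_left_cancel₀ hc h1).symm
    obtain ⟨lam, hlam⟩ := exists_similarity_left h₂.nondegenerate (by norm_num)
      (A : Matrix (Fin 3) (Fin 3) F) Bm hpure
    have hpow := similarity_pow_eq h₁.bilinear h₁.nondegenerate (A : Matrix (Fin 3) (Fin 3) F) lam hlam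
    have hdetA : (A : Matrix (Fin 3) (Fin 3) F).det ≠ 0 :=
      ((Matrix.isUnit_iff_isUnit_det _).1 A.isUnit).ne_zero
    have hlam0 : lam ≠ 0 := by
      intro h
      apply hdetA
      have h3 : (A : Matrix (Fin 3) (Fin 3) F).det ^ 2 = 0 := by rw [← hpow, h]; ring
      exact (pow_eq_zero_iff (by norm_num : (2 : ℕ) ≠ 0)).1 h3
    obtain ⟨u₀, u₀', hu₀⟩ : ∃ u u' : Fin 3 → F, f₁ u u' ≠ 0 := by
      have hv : (Pi.single 0 1 : Fin 3 → F) ≠ 0 := by
        intro h0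
        have := congrFun h0 0
        simp at this
      obtain ⟨x, hx⟩ := (h₁.nondegenerate _ hv).2
      exact ⟨_, x, hx⟩
    have hB2 : ∀ w w', f₂ ((Bm : Matrix (Fin 4) (Fin 4) F) *ᵥ w) ((Bm : Matrix (Fin 4) (Fin 4) F) *ᵥ w') =
        lam⁻¹ * f₂ w w' := by
      intro w w'
      have h3 := hpure u₀ u₀' w w'
      rw [hlam] at h3
      have h4 : f₁ u₀ u₀' * (lam * f₂ ((Bm : Matrix (Fin 4) (Fin 4) F) *ᵥ w)
          ((Bm : Matrix (Fin 4) (Fin 4) F) *ᵥ w') - f₂ w w') = 0 := by linear_combination h3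
      rcases mul_eq_zero.1 h4 with h | h
      · exact absurd h hu₀
      · rw [eq_inv_mul_iff_mul_eq₀ hlam0]
        linear_combination h
    set ν : F := (A : Matrix (Fin 3) (Fin 3) F).det / lam with hν
    have hν2 : ν ^ 2 = lam := by
      rw [hν, div_pow, ← hpow]
      field_simp
    have hν0 : ν ≠ 0 := by
      intro h
      rw [h] at hν2
      apply hlam0
      rw [← hν2]
      ring
    set A' : Matrix (Fin 3) (Fin 3) F := ν⁻¹ • (A : Matrix (Fin 3) (Fin 3) F) with hA'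
    set B' : Matrix (Fin 4) (Fin 4) F := ν • (Bm : Matrix (Fin 4) (Fin 4) F) with hB'
    have hk' : (k : Matrix (Fin 3 × Fin 4) (Fin 3 × Fin 4) F) = A' ⊗ₖ B' := by
      rw [hk, hA', hB', Matrix.smul_kronecker, Matrix.kronecker_smul, smul_smul, inv_mul_cancel₀ hν0, one_smul]
    have hA'iso : ∀ u u', f₁ (A' *ᵥ u) (A' *ᵥ u') = f₁ u u' := by
      intro u u'
      rw [hA', Matrix.smul_mulVec, Matrix.smul_mulVec, h₁.bilinear.smul_left, h₁.bilinear.smul_right, hlam,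
        ← hν2]
      field_simp
    have hB'iso : ∀ w w', f₂ (B' *ᵥ w) (B' *ᵥ w') = f₂ w w' := by
      intro w w'
      rw [hB', Matrix.smul_mulVec, Matrix.smul_mulVec, h₂.bilinear.smul_left, h₂.bilinear.smul_right, hB2,
        ← hν2]
      field_simp
    have hA'det : A'.det ^ 2 = 1 := by
      have := similarity_pow_eq h₁.bilinear h₁.nondegenerate A' 1
        (by intro u u'; rw [one_mul]; exact hA'iso u u')
      rw [one_pow] at this
      exact this.symm
    have hB'det : B'.det ^ 2 = 1 := by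
      have := similarity_pow_eq h₂.bilinear h₂.nondegenerate B' 1
        (by intro u u'; rw [one_mul]; exact hB'iso u u')
      rw [one_pow] at this
      exact this.symm
    have hA'0 : A'.det ≠ 0 := by
      intro h
      rw [h] at hA'det
      simp at hA'det
    -- the determinant
    have hdetg : ((((MulAut.conj P).toMonoidHom ((glReindex e.symm).toMonoidHom k) : GL (Fin n) F) :
          Matrix (Fin n) (Fin n) F)).det = 1 := by
      obtain ⟨x, hx, hxg⟩ := hgΩ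
      rw [← hxg]
      have h3 := Abelianization.commutator_subset_ker
        (Matrix.GeneralLinearGroup.det.comp (isometryGroup F Q).subtype) hx
      exact congrArg Units.val (MonoidHom.mem_ker.1 h3)
    have hdetk : (k : Matrix (Fin 3 × Fin 4) (Fin 3 × Fin 4) F).det = 1 := by
      have h3 : ((((MulAut.conj P).toMonoidHom ((glReindex e.symm).toMonoidHom k) : GL (Fin n) F) :
          Matrix (Fin n) (Fin n) F)) = (P : Matrix (Fin n) (Fin n) F) *
            (k : Matrix (Fin 3 × Fin 4) (Fin 3 × Fin 4) F).submatrix e e *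
            ((P⁻¹ : GL (Fin n) F) : Matrix (Fin n) (Fin n) F) := rfl
      rw [h3, Matrix.det_units_conj, Matrix.det_submatrix_equiv_self] at hdetg
      exact hdetg
    have hB'1 : B'.det = 1 := by
      rw [hk', Matrix.det_kronecker] at hdetk
      simp only [Fintype.card_fin] at hdetk
      have h4 : A'.det ^ 4 = 1 := by
        rw [show 4 = 2 * 2 from rfl, pow_mul, hA'det, one_pow]
      rw [h4, one_mul] at hdetk
      linear_combination hdetk - B'.det * hB'det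
    -- the second factor in the hyperbolic frame
    set N : Matrix (Fin 4) (Fin 4) F := T⁻¹ * B' * T with hN
    have hB'G : B'ᵀ * gramMatrix f₂ * B' = gramMatrix f₂ := gram_of_isometry h₂.bilinear B' hB'iso
    have hTN : T * N = B' * T := by
      rw [hN, ← Matrix.mul_assoc, ← Matrix.mul_assoc, hTT', Matrix.one_mul]
    have hNJ : Nᵀ * J4 * N = J4 := by
      rw [← hTG]
      calc Nᵀ * (Tᵀ * gramMatrix f₂ * T) * N = (T * N)ᵀ * gramMatrix f₂ * (T * N) := by
            simp only [Matrix.transpose_mul, Matrix.mul_assoc]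
        _ = (B' * T)ᵀ * gramMatrix f₂ * (B' * T) := by rw [hTN]
        _ = Tᵀ * (B'ᵀ * gramMatrix f₂ * B') * T := by
            simp only [Matrix.transpose_mul, Matrix.mul_assoc]
        _ = Tᵀ * gramMatrix f₂ * T := by rw [hB'G]
    set M : Matrix (Fin 2 × Fin 2) (Fin 2 × Fin 2) F := N.submatrix s4.symm s4.symm with hM
    have hMJ : Mᵀ * (J2 ⊗ₖ J2 : Matrix (Fin 2 × Fin 2) (Fin 2 × Fin 2) F) * M = J2 ⊗ₖ J2 := by
      have hJ : (J2 ⊗ₖ J2 : Matrix (Fin 2 × Fin 2) (Fin 2 × Fin 2) F) =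
          (J4 : Matrix (Fin 4) (Fin 4) F).submatrix s4.symm s4.symm := by
        rw [J4]
        ext i j
        simp
      rw [hJ, hM, Matrix.transpose_submatrix, Matrix.submatrix_mul_equiv, Matrix.submatrix_mul_equiv, hNJ]
    have hMq : ∀ v, detQ (M *ᵥ v) = detQ v := by
      intro v
      have h3 := two_detQ (M *ᵥ v)
      rw [dot_mulVec_mulVec, hMJ, ← two_detQ] at h3
      exact mul_left_cancel₀ h2 h3
    have hMdet : M.det = 1 := by
      rw [hM, Matrix.det_submatrix_equiv_self, hN, Matrix.det_mul, Matrix.det_mul, hB'1, mul_one,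
        ← Matrix.det_mul, hT'T, Matrix.det_one]
    obtain ⟨x, y, hxy, hMxy⟩ := so4_kron h2 M hMq hMdet
    have hNxy : N = (x ⊗ₖ y).submatrix s4 s4 := by
      rw [← hMxy, hM]
      ext i j
      simp
    -- the new Kronecker factors
    set k'' : GL (Fin 3 × Fin 4) F := R⁻¹ * k * R with hk''
    have hk''val : (k'' : Matrix (Fin 3 × Fin 4) (Fin 3 × Fin 4) F) = A' ⊗ₖ N := by
      rw [hk'', Units.val_mul, Units.val_mul, hRinv, hRval, hk', ← Matrix.mul_kronecker_mul,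
        ← Matrix.mul_kronecker_mul, one_mul, mul_one, hN]
    set k3 : GL (Fin 2 × Fin 6) F := glReindex rho k'' with hk3
    set Y : Matrix (Fin 6) (Fin 6) F := (A' ⊗ₖ x).submatrix t6.symm t6.symm with hY
    have hk3val : (k3 : Matrix (Fin 2 × Fin 6) (Fin 2 × Fin 6) F) = y ⊗ₖ Y := by
      have h3 : (k3 : Matrix (Fin 2 × Fin 6) (Fin 2 × Fin 6) F) =
          (k'' : Matrix (Fin 3 × Fin 4) (Fin 3 × Fin 4) F).submatrix rho.symm rho.symm := rfl
      rw [h3, hk''val, hNxy]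
      ext ⟨b, j⟩ ⟨b', j'⟩
      simp only [Matrix.submatrix_apply, rho_symm_apply, Matrix.kroneckerMap_apply, hY,
        Equiv.apply_symm_apply]
      ring
    have hydet : y.det ≠ 0 := right_ne_zero_of_mul_eq_one hxy
    have hxdet : x.det ≠ 0 := left_ne_zero_of_mul_eq_one hxy
    have hYdet : Y.det ≠ 0 := by
      rw [hY, Matrix.det_submatrix_equiv_self, Matrix.det_kronecker]
      simp only [Fintype.card_fin]
      exact mul_ne_zero (pow_ne_zero _ hA'0) (pow_ne_zero _ hxdet)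
    refine ⟨(glReindex (e.trans rho).symm).toMonoidHom k3,
      ⟨k3, ⟨Matrix.GeneralLinearGroup.mkOfDetNeZero y hydet, Matrix.GeneralLinearGroup.mkOfDetNeZero Y hYdet,
        hk3val⟩, rfl⟩, ?_⟩
    have h3 : (glReindex (e.trans rho).symm) k3 = glReindex e.symm k'' := by
      apply Units.ext
      ext i j
      simp [Cfsg.Agent.Lib.Helper45.OeESwap.coe_glReindex', hk3]
    show (P * glReindex e.symm R) * (glReindex (e.trans rho).symm) k3 * (P * glReindex e.symm R)⁻¹ =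
      P * glReindex e.symm k * P⁻¹
    rw [h3, hk'']
    simp only [map_mul, map_inv]
    group

end Cfsg.Agent.Lib.Helper55.Oe
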