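import Mathlib
import Cfsg.Prelude.Def_GeometricClasses
import Cfsg.Agent.Lib.Helper55.Oe.Defs
import Cfsg.Agent.Lib.Helper55.Oe.Between
import Cfsg.Agent.Lib.Helper74.OeRowKit
import Cfsg.Agent.Lib.Helper19.OeGPerp
import Cfsg.Agent.Lib.Helper19.OeGEven
import Cfsg.Agent.Lib.Helper36.OeTensorAlt
import Cfsg.Agent.Lib.Helper45.OeEFrame
import Cfsg.Agent.Lib.Helper45.OeESwap
import Cfsg.Agent.Lib.Helper94.OrthFrameBridge
import Cfsg.Agent.Lib.Helper94.OrthFrameBridge2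
import Cfsg.Agent.Lib.Helper94.TensorSp2
import Cfsg.Agent.Lib.Helper24.BhrC3Div
import Cfsg.Agent.Lib.Helper38.OeEO3O4P

/-!
# Project ASCHOE (helper55), row `Ω₁₂⁺` = S5871 in `_of` form (helper38)

`row12P_of`: the statement of S5871 from the CORE theorem and the leaf modules of the two ASCHOE sheets that are
not yet on main, taken as hypotheses (specialised to the given `F`, `Q`, `H`).  Same layout as helper74's
`Lib/Helper74/OeRow10M.lean`.
-/

set_option autoImplicit false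
set_option linter.unusedSectionVars false
set_option linter.unusedVariables false
set_option linter.style.haveILetI false
set_option maxHeartbeats 1600000

namespace Cfsg.Agent.Lib.Helper38.OeRow12P

open Cfsg Cfsg.Geo Cfsg.Agent.Lib.Helper55.Oe Cfsg.Agent.Lib.Helper74.OeRow
open scoped MatrixGroups Matrix Kronecker

variable {F : Type*} [Field F] [Fintype F]

/-- the conclusion of S5871 -/
def Concl12P (Q : (Fin 12 → F) → F) (H : Subgroup (Matrix.GeneralLinearGroup (Fin 12) F)) : Prop :=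
    (∃ W : Submodule F (Fin 12 → F), W ≠ ⊥ ∧ Cfsg.Geo.IsTotallySingularQuad Q W ∧ Module.finrank F W ≠ 5 ∧ H = Cfsg.Geo.subspaceStabilizer W ⊓ Cfsg.Geo.omegaGL Q) ∨
    (Odd (Fintype.card F) ∧ ∃ W : Submodule F (Fin 12 → F), W ≠ ⊥ ∧ W ≠ ⊤ ∧ Odd (Module.finrank F W) ∧ 2 * Module.finrank F W ≠ 12 ∧ Cfsg.Geo.IsNondegenerateOn (QuadraticMap.polar Q) W ∧ H = Cfsg.Geo.subspaceStabilizer W ⊓ Cfsg.Geo.omegaGL Q) ∨
    (∃ W : Submodule F (Fin 12 → F), Module.finrank F W = 2 ∧ Cfsg.Geo.IsNondegenerateOn (QuadraticMap.polar Q) W ∧ ¬ Cfsg.Geo.IsPlusTypeOn Q W ∧ H = Cfsg.Geo.subspaceStabilizer W ⊓ Cfsg.Geo.omegaGL Q) ∨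
    (4 ≤ Fintype.card F ∧ ∃ W : Submodule F (Fin 12 → F), Module.finrank F W = 2 ∧ Cfsg.Geo.IsNondegenerateOn (QuadraticMap.polar Q) W ∧ Cfsg.Geo.IsPlusTypeOn Q W ∧ H = Cfsg.Geo.subspaceStabilizer W ⊓ Cfsg.Geo.omegaGL Q) ∨
    (∃ W : Submodule F (Fin 12 → F), Module.finrank F W = 4 ∧ Cfsg.Geo.IsNondegenerateOn (QuadraticMap.polar Q) W ∧ H = Cfsg.Geo.subspaceStabilizer W ⊓ Cfsg.Geo.omegaGL Q) ∨
    (¬ Odd (Fintype.card F) ∧ ∃ v : (Fin 12 → F), Q v ≠ 0 ∧ H = Cfsg.Geo.subspaceStabilizer (Submodule.span F {v}) ⊓ Cfsg.Geo.omegaGL Q) ∨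
    ((∃ p : ℕ, p.Prime ∧ Odd p ∧ Fintype.card F = p) ∧ ∃ D : Fin 12 → Submodule F (Fin 12 → F), Cfsg.Geo.IsOrthogonalMDecomposition Q 1 D ∧ H = Cfsg.Geo.decompositionStabilizer D ⊓ Cfsg.Geo.omegaGL Q) ∨
    (7 ≤ Fintype.card F ∧ ∃ D : Fin 6 → Submodule F (Fin 12 → F), Cfsg.Geo.IsOrthogonalMDecomposition Q 2 D ∧ (∀ i, Cfsg.Geo.IsPlusTypeOn Q (D i)) ∧ H = Cfsg.Geo.decompositionStabilizer D ⊓ Cfsg.Geo.omegaGL Q) ∨
    (Fintype.card F ≠ 3 ∧ ∃ D : Fin 6 → Submodule F (Fin 12 → F), Cfsg.Geo.IsOrthogonalMDecomposition Q 2 D ∧ (∀ i, ¬ Cfsg.Geo.IsPlusTypeOn Q (D i)) ∧ H = Cfsg.Geo.decompositionStabilizer D ⊓ Cfsg.Geo.omegaGL Q) ∨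
    (Odd (Fintype.card F) ∧ 5 ≤ Fintype.card F ∧ ∃ D : Fin 4 → Submodule F (Fin 12 → F), Cfsg.Geo.IsOrthogonalMDecomposition Q 3 D ∧ H = Cfsg.Geo.decompositionStabilizer D ⊓ Cfsg.Geo.omegaGL Q) ∨
    (3 ≤ Fintype.card F ∧ ∃ D : Fin 3 → Submodule F (Fin 12 → F), Cfsg.Geo.IsOrthogonalMDecomposition Q 4 D ∧ H = Cfsg.Geo.decompositionStabilizer D ⊓ Cfsg.Geo.omegaGL Q) ∨
    (∃ D : Fin 2 → Submodule F (Fin 12 → F), Cfsg.Geo.IsOrthogonalMDecomposition Q 6 D ∧ H = Cfsg.Geo.decompositionStabilizer D ⊓ Cfsg.Geo.omegaGL Q) ∨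
    (∃ D : Fin 2 → Submodule F (Fin 12 → F), Cfsg.Geo.IsMDecomposition 6 D ∧ (∀ i, Cfsg.Geo.IsTotallySingularQuad Q (D i)) ∧ H = Cfsg.Geo.decompositionStabilizer D ⊓ Cfsg.Geo.omegaGL Q) ∨
    (∃ K : Subalgebra F (Matrix (Fin 12) (Fin 12) F), Cfsg.Geo.IsFieldSubalgebra 2 K ∧ H = Cfsg.Geo.subalgebraNormalizer K ⊓ Cfsg.Geo.omegaGL Q) ∨
    (∃ K : Subalgebra F (Matrix (Fin 12) (Fin 12) F), Cfsg.Geo.IsFieldSubalgebra 3 K ∧ H = Cfsg.Geo.subalgebraNormalizer K ⊓ Cfsg.Geo.omegaGL Q) ∨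
    (∃ K : Subalgebra F (Matrix (Fin 12) (Fin 12) F), Cfsg.Geo.IsFieldSubalgebra 2 K ∧ Cfsg.Geo.IsAdjointClosedFor (QuadraticMap.polar Q) K ∧ ¬ Cfsg.Geo.IsSelfAdjointFor (QuadraticMap.polar Q) K ∧ (∀ k ∈ K, ∃ c : F, ∀ v : (Fin 12 → F), Q (Matrix.mulVec k v) = c * Q v) ∧ H = Cfsg.Geo.subalgebraNormalizer K ⊓ Cfsg.Geo.omegaGL Q) ∨
    (3 ≤ Fintype.card F ∧ ∃ (e : Fin 12 ≃ Fin 2 × Fin 6) (P : Matrix.GeneralLinearGroup (Fin 12) F) (f₁ : (Fin 2 → F) → (Fin 2 → F) → F) (f₂ : (Fin 6 → F) → (Fin 6 → F) → F), Cfsg.Geo.IsSymplecticForm f₁ ∧ Cfsg.Geo.IsSymplecticForm f₂ ∧ Cfsg.Geo.IsTensorFormStructure id (QuadraticMap.polar Q) f₁ f₂ e P ∧ (∀ (x₁ : Fin 2 → F) (x₂ : Fin 6 → F), Q (Matrix.mulVec (P : Matrix (Fin 12) (Fin 12) F) ((fun a : Fin 2 × Fin 6 => x₁ a.1 * x₂ a.2) ∘ e)) = 0) ∧ H = Cfsg.Geo.tensorProductSubgroup 2 6 e P ⊓ Cfsg.Geo.omegaGL Q) ∨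
    (∃ (F₀ : Subfield F) (r : ℕ) (P : Matrix.GeneralLinearGroup (Fin 12) F) (ζ : F), r.Prime ∧ Fintype.card F = Nat.card F₀ ^ r ∧ ζ ≠ 0 ∧ Cfsg.Geo.IsQuadFormRationalStructure (fun v : Fin 12 → F => ζ * Q v) F₀ P ∧ H = Cfsg.Geo.subfieldSubgroup F₀ P ⊓ Cfsg.Geo.omegaGL Q) ∨
    Cfsg.Geo.InOrthogonalResidualClass H

section Intro

variable {Q : (Fin 12 → F) → F} {H : Subgroup (Matrix.GeneralLinearGroup (Fin 12) F)}

theorem d1 (h : (∃ W : Submodule F (Fin 12 → F), W ≠ ⊥ ∧ Cfsg.Geo.IsTotallySingularQuad Q W ∧ Module.finrank F W ≠ 5 ∧ H = Cfsg.Geo.subspaceStabilizer W ⊓ Cfsg.Geo.omegaGL Q)) : Concl12P Q H := by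
  unfold Concl12P
  left
  exact h

theorem d2 (h : (Odd (Fintype.card F) ∧ ∃ W : Submodule F (Fin 12 → F), W ≠ ⊥ ∧ W ≠ ⊤ ∧ Odd (Module.finrank F W) ∧ 2 * Module.finrank F W ≠ 12 ∧ Cfsg.Geo.IsNondegenerateOn (QuadraticMap.polar Q) W ∧ H = Cfsg.Geo.subspaceStabilizer W ⊓ Cfsg.Geo.omegaGL Q)) : Concl12P Q H := by
  unfold Concl12P
  right; left
  exact h

theorem d3 (h : (∃ W : Submodule F (Fin 12 → F), Module.finrank F W = 2 ∧ Cfsg.Geo.IsNondegenerateOn (QuadraticMap.polar Q) W ∧ ¬ Cfsg.Geo.IsPlusTypeOn Q W ∧ H = Cfsg.Geo.subspaceStabilizer W ⊓ Cfsg.Geo.omegaGL Q)) : Concl12P Q H := by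
  unfold Concl12P
  right; right; left
  exact h

theorem d4 (h : (4 ≤ Fintype.card F ∧ ∃ W : Submodule F (Fin 12 → F), Module.finrank F W = 2 ∧ Cfsg.Geo.IsNondegenerateOn (QuadraticMap.polar Q) W ∧ Cfsg.Geo.IsPlusTypeOn Q W ∧ H = Cfsg.Geo.subspaceStabilizer W ⊓ Cfsg.Geo.omegaGL Q)) : Concl12P Q H := by
  unfold Concl12P
  right; right; right; left
  exact h

theorem d5 (h : (∃ W : Submodule F (Fin 12 → F), Module.finrank F W = 4 ∧ Cfsg.Geo.IsNondegenerateOn (QuadraticMap.polar Q) W ∧ H = Cfsg.Geo.subspaceStabilizer W ⊓ Cfsg.Geo.omegaGL Q)) : Concl12P Q H := by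
  unfold Concl12P
  right; right; right; right; left
  exact h

theorem d6 (h : (¬ Odd (Fintype.card F) ∧ ∃ v : (Fin 12 → F), Q v ≠ 0 ∧ H = Cfsg.Geo.subspaceStabilizer (Submodule.span F {v}) ⊓ Cfsg.Geo.omegaGL Q)) : Concl12P Q H := by
  unfold Concl12P
  right; right; right; right; right; left
  exact h

theorem d7 (h : ((∃ p : ℕ, p.Prime ∧ Odd p ∧ Fintype.card F = p) ∧ ∃ D : Fin 12 → Submodule F (Fin 12 → F), Cfsg.Geo.IsOrthogonalMDecomposition Q 1 D ∧ H = Cfsg.Geo.decompositionStabilizer D ⊓ Cfsg.Geo.omegaGL Q)) : Concl12P Q H := by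
  unfold Concl12P
  right; right; right; right; right; right; left
  exact h

theorem d8 (h : (7 ≤ Fintype.card F ∧ ∃ D : Fin 6 → Submodule F (Fin 12 → F), Cfsg.Geo.IsOrthogonalMDecomposition Q 2 D ∧ (∀ i, Cfsg.Geo.IsPlusTypeOn Q (D i)) ∧ H = Cfsg.Geo.decompositionStabilizer D ⊓ Cfsg.Geo.omegaGL Q)) : Concl12P Q H := by
  unfold Concl12P
  right; right; right; right; right; right; right; left
  exact h

theorem d9 (h : (Fintype.card F ≠ 3 ∧ ∃ D : Fin 6 → Submodule F (Fin 12 → F), Cfsg.Geo.IsOrthogonalMDecomposition Q 2 D ∧ (∀ i, ¬ Cfsg.Geo.IsPlusTypeOn Q (D i)) ∧ H = Cfsg.Geo.decompositionStabilizer D ⊓ Cfsg.Geo.omegaGL Q)) : Concl12P Q H := by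
  unfold Concl12P
  right; right; right; right; right; right; right; right; left
  exact h

theorem d10 (h : (Odd (Fintype.card F) ∧ 5 ≤ Fintype.card F ∧ ∃ D : Fin 4 → Submodule F (Fin 12 → F), Cfsg.Geo.IsOrthogonalMDecomposition Q 3 D ∧ H = Cfsg.Geo.decompositionStabilizer D ⊓ Cfsg.Geo.omegaGL Q)) : Concl12P Q H := by
  unfold Concl12P
  right; right; right; right; right; right; right; right; right; left
  exact h

theorem d11 (h : (3 ≤ Fintype.card F ∧ ∃ D : Fin 3 → Submodule F (Fin 12 → F), Cfsg.Geo.IsOrthogonalMDecomposition Q 4 D ∧ H = Cfsg.Geo.decompositionStabilizer D ⊓ Cfsg.Geo.omegaGL Q)) : Concl12P Q H := by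
  unfold Concl12P
  right; right; right; right; right; right; right; right; right; right; left
  exact h

theorem d12 (h : (∃ D : Fin 2 → Submodule F (Fin 12 → F), Cfsg.Geo.IsOrthogonalMDecomposition Q 6 D ∧ H = Cfsg.Geo.decompositionStabilizer D ⊓ Cfsg.Geo.omegaGL Q)) : Concl12P Q H := by
  unfold Concl12P
  right; right; right; right; right; right; right; right; right; right; right; left
  exact h

theorem d13 (h : (∃ D : Fin 2 → Submodule F (Fin 12 → F), Cfsg.Geo.IsMDecomposition 6 D ∧ (∀ i, Cfsg.Geo.IsTotallySingularQuad Q (D i)) ∧ H = Cfsg.Geo.decompositionStabilizer D ⊓ Cfsg.Geo.omegaGL Q)) : Concl12P Q H := by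
  unfold Concl12P
  right; right; right; right; right; right; right; right; right; right; right; right; left
  exact h

theorem d14 (h : (∃ K : Subalgebra F (Matrix (Fin 12) (Fin 12) F), Cfsg.Geo.IsFieldSubalgebra 2 K ∧ H = Cfsg.Geo.subalgebraNormalizer K ⊓ Cfsg.Geo.omegaGL Q)) : Concl12P Q H := by
  unfold Concl12P
  right; right; right; right; right; right; right; right; right; right; right; right; right; left
  exact h

theorem d15 (h : (∃ K : Subalgebra F (Matrix (Fin 12) (Fin 12) F), Cfsg.Geo.IsFieldSubalgebra 3 K ∧ H = Cfsg.Geo.subalgebraNormalizer K ⊓ Cfsg.Geo.omegaGL Q)) : Concl12P Q H := by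
  unfold Concl12P
  right; right; right; right; right; right; right; right; right; right; right; right; right; right; left
  exact h

theorem d16 (h : (∃ K : Subalgebra F (Matrix (Fin 12) (Fin 12) F), Cfsg.Geo.IsFieldSubalgebra 2 K ∧ Cfsg.Geo.IsAdjointClosedFor (QuadraticMap.polar Q) K ∧ ¬ Cfsg.Geo.IsSelfAdjointFor (QuadraticMap.polar Q) K ∧ (∀ k ∈ K, ∃ c : F, ∀ v : (Fin 12 → F), Q (Matrix.mulVec k v) = c * Q v) ∧ H = Cfsg.Geo.subalgebraNormalizer K ⊓ Cfsg.Geo.omegaGL Q)) : Concl12P Q H := by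
  unfold Concl12P
  right; right; right; right; right; right; right; right; right; right; right; right; right; right; right; left
  exact h

theorem d17 (h : (3 ≤ Fintype.card F ∧ ∃ (e : Fin 12 ≃ Fin 2 × Fin 6) (P : Matrix.GeneralLinearGroup (Fin 12) F) (f₁ : (Fin 2 → F) → (Fin 2 → F) → F) (f₂ : (Fin 6 → F) → (Fin 6 → F) → F), Cfsg.Geo.IsSymplecticForm f₁ ∧ Cfsg.Geo.IsSymplecticForm f₂ ∧ Cfsg.Geo.IsTensorFormStructure id (QuadraticMap.polar Q) f₁ f₂ e P ∧ (∀ (x₁ : Fin 2 → F) (x₂ : Fin 6 → F), Q (Matrix.mulVec (P : Matrix (Fin 12) (Fin 12) F) ((fun a : Fin 2 × Fin 6 => x₁ a.1 * x₂ a.2) ∘ e)) = 0) ∧ H = Cfsg.Geo.tensorProductSubgroup 2 6 e P ⊓ Cfsg.Geo.omegaGL Q)) : Concl12P Q H := by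
  unfold Concl12P
  right; right; right; right; right; right; right; right; right; right; right; right; right; right; right; right; left
  exact h

theorem d18 (h : (∃ (F₀ : Subfield F) (r : ℕ) (P : Matrix.GeneralLinearGroup (Fin 12) F) (ζ : F), r.Prime ∧ Fintype.card F = Nat.card F₀ ^ r ∧ ζ ≠ 0 ∧ Cfsg.Geo.IsQuadFormRationalStructure (fun v : Fin 12 → F => ζ * Q v) F₀ P ∧ H = Cfsg.Geo.subfieldSubgroup F₀ P ⊓ Cfsg.Geo.omegaGL Q)) : Concl12P Q H := by
  unfold Concl12P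
  right; right; right; right; right; right; right; right; right; right; right; right; right; right; right; right; right; left
  exact h

theorem d19 (h : Cfsg.Geo.InOrthogonalResidualClass H) : Concl12P Q H := by
  unfold Concl12P
  right; right; right; right; right; right; right; right; right; right; right; right; right; right; right; right; right; right
  exact h

end Intro

section Kit

theorem card_ne_six : Fintype.card F ≠ 6 := by
  intro h6
  obtain ⟨p, hchar⟩ := CharP.exists F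
  haveI := hchar
  obtain ⟨k, hp, hk⟩ := FiniteField.card F p
  rw [h6] at hk
  have h2 : 2 ∣ p ^ (k : ℕ) := ⟨3, by omega⟩
  have h3 : 3 ∣ p ^ (k : ℕ) := ⟨2, by omega⟩
  have e2 := (Nat.prime_dvd_prime_iff_eq Nat.prime_two hp).1 (Nat.prime_two.dvd_of_dvd_pow h2)
  have e3 := (Nat.prime_dvd_prime_iff_eq Nat.prime_three hp).1 (Nat.prime_three.dvd_of_dvd_pow h3)
  omega

/-- a non-prime finite field has a subfield of prime index -/
theorem exists_prime_subfield (hnp : ¬ (Fintype.card F).Prime) :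
    ∃ (F₀ : Subfield F) (r : ℕ), r.Prime ∧ Fintype.card F = Nat.card F₀ ^ r := by
  classical
  obtain ⟨p, hchar⟩ := CharP.exists F
  haveI := hchar
  have hp : p.Prime := CharP.char_is_prime F p
  haveI : Fact p.Prime := ⟨hp⟩
  have hbot : Nat.card (⊥ : Subfield F) = p := Subfield.card_bot F p
  haveI : Fintype (⊥ : Subfield F) := Fintype.ofFinite _
  set m := Module.finrank (⊥ : Subfield F) F with hm
  have hcard : Fintype.card F = p ^ m := by
    have h := Module.card_eq_pow_finrank (K := (⊥ : Subfield F)) (V := F)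
    rw [h, ← Nat.card_eq_fintype_card, hbot]
  have hm1 : m ≠ 1 := by
    intro h1
    apply hnp
    rw [hcard, h1, pow_one]
    exact hp
  have hr : m.minFac.Prime := Nat.minFac_prime hm1
  obtain ⟨F₁, -, hF₁⟩ := exists_subfield_of_prime_dvd_finrank (⊥ : Subfield F) m.minFac hr (Nat.minFac_dvd m)
  exact ⟨F₁, m.minFac, hr, hF₁⟩

theorem even_of_isSymplecticForm {k : ℕ} (f : (Fin k → F) → (Fin k → F) → F) (h : IsSymplecticForm f) :
    Even k := by
  obtain ⟨l, -, hl, -, -⟩ := Cfsg.Agent.Lib.Helper36.OeTensorAlt.exists_lagrangian_family f h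
  exact ⟨l, by omega⟩

end Kit

/-- the modules of the ASCHOE sheets used by the row `Ω₁₂⁺`, for fixed `F`, `Q`, `H` -/
structure Mods12P (Q : (Fin 12 → F) → F) (H : Subgroup (GL (Fin 12) F)) : Prop where
  core : GeoOE Q H
  irr : ActsIrreducibly (matrixSet (omegaGL Q))
  pdec : ∀ {t : ℕ} (m : ℕ) (D : Fin t → Submodule F (Fin 12 → F)),
    IsNondegenerateMDecomposition (QuadraticMap.polar Q) m D →
      ¬ omegaGL Q ≤ decompositionStabilizer D
  ppair : ∀ (m : ℕ) (D : Fin 2 → Submodule F (Fin 12 → F)), IsMDecomposition m D →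
    (∀ i, IsTotallySingularQuad Q (D i)) → ¬ omegaGL Q ≤ decompositionStabilizer D
  pfield : ∀ (r : ℕ), 2 ≤ r → ∀ K : Subalgebra F (Matrix (Fin 12) (Fin 12) F), IsFieldSubalgebra r K →
    ¬ omegaGL Q ≤ subalgebraNormalizer K
  ptensor : ∀ (n₁ n₂ : ℕ), 2 ≤ n₁ → 2 ≤ n₂ → ∀ (e : Fin 12 ≃ Fin n₁ × Fin n₂) (P : GL (Fin 12) F),
    ¬ omegaGL Q ≤ tensorProductSubgroup n₁ n₂ e P
  psub : ∀ F₀ : Subfield F, F₀ ≠ ⊤ → ∀ P : GL (Fin 12) F, ¬ omegaGL Q ≤ subfieldSubgroup F₀ P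
  thalfiso : ∀ W W' : Submodule F (Fin 12 → F), IsNondegenerateOn (QuadraticMap.polar Q) W →
    IsNondegenerateOn (QuadraticMap.polar Q) W' → AreOrthogonalFor (QuadraticMap.polar Q) W W' →
    W ⊔ W' = ⊤ → Module.finrank F W = Module.finrank F W' → Even (Module.finrank F W) →
    AreIsometricFor Q W W'
  todd : ∀ {t : ℕ} (m : ℕ) (D : Fin t → Submodule F (Fin 12 → F)), IsOrthogonalMDecomposition Q m D →
    Odd t → Even m → ∀ i, IsPlusTypeOn Q (D i)
  eplus4 : Fintype.card F = 2 → ∀ {t : ℕ} (D : Fin t → Submodule F (Fin 12 → F)),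
    IsOrthogonalMDecomposition Q 4 D → (∀ i, IsPlusTypeOn Q (D i)) →
    ∃ D' : Fin (2 * t) → Submodule F (Fin 12 → F), IsOrthogonalMDecomposition Q 2 D' ∧
      (∀ i, ¬ IsPlusTypeOn Q (D' i)) ∧
      decompositionStabilizer D ⊓ isometryGroup F Q ≤ decompositionStabilizer D'
  et2 : (2 : F) ≠ 0 → ∀ (e : Fin 12 ≃ Fin 2 × Fin 6) (P : GL (Fin 12) F)
    (f₁ : (Fin 2 → F) → (Fin 2 → F) → F) (f₂ : (Fin 6 → F) → (Fin 6 → F) → F),
    IsSymmetricForm f₁ → IsSymmetricForm f₂ →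
    IsTensorFormStructure id (QuadraticMap.polar Q) f₁ f₂ e P →
    H ≤ tensorProductSubgroup 2 6 e P → OutTSPair Q H ∨ OutFieldU Q H
  tt34 : (2 : F) ≠ 0 → ∀ (e : Fin 12 ≃ Fin 3 × Fin 4) (P : GL (Fin 12) F)
    (f₁ : (Fin 3 → F) → (Fin 3 → F) → F) (f₂ : (Fin 4 → F) → (Fin 4 → F) → F),
    IsSymmetricForm f₁ → IsSymmetricForm f₂ →
    IsTensorFormStructure id (QuadraticMap.polar Q) f₁ f₂ e P →
    IsPlusTypeOn (fun v : Fin 4 → F => f₂ v v) ⊤

section Row

variable {Q : (Fin 12 → F) → F} {H : Subgroup (GL (Fin 12) F)}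

/-- case: a totally singular subspace -/
theorem concl_of_outTS (hQ : IsNondegenerateQuadraticForm Q) (hplus : IsPlusTypeOn Q ⊤)
    (hH : IsMaximalIn (omegaGL Q) H) (M : Mods12P Q H) (h : OutTS Q H) : Concl12P Q H := by
  obtain ⟨W, hW0, hWts, hHW⟩ := h
  by_cases h5 : Module.finrank F W = 5
  · exact (false_of_exists_between hH hHW
      (exists_between_submax_singular hQ (by norm_num) hplus W hWts (by rw [h5]))).elim
  · exact d1 ⟨W, hW0, hWts, h5, eq_inf_of_isMaximalIn hH hHW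
      (not_le_subspaceStabilizer_of_irreducible M.irr hW0
        (ne_top_of_isTotallySingularQuad hQ (by norm_num) hWts))⟩

/-- case: a non-degenerate subspace -/
theorem concl_of_outND (hQ : IsNondegenerateQuadraticForm Q)
    (hH : IsMaximalIn (omegaGL Q) H) (M : Mods12P Q H) (h : OutND Q H) : Concl12P Q H := by
  classical
  have hI : H ≤ isometryGroup F Q := hH.1.le.trans (omegaGL_le_isometryGroup Q)
  have key : ∀ W : Submodule F (Fin 12 → F), W ≠ ⊥ → W ≠ ⊤ →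
      IsNondegenerateOn (QuadraticMap.polar Q) W → H ≤ subspaceStabilizer W →
      Module.finrank F W ≤ 6 → Concl12P Q H := by
    intro W hW0 hWtop hWnd hHW hle6
    have hprop : ¬ omegaGL Q ≤ subspaceStabilizer W :=
      not_le_subspaceStabilizer_of_irreducible M.irr hW0 hWtop
    have hEq : H = subspaceStabilizer W ⊓ omegaGL Q := eq_inf_of_isMaximalIn hH hHW hprop
    have hpos : 0 < Module.finrank F W := by
      rw [Module.finrank_pos_iff_exists_ne_zero]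
      by_contra hcon
      apply hW0
      rw [eq_bot_iff]
      intro w hw
      by_contra hw0
      exact hcon ⟨⟨w, hw⟩, fun h => hw0 (by simpa using congrArg Subtype.val h)⟩
    have hodd_of : Odd (Module.finrank F W) → Odd (Fintype.card F) := by
      intro ho
      apply odd_card_of_two_ne_zero
      intro h2
      have := even_finrank_of_nondegenerate_char_two hQ h2 W hWnd
      exact (Nat.not_even_iff_odd.2 ho) this
    obtain hk | hk | hk | hk | hk | hk : Module.finrank F W = 1 ∨ Module.finrank F W = 2 ∨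
        Module.finrank F W = 3 ∨ Module.finrank F W = 4 ∨ Module.finrank F W = 5 ∨
        Module.finrank F W = 6 := by omega
    · exact d2 ⟨hodd_of (by rw [hk]; decide), W, hW0, hWtop, by rw [hk]; decide, by rw [hk]; decide,
        hWnd, hEq⟩
    · by_cases hp : IsPlusTypeOn Q W
      · by_cases hq : 4 ≤ Fintype.card F
        · exact d4 ⟨hq, W, hk, hWnd, hp, hEq⟩
        · exfalso
          exact false_of_exists_between hH hHW
            (exists_between_plus_plane hQ (by norm_num) (by omega) W hk hWnd hp)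
      · exact d3 ⟨W, hk, hWnd, hp, hEq⟩
    · exact d2 ⟨hodd_of (by rw [hk]; decide), W, hW0, hWtop, by rw [hk]; decide, by rw [hk]; decide,
        hWnd, hEq⟩
    · exact d5 ⟨W, hk, hWnd, hEq⟩
    · exact d2 ⟨hodd_of (by rw [hk]; decide), W, hW0, hWtop, by rw [hk]; decide, by rw [hk]; decide,
        hWnd, hEq⟩
    · -- two halves
      obtain ⟨W', hW'nd, horth, hinf, hsup, hdim, -, hstab⟩ :=
        exists_perp_of_nondegenerate hQ W hWnd
      have hk' : Module.finrank F W' = 6 := by omega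
      have hHW' : H ≤ subspaceStabilizer W' := fun g hg => hstab ⟨hHW hg, hI hg⟩
      have hD : IsNondegenerateMDecomposition (QuadraticMap.polar Q) 6 ![W, W'] :=
        isNondegenerateMDecomposition_pair (by norm_num) hWnd hW'nd horth hinf hsup hk hk'
      have hHD : H ≤ decompositionStabilizer ![W, W'] := le_decompositionStabilizer_pair hHW hHW'
      have hEqD : H = decompositionStabilizer ![W, W'] ⊓ omegaGL Q :=
        eq_inf_of_isMaximalIn hH hHD (M.pdec 6 _ hD)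
      have hiso : AreIsometricFor Q W W' :=
        M.thalfiso W W' hWnd hW'nd horth hsup (by rw [hk, hk']) (by rw [hk]; decide)
      refine d12 ⟨![W, W'], ⟨hD, ?_⟩, hEqD⟩
      intro i j
      fin_cases i <;> fin_cases j
      · exact areIsometricFor_refl Q _
      · exact hiso
      · exact areIsometricFor_symm hiso
      · exact areIsometricFor_refl Q _
  obtain ⟨W, hW0, hWtop, hWnd, hHW⟩ := h
  by_cases hle : Module.finrank F W ≤ 6
  · exact key W hW0 hWtop hWnd hHW hle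
  · obtain ⟨W', hW'nd, horth, hinf, hsup, hdim, -, hstab⟩ :=
      exists_perp_of_nondegenerate hQ W hWnd
    have hHW' : H ≤ subspaceStabilizer W' := fun g hg => hstab ⟨hHW hg, hI hg⟩
    have hW'0 : W' ≠ ⊥ := by
      intro h
      rw [h, sup_bot_eq] at hsup
      exact hWtop hsup
    have hW'top : W' ≠ ⊤ := by
      intro h
      rw [h, inf_top_eq] at hinf
      exact hW0 hinf
    exact key W' hW'0 hW'top hW'nd hHW' (by omega)

/-- case: a non-singular vector in characteristic 2 -/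
theorem concl_of_outNS (hQ : IsNondegenerateQuadraticForm Q)
    (hH : IsMaximalIn (omegaGL Q) H) (M : Mods12P Q H) (h : OutNS Q H) : Concl12P Q H := by
  obtain ⟨h2, v, hv, hHv⟩ := h
  have hv0 : v ≠ 0 := by
    rintro rfl
    apply hv
    have := hQ.smul 0 (0 : Fin 12 → F)
    rw [zero_smul] at this
    rw [this]
    ring
  have hbot : Submodule.span F {v} ≠ ⊥ := by
    rw [Ne, Submodule.span_singleton_eq_bot]
    exact hv0
  have htop : Submodule.span F {v} ≠ ⊤ := by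
    intro h
    have h1 : Module.finrank F (Submodule.span F {v}) = 1 := finrank_span_singleton hv0
    rw [h, finrank_top, Module.finrank_fin_fun] at h1
    omega
  exact d6 ⟨not_odd_card_of_two_eq_zero h2, v, hv, eq_inf_of_isMaximalIn hH hHv
    (not_le_subspaceStabilizer_of_irreducible M.irr hbot htop)⟩

/-- case: a pair of totally singular 6-spaces -/
theorem concl_of_outTSPair (hH : IsMaximalIn (omegaGL Q) H) (M : Mods12P Q H) (h : OutTSPair Q H) :
    Concl12P Q H := by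
  obtain ⟨m, D, hD, hts, hHD⟩ := h
  have hmul : 2 * m = 12 := isMDecomposition_mul_eq hD
  have hm : m = 6 := by omega
  subst hm
  exact d13 ⟨D, hD, hts, eq_inf_of_isMaximalIn hH hHD (M.ppair 6 D hD hts)⟩

/-- case: a unitary-type field of degree 2 -/
theorem concl_of_outFieldU (hH : IsMaximalIn (omegaGL Q) H) (M : Mods12P Q H) (h : OutFieldU Q H) :
    Concl12P Q H := by
  obtain ⟨K, hK, hadj, hnsa, hsim, hHK⟩ := h
  exact d16 ⟨K, hK, hadj, hnsa, hsim, eq_inf_of_isMaximalIn hH hHK (M.pfield 2 le_rfl K hK)⟩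

/-- case: a self-adjoint field of prime degree -/
theorem concl_of_outFieldSA (hH : IsMaximalIn (omegaGL Q) H) (M : Mods12P Q H) (h : OutFieldSA Q H) :
    Concl12P Q H := by
  obtain ⟨r, K, hr, hK, hsa, hHK⟩ := h
  have hdvd : r ∣ 12 := Cfsg.Agent.Lib.Helper99.Asch.dvd_of_isFieldSubalgebra r K hK
  have hr23 : r = 2 ∨ r = 3 := by
    have hle : r ≤ 12 := Nat.le_of_dvd (by norm_num) hdvd
    have h2 := hr.two_le
    interval_cases r <;> first | omega | (exfalso; revert hr; decide)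
  rcases hr23 with rfl | rfl
  · exact d14 ⟨K, hK, eq_inf_of_isMaximalIn hH hHK (M.pfield 2 le_rfl K hK)⟩
  · exact d15 ⟨K, hK, eq_inf_of_isMaximalIn hH hHK (M.pfield 3 (by norm_num) K hK)⟩

/-- a tensor decomposition `Sp₂ ⊗ Sp₆` -/
theorem concl_of_tensorAlt26 (hQ : IsNondegenerateQuadraticForm Q) (hH : IsMaximalIn (omegaGL Q) H)
    (M : Mods12P Q H) (e : Fin 12 ≃ Fin 2 × Fin 6) (P : GL (Fin 12) F)
    (f₁ : (Fin 2 → F) → (Fin 2 → F) → F) (f₂ : (Fin 6 → F) → (Fin 6 → F) → F)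
    (h₁ : IsSymplecticForm f₁) (h₂ : IsSymplecticForm f₂)
    (hT : IsTensorFormStructure id (QuadraticMap.polar Q) f₁ f₂ e P)
    (hpure : ∀ (x₁ : Fin 2 → F) (x₂ : Fin 6 → F),
      Q (Matrix.mulVec (P : Matrix (Fin 12) (Fin 12) F)
        ((fun a : Fin 2 × Fin 6 => x₁ a.1 * x₂ a.2) ∘ e)) = 0)
    (hle : H ≤ tensorProductSubgroup 2 6 e P) : Concl12P Q H := by
  by_cases hq : 3 ≤ Fintype.card F
  · exact d17 ⟨hq, e, P, f₁, f₂, h₁, h₂, hT, hpure,
      eq_inf_of_isMaximalIn hH hle (M.ptensor 2 6 le_rfl (by norm_num) e P)⟩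
  · have h1 : 1 < Fintype.card F := Fintype.one_lt_card
    have hq2 : Fintype.card F = 2 := by omega
    exact (false_of_exists_between hH hle
      (Cfsg.Agent.Lib.Helper94.exists_between_tensor_sp2 hQ hq2 (by norm_num) e P f₁ f₂ h₁ h₂ hT
        hpure)).elim

/-- case: a tensor decomposition into alternating forms -/
theorem concl_of_outTensorAlt (hQ : IsNondegenerateQuadraticForm Q) (hH : IsMaximalIn (omegaGL Q) H)
    (M : Mods12P Q H) (h : OutTensorAlt Q H) : Concl12P Q H := by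
  obtain ⟨n₁, n₂, e, P, f₁, f₂, hn₁, hn₂, h₁, h₂, hT, hpure, hle⟩ := h
  have hmul : 12 = n₁ * n₂ := card_eq_mul_of_equiv e
  have he1 : Even n₁ := even_of_isSymplecticForm f₁ h₁
  have he2 : Even n₂ := even_of_isSymplecticForm f₂ h₂
  have hcases : (n₁ = 2 ∧ n₂ = 6) ∨ (n₁ = 6 ∧ n₂ = 2) := by
    have htd : n₁ ∣ 12 := ⟨n₂, hmul⟩
    have ht12 : n₁ ≤ 12 := Nat.le_of_dvd (by norm_num) htd
    obtain ⟨a, ha⟩ := he1
    obtain ⟨b, hb⟩ := he2
    interval_cases n₁ <;> omega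
  rcases hcases with ⟨rfl, rfl⟩ | ⟨rfl, rfl⟩
  · exact concl_of_tensorAlt26 hQ hH M e P f₁ f₂ h₁ h₂ hT hpure hle
  · obtain ⟨hT', heq, hfun⟩ := tensor_swap (QuadraticMap.polar Q) 6 2 e P f₁ f₂ hT
    refine concl_of_tensorAlt26 hQ hH M (e.trans (Equiv.prodComm (Fin 6) (Fin 2))) P f₂ f₁ h₂ h₁ hT' ?_
      (hle.trans heq.le)
    intro x₁ x₂
    rw [hfun x₂ x₁]
    exact hpure x₂ x₁

/-- case: a tensor decomposition into symmetric forms -/
theorem concl_of_outTensorSym (hQ : IsNondegenerateQuadraticForm Q)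
    (hH : IsMaximalIn (omegaGL Q) H) (M : Mods12P Q H) (h : OutTensorSym Q H) : Concl12P Q H := by
  obtain ⟨h2, n₁, n₂, e, P, f₁, f₂, hn₁, hn₂, hs₁, hs₂, hT, hle⟩ := h
  have hmul : 12 = n₁ * n₂ := card_eq_mul_of_equiv e
  have hcases : (n₁ = 2 ∧ n₂ = 6) ∨ (n₁ = 6 ∧ n₂ = 2) ∨ (n₁ = 3 ∧ n₂ = 4) ∨ (n₁ = 4 ∧ n₂ = 3) := by
    have htd : n₁ ∣ 12 := ⟨n₂, hmul⟩
    have ht12 : n₁ ≤ 12 := Nat.le_of_dvd (by norm_num) htd
    interval_cases n₁ <;> omega
  have h34 : ∀ (e : Fin 12 ≃ Fin 3 × Fin 4) (P : GL (Fin 12) F)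
      (f₁ : (Fin 3 → F) → (Fin 3 → F) → F) (f₂ : (Fin 4 → F) → (Fin 4 → F) → F),
      IsSymmetricForm f₁ → IsSymmetricForm f₂ →
      IsTensorFormStructure id (QuadraticMap.polar Q) f₁ f₂ e P →
      H ≤ tensorProductSubgroup 3 4 e P → Concl12P Q H := by
    intro e P f₁ f₂ hs₁ hs₂ hT hle
    have hp2 := M.tt34 h2 e P f₁ f₂ hs₁ hs₂ hT
    obtain ⟨e', P', g₁, g₂, hg₁, hg₂, hT', hpure', hcont⟩ :=
      le_tensorAlt_of_tensorSym_three_four hQ h2 e P f₁ f₂ hs₁ hs₂ hp2 hT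
    exact concl_of_tensorAlt26 hQ hH M e' P' g₁ g₂ hg₁ hg₂ hT' hpure'
      (fun g hg => hcont ⟨hle hg, hH.1.le hg⟩)
  have h26 : ∀ (e : Fin 12 ≃ Fin 2 × Fin 6) (P : GL (Fin 12) F)
      (f₁ : (Fin 2 → F) → (Fin 2 → F) → F) (f₂ : (Fin 6 → F) → (Fin 6 → F) → F),
      IsSymmetricForm f₁ → IsSymmetricForm f₂ →
      IsTensorFormStructure id (QuadraticMap.polar Q) f₁ f₂ e P →
      H ≤ tensorProductSubgroup 2 6 e P → Concl12P Q H := by
    intro e P f₁ f₂ hs₁ hs₂ hT hle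
    rcases M.et2 h2 e P f₁ f₂ hs₁ hs₂ hT hle with hp | hu
    · exact concl_of_outTSPair hH M hp
    · exact concl_of_outFieldU hH M hu
  rcases hcases with ⟨rfl, rfl⟩ | ⟨rfl, rfl⟩ | ⟨rfl, rfl⟩ | ⟨rfl, rfl⟩
  · exact h26 e P f₁ f₂ hs₁ hs₂ hT hle
  · obtain ⟨hT', heq, -⟩ := tensor_swap (QuadraticMap.polar Q) 6 2 e P f₁ f₂ hT
    exact h26 _ P f₂ f₁ hs₂ hs₁ hT' (hle.trans heq.le)
  · exact h34 e P f₁ f₂ hs₁ hs₂ hT hle
  · obtain ⟨hT', heq, -⟩ := tensor_swap (QuadraticMap.polar Q) 4 3 e P f₁ f₂ hT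
    exact h34 _ P f₂ f₁ hs₂ hs₁ hT' (hle.trans heq.le)

/-- case: a subfield group -/
theorem concl_of_outSubfield (hH : IsMaximalIn (omegaGL Q) H) (M : Mods12P Q H)
    (h : OutSubfield Q H) : Concl12P Q H := by
  obtain ⟨F₀, r, P, ζ, hr, hcard, hζ, hrat, hle⟩ := h
  exact d18 ⟨F₀, r, P, ζ, hr, hcard, hζ, hrat, eq_inf_of_isMaximalIn hH hle
    (M.psub F₀ (subfield_ne_top_of_card F₀ r hr.two_le hcard) P)⟩

/-- case: an orthogonal decomposition into isometric blocks -/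
theorem concl_of_outDec (hQ : IsNondegenerateQuadraticForm Q)
    (hH : IsMaximalIn (omegaGL Q) H) (M : Mods12P Q H) (h : OutDec Q H) : Concl12P Q H := by
  classical
  have hI : H ≤ isometryGroup F Q := hH.1.le.trans (omegaGL_le_isometryGroup Q)
  obtain ⟨t, m, D, hD, hHD⟩ := h
  have hmul : t * m = 12 := isMDecomposition_mul_eq hD.decomp.decomp
  have ht2 : 2 ≤ t := hD.decomp.decomp.two_le
  have hm0 : 0 < m := hD.decomp.decomp.pos
  have hcases : (t = 2 ∧ m = 6) ∨ (t = 3 ∧ m = 4) ∨ (t = 4 ∧ m = 3) ∨ (t = 6 ∧ m = 2) ∨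
      (t = 12 ∧ m = 1) := by
    have htd : t ∣ 12 := ⟨m, hmul.symm⟩
    have ht12 : t ≤ 12 := Nat.le_of_dvd (by norm_num) htd
    interval_cases t <;> omega
  have hEq : H = decompositionStabilizer D ⊓ omegaGL Q :=
    eq_inf_of_isMaximalIn hH hHD (M.pdec m D hD.decomp)
  have hodd_of : Odd m → Odd (Fintype.card F) := by
    intro ho
    apply odd_card_of_two_ne_zero
    intro h2
    have hex : ∃ i : Fin t, True := ⟨⟨0, by omega⟩, trivial⟩
    obtain ⟨i, -⟩ := hex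
    have := even_finrank_of_nondegenerate_char_two hQ h2 (D i) (hD.decomp.nondegenerate i)
    rw [hD.decomp.decomp.finrank_eq i] at this
    exact (Nat.not_even_iff_odd.2 ho) this
  have h1 : 1 < Fintype.card F := Fintype.one_lt_card
  rcases hcases with ⟨rfl, rfl⟩ | ⟨rfl, rfl⟩ | ⟨rfl, rfl⟩ | ⟨rfl, rfl⟩ | ⟨rfl, rfl⟩
  · -- two 6-spaces
    exact d12 ⟨D, hD, hEq⟩
  · -- three 4-spaces
    by_cases hq : 3 ≤ Fintype.card F
    · exact d11 ⟨hq, D, hD, hEq⟩
    · have hq2 : Fintype.card F = 2 := by omega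
      have hpl : ∀ i, IsPlusTypeOn Q (D i) := M.todd 4 D hD (by decide) (by decide)
      obtain ⟨D', hD', hminus', hstab⟩ := M.eplus4 hq2 D hD hpl
      have hHD' : H ≤ decompositionStabilizer D' := fun g hg => hstab ⟨hHD hg, hI hg⟩
      exact d9 ⟨by omega, D', hD', hminus',
        eq_inf_of_isMaximalIn hH hHD' (M.pdec 2 D' hD'.decomp)⟩
  · -- four 3-spaces
    have hodd : Odd (Fintype.card F) := hodd_of (by decide)
    by_cases hq : 5 ≤ Fintype.card F
    · exact d10 ⟨hodd, hq, D, hD, hEq⟩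
    · have hq3 : Fintype.card F = 3 := by
        rcases hodd with ⟨j, hj⟩
        omega
      exact (false_of_exists_between hH hHD
        (Cfsg.Agent.Lib.Helper94.exists_between_orthDecomp hQ hq3 D hD
          (by rw [Module.finrank_fin_fun]; norm_num) (Or.inl rfl))).elim
  · -- six planes
    by_cases hp : IsPlusTypeOn Q (D 0)
    · have hplus' : ∀ i, IsPlusTypeOn Q (D i) := fun i =>
        Cfsg.Agent.Lib.Helper94.isPlusTypeOn_of_isometric (hD.isometric 0 i) hp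
      by_cases hq : 7 ≤ Fintype.card F
      · exact d8 ⟨hq, D, hD, hplus', hEq⟩
      · have h6 := card_ne_six (F := F)
        exact (false_of_exists_between hH hHD
          (Cfsg.Agent.Lib.Helper94.exists_between_hypPlanes hQ (by omega) D hD hplus'
            (by norm_num))).elim
    · have hnot : ∀ i, ¬ IsPlusTypeOn Q (D i) := fun i hpi => hp
        (Cfsg.Agent.Lib.Helper94.isPlusTypeOn_of_isometric (hD.isometric i 0) hpi)
      by_cases hq : Fintype.card F = 3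
      · exact (false_of_exists_between hH hHD
          (Cfsg.Agent.Lib.Helper94.exists_between_orthDecomp hQ hq D hD
            (by rw [Module.finrank_fin_fun]; norm_num) (Or.inr ⟨rfl, hnot⟩))).elim
      · exact d9 ⟨hq, D, hD, hnot, hEq⟩
  · -- an orthogonal frame
    have hodd : Odd (Fintype.card F) := hodd_of (by decide)
    by_cases hprime : (Fintype.card F).Prime
    · exact d7 ⟨⟨Fintype.card F, hprime, hodd, rfl⟩, D, hD, hEq⟩
    · obtain ⟨F₀, r, hr, hcard⟩ := exists_prime_subfield hprime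
      obtain ⟨P, ζ, hζ, hrat, hle⟩ := exists_subfield_of_frame hQ hodd D hD F₀
      have hHS : H ≤ subfieldSubgroup F₀ P := fun g hg => hle ⟨hHD hg, hI hg⟩
      exact d18 ⟨F₀, r, P, ζ, hr, hcard, hζ, hrat, eq_inf_of_isMaximalIn hH hHS
        (M.psub F₀ (subfield_ne_top_of_card F₀ r hr.two_le hcard) P)⟩

/-- **ASCHOE-[ROW-12P]** in `_of` form: the statement of S5871 from the modules `Mods12P`. -/
theorem row12P_of (hQ : IsNondegenerateQuadraticForm Q) (hplus : IsPlusTypeOn Q ⊤)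
    (hH : IsMaximalIn (omegaGL Q) H) (M : Mods12P Q H) : Concl12P Q H := by
  rcases M.core with hTS | hND | hNS | hDec | hPair | hSA | hU | hTSym | hTAlt | hSub | h8 | hRes
  · exact concl_of_outTS hQ hplus hH M hTS
  · exact concl_of_outND hQ hH M hND
  · exact concl_of_outNS hQ hH M hNS
  · exact concl_of_outDec hQ hH M hDec
  · exact concl_of_outTSPair hH M hPair
  · exact concl_of_outFieldSA hH M hSA
  · exact concl_of_outFieldU hH M hU
  · exact concl_of_outTensorSym hQ hH M hTSym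
  · exact concl_of_outTensorAlt hQ hH M hTAlt
  · exact concl_of_outSubfield hH M hSub
  · exact absurd h8.1 (by norm_num)
  · exact d19 hRes

end Row

end Cfsg.Agent.Lib.Helper38.OeRow12P
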