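import Mathlib

/-!
# PF (12.7) group part, module [ORB] (helper38 library, for helper60's #3353)

A subgroup `E` normalizing `V` and acting on it without fixed points has order dividing `|V| - 1`.
-/

set_option autoImplicit false

namespace Cfsg.Agent.Lib.Helper38.PF12G

variable {G : Type*} [Group G]

/-- The non-identity elements of `V`, as a type. -/
abbrev NonOne (V : Subgroup G) : Type _ := {v : G // v ∈ V ∧ v ≠ 1}

/-- conjugation action of `E` on the non-identity elements of `V` -/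
noncomputable def conjActOn (E V : Subgroup G) (hEV : ∀ e ∈ E, ∀ v ∈ V, e * v * e⁻¹ ∈ V) :
    MulAction ↥E (NonOne V) where
  smul e v := ⟨(e : G) * v.1 * (e : G)⁻¹, hEV e e.2 v.1 v.2.1, fun h => v.2.2 (by
    have h1 : v.1 = (e : G)⁻¹ * ((e : G) * v.1 * (e : G)⁻¹) * (e : G) := by group
    rw [h1, h]; group)⟩
  one_smul v := by
    apply Subtype.ext
    show ((1 : ↥E) : G) * v.1 * ((1 : ↥E) : G)⁻¹ = v.1
    simp
  mul_smul a b v := by
    apply Subtype.ext
    show ((a * b : ↥E) : G) * v.1 * ((a * b : ↥E) : G)⁻¹ = (a : G) * ((b : G) * v.1 * (b : G)⁻¹) * (a : G)⁻¹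
    rw [Subgroup.coe_mul]; group

theorem card_nonOne [Finite G] (V : Subgroup G) : Nat.card (NonOne V) = Nat.card V - 1 := by
  classical
  have e : NonOne V ≃ {v : ↥V // v ≠ 1} :=
    { toFun := fun v => ⟨⟨v.1, v.2.1⟩, fun h => v.2.2 (congrArg Subtype.val h)⟩
      invFun := fun v => ⟨v.1.1, v.1.2, fun h => v.2 (Subtype.ext h)⟩
      left_inv := fun v => rfl
      right_inv := fun v => rfl }
  rw [Nat.card_congr e]
  haveI : Fintype ↥V := Fintype.ofFinite _
  rw [Nat.card_eq_fintype_card, Nat.card_eq_fintype_card, Fintype.card_subtype_compl, Fintype.card_subtype_eq]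

/-- **[ORB]** A subgroup `E` normalizing `V` and acting on it without fixed points has order dividing
`|V| - 1`. -/
theorem card_dvd_card_sub_one_of_fpf [Finite G] (E V : Subgroup G)
    (hEV : ∀ e ∈ E, ∀ v ∈ V, e * v * e⁻¹ ∈ V)
    (hfpf : ∀ e ∈ E, e ≠ 1 → ∀ v ∈ V, e * v = v * e → v = 1) :
    Nat.card E ∣ Nat.card V - 1 := by
  classical
  letI : MulAction ↥E (NonOne V) := conjActOn E V hEV
  haveI : Fintype ↥E := Fintype.ofFinite _
  haveI : Fintype (NonOne V) := Fintype.ofFinite _
  haveI : Fintype (Quotient (MulAction.orbitRel ↥E (NonOne V))) := Fintype.ofFinite _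
  have hB := MulAction.sum_card_fixedBy_eq_card_orbits_mul_card_group ↥E (NonOne V)
  have hsmul : ∀ (e : ↥E) (v : NonOne V), ((e • v : NonOne V) : G) = (e : G) * v.1 * (e : G)⁻¹ :=
    fun e v => rfl
  have hfix : ∀ e : ↥E, e ≠ 1 → Fintype.card (MulAction.fixedBy (NonOne V) e) = 0 := by
    intro e he
    rw [Fintype.card_eq_zero_iff]
    refine ⟨fun ⟨v, hv⟩ => ?_⟩
    rw [MulAction.mem_fixedBy] at hv
    have h1 : (e : G) * v.1 * (e : G)⁻¹ = v.1 := by rw [← hsmul, hv]
    have h2 : (e : G) * v.1 = v.1 * (e : G) := by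
      calc (e : G) * v.1 = ((e : G) * v.1 * (e : G)⁻¹) * (e : G) := by group
        _ = v.1 * (e : G) := by rw [h1]
    exact v.2.2 (hfpf e e.2 (fun h => he (Subtype.ext h)) v.1 v.2.1 h2)
  have hone : Fintype.card (MulAction.fixedBy (NonOne V) (1 : ↥E)) = Fintype.card (NonOne V) := by
    apply Fintype.card_of_subtype (Finset.univ)
    intro x
    simp [MulAction.mem_fixedBy]
  rw [Finset.sum_eq_single (1 : ↥E) (fun e _ he => hfix e he) (fun h => absurd (Finset.mem_univ _) h), hone] at hB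
  rw [← card_nonOne, Nat.card_eq_fintype_card, Nat.card_eq_fintype_card, hB]
  exact dvd_mul_left _ _

end Cfsg.Agent.Lib.Helper38.PF12G
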