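import Mathlib

/-!
# PF (12.7) group part, modules [PRM] and a Sylow-conjugation lemma (helper38 library, for helper60's #3353)
-/

set_option autoImplicit false

namespace Cfsg.Agent.Lib.Helper38.PF12G

variable {G : Type*} [Group G]

/-- **[PRM]** In a subgroup `L` with normal Hall subgroup `H`, an element outside `H` has a power of prime
order `s ∤ |H|`. -/
theorem exists_pow_prime_order [Finite G] (L H : Subgroup G) (hHL : H ≤ L)
    (hLH : ∀ l ∈ L, ∀ h ∈ H, l * h * l⁻¹ ∈ H) (hcop : (Nat.card H).Coprime (H.relIndex L))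
    {d : G} (hd : d ∈ L) (hdH : d ∉ H) :
    ∃ n : ℕ, (orderOf (d ^ n)).Prime ∧ ¬ orderOf (d ^ n) ∣ Nat.card H := by
  have hn : (H.subgroupOf L).Normal := by
    refine ⟨fun n hn' g => ?_⟩
    rw [Subgroup.mem_subgroupOf] at hn' ⊢
    have := hLH g g.2 n hn'
    simpa using this
  set d' : ↥L := ⟨d, hd⟩ with hd'
  set x : ↥L ⧸ H.subgroupOf L := QuotientGroup.mk d' with hx
  have hx1 : x ≠ 1 := by
    intro h
    rw [hx, QuotientGroup.eq_one_iff, Subgroup.mem_subgroupOf] at h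
    exact hdH h
  have h1 : orderOf x ∣ orderOf d := by
    have := orderOf_map_dvd (QuotientGroup.mk' (H.subgroupOf L)) d'
    rw [QuotientGroup.mk'_apply] at this
    have e : orderOf d' = orderOf d := by
      rw [← Subgroup.orderOf_coe]
    rw [e] at this
    exact this
  have h2 : orderOf x ∣ H.relIndex L := by
    have := orderOf_dvd_natCard x
    rwa [← Subgroup.index_eq_card] at this
  have h3 : orderOf x ≠ 1 := by
    intro h
    exact hx1 (orderOf_eq_one_iff.mp h)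
  obtain ⟨r, hr, hrx⟩ := Nat.exists_prime_and_dvd h3
  have hrd : r ∣ orderOf d := hrx.trans h1
  have hrI : r ∣ H.relIndex L := hrx.trans h2
  refine ⟨orderOf d / r, ?_, ?_⟩
  · rw [orderOf_pow_orderOf_div (orderOf_pos d).ne' hrd]
    exact hr
  · rw [orderOf_pow_orderOf_div (orderOf_pos d).ne' hrd]
    intro hrH
    have := Nat.dvd_gcd hrH hrI
    rw [Nat.Coprime.gcd_eq_one hcop] at this
    exact hr.one_lt.ne' (Nat.dvd_one.mp this)

/-- An `s`-subgroup `A` of `L` is `L`-conjugate into any `K ≤ L` with `s ∤ |L : K|` (fixed point argument). -/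
theorem exists_conj_le_of_not_dvd_relIndex' [Finite G] {K L A : Subgroup G} (s : ℕ) [Fact s.Prime]
    (hAL : A ≤ L) (hA : IsPGroup s A) (hK : ¬ s ∣ K.relIndex L) :
    ∃ l ∈ L, ∀ a ∈ A, l * a * l⁻¹ ∈ K := by
  have hQ : IsPGroup s (A.subgroupOf L) := hA.comap_subtype
  have hidx : ¬ s ∣ Nat.card (↥L ⧸ K.subgroupOf L) := by
    rw [← Subgroup.index_eq_card]; exact hK
  obtain ⟨a, ha⟩ := hQ.nonempty_fixed_point_of_prime_not_dvd_card (↥L ⧸ K.subgroupOf L) hidx
  induction a using QuotientGroup.induction_on with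
  | H g =>
    refine ⟨(g : G)⁻¹, L.inv_mem g.2, ?_⟩
    intro y hy
    have h1 := ha ⟨⟨y, hAL hy⟩, Subgroup.mem_subgroupOf.mpr hy⟩
    have h2 : (((⟨y, hAL hy⟩ : ↥L) * g : ↥L) : ↥L ⧸ K.subgroupOf L) = (g : ↥L ⧸ K.subgroupOf L) := h1
    rw [QuotientGroup.eq] at h2
    have h3 := (K.subgroupOf L).inv_mem h2
    rw [Subgroup.mem_subgroupOf] at h3
    have e : ((((⟨y, hAL hy⟩ : ↥L) * g)⁻¹ * g)⁻¹ : ↥L) = g⁻¹ * ⟨y, hAL hy⟩ * g := by group
    rw [e] at h3
    rw [inv_inv]
    simpa using h3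

end Cfsg.Agent.Lib.Helper38.PF12G
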