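import Mathlib
import Cfsg.Agent.Lib.Helper60.PFTwelveG1

/-!
# PF (12.7) group part, module [U0Q] (helper38 library, for helper60's #3353)
-/

set_option autoImplicit false

namespace Cfsg.Agent.Lib.Helper38.PF12G

open Cfsg
open Cfsg.Agent.Lib.Helper60.PF12G

variable {G : Type*} [Group G]

/-- **[U0Q]** every prime divisor of `|U|` is the order of an element of `U₀`. -/
theorem exists_mem_U₀_orderOf [Finite G] {M K U U₁ U₀ : Subgroup G} (hD : FData M K U U₁ U₀)
    {q : ℕ} (hq : q.Prime) (hqU : q ∣ Nat.card U) : ∃ u₀ ∈ U₀, orderOf u₀ = q := by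
  haveI : Fact q.Prime := ⟨hq⟩
  obtain ⟨x, hx⟩ := exists_prime_orderOf_dvd_card' q hqU
  have h1 : q ∣ Monoid.exponent ↥U := hx ▸ Monoid.order_dvd_exponent x
  rw [← hD.exp] at h1
  have h2 : q ∣ Nat.card ↥U₀ := h1.trans Group.exponent_dvd_nat_card
  obtain ⟨y, hy⟩ := exists_prime_orderOf_dvd_card' q h2
  exact ⟨(y : G), y.2, by rw [Subgroup.orderOf_coe]; exact hy⟩

end Cfsg.Agent.Lib.Helper38.PF12G
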