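import Mathlib
import Cfsg.Agent.Lib.Helper60.PFTwelveG1
import Cfsg.Agent.Lib.Helper23.TypeP
import Cfsg.Agent.Lib.Helper38.PF12GOrb
import Cfsg.Agent.Lib.Helper38.PF12GU0Q
import Cfsg.Agent.Lib.Helper38.PF12GPrm

/-!
# PF (12.7) group part, modules [BAD], [FRL] (helper38 library, for helper60's #3353)
-/

set_option autoImplicit false

namespace Cfsg.Agent.Lib.Helper38.PF12G

open Cfsg
open Cfsg.Agent.Lib.Helper60.PF12G

variable {G : Type*} [Group G]

theorem FData.card_M [Finite G] {M K U U₁ U₀ : Subgroup G} (hD : FData M K U U₁ U₀) :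
    Nat.card M = Nat.card K * Nat.card U :=
  Cfsg.Agent.Lib.Helper23.card_of_isComplIn hD.compl

theorem FData.relIndex_K [Finite G] {M K U U₁ U₀ : Subgroup G} (hD : FData M K U U₁ U₀) :
    K.relIndex M = Nat.card U := by
  have h1 := Cfsg.Agent.Lib.Helper23.card_mul_relIndex_of_le hD.compl.1
  rw [FData.card_M hD] at h1
  exact Nat.eq_of_mul_eq_mul_left Nat.card_pos h1

theorem FData.relIndex_U [Finite G] {M K U U₁ U₀ : Subgroup G} (hD : FData M K U U₁ U₀) :
    U.relIndex M = Nat.card K := by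
  have h1 := Cfsg.Agent.Lib.Helper23.card_mul_relIndex_of_le hD.compl.2.1
  rw [FData.card_M hD, mul_comm (Nat.card K)] at h1
  exact Nat.eq_of_mul_eq_mul_left Nat.card_pos h1

/-- **[BAD]** If `M` (of Frobenius type, data `hD`) is not a Frobenius group with kernel `K`, there are a
prime `q ∤ |K|`, an element `u ∈ U` of order `q` centralizing a non-identity element of `K`, and an
element `u₀ ∈ U₀` of order `q`. -/
theorem exists_elts_of_not_frob [Finite G] {M K U U₁ U₀ : Subgroup G} (hD : FData M K U U₁ U₀)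
    {g h : G} (hg : g ∈ M) (hgK : g ∉ K) (hh : h ∈ K) (hh1 : h ≠ 1) (hgh : g * h = h * g) :
    ∃ q : ℕ, q.Prime ∧ ¬ q ∣ Nat.card K ∧
      ∃ u ∈ U, orderOf u = q ∧ (∃ k ∈ K, k ≠ 1 ∧ u * k = k * u) ∧ ∃ u₀ ∈ U₀, orderOf u₀ = q := by
  have hKM : K ≤ M := hD.compl.1
  have hcop : (Nat.card K).Coprime (K.relIndex M) := by
    rw [FData.relIndex_K hD]; exact hD.cop
  obtain ⟨n, hprime, hnd⟩ := exists_pow_prime_order M K hKM hD.K_norm hcop hg hgK
  set g' := g ^ n with hg'
  set q := orderOf g' with hq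
  haveI : Fact q.Prime := ⟨hprime⟩
  have hg'M : g' ∈ M := M.pow_mem hg n
  have hqM : q ∣ Nat.card M := by
    have := orderOf_dvd_natCard (⟨g', hg'M⟩ : ↥M)
    rwa [← Subgroup.orderOf_coe] at this
  have hqU : q ∣ Nat.card U := by
    rw [FData.card_M hD] at hqM
    exact (hprime.dvd_mul.mp hqM).resolve_left hnd
  have hAp : IsPGroup q (Subgroup.zpowers g') := by
    apply IsPGroup.of_card (n := 1)
    rw [Nat.card_zpowers, pow_one]
  have hidx : ¬ q ∣ U.relIndex M := by rw [FData.relIndex_U hD]; exact hnd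
  obtain ⟨m, hm, hconj⟩ := exists_conj_le_of_not_dvd_relIndex' q
    ((Subgroup.zpowers_le).mpr hg'M) hAp hidx
  have hu : m * g' * m⁻¹ ∈ U := hconj g' (Subgroup.mem_zpowers g')
  have hord : orderOf (m * g' * m⁻¹) = q := by
    have := orderOf_injective (MulAut.conj m).toMonoidHom (MulAut.conj m).injective g'
    simpa [MulAut.conj_apply] using this
  have hcomm : g' * h = h * g' := by
    have : Commute g h := hgh
    exact (this.pow_left n).eq
  refine ⟨q, hprime, hnd, m * g' * m⁻¹, hu, hord, ⟨m * h * m⁻¹, hD.K_norm m hm h hh, ?_, ?_⟩,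
    exists_mem_U₀_orderOf hD hprime hqU⟩
  · intro h1
    apply hh1
    have : h = m⁻¹ * (m * h * m⁻¹) * m := by group
    rw [this, h1]; group
  · calc m * g' * m⁻¹ * (m * h * m⁻¹) = m * (g' * h) * m⁻¹ := by group
      _ = m * (h * g') * m⁻¹ := by rw [hcomm]
      _ = m * h * m⁻¹ * (m * g' * m⁻¹) := by group

/-- **[FRL]** In a group `L` of Frobenius type a normal subgroup `V ≤ H` of order `p` or `p²` forces every
prime divisor of `|L : H|` to be at most `p + 1`; so no prime `q > p` divides `|U|` (all orders odd). -/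
theorem not_dvd_card_of_lt [Finite G] {L H U U₁ U₀ : Subgroup G} (hD : FData L H U U₁ U₀)
    {p q : ℕ} (hp : p.Prime) (hq : q.Prime) (hpq : p < q) (hqU : q ∣ Nat.card U)
    (V : Subgroup G) (hVH : V ≤ H) (hV1 : V ≠ ⊥) (hVn : ∀ l ∈ L, ∀ v ∈ V, l * v * l⁻¹ ∈ V)
    (hVc : Nat.card V ∣ p ^ 2) : False := by
  obtain ⟨u₀, hu₀, hu₀q⟩ := exists_mem_U₀_orderOf hD hq hqU
  have hUL : U ≤ L := hD.compl.2.1
  have hHL : H ≤ L := hD.compl.1
  have hEU₀ : Subgroup.zpowers u₀ ≤ U₀ := (Subgroup.zpowers_le).mpr hu₀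
  have hdvd : Nat.card (Subgroup.zpowers u₀) ∣ Nat.card V - 1 := by
    apply card_dvd_card_sub_one_of_fpf
    · intro e he v hv
      exact hVn e (hUL (hD.U₀_le (hEU₀ he))) v hv
    · intro e he he1 v hv hev
      exact hD.fpf e (hEU₀ he) he1 v (hVH hv) hev
  rw [Nat.card_zpowers, hu₀q] at hdvd
  -- parity
  have hLodd : Odd (Nat.card L) := hD.M_odd
  have hqodd : Odd q := by
    have h1 : q ∣ Nat.card L := hqU.trans (Subgroup.card_dvd_of_le hUL)
    exact hLodd.of_dvd_nat h1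
  obtain ⟨k, hk, hVk⟩ := (Nat.dvd_prime_pow hp).mp hVc
  have hk0 : k ≠ 0 := by
    intro h0
    rw [h0, pow_zero] at hVk
    exact hV1 (Subgroup.card_eq_one.mp hVk)
  have hpodd : Odd p := by
    have h1 : p ∣ Nat.card V := by rw [hVk]; exact dvd_pow_self p hk0
    have h2 : p ∣ Nat.card L := h1.trans (Subgroup.card_dvd_of_le (hVH.trans hHL))
    exact hLodd.of_dvd_nat h2
  have hp2 := hp.two_le
  have hq1 : ¬ q ∣ p - 1 := by
    intro h
    have := Nat.le_of_dvd (by omega) h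
    omega
  have hq2 : ¬ q ∣ p + 1 := by
    intro h
    have hle := Nat.le_of_dvd (by omega) h
    have heq : q = p + 1 := by omega
    obtain ⟨a, ha⟩ := hqodd
    obtain ⟨b, hb⟩ := hpodd
    omega
  have hk12 : k = 1 ∨ k = 2 := by omega
  rcases hk12 with rfl | rfl
  · rw [hVk, pow_one] at hdvd
    exact hq1 hdvd
  · rw [hVk] at hdvd
    have e : p ^ 2 - 1 = (p - 1) * (p + 1) := by
      have : p ^ 2 = (p - 1) * (p + 1) + 1 := by
        obtain ⟨c, rfl⟩ : ∃ c, p = c + 1 := ⟨p - 1, by omega⟩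
        simp only [Nat.add_sub_cancel]; ring
      omega
    rw [e] at hdvd
    rcases hq.dvd_mul.mp hdvd with h | h
    · exact hq1 h
    · exact hq2 h

end Cfsg.Agent.Lib.Helper38.PF12G
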