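import Mathlib
import Cfsg.Agent.Lib.Helper60.PFTwelveG1

/-!
# PF (12.7) group part, module [RK2] (helper38 library, for helper60's #3353)
-/

set_option autoImplicit false

namespace Cfsg.Agent.Lib.Helper38.PF12G

open Cfsg
open Cfsg.Agent.Lib.Helper60.PF12G

variable {G : Type*} [Group G]

/-- In a cyclic group of prime order every non-identity element generates. -/
theorem mem_zpowers_of_mem_zpowers_of_prime [Finite G] {q : ℕ} (hq : q.Prime) {w x : G}
    (hw : orderOf w = q) (hx : x ∈ Subgroup.zpowers w) (hx1 : x ≠ 1) : w ∈ Subgroup.zpowers x := by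
  have hle : Subgroup.zpowers x ≤ Subgroup.zpowers w := (Subgroup.zpowers_le).mpr hx
  have h1 : orderOf x ∣ q := hw ▸ orderOf_dvd_of_mem_zpowers hx
  have h2 : orderOf x = q := by
    rcases (Nat.dvd_prime hq).mp h1 with h | h
    · exact absurd (orderOf_eq_one_iff.mp h) hx1
    · exact h
  have h3 : Subgroup.zpowers x = Subgroup.zpowers w := by
    apply Subgroup.eq_of_le_of_card_ge hle
    rw [Nat.card_zpowers, Nat.card_zpowers, h2, hw]
  rw [h3]
  exact Subgroup.mem_zpowers w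

/-- Two commuting elements of prime order `q` generating cyclic groups with trivial intersection generate
an elementary abelian group of order `q²`. -/
theorem exists_rank_two_of_commute [Finite G] {q : ℕ} (hq : q.Prime) {u w : G}
    (hu : orderOf u = q) (hw : orderOf w = q) (huw : u * w = w * u)
    (hdisj : Subgroup.zpowers u ⊓ Subgroup.zpowers w = ⊥) :
    ∃ A : Subgroup G, A = Subgroup.zpowers u ⊔ Subgroup.zpowers w ∧ Nat.card A = q ^ 2 ∧
      (∀ a ∈ A, ∀ b ∈ A, a * b = b * a) ∧ ∀ a ∈ A, a ^ q = 1 := by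
  have hcomm : ∀ (m : ↥(Subgroup.zpowers u)) (n : ↥(Subgroup.zpowers w)),
      Commute ((Subgroup.zpowers u).subtype m) ((Subgroup.zpowers w).subtype n) := by
    rintro ⟨a, ha⟩ ⟨b, hb⟩
    obtain ⟨i, rfl⟩ := Subgroup.mem_zpowers_iff.mp ha
    obtain ⟨j, rfl⟩ := Subgroup.mem_zpowers_iff.mp hb
    have : Commute u w := huw
    exact (this.zpow_left i).zpow_right j
  set φ := MonoidHom.noncommCoprod (Subgroup.zpowers u).subtype (Subgroup.zpowers w).subtype hcomm with hφ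
  have hφapp : ∀ x : ↥(Subgroup.zpowers u) × ↥(Subgroup.zpowers w), φ x = (x.1 : G) * (x.2 : G) := by
    intro x; rfl
  have hinj : Function.Injective φ := by
    rw [injective_iff_map_eq_one]
    rintro ⟨⟨a, ha⟩, ⟨b, hb⟩⟩ hab
    rw [hφapp] at hab
    simp only at hab
    have h1 : a = b⁻¹ := eq_inv_of_mul_eq_one_left hab
    have h2 : a ∈ Subgroup.zpowers u ⊓ Subgroup.zpowers w :=
      ⟨ha, by rw [h1]; exact (Subgroup.zpowers w).inv_mem hb⟩
    rw [hdisj, Subgroup.mem_bot] at h2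
    have h3 : b = 1 := by rw [h2] at h1; exact inv_eq_one.mp h1.symm
    subst h2 h3
    rfl
  have hrange : φ.range = Subgroup.zpowers u ⊔ Subgroup.zpowers w := by
    rw [hφ, MonoidHom.noncommCoprod_range, Subgroup.range_subtype, Subgroup.range_subtype]
  refine ⟨Subgroup.zpowers u ⊔ Subgroup.zpowers w, rfl, ?_, ?_, ?_⟩
  · rw [← hrange]
    have e : ↥(Subgroup.zpowers u) × ↥(Subgroup.zpowers w) ≃ ↥φ.range :=
      Equiv.ofInjective φ hinj
    rw [← Nat.card_congr e, Nat.card_prod, Nat.card_zpowers, Nat.card_zpowers, hu, hw, sq]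
  · intro a ha b hb
    rw [← hrange] at ha hb
    obtain ⟨⟨⟨a1, ha1⟩, ⟨a2, ha2⟩⟩, rfl⟩ := ha
    obtain ⟨⟨⟨b1, hb1⟩, ⟨b2, hb2⟩⟩, rfl⟩ := hb
    rw [hφapp, hφapp]
    simp only
    obtain ⟨i1, rfl⟩ := Subgroup.mem_zpowers_iff.mp ha1
    obtain ⟨i2, rfl⟩ := Subgroup.mem_zpowers_iff.mp ha2
    obtain ⟨j1, rfl⟩ := Subgroup.mem_zpowers_iff.mp hb1
    obtain ⟨j2, rfl⟩ := Subgroup.mem_zpowers_iff.mp hb2
    have c : Commute u w := huw
    have c1 : Commute (u ^ i1 * w ^ i2) (u ^ j1 * w ^ j2) := by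
      apply Commute.mul_left
      · exact Commute.mul_right ((Commute.refl u).zpow_zpow i1 j1) ((c.zpow_left i1).zpow_right j2)
      · exact Commute.mul_right ((c.symm.zpow_left i2).zpow_right j1) ((Commute.refl w).zpow_zpow i2 j2)
    exact c1.eq
  · intro a ha
    rw [← hrange] at ha
    obtain ⟨⟨⟨a1, ha1⟩, ⟨a2, ha2⟩⟩, rfl⟩ := ha
    rw [hφapp]
    simp only
    obtain ⟨i1, rfl⟩ := Subgroup.mem_zpowers_iff.mp ha1
    obtain ⟨i2, rfl⟩ := Subgroup.mem_zpowers_iff.mp ha2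
    have c : Commute u w := huw
    have c1 : Commute (u ^ i1) (w ^ i2) := (c.zpow_left i1).zpow_right i2
    rw [c1.mul_pow, ← zpow_natCast, ← zpow_natCast, ← zpow_mul, ← zpow_mul, mul_comm i1, mul_comm i2,
      zpow_mul, zpow_mul, zpow_natCast, zpow_natCast, ← hu, pow_orderOf_eq_one, hu, ← hw, pow_orderOf_eq_one]
    simp

/-- **[RK2]** With abelian Sylow `q`-subgroups of `U`: two elements of order `q` of `U`, one with and one
without fixed points on `K`, give an elementary abelian subgroup of order `q²` of `U`. -/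
theorem exists_rank_two [Finite G] {M K U U₁ U₀ : Subgroup G} (hD : FData M K U U₁ U₀)
    {q : ℕ} (hq : q.Prime) (hSyl : ∀ P : Sylow q U, IsMulCommutative (P : Subgroup U))
    {u u₀ : G} (hu : u ∈ U) (huo : orderOf u = q) (huk : ∃ k ∈ K, k ≠ 1 ∧ u * k = k * u)
    (hu₀ : u₀ ∈ U₀) (hu₀o : orderOf u₀ = q) :
    ∃ A : Subgroup G, A ≤ U ∧ Nat.card A = q ^ 2 ∧ (∀ a ∈ A, ∀ b ∈ A, a * b = b * a) ∧
      ∀ a ∈ A, a ^ q = 1 := by
  haveI : Fact q.Prime := ⟨hq⟩
  have hUM : U ≤ M := hD.compl.2.1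
  set u' : ↥U := ⟨u, hu⟩ with hu'
  set v₀ : ↥U := ⟨u₀, hD.U₀_le hu₀⟩ with hv₀
  have hpu : IsPGroup q (Subgroup.zpowers u') := by
    apply IsPGroup.of_card (n := 1)
    rw [Nat.card_zpowers, pow_one, ← Subgroup.orderOf_coe]; exact huo
  have hpv : IsPGroup q (Subgroup.zpowers v₀) := by
    apply IsPGroup.of_card (n := 1)
    rw [Nat.card_zpowers, pow_one, ← Subgroup.orderOf_coe]; exact hu₀o
  obtain ⟨Q, hQ⟩ := hpu.exists_le_sylow
  obtain ⟨Q₀, hQ₀⟩ := hpv.exists_le_sylow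
  obtain ⟨v, hv⟩ := MulAction.exists_smul_eq ↥U Q₀ Q
  have hwQ : v * v₀ * v⁻¹ ∈ (Q : Subgroup ↥U) := by
    have h1 : v₀ ∈ (Q₀ : Subgroup ↥U) := hQ₀ (Subgroup.mem_zpowers v₀)
    have h2 : v * v₀ * v⁻¹ ∈ ((v • Q₀ : Sylow q ↥U) : Subgroup ↥U) := by
      rw [Sylow.coe_subgroup_smul, Subgroup.mem_pointwise_smul_iff_inv_smul_mem]
      simp only [MulAut.smul_def, map_inv, MulAut.inv_apply, MulAut.conj_symm_apply]
      have : v⁻¹ * (v * v₀ * v⁻¹) * v = v₀ := by group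
      rw [this]; exact h1
    rwa [hv] at h2
  have huQ : u' ∈ (Q : Subgroup ↥U) := hQ (Subgroup.mem_zpowers u')
  have hQcomm := isMulCommutative_iff.mp (hSyl Q)
  set w : G := (v : G) * u₀ * (v : G)⁻¹ with hw
  have hwU : w ∈ U := U.mul_mem (U.mul_mem v.2 (hD.U₀_le hu₀)) (U.inv_mem v.2)
  have huw : u * w = w * u := by
    have := hQcomm ⟨u', huQ⟩ ⟨v * v₀ * v⁻¹, hwQ⟩
    have h2 := congrArg (fun t : ↥(Q : Subgroup ↥U) => ((t : ↥U) : G)) this
    simpa using h2
  have hwo : orderOf w = q := by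
    have := orderOf_injective (MulAut.conj (v : G)).toMonoidHom (MulAut.conj (v : G)).injective u₀
    rw [← hu₀o, hw]
    simpa [MulAut.conj_apply] using this
  have hu₀1 : u₀ ≠ 1 := by
    intro h
    rw [h, orderOf_one] at hu₀o
    exact hq.one_lt.ne hu₀o
  -- `w` has no fixed points on `K`
  have hwfpf : ∀ k ∈ K, w * k = k * w → k = 1 := by
    intro k hk hwk
    have hvM : (v : G) ∈ M := hUM v.2
    have hk' : (v : G)⁻¹ * k * (v : G) ∈ K := by
      have := hD.K_norm (v : G)⁻¹ (M.inv_mem hvM) k hk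
      rwa [inv_inv] at this
    have hcomm : u₀ * ((v : G)⁻¹ * k * (v : G)) = ((v : G)⁻¹ * k * (v : G)) * u₀ := by
      have e1 : u₀ * ((v : G)⁻¹ * k * (v : G)) = (v : G)⁻¹ * (w * k) * (v : G) := by
        rw [hw]; group
      have e2 : ((v : G)⁻¹ * k * (v : G)) * u₀ = (v : G)⁻¹ * (k * w) * (v : G) := by
        rw [hw]; group
      rw [e1, e2, hwk]
    have h1 := hD.fpf u₀ hu₀ hu₀1 _ hk' hcomm
    have : k = (v : G) * ((v : G)⁻¹ * k * (v : G)) * (v : G)⁻¹ := by group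
    rw [this, h1]; group
  have hdisj : Subgroup.zpowers u ⊓ Subgroup.zpowers w = ⊥ := by
    rw [eq_bot_iff]
    intro x hx
    rw [Subgroup.mem_bot]
    by_contra hx1
    have h1 : w ∈ Subgroup.zpowers x := mem_zpowers_of_mem_zpowers_of_prime hq hwo hx.2 hx1
    have h2 : w ∈ Subgroup.zpowers u := ((Subgroup.zpowers_le).mpr hx.1) h1
    obtain ⟨k, hk, hk1, huk'⟩ := huk
    obtain ⟨i, hi⟩ := Subgroup.mem_zpowers_iff.mp h2
    have hc : Commute u k := huk'
    have hwk : w * k = k * w := by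
      rw [← hi]; exact (hc.zpow_left i).eq
    exact hk1 (hwfpf k hk hwk)
  obtain ⟨A, hA, hcard, hab, hexp⟩ := exists_rank_two_of_commute hq huo hwo huw hdisj
  refine ⟨A, ?_, hcard, hab, hexp⟩
  rw [hA]
  exact sup_le ((Subgroup.zpowers_le).mpr hu) ((Subgroup.zpowers_le).mpr hwU)

end Cfsg.Agent.Lib.Helper38.PF12G
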