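import Mathlib

/-!
# Peterfalvi (11.1) (helper38; module E0 of helper64's sec. 11 plan)

For distinct odd primes `p`, `q`: `4 q² + 1 < p ^ q`.
-/

set_option autoImplicit false

namespace Cfsg.Agent.Lib.Helper38.PFEleven

theorem three_pow_gt (q : ℕ) (hq : 4 ≤ q) : 4 * q ^ 2 + 1 < 3 ^ q := by
  induction q, hq using Nat.le_induction with
  | base => norm_num
  | succ n hn ih =>
    have h1 : 3 ^ (n + 1) = 3 * 3 ^ n := by ring
    have h2 : 4 * (n + 1) ^ 2 + 1 = 4 * n ^ 2 + 8 * n + 5 := by ring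
    rw [h1, h2]
    nlinarith

theorem lbound_expn_odd_prime (p q : ℕ) (hp : p.Prime) (hq : q.Prime) (hp2 : p ≠ 2) (hq2 : q ≠ 2)
    (hpq : p ≠ q) : 4 * q ^ 2 + 1 < p ^ q := by
  have hp3 : 3 ≤ p := by
    have := hp.two_le
    omega
  have hq3 : 3 ≤ q := by
    have := hq.two_le
    omega
  rcases Nat.lt_or_ge q 4 with h | h
  · have hq' : q = 3 := by omega
    subst hq'
    have hp5 : 5 ≤ p := by
      by_contra hlt
      have : p = 4 := by omega
      subst this
      norm_num at hp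
    calc 4 * 3 ^ 2 + 1 < 5 ^ 3 := by norm_num
      _ ≤ p ^ 3 := Nat.pow_le_pow_left hp5 3
  · calc 4 * q ^ 2 + 1 < 3 ^ q := three_pow_gt q h
      _ ≤ p ^ q := Nat.pow_le_pow_left hp3 q

end Cfsg.Agent.Lib.Helper38.PFEleven
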