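import Mathlib
import Cfsg.Prelude.Def_Characters

/-!
# Peterfalvi (12.2)(a), module T1 (helper38)

An irreducible character `χ` of `L` that is not trivial on the normal subgroup `H` vanishes at
every element `g` with `C_H(g) = 1`.
-/

set_option autoImplicit false

namespace Cfsg.Agent.Lib.Helper38.PFTwelve

open Cfsg

/-- The sum of `ρ h` over a normal subgroup `H` is zero if `ρ` is irreducible and some element of
`H` acts nontrivially. -/
theorem sum_rho_eq_zero {L : Type*} [Group L] [Fintype L] (H : Subgroup L) [H.Normal]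
    [Fintype H] {n : ℕ} (ρ : Representation ℂ L (Fin n → ℂ)) (hirr : ρ.IsIrreducible)
    (hker : ∃ h ∈ H, ρ h ≠ 1) :
    (∑ h : H, ρ (h : L)) = 0 := by
  classical
  -- the `H`-fixed subrepresentation
  let F : Subrepresentation ρ :=
    { toSubmodule :=
        { carrier := {v | ∀ h ∈ H, ρ h v = v}
          add_mem' := by
            intro a b ha hb h hh
            have ha : ∀ h ∈ H, ρ h a = a := ha
            have hb : ∀ h ∈ H, ρ h b = b := hb
            rw [map_add, ha h hh, hb h hh]
          zero_mem' := by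
            intro h hh
            simp
          smul_mem' := by
            intro c v hv h hh
            have hv : ∀ h ∈ H, ρ h v = v := hv
            rw [map_smul, hv h hh] }
      apply_mem_toSubmodule := by
        intro x v hv h hh
        have hv' : ∀ h ∈ H, ρ h v = v := hv
        have h1 : x⁻¹ * h * x ∈ H := by
          have := ‹H.Normal›.conj_mem h hh x⁻¹
          simpa using this
        have h2 : ρ h (ρ x v) = ρ x (ρ (x⁻¹ * h * x) v) := by
          rw [← Module.End.mul_apply, ← Module.End.mul_apply, ← map_mul, ← map_mul]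
          congr 2
          group
        rw [h2, hv' _ h1] }
  have hmemF : ∀ v : Fin n → ℂ, v ∈ F ↔ ∀ h ∈ H, ρ h v = v := fun v => Iff.rfl
  have hF : F = ⊥ ∨ F = ⊤ := hirr.eq_bot_or_eq_top F
  have hFbot : F = ⊥ := by
    rcases hF with h | h
    · exact h
    · exfalso
      obtain ⟨h0, hh0, hne⟩ := hker
      apply hne
      refine LinearMap.ext fun v => ?_
      have hv : v ∈ F := by
        rw [h]
        trivial
      exact (hmemF v).1 hv h0 hh0
  refine LinearMap.ext fun v => ?_
  have hv : (∑ h : H, ρ (h : L)) v ∈ F := by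
    rw [hmemF]
    intro h0 hh0
    rw [LinearMap.sum_apply, map_sum]
    have : ∀ h : H, ρ h0 (ρ (h : L) v) = ρ (((⟨h0, hh0⟩ : H) * h : H) : L) v := by
      intro h
      rw [Subgroup.coe_mul, map_mul]
      rfl
    simp_rw [this]
    exact Fintype.sum_equiv (Equiv.mulLeft (⟨h0, hh0⟩ : H)) _ _ (fun h => rfl)
  rw [hFbot] at hv
  have : (∑ h : H, ρ (h : L)) v = 0 := hv
  rw [this]
  rfl

theorem irr_vanish_of_fpf {L : Type*} [Group L] [Fintype L] (H : Subgroup L) [H.Normal]
    (χ : L → ℂ) (hχ : IsIrrCharacter L χ) (hker : ∃ h ∈ H, χ h ≠ χ 1) (g : L)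
    (hg : ∀ h ∈ H, g * h = h * g → h = 1) : χ g = 0 := by
  classical
  obtain ⟨n, ρ, hirr, rfl⟩ := hχ
  have hker' : ∃ h ∈ H, ρ h ≠ 1 := by
    obtain ⟨h, hh, hne⟩ := hker
    refine ⟨h, hh, fun h1 => hne ?_⟩
    simp only [Representation.character]
    rw [h1, map_one ρ]
  have he := sum_rho_eq_zero H ρ hirr hker'
  -- the bijection `h ↦ g⁻¹ * (h⁻¹ * g * h)` of `H`
  let f : H → H := fun h => ⟨g⁻¹ * ((h : L)⁻¹ * g * h), by
    have h1 : g⁻¹ * (h : L)⁻¹ * g ∈ H := by
      have := ‹H.Normal›.conj_mem _ (H.inv_mem h.2) g⁻¹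
      simpa [mul_assoc] using this
    have : g⁻¹ * ((h : L)⁻¹ * g * h) = (g⁻¹ * (h : L)⁻¹ * g) * h := by group
    rw [this]
    exact H.mul_mem h1 h.2⟩
  have hfinj : Function.Injective f := by
    intro a b hab
    have h1 : (a : L)⁻¹ * g * a = (b : L)⁻¹ * g * b := by
      have := congrArg (fun x : H => g * (x : L)) hab
      simpa [f] using this
    have h2 : g * ((a : L) * (b : L)⁻¹) = ((a : L) * (b : L)⁻¹) * g := by
      have : g * a * (b : L)⁻¹ = a * ((a : L)⁻¹ * g * a) * (b : L)⁻¹ := by group
      rw [← mul_assoc, this, h1]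
      group
    have h3 := hg _ (H.mul_mem a.2 (H.inv_mem b.2)) h2
    ext
    exact mul_inv_eq_one.1 h3
  have hfbij : Function.Bijective f := Finite.injective_iff_bijective.1 hfinj
  -- the character sums
  have hsum1 : ∑ h : H, ρ.character (g * (f h : L)) = (Fintype.card H : ℂ) * ρ.character g := by
    have : ∀ h : H, ρ.character (g * (f h : L)) = ρ.character g := by
      intro h
      have h1 : g * (f h : L) = (h : L)⁻¹ * g * h := by
        simp [f]
      rw [h1]
      have := Representation.char_conj ρ g (h : L)⁻¹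
      simpa using this
    simp_rw [this]
    simp
  have hsum2 : ∑ h : H, ρ.character (g * (f h : L)) = ∑ h : H, ρ.character (g * (h : L)) :=
    Fintype.sum_bijective f hfbij _ _ (fun h => rfl)
  have hsum3 : ∑ h : H, ρ.character (g * (h : L)) = 0 := by
    simp only [Representation.character]
    simp_rw [map_mul]
    rw [← map_sum, ← Finset.mul_sum, he, mul_zero, map_zero]
  have hcard : (Fintype.card H : ℂ) ≠ 0 := by
    exact_mod_cast Fintype.card_ne_zero
  have := hsum1.symm.trans (hsum2.trans hsum3)
  rcases mul_eq_zero.1 this with h | h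
  · exact absurd h hcard
  · exact h

end Cfsg.Agent.Lib.Helper38.PFTwelve
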