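import Mathlib
import Cfsg.Agent.S0563
import Cfsg.Agent.S0143

/-!
# Subgroups of prime-power index that are cyclic-by-(cyclic 2-group)  (for S4245)

`main`: if `A ≤ G` has prime-power index, `B ⊴ A` is cyclic and `A ⧸ B` is a cyclic 2-group, then `G` is
solvable, GIVEN the Odd Order Theorem as a hypothesis (`OddSolvable`).  Proof: induction over normal
subgroups; `|B|` even: the involution of `B` is central in `A`, so its class has prime-power size (Burnside,
S0143); `|B|` odd and `p = 2`: `B` is a cyclic Hall 2-complement, `G = S * B` (Wielandt, S0563); `|B|` odd and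
`p` odd: cyclic Sylow 2-subgroups, Burnside transfer and the Odd Order Theorem.
-/

set_option autoImplicit false
set_option linter.style.haveILetI false
set_option linter.deprecated false

namespace Cfsg.Agent.Lib.Helper38.PPIndex

open Subgroup

universe u

/-- The Odd Order Theorem as a hypothesis. -/
def OddSolvable : Prop :=
  ∀ (H : Type u) [Group H] [Finite H], Odd (Nat.card H) → Group.IsSolvable H

theorem isSolvable_of_isCyclic (H : Type*) [Group H] [IsCyclic H] : Group.IsSolvable H := by
  letI := IsCyclic.commGroup (α := H)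
  exact isSolvable_of_comm (fun a b => mul_comm a b)

theorem solvable_of_cyclic_sylow_two (FT : OddSolvable.{u}) {G : Type u} [Group G] [Finite G]
    (P : Sylow 2 G) (hP : IsCyclic P) : Group.IsSolvable G := by
  by_cases hodd : Odd (Nat.card G)
  · exact FT G hodd
  have heven : 2 ∣ Nat.card G := by
    rcases Nat.even_or_odd (Nat.card G) with h | h
    · exact h.two_dvd
    · exact absurd h hodd
  have hmin : (Nat.card G).minFac = 2 := (Nat.minFac_eq_two_iff _).2 heven
  have hNC := IsCyclic.normalizer_le_centralizer hmin hP
  have hker := MonoidHom.not_dvd_card_ker_transferSylow P hNC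
  have hoddN : Odd (Nat.card (MonoidHom.transferSylow P hNC).ker) := by
    rcases Nat.even_or_odd (Nat.card (MonoidHom.transferSylow P hNC).ker) with h | h
    · exact absurd h.two_dvd hker
    · exact h
  haveI : Group.IsSolvable (MonoidHom.transferSylow P hNC).ker := FT _ hoddN
  haveI : Group.IsSolvable P := isSolvable_of_isCyclic P
  exact solvable_of_ker_le_range (MonoidHom.transferSylow P hNC).ker.subtype
    (MonoidHom.transferSylow P hNC) (by simp)

theorem card_mul_relIndex_of_le {G : Type*} [Group G] {H L : Subgroup G} (h : H ≤ L) :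
    Nat.card H * H.relIndex L = Nat.card L := by
  have := relIndex_mul_relIndex (⊥ : Subgroup G) H L bot_le h
  rwa [relIndex_bot_left, relIndex_bot_left] at this

theorem relIndex_dvd_index_of_normal_right {G : Type*} [Group G] [Finite G] (A N : Subgroup G)
    [N.Normal] : A.relIndex N ∣ A.index := by
  have h1 : A.relIndex (A ⊔ N) ∣ A.index := relIndex_dvd_index_of_le le_sup_left
  have e1 : Nat.card (A ⊓ N : Subgroup G) * A.relIndex N = Nat.card N := by
    have := card_mul_relIndex_of_le (inf_le_right : A ⊓ N ≤ N)
    rwa [inf_relIndex_right] at this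
  have e2 : Nat.card (A ⊓ N : Subgroup G) * N.relIndex A = Nat.card A := by
    have := card_mul_relIndex_of_le (inf_le_left : A ⊓ N ≤ A)
    rwa [inf_relIndex_left] at this
  have e3 : Nat.card N * N.relIndex A = Nat.card (A ⊔ N : Subgroup G) := by
    have := card_mul_relIndex_of_le (le_sup_right : N ≤ A ⊔ N)
    rwa [relIndex_sup_right] at this
  have e4 : Nat.card A * A.relIndex (A ⊔ N) = Nat.card (A ⊔ N : Subgroup G) :=
    card_mul_relIndex_of_le le_sup_left
  have hi : 0 < Nat.card (A ⊓ N : Subgroup G) := Nat.card_pos
  have hr : 0 < N.relIndex A := by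
    rcases Nat.eq_zero_or_pos (N.relIndex A) with h | h
    · rw [h, mul_zero] at e2
      exact absurd e2.symm (Nat.card_pos (α := A)).ne'
    · exact h
  have h2 : A.relIndex N = A.relIndex (A ⊔ N) := by
    have : (Nat.card (A ⊓ N : Subgroup G) * N.relIndex A) * A.relIndex N =
        (Nat.card (A ⊓ N : Subgroup G) * N.relIndex A) * A.relIndex (A ⊔ N) := by
      calc (Nat.card (A ⊓ N : Subgroup G) * N.relIndex A) * A.relIndex N
          = (Nat.card (A ⊓ N : Subgroup G) * A.relIndex N) * N.relIndex A := by ring
        _ = Nat.card N * N.relIndex A := by rw [e1]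
        _ = Nat.card (A ⊔ N : Subgroup G) := e3
        _ = Nat.card A * A.relIndex (A ⊔ N) := e4.symm
        _ = (Nat.card (A ⊓ N : Subgroup G) * N.relIndex A) * A.relIndex (A ⊔ N) := by rw [e2]
    exact Nat.eq_of_mul_eq_mul_left (Nat.mul_pos hi hr) this
  rw [h2]
  exact h1

theorem sub_data {A' A : Type*} [Group A'] [Group A] (f : A' →* A) (hf : Function.Injective f)
    (B : Subgroup A) [B.Normal] (hB : IsCyclic B) (hAB : IsCyclic (A ⧸ B)) (r : ℕ)
    (hr : Nat.card (A ⧸ B) = 2 ^ r) :
    IsCyclic (B.comap f) ∧ IsCyclic (A' ⧸ B.comap f) ∧ ∃ r', Nat.card (A' ⧸ B.comap f) = 2 ^ r' := by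
  have h1 : IsCyclic (B.comap f) := by
    haveI := hB
    refine isCyclic_of_injective (f.subgroupComap B) ?_
    intro x y hxy
    apply Subtype.ext
    apply hf
    exact congrArg Subtype.val hxy
  have hinj : Function.Injective (QuotientGroup.map (B.comap f) B f (le_refl _)) := by
    rw [injective_iff_map_eq_one]
    intro x hx
    induction x using QuotientGroup.induction_on with
    | H a =>
      rw [QuotientGroup.map_mk, QuotientGroup.eq_one_iff] at hx
      rw [QuotientGroup.eq_one_iff]
      exact hx
  refine ⟨h1, ?_, ?_⟩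
  · haveI := hAB
    exact isCyclic_of_injective _ hinj
  · have hdvd := Subgroup.card_dvd_of_injective _ hinj
    rw [hr] at hdvd
    obtain ⟨r', _, hr'⟩ := (Nat.dvd_prime_pow Nat.prime_two).1 hdvd
    exact ⟨r', hr'⟩

theorem quot_data {A A' : Type*} [Group A] [Group A'] (f : A →* A') (hf : Function.Surjective f)
    (B : Subgroup A) [B.Normal] (hB : IsCyclic B) (hAB : IsCyclic (A ⧸ B)) (r : ℕ)
    (hr : Nat.card (A ⧸ B) = 2 ^ r) [(B.map f).Normal] :
    IsCyclic (B.map f) ∧ IsCyclic (A' ⧸ B.map f) ∧ ∃ r', Nat.card (A' ⧸ B.map f) = 2 ^ r' := by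
  have h1 : IsCyclic (B.map f) := by
    haveI := hB
    exact isCyclic_of_surjective (f.subgroupMap B) (f.subgroupMap_surjective B)
  have hsurj : Function.Surjective (QuotientGroup.map B (B.map f) f (Subgroup.le_comap_map f B)) := by
    intro y
    induction y using QuotientGroup.induction_on with
    | H a' =>
      obtain ⟨a, rfl⟩ := hf a'
      exact ⟨(a : A ⧸ B), by rw [QuotientGroup.map_mk]⟩
  refine ⟨h1, ?_, ?_⟩
  · haveI := hAB
    exact isCyclic_of_surjective _ hsurj
  · have hdvd := Subgroup.card_dvd_of_surjective _ hsurj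
    rw [hr] at hdvd
    obtain ⟨r', _, hr'⟩ := (Nat.dvd_prime_pow Nat.prime_two).1 hdvd
    exact ⟨r', hr'⟩

theorem exists_central_involution {A : Type*} [Group A] [Finite A] (B : Subgroup A) [hBn : B.Normal]
    (hB : IsCyclic B) (h2 : 2 ∣ Nat.card B) : ∃ c : A, c ≠ 1 ∧ ∀ a : A, a * c = c * a := by
  classical
  haveI : Fintype B := Fintype.ofFinite B
  haveI := hB
  obtain ⟨x, hx⟩ := exists_prime_orderOf_dvd_card 2 (by rwa [← Nat.card_eq_fintype_card] : 2 ∣ Fintype.card B)
  have hx1 : x ≠ 1 := by
    intro h
    rw [h, orderOf_one] at hx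
    exact absurd hx (by norm_num)
  have hx2 : x ^ 2 = 1 := by rw [← hx]; exact pow_orderOf_eq_one x
  refine ⟨(x : A), fun h => hx1 (Subtype.ext h), ?_⟩
  intro a
  set y : B := ⟨a * x * a⁻¹, hBn.conj_mem x x.2 a⟩ with hy
  have hy2 : y ^ 2 = 1 := by
    apply Subtype.ext
    have hxA : (x : A) ^ 2 = 1 := by
      have := congrArg Subtype.val hx2
      simpa using this
    show (a * (x : A) * a⁻¹) ^ 2 = 1
    rw [conj_pow, hxA, mul_one, mul_inv_cancel]
  have hy1 : y ≠ 1 := by
    intro h
    apply hx1
    have := congrArg Subtype.val h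
    simp only [hy, Subgroup.coe_one] at this
    apply Subtype.ext
    have h3 : (x : A) = a⁻¹ * (a * x * a⁻¹) * a := by group
    rw [h3, this]
    simp
  have hyx : y = x := by
    by_contra hne
    have hle := IsCyclic.card_pow_eq_one_le (α := B) (n := 2) (by norm_num)
    have hsub : ({1, x, y} : Finset B) ⊆ Finset.univ.filter (fun z : B => z ^ 2 = 1) := by
      intro z hz
      simp only [Finset.mem_insert, Finset.mem_singleton] at hz
      simp only [Finset.mem_filter, Finset.mem_univ, true_and]
      rcases hz with rfl | rfl | rfl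
      · exact one_pow 2
      · exact hx2
      · exact hy2
    have hcard : ({1, x, y} : Finset B).card = 3 := by
      rw [Finset.card_insert_of_notMem, Finset.card_insert_of_notMem, Finset.card_singleton]
      · simp only [Finset.mem_singleton]
        exact fun h => hne h.symm
      · simp only [Finset.mem_insert, Finset.mem_singleton, not_or]
        exact ⟨fun h => hx1 h.symm, fun h => hy1 h.symm⟩
    have := Finset.card_le_card hsub
    omega
  have := congrArg Subtype.val hyx
  simp only [hy] at this
  calc a * (x : A) = (a * x * a⁻¹) * a := by group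
    _ = x * a := by rw [this]

theorem main (FT : OddSolvable.{u}) : ∀ (n : ℕ) (G : Type u) [Group G] [Finite G], Nat.card G = n →
    ∀ (A : Subgroup G) (p s : ℕ), p.Prime → A.index = p ^ s → ∀ (B : Subgroup A) [B.Normal],
    IsCyclic B → IsCyclic (A ⧸ B) → ∀ r : ℕ, Nat.card (A ⧸ B) = 2 ^ r → Group.IsSolvable G := by
  intro n
  induction n using Nat.strong_induction_on with
  | _ n ih =>
  intro G _ _ hn A p s hp hA B _ hB hAB r hr
  have hcardA : Nat.card A * A.index = Nat.card G := A.card_mul_index
  have hBidx : B.index = 2 ^ r := by rw [Subgroup.index_eq_card]; exact hr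
  have hcardB : Nat.card B * B.index = Nat.card A := B.card_mul_index
  by_cases hBeven : 2 ∣ Nat.card B
  · obtain ⟨c, hc1, hcc⟩ := exists_central_involution B hB hBeven
    have hcG : (c : G) ≠ 1 := fun h => hc1 (Subtype.ext h)
    by_cases hN : ∃ N : Subgroup G, N.Normal ∧ N ≠ ⊥ ∧ N ≠ ⊤
    · obtain ⟨N, hNn, hNbot, hNtop⟩ := hN
      haveI := hNn
      -- the subgroup N
      have hN1 : Group.IsSolvable N := by
        have hlt : Nat.card N < n := by
          rw [← hn]
          exact lt_of_le_of_ne (Subgroup.card_le_card_group N)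
            (fun h => hNtop (Subgroup.eq_top_of_card_eq N h))
        have hidx : ∃ s', (A.subgroupOf N).index = p ^ s' := by
          have h1 : A.relIndex N ∣ p ^ s := hA ▸ relIndex_dvd_index_of_normal_right A N
          obtain ⟨s', _, hs'⟩ := (Nat.dvd_prime_pow hp).1 h1
          exact ⟨s', hs'⟩
        obtain ⟨s', hs'⟩ := hidx
        have hφ : Function.Injective (N.subtype.subgroupComap A) := by
          intro x y hxy
          have h1 : ((N.subtype.subgroupComap A x : A) : G) = ((N.subtype.subgroupComap A y : A) : G) := by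
            rw [hxy]
          exact Subtype.ext (Subtype.ext h1)
        obtain ⟨d1, d2, r', d3⟩ := sub_data (N.subtype.subgroupComap A) hφ B hB hAB r hr
        haveI hBn' : (B.comap (N.subtype.subgroupComap A)).Normal :=
          Subgroup.normal_comap (N.subtype.subgroupComap A)
        exact @ih (Nat.card N) hlt N _ _ rfl (A.subgroupOf N) p s' hp hs' (B.comap (N.subtype.subgroupComap A)) hBn' d1 d2 r' d3
      -- the quotient G ⧸ N
      have hN2 : Group.IsSolvable (G ⧸ N) := by
        have hlt : Nat.card (G ⧸ N) < n := by
          rw [← hn, ← Subgroup.index_eq_card, ← N.card_mul_index]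
          have h2 : 1 < Nat.card N := (Subgroup.one_lt_card_iff_ne_bot N).2 hNbot
          have h3 : 0 < N.index := Nat.pos_of_ne_zero (Subgroup.index_ne_zero_of_finite)
          nlinarith
        have hsurj : Function.Surjective (QuotientGroup.mk' N) := QuotientGroup.mk'_surjective N
        have hidx : ∃ s', (A.map (QuotientGroup.mk' N)).index = p ^ s' := by
          have h1 : (A.map (QuotientGroup.mk' N)).index ∣ p ^ s := hA ▸ Subgroup.index_map_dvd A hsurj
          obtain ⟨s', _, hs'⟩ := (Nat.dvd_prime_pow hp).1 h1
          exact ⟨s', hs'⟩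
        obtain ⟨s', hs'⟩ := hidx
        have hφ := (QuotientGroup.mk' N).subgroupMap_surjective A
        haveI : (B.map ((QuotientGroup.mk' N).subgroupMap A)).Normal :=
          Subgroup.Normal.map inferInstance _ hφ
        obtain ⟨d1, d2, r', d3⟩ := quot_data ((QuotientGroup.mk' N).subgroupMap A) hφ B hB hAB r hr
        exact ih _ hlt (G ⧸ N) rfl (A.map (QuotientGroup.mk' N)) p s' hp hs'
          (B.map ((QuotientGroup.mk' N).subgroupMap A)) d1 d2 r' d3
      exact solvable_of_ker_le_range N.subtype (QuotientGroup.mk' N) (by simp)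
    · -- G is simple
      haveI : Nontrivial G := ⟨⟨(c : G), 1, hcG⟩⟩
      haveI : IsSimpleGroup G :=
        { eq_bot_or_eq_top_of_normal := fun H hH => by
            by_contra hcon
            push Not at hcon
            exact hN ⟨H, hH, hcon.1, hcon.2⟩ }
      have hle : A ≤ centralizer ({(c : G)} : Set G) := by
        intro g hg
        rw [Subgroup.mem_centralizer_iff]
        intro h hh
        rw [Set.mem_singleton_iff] at hh
        subst hh
        have := congrArg Subtype.val (hcc ⟨g, hg⟩)
        simpa using this.symm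
      have hdvd : (centralizer ({(c : G)} : Set G)).index ∣ p ^ s := hA ▸ Subgroup.index_dvd_of_le hle
      obtain ⟨k, _, hk⟩ := (Nat.dvd_prime_pow hp).1 hdvd
      have hprime := Cfsg.Agent.S0143.result p k hp (c : G) hcG hk
      haveI := Fact.mk hprime
      haveI : IsCyclic G := isCyclic_of_prime_card rfl
      exact isSolvable_of_isCyclic G
  · -- |B| odd
    have hcop2 : ∀ k : ℕ, Nat.Coprime (2 ^ k) (Nat.card B) := fun k =>
      Nat.Coprime.pow_left k ((Nat.Prime.coprime_iff_not_dvd Nat.prime_two).2 hBeven)
    have hB0 : Nat.card B ≠ 0 := Nat.card_pos.ne'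
    have hfB : (Nat.card B).factorization 2 = 0 := Nat.factorization_eq_zero_of_not_dvd hBeven
    by_cases hp2 : p = 2
    · -- Wielandt: G = S * B
      subst hp2
      set K : Subgroup G := B.map A.subtype with hK
      have hKcard : Nat.card K = Nat.card B := card_map_of_injective A.subtype_injective
      have hKcyc : IsCyclic K := by
        haveI := hB
        exact isCyclic_of_surjective (A.subtype.subgroupMap B) (A.subtype.subgroupMap_surjective B)
      have hKnil : Group.IsNilpotent K := by
        letI := IsCyclic.commGroup (α := K)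
        exact CommGroup.isNilpotent
      obtain ⟨S⟩ : Nonempty (Sylow 2 G) := inferInstance
      have hSnil : Group.IsNilpotent S := IsPGroup.isNilpotent S.isPGroup'
      have hG : Nat.card G = Nat.card B * 2 ^ (r + s) := by
        rw [← hcardA, ← hcardB, hBidx, hA, pow_add, mul_assoc]
      have hfac : (Nat.card G).factorization 2 = r + s := by
        rw [hG, Nat.factorization_mul hB0 (pow_ne_zero _ two_ne_zero), Finsupp.add_apply, hfB,
          Nat.Prime.factorization_pow Nat.prime_two, Finsupp.single_eq_same, zero_add]
      have hS : Nat.card S = 2 ^ (r + s) := by rw [S.card_eq_multiplicity, hfac]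
      have h1 : Nat.card S * Nat.card K = Nat.card G := by rw [hS, hKcard, hG, mul_comm]
      have h2 : (Nat.card S).Coprime (Nat.card K) := by rw [hS, hKcard]; exact hcop2 _
      have hcompl := isComplement'_of_coprime h1 h2
      have hAB' : ∀ g : G, ∃ a ∈ (S : Subgroup G), ∃ b ∈ K, g = a * b := by
        intro g
        obtain ⟨⟨a, b⟩, hab, _⟩ := (isComplement_iff_existsUnique.1 hcompl) g
        exact ⟨a, a.2, b, b.2, hab.symm⟩
      exact (Cfsg.Agent.S0563.result (S : Subgroup G) K hSnil hKnil h2 hAB').1
    · -- cyclic Sylow 2-subgroups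
      obtain ⟨Q⟩ : Nonempty (Sylow 2 A) := inferInstance
      have hQcard : Nat.card Q = 2 ^ (Nat.card A).factorization 2 := Q.card_eq_multiplicity
      have hQB : Disjoint (Q : Subgroup A) B := by
        apply disjoint_of_coprime_natCard
        rw [hQcard]
        exact hcop2 _
      have hψ : Function.Injective ((QuotientGroup.mk' B).comp (Q : Subgroup A).subtype) := by
        rw [injective_iff_map_eq_one]
        intro x hx
        have hxB : (x : A) ∈ B := by
          rw [MonoidHom.comp_apply, QuotientGroup.mk'_apply, QuotientGroup.eq_one_iff] at hx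
          exact hx
        apply Subtype.ext
        exact Subgroup.disjoint_def.1 hQB x.2 hxB
      have hQcyc : IsCyclic Q := by
        haveI := hAB
        exact isCyclic_of_injective _ hψ
      set Q' : Subgroup G := (Q : Subgroup A).map A.subtype with hQ'
      have hQ'card : Nat.card Q' = Nat.card Q := card_map_of_injective A.subtype_injective
      have hQ'p : IsPGroup 2 Q' := Q.isPGroup'.map A.subtype
      obtain ⟨P, hP⟩ := hQ'p.exists_le_sylow
      have hp2' : ¬ 2 ∣ p ^ s := by
        intro h
        have := Nat.Prime.dvd_of_dvd_pow Nat.prime_two h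
        exact hp2 ((Nat.prime_dvd_prime_iff_eq Nat.prime_two hp).1 this).symm
      have hfac : (Nat.card G).factorization 2 = (Nat.card A).factorization 2 := by
        rw [← hcardA, hA, Nat.factorization_mul Nat.card_pos.ne' (pow_ne_zero _ hp.ne_zero),
          Finsupp.add_apply, Nat.factorization_eq_zero_of_not_dvd hp2', add_zero]
      have hPcard : Nat.card P = Nat.card Q' := by
        rw [P.card_eq_multiplicity, hfac, hQ'card, hQcard]
      have hPQ : Q' = (P : Subgroup G) := Subgroup.eq_of_le_of_card_ge hP hPcard.le
      have hQ'cyc : IsCyclic Q' := by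
        haveI := hQcyc
        exact isCyclic_of_surjective (A.subtype.subgroupMap (Q : Subgroup A))
          (A.subtype.subgroupMap_surjective _)
      have hPcyc : IsCyclic P := by
        haveI := hQ'cyc
        exact isCyclic_of_injective (Subgroup.inclusion (le_of_eq hPQ.symm))
          (Subgroup.inclusion_injective _)
      exact solvable_of_cyclic_sylow_two FT P hPcyc

end Cfsg.Agent.Lib.Helper38.PPIndex
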