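/-
helper38: module [EXP3] of helper70's S5289 (rank two p-groups, p ≥ 5, are resistant):
the extraspecial group generated by `x, y, z` with `[y,x] = z` central has exponent `p` (`p` odd).
All declarations live in `Cfsg.Agent.Lib.Helper38.RkRes`.
-/
import Mathlib
import Cfsg.Agent.Lib.Helper24.PGroupBasic

set_option autoImplicit false

namespace Cfsg.Agent.Lib.Helper38.RkRes

open Cfsg.Agent.Lib.Helper24

variable {Ω : Type*} [Group Ω] {p : ℕ} [Fact p.Prime]

theorem exp_three {x y z : Ω} (hp2 : p ≠ 2) (hxp : x ^ p = 1) (hyp : y ^ p = 1) (hzp : z ^ p = 1)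
    (hxz : x * z = z * x) (hyz : y * z = z * y) (hxy : x⁻¹ * y * x = y * z) :
    ∀ s ∈ Subgroup.closure ({x, y, z} : Set Ω), s ^ p = 1 := by
  have hp : p.Prime := Fact.out
  have czx : Commute z x := hxz.symm
  have czy : Commute z y := hyz.symm
  -- y x = z x y
  have hyx : y * x = z * x * y := by
    have h1 : y * x = x * (x⁻¹ * y * x) := by group
    rw [h1, hxy, czx.eq, mul_assoc x z y, czy.eq]
  -- y^j x = z^j x y^j
  have h1 : ∀ j : ℕ, y ^ j * x = z ^ j * x * y ^ j := fun j =>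
    pow_mul_of_central_comm x y z hyx czx czy j
  -- x y^j = (z^j)⁻¹ y^j x
  have h2 : ∀ j : ℕ, x * y ^ j = (z ^ j)⁻¹ * y ^ j * x := by
    intro j
    rw [mul_assoc, h1 j]; group
  -- x^a y^j = (z^j)⁻¹^a y^j x^a
  have h3 : ∀ j a : ℕ, x ^ a * y ^ j = ((z ^ j)⁻¹) ^ a * y ^ j * x ^ a := by
    intro j a
    refine pow_mul_of_central_comm (y ^ j) x ((z ^ j)⁻¹) (h2 j) ?_ ?_ a
    · exact ((czy.pow_left j).pow_right j).inv_left
    · exact (czx.pow_left j).inv_left
  -- y^j x^a = z^(j*a) x^a y^j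
  have h4 : ∀ j a : ℕ, y ^ j * x ^ a = z ^ (j * a) * x ^ a * y ^ j := by
    intro j a
    have h := h3 j a
    have e : ((z ^ j)⁻¹) ^ a = (z ^ (j * a))⁻¹ := by rw [inv_pow, pow_mul]
    rw [e] at h
    have h' : y ^ j * x ^ a = z ^ (j * a) * (x ^ a * y ^ j) := by rw [h]; group
    rw [h', mul_assoc]
  -- p ∣ choose p 2
  have hch : p ∣ p.choose 2 := by
    apply hp.dvd_choose_self (by norm_num)
    have := hp.two_le
    omega
  -- (x^i y^j)^p = 1
  have h5 : ∀ i j : ℕ, (x ^ i * y ^ j) ^ p = 1 := by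
    intro i j
    have c1 : Commute (z ^ (j * i)) (x ^ i) := (czx.pow_left _).pow_right _
    have c2 : Commute (z ^ (j * i)) (y ^ j) := (czy.pow_left _).pow_right _
    have e1 : (x ^ i) ^ p = 1 := by rw [← pow_mul, mul_comm, pow_mul, hxp, one_pow]
    have e2 : (y ^ j) ^ p = 1 := by rw [← pow_mul, mul_comm, pow_mul, hyp, one_pow]
    have e3 : (z ^ (j * i)) ^ p.choose 2 = 1 := by
      obtain ⟨m, hm⟩ := hch
      rw [hm, pow_mul, ← pow_mul z, mul_comm (j * i) p, pow_mul, hzp, one_pow, one_pow]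
    rw [mul_pow_of_central_comm (x ^ i) (y ^ j) (z ^ (j * i)) (h4 j i) c1 c2 p, e1, e2, e3]
    simp
  -- (x^i y^j z^k)^p = 1
  have h6 : ∀ i j k : ℕ, (x ^ i * y ^ j * z ^ k) ^ p = 1 := by
    intro i j k
    have c : Commute (x ^ i * y ^ j) (z ^ k) :=
      (((czx.pow_left k).pow_right i).mul_right ((czy.pow_left k).pow_right j)).symm
    rw [c.mul_pow, h5, one_mul, ← pow_mul, mul_comm, pow_mul, hzp, one_pow]
  -- normal forms are closed under products
  have h7 : ∀ i j k a b c : ℕ, (x ^ i * y ^ j * z ^ k) * (x ^ a * y ^ b * z ^ c)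
      = x ^ (i + a) * y ^ (j + b) * z ^ (k + c + j * a) := by
    intro i j k a b c
    have c1 : Commute (z ^ k) (x ^ a * y ^ b) :=
      ((czx.pow_left k).pow_right a).mul_right ((czy.pow_left k).pow_right b)
    have c2 : Commute (z ^ (j * a)) (x ^ a) := (czx.pow_left _).pow_right _
    have c3 : Commute (z ^ (j * a)) (y ^ (j + b)) := (czy.pow_left _).pow_right _
    calc (x ^ i * y ^ j * z ^ k) * (x ^ a * y ^ b * z ^ c)
        = x ^ i * y ^ j * (z ^ k * (x ^ a * y ^ b)) * z ^ c := by simp only [mul_assoc]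
      _ = x ^ i * y ^ j * ((x ^ a * y ^ b) * z ^ k) * z ^ c := by rw [c1.eq]
      _ = x ^ i * (y ^ j * x ^ a) * y ^ b * (z ^ k * z ^ c) := by simp only [mul_assoc]
      _ = x ^ i * (z ^ (j * a) * x ^ a * y ^ j) * y ^ b * (z ^ k * z ^ c) := by rw [h4]
      _ = x ^ i * (z ^ (j * a) * x ^ a) * (y ^ j * y ^ b) * (z ^ k * z ^ c) := by
          simp only [mul_assoc]
      _ = x ^ i * (x ^ a * z ^ (j * a)) * (y ^ j * y ^ b) * (z ^ k * z ^ c) := by rw [c2.eq]
      _ = x ^ i * x ^ a * (z ^ (j * a) * y ^ (j + b)) * z ^ (k + c) := by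
          rw [← pow_add y, ← pow_add z]; simp only [mul_assoc]
      _ = x ^ i * x ^ a * (y ^ (j + b) * z ^ (j * a)) * z ^ (k + c) := by rw [c3.eq]
      _ = x ^ (i + a) * y ^ (j + b) * z ^ (k + c + j * a) := by
          rw [← pow_add x, pow_add z (k + c), (Commute.pow_pow_self z (k + c) (j * a)).eq]
          simp only [mul_assoc]
  -- the set of normal forms
  have hN : ∀ s ∈ Subgroup.closure ({x, y, z} : Set Ω), ∃ i j k : ℕ, s = x ^ i * y ^ j * z ^ k := by
    have hmul : ∀ s t : Ω, (∃ i j k : ℕ, s = x ^ i * y ^ j * z ^ k) →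
        (∃ i j k : ℕ, t = x ^ i * y ^ j * z ^ k) → ∃ i j k : ℕ, s * t = x ^ i * y ^ j * z ^ k := by
      rintro s t ⟨i, j, k, rfl⟩ ⟨a, b, c, rfl⟩
      exact ⟨_, _, _, h7 i j k a b c⟩
    have hone : ∃ i j k : ℕ, (1 : Ω) = x ^ i * y ^ j * z ^ k := ⟨0, 0, 0, by simp⟩
    have hpow : ∀ (s : Ω) (m : ℕ), (∃ i j k : ℕ, s = x ^ i * y ^ j * z ^ k) →
        ∃ i j k : ℕ, s ^ m = x ^ i * y ^ j * z ^ k := by
      intro s m hs
      induction m with
      | zero => rw [pow_zero]; exact hone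
      | succ m ih => rw [pow_succ]; exact hmul _ _ ih hs
    intro s hs
    induction hs using Subgroup.closure_induction with
    | mem g hg =>
      rcases hg with rfl | rfl | rfl
      · exact ⟨1, 0, 0, by simp⟩
      · exact ⟨0, 1, 0, by simp⟩
      · exact ⟨0, 0, 1, by simp⟩
    | one => exact hone
    | mul s t _ _ ihs iht => exact hmul s t ihs iht
    | inv s _ ihs =>
      have hsp : s ^ p = 1 := by
        obtain ⟨i, j, k, rfl⟩ := ihs
        exact h6 i j k
      have hinv : s⁻¹ = s ^ (p - 1) := by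
        rw [inv_eq_iff_mul_eq_one, ← pow_succ']
        have : p - 1 + 1 = p := Nat.sub_add_cancel hp.one_le
        rw [this, hsp]
      rw [hinv]
      exact hpow s (p - 1) ihs
  intro s hs
  obtain ⟨i, j, k, rfl⟩ := hN s hs
  exact h6 i j k

end Cfsg.Agent.Lib.Helper38.RkRes
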