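/-
helper38: module [PCLOSED] of helper70's S5289 (rank two p-groups, p ≥ 5, are resistant):
an automorphism group of a `p`-group stabilizing a chain with "abelian" factors has a normal Sylow
`p`-subgroup.
All declarations live in `Cfsg.Agent.Lib.Helper38.RkRes`.
-/
import Mathlib
import Cfsg.Agent.Lib.Helper87.FusionNormal

set_option autoImplicit false
set_option linter.style.haveILetI false

namespace Cfsg.Agent.Lib.Helper38.RkRes

open Cfsg.Agent.Lib.Helper87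

/-- two automorphisms preserving a cyclic subgroup commute on it -/
theorem comm_on_cyclic {R : Type*} [Group R] (C : Subgroup R) (g : R) (hg : g ∈ C)
    (hgen : ∀ s ∈ C, s ∈ Subgroup.zpowers g) (a b : MulAut R)
    (ha : ∀ s ∈ C, a s ∈ C) (hb : ∀ s ∈ C, b s ∈ C) : ∀ s ∈ C, a (b s) = b (a s) := by
  obtain ⟨i, hi⟩ := Subgroup.mem_zpowers_iff.mp (hgen _ (ha g hg))
  obtain ⟨j, hj⟩ := Subgroup.mem_zpowers_iff.mp (hgen _ (hb g hg))
  have h0 : a (b g) = b (a g) := by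
    rw [← hj, ← hi, map_zpow, map_zpow, ← hi, ← hj, ← zpow_mul, ← zpow_mul, mul_comm]
  intro s hs
  obtain ⟨k, rfl⟩ := Subgroup.mem_zpowers_iff.mp (hgen s hs)
  rw [map_zpow, map_zpow, map_zpow, map_zpow, h0]

/-- a group of order `p ^ f`, `f ≤ 2`, is commutative -/
theorem comm_of_card_le_sq {G : Type*} [Group G] {p : ℕ} [Fact p.Prime] (f : ℕ) (hf : f ≤ 2)
    (hG : Nat.card G = p ^ f) : ∀ a b : G, a * b = b * a := by
  interval_cases f
  · have : Subsingleton G := (Nat.card_eq_one_iff_unique.mp (by simpa using hG)).1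
    intro a b
    exact Subsingleton.elim _ _
  · haveI : IsCyclic G := isCyclic_of_prime_card (p := p) (by simpa using hG)
    letI := IsCyclic.commGroup (α := G)
    intro a b
    exact mul_comm a b
  · exact (IsPGroup.isMulCommutative_of_card_eq_prime_sq hG).is_comm.comm

/-- a subgroup `W` of order `≤ p ^ 2` containing a subgroup `U` of order `p` is commutative and cyclic
modulo `U`. -/
theorem cyclic_mod {R : Type*} [Group R] [Finite R] {p : ℕ} [Fact p.Prime] (hR : IsPGroup p R)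
    (W : Subgroup R) (hWcard : Nat.card W ≤ p ^ 2) (u : R) (huW : u ∈ W) (hu1 : u ≠ 1)
    (hup : u ^ p = 1) :
    (∀ a ∈ W, ∀ b ∈ W, a * b = b * a) ∧
      ∃ w₀ ∈ W, ∀ w ∈ W, ∃ m : ℤ, (w₀ ^ m)⁻¹ * w ∈ Subgroup.zpowers u := by
  have hp : p.Prime := Fact.out
  obtain ⟨f, hf⟩ := IsPGroup.iff_card.mp (hR.to_subgroup W)
  have hf2 : f ≤ 2 := by
    rw [hf] at hWcard
    exact (Nat.pow_le_pow_iff_right hp.one_lt).mp hWcard
  have hWc' : ∀ a b : ↥W, a * b = b * a := comm_of_card_le_sq f hf2 hf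
  have hWc : ∀ a ∈ W, ∀ b ∈ W, a * b = b * a := by
    intro a ha b hb
    have := hWc' ⟨a, ha⟩ ⟨b, hb⟩
    exact congrArg Subtype.val this
  refine ⟨hWc, ?_⟩
  have hUW : Subgroup.zpowers u ≤ W := by
    rw [Subgroup.zpowers_le]; exact huW
  haveI hN : ((Subgroup.zpowers u).subgroupOf W).Normal :=
    ⟨fun n hn g => by rw [hWc' g n, mul_inv_cancel_right]; exact hn⟩
  have hcardU : Nat.card ((Subgroup.zpowers u).subgroupOf W) = p := by
    rw [Nat.card_congr (Subgroup.subgroupOfEquivOfLe hUW).toEquiv, Nat.card_zpowers]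
    exact orderOf_eq_prime hup hu1
  have hcard := Subgroup.card_eq_card_quotient_mul_card_subgroup ((Subgroup.zpowers u).subgroupOf W)
  rw [hcardU, hf] at hcard
  haveI : IsCyclic (↥W ⧸ (Subgroup.zpowers u).subgroupOf W) := by
    interval_cases f
    · exfalso
      have h1 : p ∣ 1 := by
        rw [pow_zero] at hcard
        exact Dvd.intro_left _ hcard.symm
      exact hp.one_lt.ne' (Nat.dvd_one.mp h1)
    · have h1 : Nat.card (↥W ⧸ (Subgroup.zpowers u).subgroupOf W) = 1 := by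
        rw [pow_one] at hcard
        have := Nat.eq_of_mul_eq_mul_right hp.pos (by rw [one_mul]; exact hcard :
          1 * p = Nat.card (↥W ⧸ (Subgroup.zpowers u).subgroupOf W) * p)
        exact this.symm
      haveI : Subsingleton (↥W ⧸ (Subgroup.zpowers u).subgroupOf W) :=
        (Nat.card_eq_one_iff_unique.mp h1).1
      exact isCyclic_of_subsingleton
    · have h1 : Nat.card (↥W ⧸ (Subgroup.zpowers u).subgroupOf W) = p := by
        have := Nat.eq_of_mul_eq_mul_right hp.pos (by rw [← hcard, pow_two] :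
          p * p = Nat.card (↥W ⧸ (Subgroup.zpowers u).subgroupOf W) * p)
        exact this.symm
      exact isCyclic_of_prime_card (p := p) h1
  obtain ⟨g, hg⟩ := IsCyclic.exists_generator (α := ↥W ⧸ (Subgroup.zpowers u).subgroupOf W)
  obtain ⟨w₀, rfl⟩ := QuotientGroup.mk_surjective g
  refine ⟨w₀.1, w₀.2, fun w hw => ?_⟩
  obtain ⟨m, hm⟩ := Subgroup.mem_zpowers_iff.mp (hg (QuotientGroup.mk ⟨w, hw⟩))
  refine ⟨m, ?_⟩
  rw [← QuotientGroup.mk_zpow, QuotientGroup.eq, Subgroup.mem_subgroupOf] at hm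
  simpa using hm

variable {p : ℕ} [Fact p.Prime]

theorem pclosed_of_chain {R : Type*} [Group R] [Finite R] (hR : IsPGroup p R)
    (A : Subgroup (MulAut R))
    (hpow : ∀ r s : R, (r * s) ^ p = r ^ p * s ^ p)
    (z₀ : R) (hz₀ : ∀ r : R, r ^ p ∈ Subgroup.zpowers z₀)
    (u : R) (hu1 : u ≠ 1) (hup : u ^ p = 1) (huA : ∀ α ∈ A, α u ∈ Subgroup.zpowers u)
    (W : Subgroup R) (hW : ∀ r, r ∈ W ↔ r ^ p = 1) (hWcard : Nat.card W ≤ p ^ 2) :
    ∃ K : Subgroup (MulAut R), K ≤ A ∧ (∀ α ∈ A, ∀ β ∈ K, α * β * α⁻¹ ∈ K) ∧ IsPGroup p K ∧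
      ∀ β ∈ A, (∃ k : ℕ, β ^ p ^ k = 1) → β ∈ K := by
  have hp : p.Prime := Fact.out
  have huW : u ∈ W := (hW u).mpr hup
  have hUW : Subgroup.zpowers u ≤ W := by
    rw [Subgroup.zpowers_le]; exact huW
  obtain ⟨hWc, w₀, hw₀, hgenW⟩ := cyclic_mod hR W hWcard u huW hu1 hup
  -- invariance of the three subgroups
  have hinvW : ∀ α : MulAut R, ∀ x ∈ W, α x ∈ W := by
    intro α x hx
    rw [hW] at hx ⊢
    rw [← map_pow, hx, map_one]
  have hinvU : ∀ α ∈ A, ∀ x ∈ Subgroup.zpowers u, α x ∈ Subgroup.zpowers u := by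
    intro α hα x hx
    obtain ⟨k, rfl⟩ := Subgroup.mem_zpowers_iff.mp hx
    rw [map_zpow]
    exact Subgroup.zpow_mem _ (huA α hα) k
  -- the chain
  let c : ℕ → Subgroup R := fun j =>
    if j = 0 then ⊤ else if j = 1 then W else if j = 2 then Subgroup.zpowers u else ⊥
  have hc0 : c 0 = ⊤ := rfl
  have hc1 : c 1 = W := rfl
  have hc2 : c 2 = Subgroup.zpowers u := rfl
  have hc3 : c 3 = ⊥ := rfl
  have hinv : ∀ j ≤ 3, ∀ α ∈ A, ∀ x ∈ c j, α x ∈ c j := by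
    intro j hj α hα x hx
    interval_cases j
    · rw [hc0]; exact Subgroup.mem_top _
    · rw [hc1] at hx ⊢; exact hinvW α x hx
    · rw [hc2] at hx ⊢; exact hinvU α hα x hx
    · rw [hc3] at hx ⊢
      rw [Subgroup.mem_bot] at hx ⊢
      rw [hx, map_one]
  let D : Subgroup (MulAut R) := chainStab A 3 c hinv
  have hDA : D ≤ A := chainStab_le A 3 c hinv
  have hDp : IsPGroup p D := chainStab_isPGroup hR A 3 c hc0 hc3 hinv
  have hDn : ∀ α ∈ A, ∀ β ∈ D, α * β * α⁻¹ ∈ D := fun α hα β hβ =>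
    chainStab_conj_mem A 3 c hinv hα hβ
  -- the subgroup of p-th powers
  let φ : R →* R := { toFun := fun r => r ^ p, map_one' := one_pow p, map_mul' := hpow }
  have hφ : ∀ r, φ r = r ^ p := fun _ => rfl
  have hMle : φ.range ≤ Subgroup.zpowers z₀ := by
    rintro _ ⟨r, rfl⟩
    exact hz₀ r
  haveI : IsCyclic ↥φ.range := Subgroup.isCyclic_of_le hMle
  obtain ⟨⟨g, hgM⟩, hgen⟩ := IsCyclic.exists_generator (α := ↥φ.range)
  have hgenM : ∀ s ∈ φ.range, s ∈ Subgroup.zpowers g := by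
    intro s hs
    obtain ⟨k, hk⟩ := Subgroup.mem_zpowers_iff.mp (hgen ⟨s, hs⟩)
    rw [Subgroup.mem_zpowers_iff]
    exact ⟨k, by simpa using congrArg Subtype.val hk⟩
  have hinvM : ∀ α : MulAut R, ∀ s ∈ φ.range, α s ∈ φ.range := by
    rintro α _ ⟨r, rfl⟩
    exact ⟨α r, by rw [hφ, hφ, map_pow]⟩
  -- commutation on the three factors
  have F2 : ∀ a ∈ A, ∀ b ∈ A, ∀ s ∈ Subgroup.zpowers u, a (b s) = b (a s) := by
    intro a ha b hb
    exact comm_on_cyclic (Subgroup.zpowers u) u (Subgroup.mem_zpowers u) (fun s hs => hs) a b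
      (hinvU a ha) (hinvU b hb)
  have F0 : ∀ a b : MulAut R, ∀ s : R, (b (a s))⁻¹ * a (b s) ∈ W := by
    intro a b s
    rw [hW, hpow, inv_pow, ← map_pow, ← map_pow, ← map_pow, ← map_pow]
    have hs : s ^ p ∈ φ.range := ⟨s, rfl⟩
    rw [comm_on_cyclic φ.range g hgM hgenM a b (hinvM a) (hinvM b) _ hs]
    exact inv_mul_cancel _
  have F1 : ∀ a ∈ A, ∀ b ∈ A, ∀ s ∈ W, (b (a s))⁻¹ * a (b s) ∈ Subgroup.zpowers u := by
    intro a ha b hb
    -- on the generator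
    obtain ⟨i, hi⟩ := hgenW (a w₀) (hinvW a w₀ hw₀)
    obtain ⟨j, hj⟩ := hgenW (b w₀) (hinvW b w₀ hw₀)
    set v₁ := (w₀ ^ i)⁻¹ * a w₀ with hv₁
    set v₂ := (w₀ ^ j)⁻¹ * b w₀ with hv₂
    have ea : a w₀ = w₀ ^ i * v₁ := by rw [hv₁]; group
    have eb : b w₀ = w₀ ^ j * v₂ := by rw [hv₂]; group
    have hwi : w₀ ^ i ∈ W := Subgroup.zpow_mem _ hw₀ i
    have hwj : w₀ ^ j ∈ W := Subgroup.zpow_mem _ hw₀ j
    have c1 : Commute (w₀ ^ i) v₁ := hWc _ hwi _ (hUW hi)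
    have c2 : Commute (w₀ ^ j) v₂ := hWc _ hwj _ (hUW hj)
    have e1 : a (b w₀) = w₀ ^ (i * j) * (v₁ ^ j * a v₂) := by
      rw [eb, map_mul, map_zpow, ea, c1.mul_zpow, ← zpow_mul, mul_assoc]
    have e2 : b (a w₀) = w₀ ^ (i * j) * (v₂ ^ i * b v₁) := by
      rw [ea, map_mul, map_zpow, eb, c2.mul_zpow, ← zpow_mul, mul_assoc, mul_comm j i]
    have ht₀ : (b (a w₀))⁻¹ * a (b w₀) ∈ Subgroup.zpowers u := by
      have e3 : (b (a w₀))⁻¹ * a (b w₀) = (v₂ ^ i * b v₁)⁻¹ * (v₁ ^ j * a v₂) := by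
        rw [e1, e2]; group
      rw [e3]
      refine Subgroup.mul_mem _ (Subgroup.inv_mem _ (Subgroup.mul_mem _ ?_ ?_))
        (Subgroup.mul_mem _ ?_ ?_)
      · exact Subgroup.zpow_mem _ hj i
      · exact hinvU b hb _ hi
      · exact Subgroup.zpow_mem _ hi j
      · exact hinvU a ha _ hj
    intro s hs
    obtain ⟨m, hm⟩ := hgenW s hs
    set v := (w₀ ^ m)⁻¹ * s with hv
    have es : s = w₀ ^ m * v := by rw [hv]; group
    set t₀ := (b (a w₀))⁻¹ * a (b w₀) with ht₀'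
    have eY : a (b w₀) = b (a w₀) * t₀ := by rw [ht₀']; group
    have hYW : b (a w₀) ∈ W := hinvW b _ (hinvW a _ hw₀)
    have c3 : Commute (b (a w₀)) t₀ := hWc _ hYW _ (hUW ht₀)
    have e4 : a (b s) = (b (a w₀)) ^ m * t₀ ^ m * a (b v) := by
      rw [es, map_mul, map_mul, map_zpow, map_zpow, eY, c3.mul_zpow]
    have e5 : b (a s) = (b (a w₀)) ^ m * b (a v) := by
      rw [es, map_mul, map_mul, map_zpow, map_zpow]
    have e6 : a (b v) = b (a v) := F2 a ha b hb v hm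
    have e7 : (b (a s))⁻¹ * a (b s) = (b (a v))⁻¹ * t₀ ^ m * b (a v) := by
      rw [e4, e5, e6]; group
    rw [e7]
    have hbav : b (a v) ∈ Subgroup.zpowers u := hinvU b hb _ (hinvU a ha _ hm)
    exact Subgroup.mul_mem _ (Subgroup.mul_mem _ (Subgroup.inv_mem _ hbav)
      (Subgroup.zpow_mem _ ht₀ m)) hbav
  -- commutators lie in D
  have hcomm : ∀ a ∈ A, ∀ b ∈ A, a * b * a⁻¹ * b⁻¹ ∈ D := by
    intro a ha b hb
    have hgA : a * b * a⁻¹ * b⁻¹ ∈ A :=
      A.mul_mem (A.mul_mem (A.mul_mem ha hb) (A.inv_mem ha)) (A.inv_mem hb)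
    refine ⟨hgA, ?_⟩
    intro j hj r hr
    -- r = b (a s)
    set s := a⁻¹ (b⁻¹ r) with hs
    have hr' : r = b (a s) := by
      rw [hs, MulAut.apply_inv_self, MulAut.apply_inv_self]
    have hsj : s ∈ c j :=
      hinv j hj.le a⁻¹ (A.inv_mem ha) _ (hinv j hj.le b⁻¹ (A.inv_mem hb) _ hr)
    have hg : (a * b * a⁻¹ * b⁻¹) r = a (b s) := by
      rw [hs]; rfl
    rw [hg, hr']
    interval_cases j
    · rw [hc1]; exact F0 a b s
    · rw [hc1] at hsj; rw [hc2]; exact F1 a ha b hb s hsj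
    · rw [hc2] at hsj; rw [hc3, Subgroup.mem_bot, F2 a ha b hb s hsj]
      exact inv_mul_cancel _
  -- the quotient A / D is commutative
  haveI hDn' : (D.subgroupOf A).Normal :=
    ⟨fun n hn g => by
      rw [Subgroup.mem_subgroupOf] at hn ⊢
      exact hDn g.1 g.2 n.1 hn⟩
  have hQc : ∀ q₁ q₂ : ↥A ⧸ D.subgroupOf A, q₁ * q₂ = q₂ * q₁ := by
    intro q₁ q₂
    obtain ⟨a, rfl⟩ := QuotientGroup.mk_surjective q₁
    obtain ⟨b, rfl⟩ := QuotientGroup.mk_surjective q₂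
    rw [← QuotientGroup.mk_mul, ← QuotientGroup.mk_mul, QuotientGroup.eq, Subgroup.mem_subgroupOf]
    have := hcomm _ (A.inv_mem b.2) _ (A.inv_mem a.2)
    simpa [mul_assoc] using this
  -- membership of a power in D via the quotient
  have hQ1 : ∀ (β : ↥A) (m : ℕ), (QuotientGroup.mk β : ↥A ⧸ D.subgroupOf A) ^ m = 1 ↔
      (β : MulAut R) ^ m ∈ D := by
    intro β m
    rw [← QuotientGroup.mk_pow, QuotientGroup.eq_one_iff, Subgroup.mem_subgroupOf]
    rfl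
  -- the subgroup K
  let K : Subgroup (MulAut R) :=
    { carrier := {β | β ∈ A ∧ ∃ k : ℕ, β ^ p ^ k ∈ D}
      one_mem' := ⟨A.one_mem, 0, by simp [D.one_mem]⟩
      mul_mem' := by
        rintro β γ ⟨hβ, k, hk⟩ ⟨hγ, l, hl⟩
        refine ⟨A.mul_mem hβ hγ, k + l, ?_⟩
        have h1 := (hQ1 ⟨β, hβ⟩ (p ^ k)).mpr hk
        have h2 := (hQ1 ⟨γ, hγ⟩ (p ^ l)).mpr hl
        have h3 : (QuotientGroup.mk (⟨β, hβ⟩ * ⟨γ, hγ⟩ : ↥A) : ↥A ⧸ D.subgroupOf A) ^ p ^ (k + l)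
            = 1 := by
          rw [QuotientGroup.mk_mul, (show Commute _ _ from hQc _ _).mul_pow, pow_add, pow_mul, h1,
            one_pow, one_mul, mul_comm (p ^ k) (p ^ l), pow_mul, h2, one_pow]
        exact (hQ1 (⟨β, hβ⟩ * ⟨γ, hγ⟩) (p ^ (k + l))).mp h3
      inv_mem' := by
        rintro β ⟨hβ, k, hk⟩
        refine ⟨A.inv_mem hβ, k, ?_⟩
        rw [inv_pow]
        exact D.inv_mem hk }
  refine ⟨K, fun β hβ => hβ.1, ?_, ?_, ?_⟩
  · rintro α hα β ⟨hβ, k, hk⟩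
    refine ⟨A.mul_mem (A.mul_mem hα hβ) (A.inv_mem hα), k, ?_⟩
    rw [conj_pow]
    exact hDn α hα _ hk
  · rintro ⟨β, hβ, k, hk⟩
    obtain ⟨l, hl⟩ := hDp ⟨β ^ p ^ k, hk⟩
    refine ⟨k + l, ?_⟩
    have h1 : (β ^ p ^ k) ^ p ^ l = 1 := by
      simpa using congrArg Subtype.val hl
    apply Subtype.ext
    rw [Subgroup.coe_pow, Subgroup.coe_one, pow_add, pow_mul]
    exact h1
  · rintro β hβ ⟨k, hk⟩
    exact ⟨hβ, k, by rw [hk]; exact D.one_mem⟩

end Cfsg.Agent.Lib.Helper38.RkRes
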