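import Mathlib

/-!
# Sharply `k`-transitive actions: generic lemmas

`Sharp k G α`: the action of `G` on `α` is `k`-transitive and the stabilizer of every injective
`k`-tuple is trivial.  Main tool: for `t : G` and a permutation `σ` of the indices, the centralizer
of `t` acts regularly on the set of `k`-tuples `x` with `t • x = x ∘ σ`.
-/

set_option autoImplicit false

namespace Cfsg.Agent.Lib.Helper38

open MulAction

variable {G α : Type*} [Group G] [MulAction G α]

/-- sharply `k`-transitive -/
def Sharp (k : ℕ) (G α : Type*) [Group G] [MulAction G α] : Prop :=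
  IsMultiplyPretransitive G α k ∧ ∀ x : Fin k ↪ α, stabilizer G x = ⊥

theorem Sharp.exists_smul_eq {k : ℕ} (h : Sharp k G α) (x y : Fin k ↪ α) : ∃ g : G, g • x = y :=
  h.1.exists_smul_eq x y

theorem Sharp.eq_one {k : ℕ} (h : Sharp k G α) (x : Fin k ↪ α) (g : G) (hg : g • x = x) :
    g = 1 := by
  have h1 : g ∈ stabilizer G x := hg
  rw [h.2 x] at h1
  exact h1

theorem smul_perm_trans {k : ℕ} (g : G) (σ : Equiv.Perm (Fin k)) (x : Fin k ↪ α) :
    g • (σ.toEmbedding.trans x) = σ.toEmbedding.trans (g • x) := by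
  ext i
  simp [Function.Embedding.smul_apply]

/-- the centralizer of `t` acts regularly on the `k`-tuples `x` with `t • x = x ∘ σ` -/
theorem card_centralizer_eq {k : ℕ} (h : Sharp k G α) (t : G) (σ : Equiv.Perm (Fin k))
    (x₀ : Fin k ↪ α) (hx₀ : t • x₀ = σ.toEmbedding.trans x₀) :
    Nat.card (Subgroup.centralizer ({t} : Set G)) =
      Nat.card {x : Fin k ↪ α // t • x = σ.toEmbedding.trans x} := by
  apply Nat.card_congr
  refine Equiv.ofBijective (fun g => ⟨g.1 • x₀, ?_⟩) ⟨?_, ?_⟩
  · have hg := Subgroup.mem_centralizer_iff.1 g.2 t rfl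
    rw [← mul_smul, hg, mul_smul, hx₀, smul_perm_trans]
  · intro g g' hgg'
    have h1 : g.1 • x₀ = g'.1 • x₀ := congrArg Subtype.val hgg'
    have h2 : (g'.1⁻¹ * g.1) • x₀ = x₀ := by
      rw [mul_smul, h1, inv_smul_smul]
    have h3 := h.eq_one x₀ _ h2
    apply Subtype.ext
    exact (inv_mul_eq_one.1 h3).symm
  · rintro ⟨y, hy⟩
    obtain ⟨g, hg⟩ := h.exists_smul_eq x₀ y
    have hgc : g ∈ Subgroup.centralizer ({t} : Set G) := by
      rw [Subgroup.mem_centralizer_iff]
      intro s hs
      rw [Set.mem_singleton_iff] at hs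
      subst hs
      have h2 : (s⁻¹ * (g⁻¹ * (s * g))) • x₀ = x₀ := by
        rw [mul_smul, mul_smul, mul_smul, hg, hy, smul_perm_trans, ← hg, inv_smul_smul,
          ← hx₀, inv_smul_smul]
      have h3 := h.eq_one x₀ _ h2
      have h4 : g⁻¹ * (s * g) = s := by
        have := inv_mul_eq_one.1 h3
        exact this.symm
      calc s * g = g * (g⁻¹ * (s * g)) := by group
        _ = g * s := by rw [h4]
    exact ⟨⟨g, hgc⟩, Subtype.ext hg⟩

/-- an element acting on a tuple as an index involution is an involution -/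
theorem mul_self_eq_one_of_smul {k : ℕ} (h : Sharp k G α) (t : G) (σ : Equiv.Perm (Fin k))
    (hσ : σ * σ = 1) (x₀ : Fin k ↪ α) (hx₀ : t • x₀ = σ.toEmbedding.trans x₀) : t * t = 1 := by
  apply h.eq_one x₀
  rw [mul_smul, hx₀, smul_perm_trans, hx₀]
  ext i
  simp only [Function.Embedding.trans_apply, Equiv.coe_toEmbedding]
  rw [← Equiv.Perm.mul_apply, hσ, Equiv.Perm.one_apply]

/-- the stabilizer of a point in a sharply `(k+1)`-transitive action is sharply `k`-transitive
on the remaining points -/
theorem Sharp.ofStabilizer {k : ℕ} [Finite α] (h : Sharp (k + 1) G α) (hcard : k + 1 ≤ Nat.card α)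
    (ω : α) : Sharp k (stabilizer G ω) (SubMulAction.ofStabilizer G ω) := by
  have h1 : IsMultiplyPretransitive G α (k + 1) := h.1
  have h2 : IsMultiplyPretransitive G α 1 :=
    isMultiplyPretransitive_of_le (n := k + 1) (by omega) hcard
  have hpre : IsPretransitive G α := is_one_pretransitive_iff.1 h2
  refine ⟨(SubMulAction.ofStabilizer.isMultiplyPretransitive (G := G) (a := ω)).1 h1, ?_⟩
  intro x
  rw [eq_bot_iff]
  intro g hg
  rw [Subgroup.mem_bot]
  have hg' : g • x = x := hg
  have h3 : (g : G) • SubMulAction.ofStabilizer.snoc x = SubMulAction.ofStabilizer.snoc x := by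
    ext i
    rw [Function.Embedding.smul_apply]
    rcases Fin.eq_castSucc_or_eq_last i with ⟨j, rfl⟩ | rfl
    · rw [SubMulAction.ofStabilizer.snoc_castSucc]
      have h4 := congrArg (fun y : Fin k ↪ SubMulAction.ofStabilizer G ω => ((y j : _) : α)) hg'
      exact h4
    · rw [SubMulAction.ofStabilizer.snoc_last]
      exact g.2
  exact Subtype.ext (h.eq_one _ _ h3)

theorem card_ofStabilizer [Finite α] (ω : α) :
    Nat.card (SubMulAction.ofStabilizer G ω) + 1 = Nat.card α := by
  classical
  have : Fintype α := Fintype.ofFinite α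
  have e : (SubMulAction.ofStabilizer G ω) ≃ {a : α // a ≠ ω} :=
    Equiv.subtypeEquivRight (fun a => by simp [SubMulAction.mem_ofStabilizer_iff])
  rw [Nat.card_congr e, Nat.card_eq_fintype_card, Nat.card_eq_fintype_card, Fintype.card_subtype,
    Finset.filter_ne' Finset.univ ω, Finset.card_erase_of_mem (Finset.mem_univ ω), Finset.card_univ]
  have : 0 < Fintype.card α := Fintype.card_pos_iff.2 ⟨ω⟩
  omega

end Cfsg.Agent.Lib.Helper38
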