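import Mathlib
import Cfsg.Agent.Lib.Helper72.SolvableNormal

/-!
# General lemmas on pairs generating a solvable subgroup (helper38)

* `card_sol_congr`: the number of `y` with `⟨x, y⟩` solvable is invariant under isomorphisms.
* `exists_ne_one_conj_commute`: a nontrivial solvable subgroup `H` contains `n ≠ 1` commuting with
  all its `H`-conjugates.
* `isSolvable_closure_pair_of_inv`, `isSolvable_closure_pair_of_commute`,
  `isSolvable_closure_pair_of_sq`.
-/

set_option autoImplicit false

namespace Cfsg.Agent.Lib.Helper38.SolGen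

variable {G : Type*} [Group G]

theorem isSolvable_map_iff {G' : Type*} [Group G'] (φ : G ≃* G') (H : Subgroup G) :
    Group.IsSolvable ↥(H.map (φ : G →* G')) ↔ Group.IsSolvable ↥H := by
  constructor
  · intro h
    exact Group.isSolvable_of_surjective (f := (φ.subgroupMap H).symm.toMonoidHom)
      (φ.subgroupMap H).symm.surjective
  · intro h
    exact Group.isSolvable_of_surjective (f := (φ.subgroupMap H).toMonoidHom)
      (φ.subgroupMap H).surjective

theorem closure_pair_map {G' : Type*} [Group G'] (φ : G ≃* G') (x y : G) :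
    Subgroup.closure ({φ x, φ y} : Set G') =
      (Subgroup.closure ({x, y} : Set G)).map (φ : G →* G') := by
  rw [MonoidHom.map_closure]
  congr 1
  simp [Set.image_pair]

/-- transfer of solubilizer counts along an isomorphism -/
theorem card_sol_congr {G' : Type*} [Group G'] (φ : G ≃* G') (x : G) :
    Nat.card {y : G // Group.IsSolvable ↥(Subgroup.closure ({x, y} : Set G))} =
    Nat.card {y : G' // Group.IsSolvable ↥(Subgroup.closure ({φ x, y} : Set G'))} := by
  apply Nat.card_congr
  refine Equiv.subtypeEquiv φ.toEquiv ?_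
  intro y
  show _ ↔ Group.IsSolvable ↥(Subgroup.closure ({φ x, φ y} : Set G'))
  rw [closure_pair_map, isSolvable_map_iff]

/-- a nontrivial solvable subgroup contains a nontrivial element commuting with all its
conjugates under the subgroup -/
theorem exists_ne_one_conj_commute (H : Subgroup G) (hs : Group.IsSolvable ↥H) (hne : H ≠ ⊥) :
    ∃ n ∈ H, n ≠ 1 ∧ ∀ h ∈ H, (h * n * h⁻¹) * n = n * (h * n * h⁻¹) := by
  have : Nontrivial H := (Subgroup.nontrivial_iff_ne_bot H).mpr hne
  obtain ⟨K, hKn, hK, hab⟩ := Cfsg.Agent.Lib.Helper72.exists_normal_abelian_of_solvable hs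
  obtain ⟨k, hk, hk1⟩ := K.bot_or_exists_ne_one.resolve_left hK
  refine ⟨k, k.2, ?_, ?_⟩
  · intro h; exact hk1 (Subtype.ext h)
  · intro h hh
    have h1 : (⟨h, hh⟩ : H) * k * (⟨h, hh⟩ : H)⁻¹ ∈ K := hKn.conj_mem k hk ⟨h, hh⟩
    have h2 := hab _ h1 _ hk
    have h3 := congrArg Subtype.val h2
    simpa using h3

theorem isSolvable_of_le {H K : Subgroup G} (hHK : H ≤ K) (hK : Group.IsSolvable ↥K) :
    Group.IsSolvable ↥H :=
  Group.isSolvable_of_isSolvable_injective (f := Subgroup.inclusion hHK)
    (Subgroup.inclusion_injective hHK)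

theorem isSolvable_closure_pair_of_commute (a b : G) (h : a * b = b * a) :
    Group.IsSolvable ↥(Subgroup.closure ({a, b} : Set G)) := by
  have hc : ∀ x ∈ ({a, b} : Set G), ∀ y ∈ ({a, b} : Set G), x * y = y * x := by
    intro x hx y hy
    rcases hx with rfl | rfl <;> rcases hy with rfl | rfl
    · rfl
    · exact h
    · exact h.symm
    · rfl
  have := Subgroup.isMulCommutative_closure hc
  apply Group.isSolvable_of_comm
  intro p q
  exact mul_comm' p q

/-- if `b` inverts `a` then `⟨a, b⟩` is solvable -/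
theorem isSolvable_closure_pair_of_inv (a b : G) (h : b * a * b⁻¹ = a⁻¹) :
    Group.IsSolvable ↥(Subgroup.closure ({a, b} : Set G)) := by
  set H := Subgroup.closure ({a, b} : Set G) with hH
  have h' : b⁻¹ * a * b = a⁻¹ := by
    have e3 : b * a⁻¹ * b⁻¹ = a := by
      have : b * a⁻¹ * b⁻¹ = (b * a * b⁻¹)⁻¹ := by group
      rw [this, h, inv_inv]
    calc b⁻¹ * a * b = b⁻¹ * (b * a⁻¹ * b⁻¹) * b := by rw [e3]
      _ = a⁻¹ := by group
  have hbn : b ∈ Subgroup.normalizer ((Subgroup.zpowers a : Subgroup G) : Set G) := by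
    rw [Subgroup.mem_normalizer_iff]
    intro g
    constructor
    · rintro ⟨k, rfl⟩
      refine ⟨-k, ?_⟩
      show a ^ (-k) = b * a ^ k * b⁻¹
      have : b * a ^ k * b⁻¹ = (b * a * b⁻¹) ^ k := by
        rw [← MulAut.conj_apply, map_zpow, MulAut.conj_apply]
      rw [this, h, inv_zpow, zpow_neg]
    · rintro ⟨k, hk⟩
      refine ⟨-k, ?_⟩
      have hk' : a ^ k = b * g * b⁻¹ := hk
      show a ^ (-k) = g
      have : g = b⁻¹ * a ^ k * b := by rw [hk']; group
      rw [this]
      have : b⁻¹ * a ^ k * b = (b⁻¹ * a * b) ^ k := by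
        have := map_zpow (MulAut.conj b⁻¹) a k
        simpa [MulAut.conj_apply] using this
      rw [this, h', inv_zpow, zpow_neg]
  have han : a ∈ Subgroup.normalizer ((Subgroup.zpowers a : Subgroup G) : Set G) :=
    Subgroup.le_normalizer (Subgroup.mem_zpowers a)
  have hle : H ≤ Subgroup.normalizer ((Subgroup.zpowers a : Subgroup G) : Set G) := by
    rw [hH, Subgroup.closure_le]
    rintro x (rfl | rfl)
    · exact han
    · exact hbn
  have hCn : ((Subgroup.zpowers a).subgroupOf H).Normal :=
    Subgroup.normal_subgroupOf_of_le_normalizer hle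
  set C := (Subgroup.zpowers a).subgroupOf H with hC
  have haH : a ∈ H := Subgroup.subset_closure (by simp)
  have hbH : b ∈ H := Subgroup.subset_closure (by simp)
  -- the quotient is cyclic, generated by the image of `b`
  have htop : (⊤ : Subgroup (H ⧸ C)) ≤
      Subgroup.zpowers ((QuotientGroup.mk' C) ⟨b, hbH⟩) := by
    have h1 : (⊤ : Subgroup (H ⧸ C)) = (⊤ : Subgroup H).map (QuotientGroup.mk' C) := by
      exact (MonoidHom.range_eq_top.mpr (QuotientGroup.mk'_surjective C)).symm.trans
        (MonoidHom.range_eq_map _)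
    rw [h1, ← Subgroup.closure_closure_coe_preimage (k := ({a, b} : Set G)),
      MonoidHom.map_closure, Subgroup.closure_le]
    rintro _ ⟨⟨g, hg⟩, hgm, rfl⟩
    have hgm' : g = a ∨ g = b := hgm
    rcases hgm' with rfl | rfl
    · have : (QuotientGroup.mk' C) ⟨g, hg⟩ = 1 := by
        rw [QuotientGroup.mk'_apply, QuotientGroup.eq_one_iff, hC, Subgroup.mem_subgroupOf]
        exact Subgroup.mem_zpowers g
      rw [this]
      exact Subgroup.one_mem _
    · exact Subgroup.mem_zpowers _
  have hcomm : ∀ p q : H ⧸ C, p * q = q * p := by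
    intro p q
    obtain ⟨i, rfl⟩ := Subgroup.mem_zpowers_iff.mp (htop (Subgroup.mem_top p))
    obtain ⟨j, rfl⟩ := Subgroup.mem_zpowers_iff.mp (htop (Subgroup.mem_top q))
    rw [← zpow_add, ← zpow_add, add_comm]
  have hQ : Group.IsSolvable (H ⧸ C) := Group.isSolvable_of_comm hcomm
  have hCs : Group.IsSolvable C := by
    apply Group.isSolvable_of_comm
    rintro ⟨⟨p, hp⟩, hpC⟩ ⟨⟨q, hq⟩, hqC⟩
    rw [hC, Subgroup.mem_subgroupOf] at hpC hqC
    obtain ⟨i, rfl⟩ := Subgroup.mem_zpowers_iff.mp hpC
    obtain ⟨j, rfl⟩ := Subgroup.mem_zpowers_iff.mp hqC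
    apply Subtype.ext
    apply Subtype.ext
    show a ^ i * a ^ j = a ^ j * a ^ i
    rw [← zpow_add, ← zpow_add, add_comm]
  refine Group.isSolvable_of_ker_le_range C.subtype (QuotientGroup.mk' C) ?_
  rw [QuotientGroup.ker_mk', Subgroup.range_subtype]

/-- two involutions generate a solvable group -/
theorem isSolvable_closure_pair_of_sq (x y : G) (hx : x * x = 1) (hy : y * y = 1) :
    Group.IsSolvable ↥(Subgroup.closure ({x, y} : Set G)) := by
  have hxi : x⁻¹ = x := inv_eq_of_mul_eq_one_right hx
  have hyi : y⁻¹ = y := inv_eq_of_mul_eq_one_right hy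
  have h : x * (x * y) * x⁻¹ = (x * y)⁻¹ := by
    rw [mul_inv_rev, hxi, hyi, ← mul_assoc, hx, one_mul]
  have hs := isSolvable_closure_pair_of_inv (x * y) x h
  refine isSolvable_of_le ?_ hs
  rw [Subgroup.closure_le]
  rintro g (rfl | rfl)
  · exact Subgroup.subset_closure (by simp)
  · have h1 : x * g ∈ Subgroup.closure ({x * g, x} : Set G) := Subgroup.subset_closure (by simp)
    have h2 : x ∈ Subgroup.closure ({x * g, x} : Set G) := Subgroup.subset_closure (by simp)
    have hg := Subgroup.mul_mem _ (Subgroup.inv_mem _ h2) h1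
    simpa using hg

end Cfsg.Agent.Lib.Helper38.SolGen
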