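import Mathlib
import Cfsg.Agent.Lib.Helper41.SL2Torus
import Cfsg.Agent.Lib.Helper41.SL2OddMat

/-!
# Matrix computations in `SL₂(F)`, `char F = 2`, for the solubilizer count (helper38)
-/

set_option autoImplicit false

namespace Cfsg.Agent.Lib.Helper38.SolMat

open Cfsg.Agent.Lib.Helper41

variable {F : Type*} [Field F]

local notation "SL2" => Matrix.SpecialLinearGroup (Fin 2) F

theorem sl2_cases (g : SL2) : ∃ a b c d : F, a * d - b * c = 1 ∧ g.1 0 0 = a ∧ g.1 0 1 = b ∧
    g.1 1 0 = c ∧ g.1 1 1 = d :=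
  ⟨_, _, _, _, sl2_det g, rfl, rfl, rfl, rfl⟩

theorem upperU_00 (s : F) : (upperU s : SL2).1 0 0 = 1 := by simp [upperU]
theorem upperU_01 (s : F) : (upperU s : SL2).1 0 1 = s := by simp [upperU]
theorem upperU_10 (s : F) : (upperU s : SL2).1 1 0 = 0 := by simp [upperU]
theorem upperU_11 (s : F) : (upperU s : SL2).1 1 1 = 1 := by simp [upperU]
theorem lowerU_00 (s : F) : (lowerU s : SL2).1 0 0 = 1 := by simp [lowerU]
theorem lowerU_01 (s : F) : (lowerU s : SL2).1 0 1 = 0 := by simp [lowerU]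
theorem lowerU_10 (s : F) : (lowerU s : SL2).1 1 0 = s := by simp [lowerU]
theorem lowerU_11 (s : F) : (lowerU s : SL2).1 1 1 = 1 := by simp [lowerU]
theorem diagHom_00 (u : Fˣ) : (diagHom u : SL2).1 0 0 = (u : F) := by
  show ((diagHom u : SL2) : Matrix (Fin 2) (Fin 2) F) 0 0 = _
  rw [coe_diagHom]; simp
theorem diagHom_01 (u : Fˣ) : (diagHom u : SL2).1 0 1 = 0 := by
  show ((diagHom u : SL2) : Matrix (Fin 2) (Fin 2) F) 0 1 = _
  rw [coe_diagHom]; simp
theorem diagHom_10 (u : Fˣ) : (diagHom u : SL2).1 1 0 = 0 := by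
  show ((diagHom u : SL2) : Matrix (Fin 2) (Fin 2) F) 1 0 = _
  rw [coe_diagHom]; simp
theorem diagHom_11 (u : Fˣ) : (diagHom u : SL2).1 1 1 = ((u⁻¹ : Fˣ) : F) := by
  show ((diagHom u : SL2) : Matrix (Fin 2) (Fin 2) F) 1 1 = _
  rw [coe_diagHom]; simp

theorem one_00 : (1 : SL2).1 0 0 = 1 := by simp
theorem one_01 : (1 : SL2).1 0 1 = 0 := by simp
theorem one_10 : (1 : SL2).1 1 0 = 0 := by simp
theorem one_11 : (1 : SL2).1 1 1 = 1 := by simp

section CharTwo

variable [CharP F 2]

theorem two_eq_zero' : (2 : F) = 0 := CharTwo.two_eq_zero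

theorem eq_one_of_sq (r : F) (hr : r * r = 1) : r = 1 := by
  have h2 : (2 : F) = 0 := two_eq_zero'
  have : (r - 1) * (r - 1) = 0 := by linear_combination hr + (1 - r) * h2
  have := mul_self_eq_zero.mp this
  exact sub_eq_zero.mp this

/-- trace zero implies square one -/
theorem sq_eq_one_of_tr2 (g : SL2) (ht : tr2 g = 0) : g * g = 1 := by
  have h2 : (2 : F) = 0 := two_eq_zero'
  obtain ⟨a, b, c, d, hdet, h00, h01, h10, h11⟩ := sl2_cases g
  have ht' : a + d = 0 := by rw [← h00, ← h11]; exact ht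
  apply sl2_ext <;>
    simp only [mul_apply_00, mul_apply_01, mul_apply_10, mul_apply_11, one_00, one_01, one_10,
      one_11, h00, h01, h10, h11]
  · linear_combination (-1 : F) * hdet + a * ht' - h2
  · linear_combination b * ht'
  · linear_combination c * ht'
  · linear_combination (-1 : F) * hdet + d * ht' - h2

/-- square one implies trace zero -/
theorem tr2_eq_zero_of_sq (g : SL2) (h : g * g = 1) : tr2 g = 0 := by
  have h2 : (2 : F) = 0 := two_eq_zero'
  obtain ⟨a, b, c, d, hdet, h00, h01, h10, h11⟩ := sl2_cases g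
  have e00 := congrArg (fun A : SL2 => A.1 0 0) h
  have e01 := congrArg (fun A : SL2 => A.1 0 1) h
  have e10 := congrArg (fun A : SL2 => A.1 1 0) h
  have e11 := congrArg (fun A : SL2 => A.1 1 1) h
  simp only [mul_apply_00, mul_apply_01, mul_apply_10, mul_apply_11, one_00, one_01, one_10,
    one_11, h00, h01, h10, h11] at e00 e01 e10 e11
  show g.1 0 0 + g.1 1 1 = 0
  rw [h00, h11]
  by_contra ht
  have hb : b = 0 := by
    have : b * (a + d) = 0 := by linear_combination e01
    rcases mul_eq_zero.mp this with h | h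
    · exact h
    · exact absurd h ht
  have hc : c = 0 := by
    have : c * (a + d) = 0 := by linear_combination e10
    rcases mul_eq_zero.mp this with h | h
    · exact h
    · exact absurd h ht
  rw [hb, hc] at e00 e11
  have ha : a = 1 := eq_one_of_sq a (by linear_combination e00)
  have hd : d = 1 := eq_one_of_sq d (by linear_combination e11)
  apply ht
  rw [ha, hd]
  linear_combination h2

theorem not_isScalarMat_of_tr2_ne (n : SL2) (hn : tr2 n ≠ 0) : ¬ IsScalarMat n.1 := by
  have h2 : (2 : F) = 0 := two_eq_zero'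
  rintro ⟨-, -, h3⟩
  apply hn
  show n.1 0 0 + n.1 1 1 = 0
  rw [h3]
  linear_combination (n.1 1 1) * h2

theorem not_isScalarMat_of_ne_one (n : SL2) (hn : n ≠ 1) : ¬ IsScalarMat n.1 := by
  have h2 : (2 : F) = 0 := two_eq_zero'
  rintro ⟨h1, h2', h3⟩
  apply hn
  have hdet := sl2_det n
  rw [h1, h2', h3] at hdet
  have hd : n.1 1 1 = 1 := eq_one_of_sq _ (by linear_combination hdet)
  apply sl2_ext
  · rw [h3, hd, one_00]
  · rw [h1, one_01]
  · rw [h2', one_10]
  · rw [hd, one_11]

omit [CharP F 2] in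
theorem coe_mul_eq (g h : SL2) : (g * h : SL2).1 = g.1 * h.1 :=
  Matrix.SpecialLinearGroup.coe_mul g h

/-- an element with the same trace as `n` and commuting with `n` (`tr n ≠ 0`) is `n` or `n⁻¹` -/
theorem eq_or_eq_inv_of_commute' (n n' : SL2) (hn : tr2 n ≠ 0) (htr : tr2 n' = tr2 n)
    (hc : n' * n = n * n') : n' = n ∨ n' = n⁻¹ := by
  have h2 : (2 : F) = 0 := two_eq_zero'
  have hns := not_isScalarMat_of_tr2_ne n hn
  have hc' : n'.1 * n.1 = n.1 * n'.1 := by
    rw [← coe_mul_eq, hc, coe_mul_eq]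
  obtain ⟨α, β, hab⟩ := exists_eq_smul_add _ _ hns hc'
  have x00 := congrFun (congrFun hab 0) 0
  have x01 := congrFun (congrFun hab 0) 1
  have x10 := congrFun (congrFun hab 1) 0
  have x11 := congrFun (congrFun hab 1) 1
  simp at x00 x01 x10 x11
  obtain ⟨a, b, c, d, hdet, h00, h01, h10, h11⟩ := sl2_cases n
  have hdet' := sl2_det n'
  have hn' : a + d ≠ 0 := by rw [← h00, ← h11]; exact hn
  have htr' : n'.1 0 0 + n'.1 1 1 = a + d := by rw [← h00, ← h11]; exact htr
  rw [x00, x01, x10, x11] at hdet'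
  rw [x00, x11] at htr'
  rw [h00] at x00
  rw [h01] at x01
  rw [h10] at x10
  rw [h11] at x11
  rw [h00, h01, h10, h11] at hdet'
  rw [h00, h11] at htr'
  have hβ : β = 1 := by
    have : (β - 1) * (a + d) = 0 := by linear_combination htr' - α * h2
    rcases mul_eq_zero.mp this with h | h
    · exact sub_eq_zero.mp h
    · exact absurd h hn'
  subst hβ
  have hα : α * (α + (a + d)) = 0 := by linear_combination hdet' - hdet
  rcases mul_eq_zero.mp hα with h | h
  · left
    apply sl2_ext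
    · rw [x00, h00, h]; ring
    · rw [x01, h01]; ring
    · rw [x10, h10]; ring
    · rw [x11, h11, h]; ring
  · right
    apply sl2_ext
    · rw [x00, inv_apply_00, h11]; linear_combination h - d * h2
    · rw [x01, inv_apply_01, h01]; linear_combination b * h2
    · rw [x10, inv_apply_10, h10]; linear_combination c * h2
    · rw [x11, inv_apply_11, h00]; linear_combination h - a * h2

/-- an element inverting `n` (`tr n ≠ 0`) has trace zero -/
theorem tr2_eq_zero_of_inverts (n h : SL2) (hn : tr2 n ≠ 0) (hinv : h * n = n⁻¹ * h) :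
    tr2 h = 0 := by
  have h2 : (2 : F) = 0 := two_eq_zero'
  obtain ⟨e, f, g, k, hdetn, n00, n01, n10, n11⟩ := sl2_cases n
  obtain ⟨a, b, c, d, hdeth, h00, h01, h10, h11⟩ := sl2_cases h
  have e00 := congrArg (fun A : SL2 => A.1 0 0) hinv
  have e11 := congrArg (fun A : SL2 => A.1 1 1) hinv
  simp only [mul_apply_00, mul_apply_11, inv_apply_00, inv_apply_01, inv_apply_10, inv_apply_11,
    n00, n01, n10, n11, h00, h01, h10, h11] at e00 e11
  have hn' : e + k ≠ 0 := by rw [← n00, ← n11]; exact hn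
  show h.1 0 0 + h.1 1 1 = 0
  rw [h00, h11]
  have : (a + d) * (e + k) = 0 := by linear_combination e00 - e11 + (k * (a + d)) * h2
  rcases mul_eq_zero.mp this with h | h
  · exact h
  · exact absurd h hn'

/-- an element commuting with an involution has trace zero -/
theorem tr2_eq_zero_of_commute_invol (u g : SL2) (hu : tr2 u = 0) (hu1 : u ≠ 1)
    (hc : g * u = u * g) : tr2 g = 0 := by
  have h2 : (2 : F) = 0 := two_eq_zero'
  have hns := not_isScalarMat_of_ne_one u hu1
  have hc' : g.1 * u.1 = u.1 * g.1 := by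
    rw [← coe_mul_eq, hc, coe_mul_eq]
  obtain ⟨α, β, hab⟩ := exists_eq_smul_add _ _ hns hc'
  have x00 := congrFun (congrFun hab 0) 0
  have x11 := congrFun (congrFun hab 1) 1
  simp at x00 x11
  show g.1 0 0 + g.1 1 1 = 0
  have hu' : u.1 0 0 + u.1 1 1 = 0 := hu
  rw [x00, x11]
  linear_combination β * hu' + α * h2

/-- two elements commuting with `n ≠ 1` commute -/
theorem commute_of_commute_ne_one (n g h : SL2) (hn : n ≠ 1) (hg : g * n = n * g)
    (hh : h * n = n * h) : g * h = h * g := by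
  have hns := not_isScalarMat_of_ne_one n hn
  have hg' : g.1 * n.1 = n.1 * g.1 := by rw [← coe_mul_eq, hg, coe_mul_eq]
  have hh' : h.1 * n.1 = n.1 * h.1 := by rw [← coe_mul_eq, hh, coe_mul_eq]
  obtain ⟨α, β, hab⟩ := exists_eq_smul_add _ _ hns hg'
  obtain ⟨γ, δ, hcd⟩ := exists_eq_smul_add _ _ hns hh'
  apply Subtype.ext
  rw [coe_mul_eq, coe_mul_eq, hab, hcd]
  simp only [add_mul, mul_add, smul_mul_assoc, mul_smul_comm, one_mul, mul_one, smul_smul,
    smul_add]
  rw [mul_comm γ α, mul_comm δ α, mul_comm γ β, mul_comm δ β]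
  abel

end CharTwo

end Cfsg.Agent.Lib.Helper38.SolMat
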