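import Mathlib
import Cfsg.Agent.Lib.Helper38.SolMat

/-!
# More matrix computations in `SL₂(F)`, `char F = 2` (helper38)

Conjugates commuting with the original element: consequences.
-/

set_option autoImplicit false

namespace Cfsg.Agent.Lib.Helper38.SolMat

open Cfsg.Agent.Lib.Helper41

variable {F : Type*} [Field F]

local notation "SL2" => Matrix.SpecialLinearGroup (Fin 2) F

/-- if the conjugate of `upperU s` by `h` commutes with `upperU s` then `h` is upper triangular -/
theorem lower_zero_of_conjComm_upperU (s : F) (hs : s ≠ 0) (h : SL2)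
    (hP : (h * upperU s * h⁻¹) * upperU s = upperU s * (h * upperU s * h⁻¹)) : h.1 1 0 = 0 := by
  obtain ⟨a, b, c, d, hdeth, h00, h01, h10, h11⟩ := sl2_cases h
  have e00 := congrArg (fun A : SL2 => A.1 0 0) hP
  simp only [mul_apply_00, mul_apply_01, mul_apply_10, mul_apply_11, inv_apply_00, inv_apply_01,
    inv_apply_10, inv_apply_11, upperU_00, upperU_01, upperU_10, upperU_11,
    h00, h01, h10, h11] at e00
  rw [h10]
  have : (s * c) * (s * c) = 0 := by linear_combination e00
  have := mul_self_eq_zero.mp this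
  rcases mul_eq_zero.mp this with h | h
  · exact absurd h hs
  · exact h

/-- if the conjugate of `lowerU s` by `h` commutes with `lowerU s` then `h` is lower triangular -/
theorem upper_zero_of_conjComm_lowerU (s : F) (hs : s ≠ 0) (h : SL2)
    (hP : (h * lowerU s * h⁻¹) * lowerU s = lowerU s * (h * lowerU s * h⁻¹)) : h.1 0 1 = 0 := by
  obtain ⟨a, b, c, d, hdeth, h00, h01, h10, h11⟩ := sl2_cases h
  have e11 := congrArg (fun A : SL2 => A.1 1 1) hP
  simp only [mul_apply_00, mul_apply_01, mul_apply_10, mul_apply_11, inv_apply_00, inv_apply_01,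
    inv_apply_10, inv_apply_11, lowerU_00, lowerU_01, lowerU_10, lowerU_11,
    h00, h01, h10, h11] at e11
  rw [h01]
  have : (s * b) * (s * b) = 0 := by linear_combination e11
  have := mul_self_eq_zero.mp this
  rcases mul_eq_zero.mp this with h | h
  · exact absurd h hs
  · exact h

section CharTwo

variable [CharP F 2]

/-- a trace-zero upper triangular element is upper unitriangular -/
theorem eq_upperU_of_lower_zero (u : SL2) (hu : tr2 u = 0) (hc : u.1 1 0 = 0) :
    u = upperU (u.1 0 1) := by
  have h2 : (2 : F) = 0 := two_eq_zero'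
  obtain ⟨a, b, c, d, hdet, h00, h01, h10, h11⟩ := sl2_cases u
  have hu' : a + d = 0 := by rw [← h00, ← h11]; exact hu
  have hc' : c = 0 := by rw [← h10]; exact hc
  subst hc'
  have ha : a = 1 := eq_one_of_sq a (by linear_combination a * hu' - hdet - h2)
  have hd : d = 1 := eq_one_of_sq d (by linear_combination d * hu' - hdet - h2)
  apply sl2_ext
  · rw [upperU_00, h00, ha]
  · rw [upperU_01]
  · rw [upperU_10, h10]
  · rw [upperU_11, h11, hd]

/-- a trace-zero lower triangular element is lower unitriangular -/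
theorem eq_lowerU_of_upper_zero (u : SL2) (hu : tr2 u = 0) (hb : u.1 0 1 = 0) :
    u = lowerU (u.1 1 0) := by
  have h2 : (2 : F) = 0 := two_eq_zero'
  obtain ⟨a, b, c, d, hdet, h00, h01, h10, h11⟩ := sl2_cases u
  have hu' : a + d = 0 := by rw [← h00, ← h11]; exact hu
  have hb' : b = 0 := by rw [← h01]; exact hb
  subst hb'
  have ha : a = 1 := eq_one_of_sq a (by linear_combination a * hu' - hdet - h2)
  have hd : d = 1 := eq_one_of_sq d (by linear_combination d * hu' - hdet - h2)
  apply sl2_ext
  · rw [lowerU_00, h00, ha]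
  · rw [lowerU_01, h01]
  · rw [lowerU_10]
  · rw [lowerU_11, h11, hd]

omit [CharP F 2] in
theorem upperU_zero : (upperU (0 : F) : SL2) = 1 := by
  apply sl2_ext <;> simp [upperU]

omit [CharP F 2] in
theorem lowerU_zero : (lowerU (0 : F) : SL2) = 1 := by
  apply sl2_ext <;> simp [lowerU]

/-- if the conjugate of the involution `u` by `upperU t` commutes with `u`, then `u` is upper
triangular -/
theorem lower_zero_of_conjComm_by_upperU (t : F) (ht : t ≠ 0) (u : SL2) (hu : tr2 u = 0)
    (hP : (upperU t * u * (upperU t)⁻¹) * u = u * (upperU t * u * (upperU t)⁻¹)) :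
    u.1 1 0 = 0 := by
  have h2 : (2 : F) = 0 := two_eq_zero'
  obtain ⟨a, b, c, d, hdet, h00, h01, h10, h11⟩ := sl2_cases u
  have hu' : a + d = 0 := by rw [← h00, ← h11]; exact hu
  have e00 := congrArg (fun A : SL2 => A.1 0 0) hP
  simp only [mul_apply_00, mul_apply_01, mul_apply_10, mul_apply_11, inv_apply_00, inv_apply_01,
    inv_apply_10, inv_apply_11, upperU_00, upperU_01, upperU_10, upperU_11,
    h00, h01, h10, h11] at e00
  rw [h10]
  have : (t * c) * (t * c) = 0 := by
    linear_combination (-1 : F) * e00 + (t * c) * hu' - (a * t * c) * h2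
  have := mul_self_eq_zero.mp this
  rcases mul_eq_zero.mp this with h | h
  · exact absurd h ht
  · exact h

/-- if the conjugate of the involution `u` by a nontrivial diagonal element commutes with `u`,
then `u` is triangular -/
theorem mul_eq_zero_of_conjComm_by_diag (l : Fˣ) (hl : l ≠ 1) (u : SL2)
    (hP : (diagHom l * u * (diagHom l)⁻¹) * u = u * (diagHom l * u * (diagHom l)⁻¹)) :
    u.1 0 1 * u.1 1 0 = 0 := by
  have h2 : (2 : F) = 0 := two_eq_zero'
  obtain ⟨a, b, c, d, hdet, h00, h01, h10, h11⟩ := sl2_cases u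
  have e00 := congrArg (fun A : SL2 => A.1 0 0) hP
  simp only [mul_apply_00, mul_apply_01, mul_apply_10, mul_apply_11, inv_apply_00, inv_apply_01,
    inv_apply_10, inv_apply_11, diagHom_00, diagHom_01, diagHom_10, diagHom_11,
    h00, h01, h10, h11] at e00
  rw [h01, h10]
  have hlm : (l : F) * ((l⁻¹ : Fˣ) : F) = 1 := by
    rw [← Units.val_mul, mul_inv_cancel, Units.val_one]
  set m : F := ((l⁻¹ : Fˣ) : F) with hm
  have h1 : ((l : F) * (l : F) - m * m) * (b * c) = 0 := by linear_combination e00
  rcases mul_eq_zero.mp h1 with h | h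
  · exfalso
    apply hl
    have h4 : ((l : F) * (l : F)) * ((l : F) * (l : F)) = 1 := by
      linear_combination ((l : F) * (l : F)) * h + (1 + (l : F) * m) * hlm
    have h5 := eq_one_of_sq _ h4
    have h6 := eq_one_of_sq _ h5
    exact Units.ext h6
  · exact h

/-- every involution is conjugate to an upper unitriangular matrix -/
theorem exists_conj_upperU' (u : SL2) (hu : tr2 u = 0) (hu1 : u ≠ 1) :
    ∃ (g : SL2) (s : F), s ≠ 0 ∧ g⁻¹ * u * g = upperU s := by
  have h2 : (2 : F) = 0 := two_eq_zero'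
  by_cases hc : u.1 1 0 = 0
  · refine ⟨1, u.1 0 1, ?_, ?_⟩
    · intro h0
      apply hu1
      rw [eq_upperU_of_lower_zero u hu hc, h0, upperU_zero]
    · rw [inv_one, one_mul, mul_one]
      exact eq_upperU_of_lower_zero u hu hc
  · obtain ⟨a, b, c, d, hdet, h00, h01, h10, h11⟩ := sl2_cases u
    have hu' : a + d = 0 := by rw [← h00, ← h11]; exact hu
    have hc' : c ≠ 0 := by rw [← h10]; exact hc
    have hgdet : (!![a + 1, 1 / c; c, 0] : Matrix (Fin 2) (Fin 2) F).det = 1 := by
      rw [Matrix.det_fin_two]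
      simp only [Matrix.of_apply, Matrix.cons_val', Matrix.cons_val_zero, Matrix.cons_val_one,
        Matrix.cons_val_fin_one]
      field_simp
      linear_combination (-1 : F) * h2
    set g : SL2 := ⟨!![a + 1, 1 / c; c, 0], hgdet⟩ with hg
    have g00 : g.1 0 0 = a + 1 := by simp [hg]
    have g01 : g.1 0 1 = 1 / c := by simp [hg]
    have g10 : g.1 1 0 = c := by simp [hg]
    have g11 : g.1 1 1 = 0 := by simp [hg]
    refine ⟨g, 1 / c, one_div_ne_zero hc', ?_⟩
    have key : u * g = g * upperU (1 / c) := by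
      apply sl2_ext <;>
        simp only [mul_apply_00, mul_apply_01, mul_apply_10, mul_apply_11, upperU_00, upperU_01,
          upperU_10, upperU_11, h00, h01, h10, h11, g00, g01, g10, g11]
      · linear_combination a * hu' - hdet - h2
      · field_simp
        linear_combination (-1 : F) * h2
      · linear_combination c * hu'
      · field_simp
        ring
    calc g⁻¹ * u * g = g⁻¹ * (u * g) := by group
      _ = g⁻¹ * (g * upperU (1 / c)) := by rw [key]
      _ = upperU (1 / c) := by group

/-- `x`, with nonzero trace, and `y` both normalise `⟨n⟩` up to inversion, `tr n ≠ 0`: then `y`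
centralises or inverts `x`. -/
theorem conj_eq_or_inv_of_conjComm (x y n : SL2) (hx : tr2 x ≠ 0) (hn1 : n ≠ 1) (hn : tr2 n ≠ 0)
    (hPx : (x * n * x⁻¹) * n = n * (x * n * x⁻¹))
    (hPy : (y * n * y⁻¹) * n = n * (y * n * y⁻¹)) :
    y * x * y⁻¹ = x ∨ y * x * y⁻¹ = x⁻¹ := by
  have hxn : Commute x n := by
    rcases eq_or_eq_inv_of_commute' n (x * n * x⁻¹) hn (tr2_conj x n) hPx with h | h
    · exact mul_inv_eq_iff_eq_mul.mp h
    · exfalso
      apply hx
      exact tr2_eq_zero_of_inverts n x hn (mul_inv_eq_iff_eq_mul.mp h)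
  have hx'n : Commute (y * x * y⁻¹) n := by
    have h0 : Commute (y * x * y⁻¹) (y * n * y⁻¹) := (Commute.conj_iff y).mpr hxn
    rcases eq_or_eq_inv_of_commute' n (y * n * y⁻¹) hn (tr2_conj y n) hPy with h | h
    · rwa [h] at h0
    · rw [h] at h0
      exact (Commute.inv_right_iff).mp h0
  have hcomm : (y * x * y⁻¹) * x = x * (y * x * y⁻¹) :=
    commute_of_commute_ne_one n _ _ hn1 hx'n hxn
  exact eq_or_eq_inv_of_commute' x (y * x * y⁻¹) hx (tr2_conj y x) hcomm

/-- `x` an involution, `y` and `x y` normalise `⟨n⟩` up to inversion, `tr n ≠ 0`: then `y` or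
`x y` has trace zero. -/
theorem tr2_eq_zero_or_of_conjComm (x y n : SL2) (hx : tr2 x = 0) (hx1 : x ≠ 1) (hn : tr2 n ≠ 0)
    (hPy : (y * n * y⁻¹) * n = n * (y * n * y⁻¹))
    (hPxy : ((x * y) * n * (x * y)⁻¹) * n = n * ((x * y) * n * (x * y)⁻¹)) :
    tr2 y = 0 ∨ tr2 (x * y) = 0 := by
  rcases eq_or_eq_inv_of_commute' n (y * n * y⁻¹) hn (tr2_conj y n) hPy with h | h
  · have hyn : Commute y n := mul_inv_eq_iff_eq_mul.mp h
    rcases eq_or_eq_inv_of_commute' n ((x * y) * n * (x * y)⁻¹) hn (tr2_conj (x * y) n) hPxy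
      with h' | h'
    · exfalso
      have hxyn : Commute (x * y) n := mul_inv_eq_iff_eq_mul.mp h'
      have hxn : Commute x n := by
        have := hxyn.mul_left hyn.inv_left
        simpa using this
      exact hn (tr2_eq_zero_of_commute_invol x n hx hx1 hxn.symm.eq)
    · right
      exact tr2_eq_zero_of_inverts n (x * y) hn (mul_inv_eq_iff_eq_mul.mp h')
  · left
    exact tr2_eq_zero_of_inverts n y hn (mul_inv_eq_iff_eq_mul.mp h)

end CharTwo

end Cfsg.Agent.Lib.Helper38.SolMat
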