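import Mathlib
import Cfsg.Agent.Lib.Helper38.SolGen
import Cfsg.Agent.Lib.Helper38.SolMat2
import Cfsg.Agent.Lib.Helper41.SL2Borel

/-!
# Pairs generating a solvable subgroup of `SL₂(F)`, `char F = 2` (helper38)

Explicit description of the set of `y` such that `⟨x, y⟩` is solvable, for `x` an involution
(`isSolvable_upperU_iff`), a split semisimple element (`isSolvable_diag_iff`), and a nonsplit
semisimple element (`isSolvable_nonsplit_iff`).
-/

set_option autoImplicit false

namespace Cfsg.Agent.Lib.Helper38.SolStruct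

open Cfsg.Agent.Lib.Helper41 Cfsg.Agent.Lib.Helper38.SolMat Cfsg.Agent.Lib.Helper38.SolGen

variable {F : Type*} [Field F]

local notation "SL2" => Matrix.SpecialLinearGroup (Fin 2) F

theorem isSolvable_of_hom_comm {H A : Type*} [Group H] [CommGroup A] (φ : H →* A)
    (hk : ∀ a b : H, φ a = 1 → φ b = 1 → a * b = b * a) : Group.IsSolvable H := by
  have hker : Group.IsSolvable φ.ker := by
    apply Group.isSolvable_of_comm
    rintro ⟨a, ha⟩ ⟨b, hb⟩
    apply Subtype.ext
    exact hk a b (MonoidHom.mem_ker.mp ha) (MonoidHom.mem_ker.mp hb)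
  refine Group.isSolvable_of_ker_le_range φ.ker.subtype φ ?_
  rw [Subgroup.range_subtype]

/-- the lower triangular subgroup -/
def lowerSub (F : Type*) [Field F] : Subgroup (Matrix.SpecialLinearGroup (Fin 2) F) where
  carrier := {g | g.1 0 1 = 0}
  one_mem' := by simp
  mul_mem' := by
    intro g h hg hh
    simp only [Set.mem_ofPred_eq] at hg hh ⊢
    rw [mul_apply_01, hg, hh]; ring
  inv_mem' := by
    intro g hg
    simp only [Set.mem_ofPred_eq] at hg ⊢
    rw [inv_apply_01, hg]; ring

theorem mem_lowerSub {g : SL2} : g ∈ lowerSub F ↔ g.1 0 1 = 0 := Iff.rfl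

theorem isSolvable_borelSub' : Group.IsSolvable (borelSub F) := by
  have hne : ∀ g : borelSub F, g.1.1 0 0 ≠ 0 := by
    intro g h0
    have := sl2_det g.1
    have h10 : g.1.1 1 0 = 0 := g.2
    rw [h10, h0] at this
    simp at this
  let φ : borelSub F →* Fˣ :=
    { toFun := fun g => Units.mk0 (g.1.1 0 0) (hne g)
      map_one' := by
        apply Units.ext
        simp
      map_mul' := by
        intro g h
        apply Units.ext
        have h10 : h.1.1 1 0 = 0 := h.2
        show (g * h).1.1 0 0 = g.1.1 0 0 * h.1.1 0 0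
        rw [Subgroup.coe_mul, mul_apply_00, h10, mul_zero, add_zero] }
  apply isSolvable_of_hom_comm φ
  intro g h hg hh
  have g00 : g.1.1 0 0 = 1 := congrArg Units.val hg
  have h00 : h.1.1 0 0 = 1 := congrArg Units.val hh
  have g10 : g.1.1 1 0 = 0 := g.2
  have h10 : h.1.1 1 0 = 0 := h.2
  have g11 : g.1.1 1 1 = 1 := by
    have := sl2_det g.1
    rw [g00, g10] at this
    linear_combination this
  have h11 : h.1.1 1 1 = 1 := by
    have := sl2_det h.1
    rw [h00, h10] at this
    linear_combination this
  apply Subtype.ext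
  rw [Subgroup.coe_mul, Subgroup.coe_mul]
  apply sl2_ext <;>
    simp only [mul_apply_00, mul_apply_01, mul_apply_10, mul_apply_11, g00, g10, g11, h00, h10,
      h11] <;> ring

theorem isSolvable_lowerSub : Group.IsSolvable (lowerSub F) := by
  have hne : ∀ g : lowerSub F, g.1.1 0 0 ≠ 0 := by
    intro g h0
    have := sl2_det g.1
    have h01 : g.1.1 0 1 = 0 := g.2
    rw [h01, h0] at this
    simp at this
  let φ : lowerSub F →* Fˣ :=
    { toFun := fun g => Units.mk0 (g.1.1 0 0) (hne g)
      map_one' := by
        apply Units.ext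
        simp
      map_mul' := by
        intro g h
        apply Units.ext
        have g01 : g.1.1 0 1 = 0 := g.2
        show (g * h).1.1 0 0 = g.1.1 0 0 * h.1.1 0 0
        rw [Subgroup.coe_mul, mul_apply_00, g01, zero_mul, add_zero] }
  apply isSolvable_of_hom_comm φ
  intro g h hg hh
  have g00 : g.1.1 0 0 = 1 := congrArg Units.val hg
  have h00 : h.1.1 0 0 = 1 := congrArg Units.val hh
  have g01 : g.1.1 0 1 = 0 := g.2
  have h01 : h.1.1 0 1 = 0 := h.2
  have g11 : g.1.1 1 1 = 1 := by
    have := sl2_det g.1
    rw [g00, g01] at this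
    linear_combination this
  have h11 : h.1.1 1 1 = 1 := by
    have := sl2_det h.1
    rw [h00, h01] at this
    linear_combination this
  apply Subtype.ext
  rw [Subgroup.coe_mul, Subgroup.coe_mul]
  apply sl2_ext <;>
    simp only [mul_apply_00, mul_apply_01, mul_apply_10, mul_apply_11, g00, g01, g11, h00, h01,
      h11] <;> ring

theorem isSolvable_closure_pair_of_mem (K : Subgroup SL2) (hK : Group.IsSolvable K) (x y : SL2)
    (hx : x ∈ K) (hy : y ∈ K) : Group.IsSolvable ↥(Subgroup.closure ({x, y} : Set SL2)) := by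
  refine isSolvable_of_le ?_ hK
  rw [Subgroup.closure_le]
  rintro g (rfl | rfl)
  · exact hx
  · exact hy

section CharTwo

variable [CharP F 2]

theorem tr2_upperU (t : F) : tr2 (upperU t : SL2) = 0 := by
  show (upperU t : SL2).1 0 0 + (upperU t : SL2).1 1 1 = 0
  rw [upperU_00, upperU_11]
  linear_combination (two_eq_zero' : (2 : F) = 0)

omit [CharP F 2] in
theorem upperU_ne_one (t : F) (ht : t ≠ 0) : (upperU t : SL2) ≠ 1 := by
  intro h
  have := congrArg (fun A : SL2 => A.1 0 1) h
  simp only [upperU_01, one_01] at this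
  exact ht this

omit [CharP F 2] in
theorem lowerU_ne_one (t : F) (ht : t ≠ 0) : (lowerU t : SL2) ≠ 1 := by
  intro h
  have := congrArg (fun A : SL2 => A.1 1 0) h
  simp only [lowerU_10, one_10] at this
  exact ht this

/-- the solubilizer of an involution -/
theorem isSolvable_upperU_iff (t : F) (ht : t ≠ 0) (y : SL2) :
    Group.IsSolvable ↥(Subgroup.closure ({upperU t, y} : Set SL2)) ↔
      (y.1 1 0 = 0 ∨ tr2 y = 0 ∨ tr2 (upperU t * y) = 0) := by
  set x : SL2 := upperU t with hx
  have hx0 : tr2 x = 0 := tr2_upperU t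
  have hx1 : x ≠ 1 := upperU_ne_one t ht
  have hxx : x * x = 1 := sq_eq_one_of_tr2 x hx0
  constructor
  · intro hs
    set H := Subgroup.closure ({x, y} : Set SL2) with hH
    have hxH : x ∈ H := Subgroup.subset_closure (by simp)
    have hyH : y ∈ H := Subgroup.subset_closure (by simp)
    have hne : H ≠ ⊥ := by
      intro h
      rw [h, Subgroup.mem_bot] at hxH
      exact hx1 hxH
    obtain ⟨n, hnH, hn1, hconj⟩ := exists_ne_one_conj_commute H hs hne
    by_cases htn : tr2 n = 0
    · left
      have h10 := lower_zero_of_conjComm_by_upperU t ht n htn (hconj x hxH)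
      have hn := eq_upperU_of_lower_zero n htn h10
      have hs0 : n.1 0 1 ≠ 0 := by
        intro h0
        apply hn1
        rw [hn, h0, upperU_zero]
      have hy := hconj y hyH
      rw [hn] at hy
      exact lower_zero_of_conjComm_upperU _ hs0 y hy
    · right
      exact tr2_eq_zero_or_of_conjComm x y n hx0 hx1 htn (hconj y hyH)
        (hconj (x * y) (H.mul_mem hxH hyH))
  · rintro (h | h | h)
    · exact isSolvable_closure_pair_of_mem (borelSub F) isSolvable_borelSub' x y
        (by rw [mem_borelSub]; exact upperU_10 t) (by rw [mem_borelSub]; exact h)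
    · exact isSolvable_closure_pair_of_sq x y hxx (sq_eq_one_of_tr2 y h)
    · have hs := isSolvable_closure_pair_of_sq x (x * y) hxx (sq_eq_one_of_tr2 _ h)
      refine isSolvable_of_le ?_ hs
      rw [Subgroup.closure_le]
      rintro g (rfl | rfl)
      · exact Subgroup.subset_closure (by simp)
      · have h1 : x * g ∈ Subgroup.closure ({x, x * g} : Set SL2) :=
          Subgroup.subset_closure (by simp)
        have h2 : x ∈ Subgroup.closure ({x, x * g} : Set SL2) :=
          Subgroup.subset_closure (by simp)
        have hg := Subgroup.mul_mem _ (Subgroup.inv_mem _ h2) h1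
        simpa using hg

theorem unit_ne_inv (l : Fˣ) (hl : l ≠ 1) : (l : F) ≠ ((l⁻¹ : Fˣ) : F) := by
  intro h
  apply hl
  have hlm : (l : F) * ((l⁻¹ : Fˣ) : F) = 1 := by
    rw [← Units.val_mul, mul_inv_cancel, Units.val_one]
  rw [← h] at hlm
  exact Units.ext (eq_one_of_sq _ hlm)

theorem tr2_diagHom_ne_zero (l : Fˣ) (hl : l ≠ 1) : tr2 (diagHom l : SL2) ≠ 0 := by
  intro h
  have h2 : (2 : F) = 0 := two_eq_zero'
  have h' : (diagHom l : SL2).1 0 0 + (diagHom l : SL2).1 1 1 = 0 := h
  rw [diagHom_00, diagHom_11] at h'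
  apply unit_ne_inv l hl
  linear_combination h' - ((l⁻¹ : Fˣ) : F) * h2

/-- the solubilizer of a split semisimple element -/
theorem isSolvable_diag_iff (l : Fˣ) (hl : l ≠ 1) (y : SL2) :
    Group.IsSolvable ↥(Subgroup.closure ({diagHom l, y} : Set SL2)) ↔
      (y.1 1 0 = 0 ∨ y.1 0 1 = 0 ∨ (y.1 0 0 = 0 ∧ y.1 1 1 = 0)) := by
  set x : SL2 := diagHom l with hx
  have hxt : tr2 x ≠ 0 := tr2_diagHom_ne_zero l hl
  have hlne := unit_ne_inv l hl
  have hsub : (l : F) - ((l⁻¹ : Fˣ) : F) ≠ 0 := sub_ne_zero.mpr hlne
  have hx1 : x ≠ 1 := by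
    intro h
    apply hl
    have := congrArg (fun A : SL2 => A.1 0 0) h
    simp only [hx, diagHom_00, one_00] at this
    exact Units.ext this
  constructor
  · intro hs
    set H := Subgroup.closure ({x, y} : Set SL2) with hH
    have hxH : x ∈ H := Subgroup.subset_closure (by simp)
    have hyH : y ∈ H := Subgroup.subset_closure (by simp)
    have hne : H ≠ ⊥ := by
      intro h
      rw [h, Subgroup.mem_bot] at hxH
      exact hx1 hxH
    obtain ⟨n, hnH, hn1, hconj⟩ := exists_ne_one_conj_commute H hs hne
    by_cases htn : tr2 n = 0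
    · have h0 := mul_eq_zero_of_conjComm_by_diag l hl n (hconj x hxH)
      rcases mul_eq_zero.mp h0 with h01 | h10
      · right; left
        have hn := eq_lowerU_of_upper_zero n htn h01
        have hs0 : n.1 1 0 ≠ 0 := by
          intro h0
          apply hn1
          rw [hn, h0, lowerU_zero]
        have hy := hconj y hyH
        rw [hn] at hy
        exact upper_zero_of_conjComm_lowerU _ hs0 y hy
      · left
        have hn := eq_upperU_of_lower_zero n htn h10
        have hs0 : n.1 0 1 ≠ 0 := by
          intro h0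
          apply hn1
          rw [hn, h0, upperU_zero]
        have hy := hconj y hyH
        rw [hn] at hy
        exact lower_zero_of_conjComm_upperU _ hs0 y hy
    · rcases conj_eq_or_inv_of_conjComm x y n hxt hn1 htn (hconj x hxH) (hconj y hyH) with h | h
      · right; left
        have h' : y * x = x * y := mul_inv_eq_iff_eq_mul.mp h
        have e01 := congrArg (fun A : SL2 => A.1 0 1) h'
        simp only [mul_apply_01, hx, diagHom_00, diagHom_01, diagHom_11] at e01
        have : ((l : F) - ((l⁻¹ : Fˣ) : F)) * y.1 0 1 = 0 := by linear_combination -e01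
        rcases mul_eq_zero.mp this with h | h
        · exact absurd h hsub
        · exact h
      · right; right
        have h' : y * x = x⁻¹ * y := mul_inv_eq_iff_eq_mul.mp h
        have e00 := congrArg (fun A : SL2 => A.1 0 0) h'
        have e11 := congrArg (fun A : SL2 => A.1 1 1) h'
        simp only [mul_apply_00, mul_apply_11, inv_apply_00, inv_apply_01, inv_apply_10,
          inv_apply_11, hx, diagHom_00, diagHom_01, diagHom_10, diagHom_11] at e00 e11
        constructor
        · have : ((l : F) - ((l⁻¹ : Fˣ) : F)) * y.1 0 0 = 0 := by linear_combination e00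
          rcases mul_eq_zero.mp this with h | h
          · exact absurd h hsub
          · exact h
        · have : ((l : F) - ((l⁻¹ : Fˣ) : F)) * y.1 1 1 = 0 := by linear_combination -e11
          rcases mul_eq_zero.mp this with h | h
          · exact absurd h hsub
          · exact h
  · rintro (h | h | ⟨h0, h1⟩)
    · exact isSolvable_closure_pair_of_mem (borelSub F) isSolvable_borelSub' x y
        (by rw [mem_borelSub]; exact diagHom_10 l) (by rw [mem_borelSub]; exact h)
    · exact isSolvable_closure_pair_of_mem (lowerSub F) isSolvable_lowerSub x y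
        (by rw [mem_lowerSub]; exact diagHom_01 l) (by rw [mem_lowerSub]; exact h)
    · apply isSolvable_closure_pair_of_inv x y
      rw [mul_inv_eq_iff_eq_mul]
      apply sl2_ext <;>
        simp only [mul_apply_00, mul_apply_01, mul_apply_10, mul_apply_11, inv_apply_00,
          inv_apply_01, inv_apply_10, inv_apply_11, hx, diagHom_00, diagHom_01, diagHom_10,
          diagHom_11, h0, h1] <;> ring

/-- the solubilizer of a nonsplit semisimple element -/
theorem isSolvable_nonsplit_iff (x : SL2) (hx : ∀ r : F, r ^ 2 ≠ -1 + tr2 x * r) (y : SL2) :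
    Group.IsSolvable ↥(Subgroup.closure ({x, y} : Set SL2)) ↔
      (y * x = x * y ∨ y * x = x⁻¹ * y) := by
  have h2 : (2 : F) = 0 := two_eq_zero'
  have hxt : tr2 x ≠ 0 := by
    intro h
    apply hx 1
    rw [h]
    linear_combination h2
  have hx1 : x ≠ 1 := by
    intro h
    apply hxt
    rw [h]
    show (1 : SL2).1 0 0 + (1 : SL2).1 1 1 = 0
    rw [one_00, one_11]
    linear_combination h2
  constructor
  · intro hs
    set H := Subgroup.closure ({x, y} : Set SL2) with hH
    have hxH : x ∈ H := Subgroup.subset_closure (by simp)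
    have hyH : y ∈ H := Subgroup.subset_closure (by simp)
    have hne : H ≠ ⊥ := by
      intro h
      rw [h, Subgroup.mem_bot] at hxH
      exact hx1 hxH
    obtain ⟨n, hnH, hn1, hconj⟩ := exists_ne_one_conj_commute H hs hne
    by_cases htn : tr2 n = 0
    · exfalso
      obtain ⟨g, s, hs0, hgs⟩ := exists_conj_upperU' n htn hn1
      have hP := hconj x hxH
      have hP' : ((g⁻¹ * x * g) * upperU s * (g⁻¹ * x * g)⁻¹) * upperU s
          = upperU s * ((g⁻¹ * x * g) * upperU s * (g⁻¹ * x * g)⁻¹) := by
        rw [← hgs]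
        have e1 : g⁻¹ * x * g * (g⁻¹ * n * g) * (g⁻¹ * x * g)⁻¹ * (g⁻¹ * n * g)
            = g⁻¹ * ((x * n * x⁻¹) * n) * g := by group
        have e2 : g⁻¹ * n * g * (g⁻¹ * x * g * (g⁻¹ * n * g) * (g⁻¹ * x * g)⁻¹)
            = g⁻¹ * (n * (x * n * x⁻¹)) * g := by group
        rw [e1, e2, hP]
      have h10 := lower_zero_of_conjComm_upperU s hs0 _ hP'
      have htr : tr2 (g⁻¹ * x * g) = tr2 x := by
        have := tr2_conj g⁻¹ x
        rwa [inv_inv] at this
      have hdet := sl2_det (g⁻¹ * x * g)
      rw [h10] at hdet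
      apply hx ((g⁻¹ * x * g).1 0 0)
      rw [← htr]
      show _ = -1 + ((g⁻¹ * x * g).1 0 0 + (g⁻¹ * x * g).1 1 1) * _
      linear_combination (-1 : F) * hdet
    · rcases conj_eq_or_inv_of_conjComm x y n hxt hn1 htn (hconj x hxH) (hconj y hyH) with h | h
      · left; exact mul_inv_eq_iff_eq_mul.mp h
      · right; exact mul_inv_eq_iff_eq_mul.mp h
  · rintro (h | h)
    · exact isSolvable_closure_pair_of_commute x y h.symm
    · exact isSolvable_closure_pair_of_inv x y (mul_inv_eq_iff_eq_mul.mpr h)

end CharTwo

end Cfsg.Agent.Lib.Helper38.SolStruct
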