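import Mathlib
import Cfsg.Agent.Lib.Helper38.SolStruct
import Cfsg.Agent.Lib.Helper41.SL2NsTorusCard

/-!
# Counting the solubilizers in `SL₂(F)`, `|F|` even (helper38)
-/

set_option autoImplicit false

namespace Cfsg.Agent.Lib.Helper38.SolCount

open Cfsg.Agent.Lib.Helper41 Cfsg.Agent.Lib.Helper38.SolMat Cfsg.Agent.Lib.Helper38.SolGen
  Cfsg.Agent.Lib.Helper38.SolStruct

variable {F : Type*} [Field F]

local notation "SL2" => Matrix.SpecialLinearGroup (Fin 2) F

theorem card_or {α : Type*} [Finite α] (P Q : α → Prop) (h : ∀ a, P a → ¬ Q a) :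
    Nat.card {a // P a ∨ Q a} = Nat.card {a // P a} + Nat.card {a // Q a} := by
  show Nat.card ↥({a | P a} ∪ {a | Q a} : Set α) = Nat.card ↥{a | P a} + Nat.card ↥{a | Q a}
  rw [Nat.card_coe_set_eq, Nat.card_coe_set_eq, Nat.card_coe_set_eq]
  exact Set.ncard_union_eq (Set.disjoint_left.mpr h) (Set.toFinite _) (Set.toFinite _)

/-- nonzero lower-left entry and prescribed lower-right entry -/
def FiberP (f : F → F → F) (y : SL2) : Prop := y.1 1 0 ≠ 0 ∧ y.1 1 1 = f (y.1 0 0) (y.1 1 0)

/-- elements with nonzero lower-left entry and prescribed lower-right entry -/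
noncomputable def fiberEquiv (f : F → F → F) : {y : SL2 // FiberP f y} ≃ F × Fˣ where
  toFun y := (y.1.1 0 0, Units.mk0 (y.1.1 1 0) y.2.1)
  invFun ac :=
    ⟨⟨!![ac.1, (ac.1 * f ac.1 ac.2 - 1) / ac.2; (ac.2 : F), f ac.1 ac.2], by
        rw [Matrix.det_fin_two]
        simp only [Matrix.of_apply, Matrix.cons_val', Matrix.cons_val_zero, Matrix.cons_val_one,
          Matrix.cons_val_fin_one]
        have : (ac.2 : F) ≠ 0 := ac.2.ne_zero
        field_simp
        ring⟩, by
      constructor
      · simp
      · simp⟩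
  left_inv := by
    rintro ⟨y, hy0, hy1⟩
    apply Subtype.ext
    have hdet := sl2_det y
    apply sl2_ext
    · simp
    · simp only [Matrix.of_apply, Matrix.cons_val', Matrix.cons_val_zero, Matrix.cons_val_one,
        Matrix.cons_val_fin_one, Units.val_mk0]
      rw [← hy1]
      field_simp
      linear_combination hdet
    · simp
    · simp only [Matrix.of_apply, Matrix.cons_val', Matrix.cons_val_one,
        Matrix.cons_val_fin_one, Units.val_mk0]
      exact hy1.symm
  right_inv := by
    rintro ⟨a, c⟩
    apply Prod.ext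
    · simp
    · apply Units.ext
      simp

theorem card_fiber [Fintype F] (f : F → F → F) :
    Nat.card {y : SL2 // FiberP f y} = Fintype.card F * (Fintype.card F - 1) := by
  classical
  rw [Nat.card_congr (fiberEquiv f), Nat.card_prod, Nat.card_eq_fintype_card,
    Nat.card_eq_fintype_card, Fintype.card_units]

theorem card_lower_zero [Fintype F] :
    Nat.card {y : SL2 // y.1 1 0 = 0} = Fintype.card F * (Fintype.card F - 1) := by
  have := card_borelSub (F := F)
  rw [mul_comm] at this
  exact this

section CharTwo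

variable [Fintype F] [CharP F 2]

theorem card_sol_upperU (t : F) (ht : t ≠ 0) :
    Nat.card {y : SL2 // Group.IsSolvable ↥(Subgroup.closure ({upperU t, y} : Set SL2))} =
      3 * Fintype.card F * (Fintype.card F - 1) := by
  have e : {y : SL2 // Group.IsSolvable ↥(Subgroup.closure ({upperU t, y} : Set SL2))} ≃
      {y : SL2 // y.1 1 0 = 0 ∨ (FiberP (fun a _ => -a) y ∨
        FiberP (fun a c => -(a + t * c)) y)} := by
    refine Equiv.subtypeEquivRight ?_
    intro y
    rw [isSolvable_upperU_iff t ht y]
    have h1 : tr2 y = 0 ↔ y.1 1 1 = -(y.1 0 0) := by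
      show y.1 0 0 + y.1 1 1 = 0 ↔ _
      constructor
      · intro h; linear_combination h
      · intro h; linear_combination h
    have h2 : tr2 (upperU t * y) = 0 ↔ y.1 1 1 = -(y.1 0 0 + t * y.1 1 0) := by
      show (upperU t * y).1 0 0 + (upperU t * y).1 1 1 = 0 ↔ _
      rw [mul_apply_00, mul_apply_11, upperU_00, upperU_01, upperU_10, upperU_11]
      constructor
      · intro h; linear_combination h
      · intro h; linear_combination h
    rw [h1, h2]
    unfold FiberP
    by_cases hc : y.1 1 0 = 0
    · simp [hc]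
    · simp [hc]
  rw [Nat.card_congr e, card_or, card_or, card_lower_zero, card_fiber, card_fiber]
  · ring
  · rintro y ⟨hc, h1⟩ ⟨-, h2⟩
    rw [h1] at h2
    have : t * y.1 1 0 = 0 := by
      simp only at h2
      linear_combination h2
    rcases mul_eq_zero.mp this with h | h
    · exact ht h
    · exact hc h
  · rintro y hc (⟨h, -⟩ | ⟨h, -⟩) <;> exact h hc

theorem card_sol_diag (l : Fˣ) (hl : l ≠ 1) :
    Nat.card {y : SL2 // Group.IsSolvable ↥(Subgroup.closure ({diagHom l, y} : Set SL2))} =
      2 * Fintype.card F * (Fintype.card F - 1) := by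
  have e : {y : SL2 // Group.IsSolvable ↥(Subgroup.closure ({diagHom l, y} : Set SL2))} ≃
      {y : SL2 // y.1 1 0 = 0 ∨ FiberP (fun a _ => a⁻¹) y} := by
    refine Equiv.subtypeEquivRight ?_
    intro y
    rw [isSolvable_diag_iff l hl y]
    have hdet := sl2_det y
    constructor
    · rintro (h | h | ⟨h0, h1⟩)
      · exact Or.inl h
      · by_cases hc : y.1 1 0 = 0
        · exact Or.inl hc
        · refine Or.inr ⟨hc, ?_⟩
          rw [h] at hdet
          show y.1 1 1 = (y.1 0 0)⁻¹
          apply eq_inv_of_mul_eq_one_right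
          linear_combination hdet
      · refine Or.inr ⟨?_, ?_⟩
        · intro hc
          rw [hc, h0] at hdet
          simp at hdet
        · show y.1 1 1 = (y.1 0 0)⁻¹
          rw [h0, h1, inv_zero]
    · rintro (h | ⟨hc, h1⟩)
      · exact Or.inl h
      · have h1' : y.1 1 1 = (y.1 0 0)⁻¹ := h1
        by_cases h0 : y.1 0 0 = 0
        · right; right
          refine ⟨h0, ?_⟩
          rw [h1', h0, inv_zero]
        · right; left
          rw [h1', mul_inv_cancel₀ h0] at hdet
          have : y.1 0 1 * y.1 1 0 = 0 := by linear_combination -hdet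
          rcases mul_eq_zero.mp this with h | h
          · exact h
          · exact absurd h hc
  rw [Nat.card_congr e, card_or, card_lower_zero, card_fiber]
  · ring
  · rintro y hc ⟨h, -⟩
    exact h hc

theorem card_comm_or_inv {G : Type*} [Group G] [Finite G] (x w : G) (hw : w * x = x⁻¹ * w)
    (hx : x ≠ x⁻¹) :
    Nat.card {y : G // y * x = x * y ∨ y * x = x⁻¹ * y} =
      2 * Nat.card {y : G // y * x = x * y} := by
  rw [card_or]
  · have e : {y : G // y * x = x⁻¹ * y} ≃ {y : G // y * x = x * y} := by
      refine Equiv.subtypeEquiv (Equiv.mulLeft w⁻¹) ?_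
      intro y
      show y * x = x⁻¹ * y ↔ (w⁻¹ * y) * x = x * (w⁻¹ * y)
      have hw' : x * w⁻¹ = w⁻¹ * x⁻¹ := by
        have : x = w⁻¹ * x⁻¹ * w := by rw [mul_assoc, ← hw]; group
        calc x * w⁻¹ = (w⁻¹ * x⁻¹ * w) * w⁻¹ := by rw [← this]
          _ = w⁻¹ * x⁻¹ := by group
      constructor
      · intro h
        rw [mul_assoc, h, ← mul_assoc, ← mul_assoc, hw']
      · intro h
        have h' : w⁻¹ * (y * x) = w⁻¹ * (x⁻¹ * y) := by
          rw [← mul_assoc, h, ← mul_assoc, hw', mul_assoc]
        exact mul_left_cancel h'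
    rw [Nat.card_congr e]
    ring
  · intro y h1 h2
    apply hx
    have : x * y = x⁻¹ * y := h1.symm.trans h2
    exact mul_right_cancel this

theorem card_sol_companion (t : F) (ht : ∀ r : F, r ^ 2 ≠ -1 + t * r) :
    Nat.card {y : SL2 // Group.IsSolvable ↥(Subgroup.closure ({companion t, y} : Set SL2))} =
      2 * (Fintype.card F + 1) := by
  have h2 : (2 : F) = 0 := two_eq_zero'
  have htr : tr2 (companion t : SL2) = t := tr2_companion t
  have ht' : ∀ r : F, r ^ 2 ≠ -1 + tr2 (companion t : SL2) * r := by rw [htr]; exact ht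
  have ht0 : t ≠ 0 := by
    intro h
    apply ht 1
    rw [h]
    linear_combination h2
  have e : {y : SL2 // Group.IsSolvable ↥(Subgroup.closure ({companion t, y} : Set SL2))} ≃
      {y : SL2 // y * companion t = companion t * y ∨ y * companion t = (companion t)⁻¹ * y} :=
    Equiv.subtypeEquivRight (fun y => isSolvable_nonsplit_iff (companion t) ht' y)
  have hinvtr : tr2 ((companion t)⁻¹ : SL2) = tr2 (companion t : SL2) := by
    show ((companion t)⁻¹ : SL2).1 0 0 + ((companion t)⁻¹ : SL2).1 1 1 = _
    rw [inv_apply_00, inv_apply_11, add_comm]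
    rfl
  have hconj : IsConj (companion t : SL2) (companion t)⁻¹ := by
    apply isConj_of_tr2_eq _ _ _ hinvtr.symm
    rw [htr]
    intro h
    apply ht0
    have : t * t = 0 := by linear_combination h + 2 * h2
    exact mul_self_eq_zero.mp this
  obtain ⟨w, hw⟩ := isConj_iff.mp hconj
  have hw' : w * companion t = (companion t)⁻¹ * w := mul_inv_eq_iff_eq_mul.mp hw
  have hne : (companion t : SL2) ≠ (companion t)⁻¹ := by
    intro h
    have h1 : (companion t : SL2) * companion t = 1 := by
      nth_rewrite 2 [h]
      exact mul_inv_cancel _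
    have := tr2_eq_zero_of_sq _ h1
    rw [htr] at this
    exact ht0 this
  rw [Nat.card_congr e, card_comm_or_inv _ w hw' hne]
  have e2 : {y : SL2 // y * companion t = companion t * y} ≃ nsTorus t := by
    refine Equiv.subtypeEquivRight ?_
    intro y
    rw [mem_nsTorus_iff_commute]
    exact eq_comm
  rw [Nat.card_congr e2, card_nsTorus ht]

end CharTwo

end Cfsg.Agent.Lib.Helper38.SolCount
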