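import Mathlib
import Cfsg.Prelude.Def_CaseTheorems

set_option autoImplicit false

namespace Cfsg.Agent.Lib.Helper38

/-- a `p`-subgroup can be conjugated into any given Sylow `p`-subgroup -/
theorem exists_conj_mem_sylow {G : Type*} [Group G] [Finite G] {p : ℕ} [Fact p.Prime]
    (P : Sylow p G) (W : Subgroup G) (hW : IsPGroup p W) :
    ∃ g : G, ∀ w ∈ W, g * w * g⁻¹ ∈ (P : Subgroup G) := by
  obtain ⟨Q, hQ⟩ := hW.exists_le_sylow
  obtain ⟨g, hg⟩ := MulAction.exists_smul_eq G Q P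
  refine ⟨g, fun w hw => ?_⟩
  rw [← hg, Sylow.coe_subgroup_smul]
  have := Subgroup.smul_mem_pointwise_smul w (MulAut.conj g) (Q : Subgroup G) (hQ hw)
  simpa [MulAut.smul_def] using this

theorem isPGroup_zpowers {G : Type*} [Group G] {p : ℕ} [Fact p.Prime] {g : G} {k : ℕ}
    (h : orderOf g = p ^ k) : IsPGroup p (Subgroup.zpowers g) :=
  IsPGroup.of_card (n := k) (by rw [Nat.card_zpowers, h])

/-- the image of `zpowers a ⊔ zpowers b` under conjugation -/
theorem conj_mem_sup_zpowers {G : Type*} [Group G] {a b a' b' c : G}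
    (ha : c * a * c⁻¹ = a') (hb : c * b * c⁻¹ = b') {h : G}
    (hh : h ∈ Subgroup.zpowers a ⊔ Subgroup.zpowers b) :
    c * h * c⁻¹ ∈ Subgroup.zpowers a' ⊔ Subgroup.zpowers b' := by
  have h1 : (Subgroup.zpowers a ⊔ Subgroup.zpowers b).map (MulAut.conj c).toMonoidHom =
      Subgroup.zpowers a' ⊔ Subgroup.zpowers b' := by
    rw [Subgroup.map_sup, MonoidHom.map_zpowers, MonoidHom.map_zpowers]
    simp only [MulEquiv.toMonoidHom_eq_coe, MonoidHom.coe_coe, MulAut.conj_apply, ha, hb]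
  rw [← h1]
  exact ⟨h, hh, by simp [MulAut.conj_apply]⟩

theorem zpowers_le_normalizer_of_conj {G : Type*} [Group G] {c : G} {K : Subgroup G}
    (h1 : ∀ h ∈ K, c * h * c⁻¹ ∈ K) (h2 : ∀ h ∈ K, c⁻¹ * h * c ∈ K) :
    Subgroup.zpowers c ≤ Subgroup.normalizer (K : Set G) := by
  rw [Subgroup.zpowers_le, Subgroup.mem_normalizer_iff]
  intro h
  constructor
  · exact h1 h
  · intro hh
    have := h2 _ hh
    have e : c⁻¹ * (c * h * c⁻¹) * c = h := by group
    rwa [e] at this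

theorem orderOf_conj' {G : Type*} [Group G] (g a : G) : orderOf (g * a * g⁻¹) = orderOf a := by
  have := MulEquiv.orderOf_eq (MulAut.conj g) a
  simpa [MulAut.conj_apply] using this

/-- build `IsWreathed` for a Sylow 2-subgroup from elements of the ambient group -/
theorem isWreathed_of_elements {G : Type*} [Group G] [Finite G] (P : Sylow 2 G) (n : ℕ)
    (hn : 2 ≤ n) (hcard : Nat.card (P : Subgroup G) = 2 ^ (2 * n + 1)) (X Y Z : G)
    (hX : orderOf X = 2 ^ n) (hXY : X * Y = Y * X)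
    (hinf : Subgroup.zpowers X ⊓ Subgroup.zpowers Y = ⊥) (hZ : orderOf Z = 2)
    (hZX : Z * X * Z⁻¹ = Y) : Cfsg.IsWreathed ↥(P : Subgroup G) := by
  have hZZ : Z * Z = 1 := by
    have := pow_orderOf_eq_one Z
    rwa [hZ, pow_two] at this
  have hZinv : Z⁻¹ = Z := inv_eq_of_mul_eq_one_left hZZ
  have hY : orderOf Y = 2 ^ n := by rw [← hZX, orderOf_conj', hX]
  have hZY : Z * Y * Z⁻¹ = X := by
    rw [← hZX, hZinv]
    calc Z * (Z * X * Z) * Z = (Z * Z) * X * (Z * Z) := by group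
      _ = X := by rw [hZZ, one_mul, mul_one]
  have hK : IsPGroup 2 (Subgroup.zpowers X ⊔ Subgroup.zpowers Y : Subgroup G) := by
    apply IsPGroup.to_sup_of_normal_right' (isPGroup_zpowers hX) (isPGroup_zpowers hY)
    have hcomm : ∀ h ∈ Subgroup.zpowers Y, X * h = h * X := by
      rintro _ ⟨i, rfl⟩
      exact ((Commute.zpow_right (show Commute X Y from hXY) i)).eq
    apply zpowers_le_normalizer_of_conj
    · intro h hh
      rw [hcomm h hh, mul_inv_cancel_right]; exact hh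
    · intro h hh
      rw [mul_assoc, ← hcomm h hh, inv_mul_cancel_left]; exact hh
  have hZ' : orderOf Z = 2 ^ 1 := by rw [hZ, pow_one]
  have hW : IsPGroup 2 (Subgroup.zpowers Z ⊔ (Subgroup.zpowers X ⊔ Subgroup.zpowers Y) :
      Subgroup G) := by
    apply IsPGroup.to_sup_of_normal_right' (isPGroup_zpowers hZ') hK
    apply zpowers_le_normalizer_of_conj
    · intro h hh
      have := conj_mem_sup_zpowers hZX hZY hh
      rwa [sup_comm] at this
    · intro h hh
      have hZX' : Z⁻¹ * X * Z⁻¹⁻¹ = Y := by rw [hZinv]; exact hZX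
      have hZY' : Z⁻¹ * Y * Z⁻¹⁻¹ = X := by rw [hZinv]; exact hZY
      have := conj_mem_sup_zpowers hZX' hZY' hh
      rw [sup_comm, inv_inv] at this
      exact this
  obtain ⟨g, hg⟩ := exists_conj_mem_sylow P _ hW
  have hXm : X ∈ (Subgroup.zpowers Z ⊔ (Subgroup.zpowers X ⊔ Subgroup.zpowers Y) : Subgroup G) :=
    Subgroup.mem_sup_right (Subgroup.mem_sup_left (Subgroup.mem_zpowers X))
  have hYm : Y ∈ (Subgroup.zpowers Z ⊔ (Subgroup.zpowers X ⊔ Subgroup.zpowers Y) : Subgroup G) :=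
    Subgroup.mem_sup_right (Subgroup.mem_sup_right (Subgroup.mem_zpowers Y))
  have hZm : Z ∈ (Subgroup.zpowers Z ⊔ (Subgroup.zpowers X ⊔ Subgroup.zpowers Y) : Subgroup G) :=
    Subgroup.mem_sup_left (Subgroup.mem_zpowers Z)
  refine ⟨n, hn, hcard, ⟨g * X * g⁻¹, hg X hXm⟩, ⟨g * Y * g⁻¹, hg Y hYm⟩,
    ⟨g * Z * g⁻¹, hg Z hZm⟩, ?_, ?_, ?_, ?_, ?_⟩
  · rw [← Subgroup.orderOf_coe]; simp only; rw [orderOf_conj', hX]
  · apply Subtype.ext
    simp only [Subgroup.coe_mul]
    calc g * X * g⁻¹ * (g * Y * g⁻¹) = g * (X * Y) * g⁻¹ := by group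
      _ = g * (Y * X) * g⁻¹ := by rw [hXY]
      _ = g * Y * g⁻¹ * (g * X * g⁻¹) := by group
  · rw [eq_bot_iff]
    rintro ⟨w, hwP⟩ ⟨⟨i, hi⟩, ⟨j, hj⟩⟩
    rw [Subgroup.mem_bot]
    apply Subtype.ext
    have hi' := congrArg Subtype.val hi
    have hj' := congrArg Subtype.val hj
    simp only [Subgroup.coe_zpow] at hi' hj'
    have e1 : (g * X * g⁻¹) ^ i = g * X ^ i * g⁻¹ := by
      have := map_zpow (MulAut.conj g) X i
      simp only [MulAut.conj_apply] at this
      exact this.symm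
    have e2 : (g * Y * g⁻¹) ^ j = g * Y ^ j * g⁻¹ := by
      have := map_zpow (MulAut.conj g) Y j
      simp only [MulAut.conj_apply] at this
      exact this.symm
    rw [e1] at hi'
    rw [e2] at hj'
    have h3 : X ^ i = Y ^ j := by
      have : g * X ^ i * g⁻¹ = g * Y ^ j * g⁻¹ := hi'.trans hj'.symm
      have := mul_right_cancel this
      exact mul_left_cancel this
    have h4 : X ^ i ∈ Subgroup.zpowers X ⊓ Subgroup.zpowers Y :=
      ⟨⟨i, rfl⟩, ⟨j, h3.symm⟩⟩
    rw [hinf, Subgroup.mem_bot] at h4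
    show w = 1
    rw [← hi', h4]; group
  · rw [← Subgroup.orderOf_coe]; simp only; rw [orderOf_conj', hZ]
  · apply Subtype.ext
    simp only [Subgroup.coe_mul, Subgroup.coe_inv]
    rw [← hZX]; group

/-- build `IsQuasiDihedral` for a Sylow 2-subgroup from elements of the ambient group -/
theorem isQuasiDihedral_of_elements {G : Type*} [Group G] [Finite G] (P : Sylow 2 G) (n : ℕ)
    (hn : 3 ≤ n) (hcard : Nat.card (P : Subgroup G) = 2 ^ (n + 1)) (X Y : G)
    (hX : orderOf X = 2 ^ n) (hY : orderOf Y = 2)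
    (hYX : Y * X * Y⁻¹ = X ^ (2 ^ (n - 1) - 1)) : Cfsg.IsQuasiDihedral ↥(P : Subgroup G) := by
  have hYY : Y * Y = 1 := by
    have := pow_orderOf_eq_one Y
    rwa [hY, pow_two] at this
  have hYinv : Y⁻¹ = Y := inv_eq_of_mul_eq_one_left hYY
  have hY' : orderOf Y = 2 ^ 1 := by rw [hY, pow_one]
  have hconj : ∀ h ∈ Subgroup.zpowers X, Y * h * Y⁻¹ ∈ Subgroup.zpowers X := by
    rintro _ ⟨i, rfl⟩
    have e : Y * X ^ i * Y⁻¹ = (Y * X * Y⁻¹) ^ i := by
      have := map_zpow (MulAut.conj Y) X i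
      simp only [MulAut.conj_apply] at this
      exact this
    rw [e, hYX]
    exact Subgroup.zpow_mem _ (Subgroup.pow_mem _ (Subgroup.mem_zpowers X) _) _
  have hW : IsPGroup 2 (Subgroup.zpowers Y ⊔ Subgroup.zpowers X : Subgroup G) := by
    apply IsPGroup.to_sup_of_normal_right' (isPGroup_zpowers hY') (isPGroup_zpowers hX)
    apply zpowers_le_normalizer_of_conj hconj
    intro h hh
    have := hconj h hh
    rw [hYinv] at this ⊢
    exact this
  obtain ⟨g, hg⟩ := exists_conj_mem_sylow P _ hW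
  have hXm : X ∈ (Subgroup.zpowers Y ⊔ Subgroup.zpowers X : Subgroup G) :=
    Subgroup.mem_sup_right (Subgroup.mem_zpowers X)
  have hYm : Y ∈ (Subgroup.zpowers Y ⊔ Subgroup.zpowers X : Subgroup G) :=
    Subgroup.mem_sup_left (Subgroup.mem_zpowers Y)
  refine ⟨n, hn, hcard, ⟨g * X * g⁻¹, hg X hXm⟩, ⟨g * Y * g⁻¹, hg Y hYm⟩, ?_, ?_, ?_⟩
  · rw [← Subgroup.orderOf_coe]; simp only; rw [orderOf_conj', hX]
  · rw [← Subgroup.orderOf_coe]; simp only; rw [orderOf_conj', hY]
  · apply Subtype.ext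
    simp only [Subgroup.coe_mul, Subgroup.coe_inv, Subgroup.coe_pow]
    have e : (g * X * g⁻¹) ^ (2 ^ (n - 1) - 1) = g * X ^ (2 ^ (n - 1) - 1) * g⁻¹ := by
      have := map_pow (MulAut.conj g) X (2 ^ (n - 1) - 1)
      simp only [MulAut.conj_apply] at this
      exact this.symm
    rw [e, ← hYX]; group

end Cfsg.Agent.Lib.Helper38
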