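import Mathlib
import Cfsg.Agent.Lib.Helper38.SylowTwoTypes

set_option autoImplicit false

/-!
# Tools for Sylow 2-subgroups of `S_n`/`A_n` and their overgroups (part A)

* `pairSub τ`: elementary abelian 2-group of permutations `σ` with `σ x ∈ {x, τ x}`.
* `exists_fpf_centralized`: a 2-subgroup of `Perm α` centralizes a fixed-point-free involution
  as soon as one exists.
* Sylow 2-subgroups of `Perm α` contain swaps, 2-power cycles, conjugates of `pairSub`.
-/

namespace Cfsg.Agent.Lib.Helper38.Syl2Max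

open Equiv Equiv.Perm MulAction
open scoped Pointwise

section PairSub

variable {α : Type*}

/-- For an involution `τ`, the subgroup of permutations `σ` with `σ x ∈ {x, τ x}` for all `x`. -/
def pairSub (τ : Perm α) (hτ : ∀ x, τ (τ x) = x) : Subgroup (Perm α) where
  carrier := {σ | ∀ x, σ x = x ∨ σ x = τ x}
  one_mem' := fun _ => Or.inl rfl
  mul_mem' := by
    intro a b ha hb x
    simp only [Perm.mul_apply]
    rcases hb x with h | h
    · rw [h]; exact ha x
    · rw [h]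
      rcases ha (τ x) with h' | h'
      · right; exact h'
      · left; rw [h', hτ]
  inv_mem' := by
    intro a ha x
    rcases ha (a⁻¹ x) with h | h
    · left
      have : x = a⁻¹ x := by simpa using h
      exact this.symm
    · right
      have h1 : x = τ (a⁻¹ x) := by simpa using h
      calc a⁻¹ x = τ (τ (a⁻¹ x)) := (hτ _).symm
        _ = τ x := by rw [← h1]

theorem mem_pairSub {τ : Perm α} {hτ : ∀ x, τ (τ x) = x} {σ : Perm α} :
    σ ∈ pairSub τ hτ ↔ ∀ x, σ x = x ∨ σ x = τ x := Iff.rfl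

theorem pairSub_sq {τ : Perm α} {hτ : ∀ x, τ (τ x) = x} {σ : Perm α}
    (hσ : σ ∈ pairSub τ hτ) : σ * σ = 1 := by
  ext x
  simp only [Perm.mul_apply, Perm.one_apply]
  rcases hσ x with h | h
  · rw [h, h]
  · rcases hσ (τ x) with h' | h'
    · -- σ (τ x) = τ x = σ x, so τ x = x
      have : τ x = x := σ.injective (h'.trans h.symm)
      rw [h, h', this]
    · rw [h, h', hτ]

theorem isPGroup_pairSub (τ : Perm α) (hτ : ∀ x, τ (τ x) = x) : IsPGroup 2 (pairSub τ hτ) := by
  rintro ⟨σ, hσ⟩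
  refine ⟨1, ?_⟩
  apply Subtype.ext
  simp only [pow_one, Subgroup.coe_pow, Subgroup.coe_one]
  rw [pow_two]
  exact pairSub_sq hσ

theorem swap_mem_pairSub [DecidableEq α] (τ : Perm α) (hτ : ∀ x, τ (τ x) = x) (a : α) :
    swap a (τ a) ∈ pairSub τ hτ := by
  intro x
  by_cases h1 : x = a
  · subst h1; right; exact swap_apply_left _ _
  · by_cases h2 : x = τ a
    · subst h2; right; rw [swap_apply_right, hτ]
    · left; exact swap_apply_of_ne_of_ne h1 h2

/-- elements of `pairSub τ` commute with `τ`. -/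
theorem pairSub_comm {τ : Perm α} {hτ : ∀ x, τ (τ x) = x} {σ : Perm α}
    (hσ : σ ∈ pairSub τ hτ) : σ * τ = τ * σ := by
  ext x
  simp only [Perm.mul_apply]
  by_cases hx : τ x = x
  · rw [hx]
    rcases hσ x with h | h
    · rw [h, hx]
    · rw [h, hx, hx]
  · rcases hσ x with h | h
    · rw [h]
      rcases hσ (τ x) with h' | h'
      · exact h'
      · rw [hτ] at h'
        exact absurd (σ.injective (h'.trans h.symm)) hx
    · rw [h, hτ]
      rcases hσ (τ x) with h' | h'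
      · exact absurd (σ.injective (h'.trans h.symm)) hx
      · rw [h', hτ]

end PairSub

section FPF

variable {α : Type*}

/-- fixed-point-free involutions of `α`. -/
structure FpfInv (α : Type*) where
  /-- the underlying permutation -/
  val : Perm α
  sq : val * val = 1
  fpf : ∀ x, val x ≠ x

theorem FpfInv.val_injective : Function.Injective (FpfInv.val : FpfInv α → Perm α) := by
  rintro ⟨a, _, _⟩ ⟨b, _, _⟩ h
  simp only at h
  subst h
  rfl

instance fpfInvFinite [Finite α] : Finite (FpfInv α) :=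
  Finite.of_injective _ FpfInv.val_injective

/-- conjugation action on fixed-point-free involutions -/
instance fpfInvMulAction : MulAction (Perm α) (FpfInv α) where
  smul g τ := ⟨g * τ.val * g⁻¹, by
    have : g * τ.val * g⁻¹ * (g * τ.val * g⁻¹) = g * (τ.val * τ.val) * g⁻¹ := by group
    rw [this, τ.sq]; group, by
    intro x h
    simp only [Perm.mul_apply] at h
    apply τ.fpf (g⁻¹ x)
    apply g.injective
    rw [h]; simp⟩
  one_smul τ := by
    apply FpfInv.val_injective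
    show 1 * τ.val * 1⁻¹ = τ.val
    simp
  mul_smul g h τ := by
    apply FpfInv.val_injective
    show (g * h) * τ.val * (g * h)⁻¹ = g * (h * τ.val * h⁻¹) * g⁻¹
    group

theorem fpfInv_smul_val (g : Perm α) (τ : FpfInv α) : (g • τ).val = g * τ.val * g⁻¹ := rfl

variable [DecidableEq α]

theorem comm_swap_apply {τ : Perm α} {a b : α} (hab : a ≠ b)
    (h : swap a b * τ = τ * swap a b) : τ a = a ∨ τ a = b := by
  by_contra hne
  push Not at hne
  have h1 : (swap a b * τ) a = (τ * swap a b) a := by rw [h]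
  simp only [Perm.mul_apply, swap_apply_left] at h1
  rw [swap_apply_of_ne_of_ne hne.1 hne.2] at h1
  exact hab (τ.injective h1)

/-- If `α` carries a fixed-point-free involution, every 2-subgroup of `Perm α` centralizes one. -/
theorem exists_fpf_centralized [Finite α] (τ₀ : Perm α) (h0 : τ₀ * τ₀ = 1) (h0' : ∀ x, τ₀ x ≠ x)
    (P : Subgroup (Perm α)) (hP : IsPGroup 2 P) :
    ∃ τ : Perm α, τ * τ = 1 ∧ (∀ x, τ x ≠ x) ∧ ∀ g ∈ P, g * τ = τ * g := by
  have hτ₀ : ∀ x, τ₀ (τ₀ x) = x := fun x => by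
    have := congrArg (fun f : Perm α => f x) h0
    simpa using this
  have hE := isPGroup_pairSub τ₀ hτ₀
  have hcard := hE.card_modEq_card_fixedPoints (FpfInv α)
  have hfix : fixedPoints (pairSub τ₀ hτ₀) (FpfInv α) = {⟨τ₀, h0, h0'⟩} := by
    ext τ
    simp only [mem_fixedPoints, Set.mem_singleton_iff]
    constructor
    · intro h
      apply FpfInv.val_injective
      show τ.val = τ₀
      ext a
      have h1 := h ⟨swap a (τ₀ a), swap_mem_pairSub τ₀ hτ₀ a⟩
      have h2 : swap a (τ₀ a) * τ.val * (swap a (τ₀ a))⁻¹ = τ.val :=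
        congrArg FpfInv.val h1
      have h3 : swap a (τ₀ a) * τ.val = τ.val * swap a (τ₀ a) :=
        mul_inv_eq_iff_eq_mul.mp h2
      rcases comm_swap_apply (h0' a).symm h3 with h4 | h4
      · exact absurd h4 (τ.fpf a)
      · exact h4
    · rintro rfl ⟨e, he⟩
      apply FpfInv.val_injective
      show e * τ₀ * e⁻¹ = τ₀
      rw [pairSub_comm he]; group
  have h1 : Nat.card (fixedPoints (pairSub τ₀ hτ₀) (FpfInv α)) = 1 := by
    rw [hfix, Nat.card_coe_set_eq, Set.ncard_singleton]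
  rw [h1] at hcard
  have hnd : ¬ 2 ∣ Nat.card (FpfInv α) := by
    intro h
    have := (Nat.modEq_zero_iff_dvd.mpr h).symm.trans hcard
    exact absurd this (by decide)
  obtain ⟨τ, hτ⟩ := hP.nonempty_fixed_point_of_prime_not_dvd_card (FpfInv α) hnd
  refine ⟨τ.val, τ.sq, τ.fpf, fun g hg => ?_⟩
  have h1 := hτ ⟨g, hg⟩
  have h2 : g * τ.val * g⁻¹ = τ.val := congrArg FpfInv.val h1
  exact mul_inv_eq_iff_eq_mul.mp h2

end FPF

section SylowPerm

variable {α : Type*} [Fintype α] [DecidableEq α]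

/-- A Sylow 2-subgroup of `Perm α` contains a swap. -/
theorem exists_swap_mem_sylow (R : Sylow 2 (Perm α)) {a₀ b₀ : α} (h : a₀ ≠ b₀) :
    ∃ a b, a ≠ b ∧ swap a b ∈ R := by
  have hp : IsPGroup 2 (Subgroup.zpowers (swap a₀ b₀)) :=
    isPGroup_zpowers (k := 1) (by rw [pow_one]; exact (swap_isSwap_iff.mpr h).orderOf)
  obtain ⟨g, hg⟩ := exists_conj_mem_sylow R _ hp
  refine ⟨g a₀, g b₀, fun h' => h (g.injective h'), ?_⟩
  rw [swap_apply_apply]
  exact hg _ (Subgroup.mem_zpowers _)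

/-- A Sylow 2-subgroup of `Perm α` contains a cycle of length `2 ^ k` if there is one. -/
theorem exists_cycle_mem_sylow (R : Sylow 2 (Perm α)) {c₀ : Perm α} (hc : c₀.IsCycle) {k : ℕ}
    (hk : c₀.support.card = 2 ^ k) :
    ∃ c ∈ R, c.IsCycle ∧ c.support.card = 2 ^ k := by
  have hp : IsPGroup 2 (Subgroup.zpowers c₀) :=
    isPGroup_zpowers (k := k) (by rw [hc.orderOf, hk])
  obtain ⟨g, hg⟩ := exists_conj_mem_sylow R _ hp
  exact ⟨g * c₀ * g⁻¹, hg _ (Subgroup.mem_zpowers _), hc.conj, by rw [card_support_conj, hk]⟩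

/-- A Sylow 2-subgroup of the alternating group is the even part of a Sylow 2-subgroup of the
symmetric group. -/
theorem exists_sylow_perm_of_alt (P : Sylow 2 (alternatingGroup α)) :
    ∃ R : Sylow 2 (Perm α), ∀ (σ : Perm α) (hσ : σ ∈ alternatingGroup α),
      (⟨σ, hσ⟩ : alternatingGroup α) ∈ P ↔ σ ∈ R := by
  have hQ : IsPGroup 2 ((P : Subgroup (alternatingGroup α)).map (alternatingGroup α).subtype) :=
    P.isPGroup'.map _
  obtain ⟨R, hR⟩ := hQ.exists_le_sylow
  have h2 : IsPGroup 2 ((R : Subgroup (Perm α)).subgroupOf (alternatingGroup α)) :=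
    R.isPGroup'.comap_subtype
  have hle : (P : Subgroup (alternatingGroup α)) ≤
      (R : Subgroup (Perm α)).subgroupOf (alternatingGroup α) := by
    intro x hx
    rw [Subgroup.mem_subgroupOf]
    exact hR ⟨x, hx, rfl⟩
  have heq := P.is_maximal' h2 hle
  refine ⟨R, fun σ hσ => ?_⟩
  show (⟨σ, hσ⟩ : alternatingGroup α) ∈ (P : Subgroup (alternatingGroup α)) ↔ _
  rw [← heq, Subgroup.mem_subgroupOf]
  rfl

/-- The transposition trick: modulo a swap in `R` not moving `x`, images of `x` under `R` are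
images under the even part of `R`. -/
theorem exists_even_same {R : Subgroup (Perm α)} {a b x : α} (hab : a ≠ b) (ht : swap a b ∈ R)
    (hxa : x ≠ a) (hxb : x ≠ b) {g : Perm α} (hg : g ∈ R) :
    ∃ g' ∈ R ⊓ alternatingGroup α, g' x = g x := by
  rcases Int.units_eq_one_or (sign g) with h | h
  · exact ⟨g, ⟨hg, mem_alternatingGroup.mpr h⟩, rfl⟩
  · refine ⟨g * swap a b, ⟨R.mul_mem hg ht, ?_⟩, ?_⟩
    · show g * swap a b ∈ alternatingGroup α
      rw [mem_alternatingGroup, Perm.sign_mul, h, sign_swap hab]; rfl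
    · rw [Perm.mul_apply, swap_apply_of_ne_of_ne hxa hxb]

theorem trans_even {R : Subgroup (Perm α)} {a b : α} (hab : a ≠ b) (ht : swap a b ∈ R)
    (S : Set α) (htr : ∀ x ∈ S, ∀ y ∈ S, ∃ g ∈ R, g x = y) {z : α} (hz : z ∈ S)
    (hza : z ≠ a) (hzb : z ≠ b) :
    ∀ x ∈ S, ∀ y ∈ S, ∃ g ∈ R ⊓ alternatingGroup α, g x = y := by
  intro x hx y hy
  obtain ⟨g₁, hg₁, h1⟩ := htr z hz x hx
  obtain ⟨g₂, hg₂, h2⟩ := htr z hz y hy
  obtain ⟨g₁', hg₁', h1'⟩ := exists_even_same hab ht hza hzb hg₁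
  obtain ⟨g₂', hg₂', h2'⟩ := exists_even_same hab ht hza hzb hg₂
  refine ⟨g₂' * g₁'⁻¹, Subgroup.mul_mem _ hg₂' (Subgroup.inv_mem _ hg₁'), ?_⟩
  rw [Perm.mul_apply, ← h1, ← h1']
  have : g₁'⁻¹ (g₁' z) = z := by simp
  rw [this, h2', h2]

theorem trans_of_cycle {R : Subgroup (Perm α)} {c : Perm α} (hc : c.IsCycle) (hcR : c ∈ R)
    (S : Set α) (hS : ∀ x ∈ S, c x ≠ x) : ∀ x ∈ S, ∀ y ∈ S, ∃ g ∈ R, g x = y := by
  intro x hx y hy
  obtain ⟨i, hi⟩ := hc.exists_pow_eq (hS x hx) (hS y hy)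
  exact ⟨c ^ i, R.pow_mem hcR i, hi⟩

/-- A 2-subgroup of `Perm α` fixes a point when `|α|` is odd. -/
theorem exists_fixed_of_odd {P : Subgroup (Perm α)} (hP : IsPGroup 2 P)
    (hodd : ¬ 2 ∣ Fintype.card α) : ∃ ω : α, ∀ g ∈ P, g ω = ω := by
  obtain ⟨ω, hω⟩ := hP.nonempty_fixed_point_of_prime_not_dvd_card α
    (by rwa [Nat.card_eq_fintype_card])
  exact ⟨ω, fun g hg => hω ⟨g, hg⟩⟩

/-- Orbits of a 2-subgroup have 2-power size. -/
theorem ncard_orbit_two_pow {P : Subgroup (Perm α)} (hP : IsPGroup 2 P) (x : α) :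
    ∃ j : ℕ, (orbit P x).ncard = 2 ^ j := by
  obtain ⟨j, hj⟩ := hP.card_orbit x
  exact ⟨j, by rw [← hj, Nat.card_coe_set_eq]⟩

theorem mem_orbit_sub {P : Subgroup (Perm α)} {x y : α} :
    y ∈ orbit P x ↔ ∃ g ∈ P, g x = y := by
  rw [mem_orbit_iff]
  constructor
  · rintro ⟨⟨g, hg⟩, h⟩; exact ⟨g, hg, h⟩
  · rintro ⟨g, hg, h⟩; exact ⟨⟨g, hg⟩, h⟩

/-- A subgroup stabilizes each of its orbits. -/
theorem le_stabilizer_orbit (P : Subgroup (Perm α)) (x : α) :
    P ≤ stabilizer (Perm α) (orbit P x) := by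
  intro g hg
  rw [mem_stabilizer_set]
  intro y
  rw [mem_orbit_sub, mem_orbit_sub]
  constructor
  · rintro ⟨h, hh, e⟩
    refine ⟨g⁻¹ * h, P.mul_mem (P.inv_mem hg) hh, ?_⟩
    rw [Perm.mul_apply, e]; simp
  · rintro ⟨h, hh, e⟩
    exact ⟨g * h, P.mul_mem hg hh, by rw [Perm.mul_apply, e]; rfl⟩

end SylowPerm

end Cfsg.Agent.Lib.Helper38.Syl2Max
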