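import Mathlib
import Cfsg.Agent.Lib.Helper38.Syl2MaxA

set_option autoImplicit false

/-!
# Tools for Sylow 2-subgroups of `S_n`/`A_n` and their overgroups (part B: two blocks)
-/

namespace Cfsg.Agent.Lib.Helper38.Syl2Max

open Equiv Equiv.Perm MulAction
open scoped Pointwise

section HalfBlock

variable {α : Type*} [Fintype α] [DecidableEq α]

/-- A transitive 2-group of permutations of a set with at least 2 points preserves a partition
into two halves. -/
theorem exists_half_block (P : Subgroup (Perm α)) (hP : IsPGroup 2 P)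
    (htr : ∀ x y : α, ∃ g ∈ P, g x = y) (h2 : 2 ≤ Fintype.card α) :
    ∃ A : Set α, A.ncard = Aᶜ.ncard ∧ ∀ g ∈ P, g • A = A ∨ g • A = Aᶜ := by
  classical
  have hne : Nonempty α := by
    rw [← Fintype.card_pos_iff]; omega
  obtain ⟨x⟩ := hne
  have hpt : IsPretransitive P α :=
    ⟨fun a b => by obtain ⟨g, hg, h⟩ := htr a b; exact ⟨⟨g, hg⟩, h⟩⟩
  have hidx : (stabilizer P x).index = Fintype.card α := by
    rw [MulAction.index_stabilizer_of_transitive, Nat.card_eq_fintype_card]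
  obtain ⟨a, ha⟩ := IsPGroup.iff_card.mp hP
  obtain ⟨b, hb⟩ := IsPGroup.iff_card.mp (hP.to_subgroup (stabilizer P x))
  have hmul : 2 ^ b * Fintype.card α = 2 ^ a := by
    rw [← hb, ← hidx, Subgroup.card_mul_index, ha]
  have hba : b < a := by
    have h1 : 2 ^ b * 2 ≤ 2 ^ a := by
      rw [← hmul]; exact Nat.mul_le_mul_left _ h2
    have h3 : 2 ^ (b + 1) ≤ 2 ^ a := by rwa [pow_succ]
    have := (Nat.pow_le_pow_iff_right (by norm_num : 1 < 2)).mp h3
    omega
  obtain ⟨K, hK, hSK⟩ := Sylow.exists_subgroup_card_pow_prime_le 2 (m := a - 1) (n := b)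
    (by rw [ha]; exact pow_dvd_pow 2 (Nat.sub_le a 1)) (stabilizer P x) hb (by omega)
  have hKidx : K.index = 2 := by
    have h1 := K.card_mul_index
    rw [hK, ha] at h1
    have h3 : 2 ^ (a - 1) * K.index = 2 ^ (a - 1) * 2 := by
      rw [h1, ← pow_succ]; congr 1; omega
    exact Nat.eq_of_mul_eq_mul_left (by positivity) h3
  have hmm := @Subgroup.mul_mem_iff_of_index_two _ _ K hKidx
  let A : Set α := {y | ∃ g : P, g ∈ K ∧ (g : Perm α) x = y}
  have hA_in : ∀ h : P, h ∈ K → ∀ y ∈ A, (h : Perm α) y ∈ A := by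
    rintro h hh y ⟨g, hg, rfl⟩
    exact ⟨h * g, K.mul_mem hh hg, rfl⟩
  have hA_out : ∀ h : P, h ∉ K → ∀ y ∈ A, (h : Perm α) y ∉ A := by
    rintro h hh y ⟨g, hg, rfl⟩ ⟨g', hg', e⟩
    apply hh
    have h1 : g'⁻¹ * (h * g) ∈ stabilizer P x := by
      rw [mem_stabilizer_iff]
      show ((g'⁻¹ * (h * g) : P) : Perm α) x = x
      simp only [Subgroup.coe_mul, Subgroup.coe_inv, Perm.mul_apply]
      rw [← e]; simp
    have h2 := hSK h1
    rw [hmm] at h2
    have h3 : h * g ∈ K := h2.mp (K.inv_mem hg')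
    rw [hmm] at h3
    exact h3.mpr hg
  have hAc : ∀ h : P, h ∉ K → ∀ z, z ∉ A → ∃ y ∈ A, (h : Perm α) y = z := by
    intro h hh z hz
    obtain ⟨t, ht, e⟩ := htr x z
    have htK : (⟨t, ht⟩ : P) ∉ K := fun h' => hz ⟨⟨t, ht⟩, h', e⟩
    have h1 : h⁻¹ * ⟨t, ht⟩ ∈ K := by
      rw [hmm]
      constructor
      · intro h'; exact absurd (by simpa using K.inv_mem h') hh
      · intro h'; exact absurd h' htK
    refine ⟨((h⁻¹ * ⟨t, ht⟩ : P) : Perm α) x, ⟨_, h1, rfl⟩, ?_⟩
    simp only [Subgroup.coe_mul, Subgroup.coe_inv, Perm.mul_apply]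
    rw [e]; simp
  have hcase : ∀ g (hg : g ∈ P), ((⟨g, hg⟩ : P) ∈ K → g • A = A) ∧
      ((⟨g, hg⟩ : P) ∉ K → g • A = Aᶜ) := by
    intro g hg
    constructor
    · intro hgK
      ext z
      rw [Set.mem_smul_set_iff_inv_smul_mem]
      constructor
      · intro h
        have := hA_in ⟨g, hg⟩ hgK _ h
        simpa using this
      · intro h
        exact hA_in (⟨g, hg⟩⁻¹ : P) (K.inv_mem hgK) _ h
    · intro hgK
      ext z
      rw [Set.mem_smul_set_iff_inv_smul_mem, Set.mem_compl_iff]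
      constructor
      · intro h
        have := hA_out ⟨g, hg⟩ hgK _ h
        simpa using this
      · intro h
        obtain ⟨y, hy, e⟩ := hAc ⟨g, hg⟩ hgK z h
        have : g⁻¹ • z = y := by
          rw [← e]; simp
        rw [this]; exact hy
  refine ⟨A, ?_, ?_⟩
  · have hKtop : K ≠ ⊤ := by
      intro h
      rw [h, Subgroup.index_top] at hKidx
      omega
    obtain ⟨h, hh⟩ : ∃ h : P, h ∉ K := by
      by_contra hcon
      push Not at hcon
      exact hKtop (eq_top_iff.mpr fun y _ => hcon y)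
    have := (hcase h.1 h.2).2 hh
    rw [← this, Set.ncard_smul_set]
  · intro g hg
    by_cases hgK : (⟨g, hg⟩ : P) ∈ K
    · exact Or.inl ((hcase g hg).1 hgK)
    · exact Or.inr ((hcase g hg).2 hgK)

end HalfBlock

section TwoBlock

variable {α : Type*} [Fintype α] [DecidableEq α]

theorem comm_pair_swaps {α : Type*} [DecidableEq α] (τ : Perm α) (hτ : ∀ x, τ (τ x) = x) (x u : α) :
    (swap x (τ x) * swap u (τ u)) * τ = τ * (swap x (τ x) * swap u (τ u)) := by
  have h1 : τ * swap x (τ x) * τ⁻¹ = swap x (τ x) := by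
    rw [← swap_apply_apply, hτ, swap_comm]
  have h2 : τ * swap u (τ u) * τ⁻¹ = swap u (τ u) := by
    rw [← swap_apply_apply, hτ, swap_comm]
  have h3 : τ * (swap x (τ x) * swap u (τ u)) * τ⁻¹ = swap x (τ x) * swap u (τ u) := by
    calc τ * (swap x (τ x) * swap u (τ u)) * τ⁻¹
        = (τ * swap x (τ x) * τ⁻¹) * (τ * swap u (τ u) * τ⁻¹) := by group
      _ = _ := by rw [h1, h2]
  exact (mul_inv_eq_iff_eq_mul.mp h3).symm

theorem comm_cross_swaps {α : Type*} [DecidableEq α] (τ : Perm α) (hτ : ∀ x, τ (τ x) = x)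
    (x u : α) (h : [x, u, τ x, τ u].Nodup) :
    (swap x u * swap (τ x) (τ u)) * τ = τ * (swap x u * swap (τ x) (τ u)) := by
  have h1 : τ * swap x u * τ⁻¹ = swap (τ x) (τ u) := by
    rw [← swap_apply_apply]
  have h2 : τ * swap (τ x) (τ u) * τ⁻¹ = swap x u := by
    rw [← swap_apply_apply, hτ, hτ]
  have hc : Commute (swap x u) (swap (τ x) (τ u)) := (disjoint_swap_swap h).commute
  have h3 : τ * (swap x u * swap (τ x) (τ u)) * τ⁻¹ = swap x u * swap (τ x) (τ u) := by
    calc τ * (swap x u * swap (τ x) (τ u)) * τ⁻¹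
        = (τ * swap x u * τ⁻¹) * (τ * swap (τ x) (τ u) * τ⁻¹) := by group
      _ = swap (τ x) (τ u) * swap x u := by rw [h1, h2]
      _ = _ := hc.eq.symm
  exact (mul_inv_eq_iff_eq_mul.mp h3).symm

theorem ncard_triple_le {β : Type*} (p r s : β) : ({p, r, s} : Set β).ncard ≤ 3 := by
  have h1 := Set.ncard_insert_le p ({r, s} : Set β)
  have h2 := Set.ncard_insert_le r ({s} : Set β)
  rw [Set.ncard_singleton] at h2
  omega

/-- A double transposition `(p q)(r s)` with `p ∈ A`, `q ∉ A` breaks the partition `{A, Aᶜ}` when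
both parts have at least four elements. -/
theorem bad_core (A : Set α) (hA : 4 ≤ A.ncard) (hAc : 4 ≤ Aᶜ.ncard) {p q r s : α}
    (hp : p ∈ A) (hq : q ∉ A) (hpr : p ≠ r) (hps : p ≠ s) :
    (swap p q * swap r s) • A ≠ A ∧ ((swap p q * swap r s) • A ∩ A).Nonempty ∧
      ((swap p q * swap r s) • Aᶜ ∩ Aᶜ).Nonempty := by
  have hgp : (swap p q * swap r s) p = q := by
    rw [Perm.mul_apply, swap_apply_of_ne_of_ne hpr hps, swap_apply_left]
  refine ⟨?_, ?_, ?_⟩
  · intro h
    apply hq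
    rw [← h]
    exact ⟨p, hp, hgp⟩
  · have hlt : ({p, r, s} : Set α).ncard < A.ncard := by
      have : ({p, r, s} : Set α).ncard ≤ 3 := ncard_triple_le p r s
      omega
    obtain ⟨a, haA, ha⟩ := Set.exists_mem_notMem_of_ncard_lt_ncard hlt
    simp only [Set.mem_insert_iff, Set.mem_singleton_iff, not_or] at ha
    have haq : a ≠ q := fun h => hq (h ▸ haA)
    refine ⟨a, ⟨a, haA, ?_⟩, haA⟩
    show (swap p q * swap r s) a = a
    rw [Perm.mul_apply, swap_apply_of_ne_of_ne ha.2.1 ha.2.2, swap_apply_of_ne_of_ne ha.1 haq]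
  · have hlt : ({q, r, s} : Set α).ncard < Aᶜ.ncard := by
      have : ({q, r, s} : Set α).ncard ≤ 3 := ncard_triple_le q r s
      omega
    obtain ⟨b, hbA, hb⟩ := Set.exists_mem_notMem_of_ncard_lt_ncard hlt
    simp only [Set.mem_insert_iff, Set.mem_singleton_iff, not_or] at hb
    have hbp : b ≠ p := fun h => hbA (h ▸ hp)
    refine ⟨b, ⟨b, hbA, ?_⟩, hbA⟩
    show (swap p q * swap r s) b = b
    rw [Perm.mul_apply, swap_apply_of_ne_of_ne hb.2.1 hb.2.2, swap_apply_of_ne_of_ne hbp hb.1]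

/-- For a fixed-point-free involution `τ` and a set `A` with `|A|, |Aᶜ| ≥ 4`, there is an even
permutation centralizing `τ` which does not respect the partition `{A, Aᶜ}`. -/
theorem exists_bad_elt (τ : Perm α) (hτ : ∀ x, τ (τ x) = x) (hfpf : ∀ x, τ x ≠ x) (A : Set α)
    (hA : 4 ≤ A.ncard) (hAc : 4 ≤ Aᶜ.ncard) :
    ∃ g : Perm α, g ∈ alternatingGroup α ∧ g * τ = τ * g ∧ g • A ≠ A ∧ (g • A ∩ A).Nonempty ∧
      (g • Aᶜ ∩ Aᶜ).Nonempty := by
  have hAne : A.Nonempty := by
    rw [← Set.ncard_pos]; omega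
  obtain ⟨x, hx⟩ := hAne
  by_cases hy : τ x ∈ A
  · -- pick `u ∉ A`
    have hAcne : Aᶜ.Nonempty := by
      rw [← Set.ncard_pos]; omega
    obtain ⟨u, hu⟩ := hAcne
    have hxu : x ≠ u := fun h => hu (h ▸ hx)
    have hyu : τ x ≠ u := fun h => hu (h ▸ hy)
    have hxv : x ≠ τ u := fun h => hyu (by rw [h, hτ])
    have hyv : τ x ≠ τ u := fun h => hxu (τ.injective h)
    have hnd : [x, u, τ x, τ u].Nodup := by
      simp [hxu, (hfpf x).symm, hxv, hyu.symm, (hfpf u).symm, hyv]
    refine ⟨swap x u * swap (τ x) (τ u), ?_, comm_cross_swaps τ hτ x u hnd, ?_⟩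
    · rw [mem_alternatingGroup, Perm.sign_mul, sign_swap hxu, sign_swap hyv]; rfl
    · exact bad_core A hA hAc hx hu (hfpf x).symm hxv
  · -- `τ x ∉ A`; pick `u ∈ A`, `u ≠ x`
    have hlt : ({x} : Set α).ncard < A.ncard := by
      rw [Set.ncard_singleton]; omega
    obtain ⟨u, huA, hu⟩ := Set.exists_mem_notMem_of_ncard_lt_ncard hlt
    simp only [Set.mem_singleton_iff] at hu
    have hxu : x ≠ u := fun h => hu h.symm
    have hxv : x ≠ τ u := fun h => hy (by rw [h, hτ]; exact huA)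
    refine ⟨swap x (τ x) * swap u (τ u), ?_, comm_pair_swaps τ hτ x u, ?_⟩
    · rw [mem_alternatingGroup, Perm.sign_mul, sign_swap (hfpf x).symm, sign_swap (hfpf u).symm]
      rfl
    · exact bad_core A hA hAc hx hy hxu hxv

/-- Overgroups in `Perm α` of the stabilizer of `A` which are transitive and break `{A, Aᶜ}` are
everything. -/
theorem twoBlock_perm (A : Set α) (hA2 : A.Nontrivial)
    (G : Subgroup (Perm α)) (hG : stabilizer (Perm α) A ≤ G) (htr : IsPretransitive G α)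
    (g : Perm α) (hg : g ∈ G) (h1 : g • A ≠ A) (h2 : (g • A ∩ A).Nonempty)
    (h3 : (g • Aᶜ ∩ Aᶜ).Nonempty) : G = ⊤ := by
  by_contra hne
  obtain ⟨a, ha, b, hb, hab⟩ := hA2
  have hnp : ¬ IsPreprimitive G α := fun hp =>
    hne (subgroup_eq_top_of_isPreprimitive_of_isSwap_mem hp (swap a b)
      (swap_isSwap_iff.mpr hab) (hG (swap_mem_stabilizer ha hb)))
  have hex : ∃ B : Set α, IsBlock G B ∧ ¬ IsTrivialBlock B := by
    by_contra hcon
    push Not at hcon
    exact hnp ⟨fun {B} hB => hcon B hB⟩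
  obtain ⟨B, hB, hBt⟩ := hex
  rw [IsTrivialBlock, not_or] at hBt
  have hGc : stabilizer (Perm α) Aᶜ ≤ G := by rwa [stabilizer_compl]
  have hsub : B ⊆ A ∨ B ⊆ Aᶜ := by
    by_contra hcon
    push Not at hcon
    have _ := Equiv.Perm.isMultiplyPretransitive α (A.ncard + 1)
    have _ := Equiv.Perm.isMultiplyPretransitive α (Aᶜ.ncard + 1)
    have e1 : Aᶜ ⊆ B :=
      IsBlock.compl_subset_of_stabilizer_le_of_not_subset_of_not_subset_compl hG hcon.1 hcon.2 hB
    have e2 : Aᶜᶜ ⊆ B :=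
      IsBlock.compl_subset_of_stabilizer_le_of_not_subset_of_not_subset_compl hGc hcon.2
        (by rw [compl_compl]; exact hcon.1) hB
    rw [compl_compl] at e2
    apply hBt.2
    ext z
    simp only [Set.mem_univ, iff_true]
    by_cases hz : z ∈ A
    · exact e2 hz
    · exact e1 hz
  rcases hsub with hs | hs
  · have hBA : B = A := by
      by_contra hne'
      exact hBt.1 (IsBlock.subsingleton_of_ssubset_of_stabilizer_Perm_le hB
        (hs.ssubset_of_ne hne') hG)
    rw [hBA] at hB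
    exact h1 (hB.smul_eq_of_nonempty (g := ⟨g, hg⟩) h2)
  · have hBA : B = Aᶜ := by
      by_contra hne'
      exact hBt.1 (IsBlock.subsingleton_of_ssubset_of_stabilizer_Perm_le hB
        (hs.ssubset_of_ne hne') hGc)
    rw [hBA] at hB
    have h4 : g • Aᶜ = Aᶜ := hB.smul_eq_of_nonempty (g := ⟨g, hg⟩) h3
    rw [Set.smul_set_compl, compl_inj_iff] at h4
    exact h1 h4

/-- Overgroups in `alternatingGroup α` of the stabilizer of `A` which are transitive and
break `{A, Aᶜ}` are everything. -/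
theorem twoBlock_alt (A : Set α) (hA2 : A.Nontrivial) (hAc2 : Aᶜ.Nontrivial)
    (h4 : 4 < Nat.card α) (hc1 : A.ncard + 1 ≤ Nat.card α - 2)
    (hc2 : Aᶜ.ncard + 1 ≤ Nat.card α - 2)
    (G : Subgroup (alternatingGroup α)) (hG : stabilizer (alternatingGroup α) A ≤ G)
    (htr : IsPretransitive G α)
    (g : alternatingGroup α) (hg : g ∈ G) (h1 : g • A ≠ A) (h2 : (g • A ∩ A).Nonempty)
    (h3 : (g • Aᶜ ∩ Aᶜ).Nonempty) : G = ⊤ := by
  by_contra hne
  have hnp : ¬ IsPreprimitive G α := fun hp =>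
    hne (alternatingGroup.subgroup_eq_top_of_isPreprimitive h4 G hG)
  have hex : ∃ B : Set α, IsBlock G B ∧ ¬ IsTrivialBlock B := by
    by_contra hcon
    push Not at hcon
    exact hnp ⟨fun {B} hB => hcon B hB⟩
  obtain ⟨B, hB, hBt⟩ := hex
  rw [IsTrivialBlock, not_or] at hBt
  have hGc : stabilizer (alternatingGroup α) Aᶜ ≤ G := by rwa [stabilizer_compl]
  have hsub : B ⊆ A ∨ B ⊆ Aᶜ := by
    by_contra hcon
    push Not at hcon
    have hm := alternatingGroup.isMultiplyPretransitive α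
    have _ : IsMultiplyPretransitive (alternatingGroup α) α (A.ncard + 1) :=
      isMultiplyPretransitive_of_le (n := Nat.card α - 2) hc1 (Nat.sub_le _ _)
    have _ : IsMultiplyPretransitive (alternatingGroup α) α (Aᶜ.ncard + 1) :=
      isMultiplyPretransitive_of_le (n := Nat.card α - 2) hc2 (Nat.sub_le _ _)
    have e1 : Aᶜ ⊆ B :=
      IsBlock.compl_subset_of_stabilizer_le_of_not_subset_of_not_subset_compl hG hcon.1 hcon.2 hB
    have e2 : Aᶜᶜ ⊆ B :=
      IsBlock.compl_subset_of_stabilizer_le_of_not_subset_of_not_subset_compl hGc hcon.2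
        (by rw [compl_compl]; exact hcon.1) hB
    rw [compl_compl] at e2
    apply hBt.2
    ext z
    simp only [Set.mem_univ, iff_true]
    by_cases hz : z ∈ A
    · exact e2 hz
    · exact e1 hz
  rcases hsub with hs | hs
  · have hBA : B = A := by
      by_contra hne'
      have hss : B ⊂ Aᶜᶜ := by rw [compl_compl]; exact hs.ssubset_of_ne hne'
      exact hBt.1 (IsBlock.subsingleton_of_ssubset_compl_of_stabilizer_alternatingGroup_le
        hAc2 hss hGc hB)
    rw [hBA] at hB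
    exact h1 (hB.smul_eq_of_nonempty (g := ⟨g, hg⟩) h2)
  · have hBA : B = Aᶜ := by
      by_contra hne'
      exact hBt.1 (IsBlock.subsingleton_of_ssubset_compl_of_stabilizer_alternatingGroup_le
        hA2 (hs.ssubset_of_ne hne') hG hB)
    rw [hBA] at hB
    have h4' : g • Aᶜ = Aᶜ := hB.smul_eq_of_nonempty (g := ⟨g, hg⟩) h3
    rw [Set.smul_set_compl, compl_inj_iff] at h4'
    exact h1 h4'

end TwoBlock

end Cfsg.Agent.Lib.Helper38.Syl2Max
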