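import Mathlib
import Cfsg.Agent.Lib.Helper38.Syl2MaxA

set_option autoImplicit false

/-!
# Tools for Sylow 2-subgroups of `S_n`/`A_n` and their overgroups (part C: three-cycles)
-/

namespace Cfsg.Agent.Lib.Helper38.Syl2Max

open Equiv Equiv.Perm MulAction
open scoped Pointwise

section Prim

variable {α : Type*} [Fintype α] [DecidableEq α]

/-- If `G` contains a subgroup `P` fixing `ω` and transitive on the other points, and `G` moves `ω`,
then `G` is transitive. -/
theorem trans_of_fix_trans {P G : Subgroup (Perm α)} (hPG : P ≤ G) {ω : α}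
    (htr : ∀ x, x ≠ ω → ∀ y, y ≠ ω → ∃ g ∈ P, g x = y)
    (hmove : ∃ g ∈ G, g ω ≠ ω) : ∀ x y : α, ∃ h ∈ G, h x = y := by
  obtain ⟨g₀, hg₀, hne⟩ := hmove
  have base : ∀ y, ∃ h ∈ G, h ω = y := by
    intro y
    by_cases hy : y = ω
    · exact ⟨1, G.one_mem, by rw [hy]; rfl⟩
    · obtain ⟨p, hp, e⟩ := htr _ hne y hy
      exact ⟨p * g₀, G.mul_mem (hPG hp) hg₀, by rw [Perm.mul_apply, e]⟩
  intro x y
  obtain ⟨h₁, hh₁, e₁⟩ := base x
  obtain ⟨h₂, hh₂, e₂⟩ := base y
  refine ⟨h₂ * h₁⁻¹, G.mul_mem hh₂ (G.inv_mem hh₁), ?_⟩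
  rw [Perm.mul_apply, ← e₁]
  simp [e₂]

/-- explicit 2-transitivity -/
theorem two_trans_of_fix_trans {P G : Subgroup (Perm α)} (hPG : P ≤ G) {ω : α}
    (hfix : ∀ g ∈ P, g ω = ω)
    (htr : ∀ x, x ≠ ω → ∀ y, y ≠ ω → ∃ g ∈ P, g x = y)
    (hmove : ∃ g ∈ G, g ω ≠ ω) (p p' z : α) (hp' : p' ≠ p) (hz : z ≠ p) :
    ∃ h ∈ G, h p = p ∧ h p' = z := by
  obtain ⟨h₀, hh₀, e₀⟩ := trans_of_fix_trans hPG htr hmove ω p
  have h1 : h₀⁻¹ p' ≠ ω := by
    intro h
    apply hp'
    rw [← e₀, ← h]; simp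
  have h2 : h₀⁻¹ z ≠ ω := by
    intro h
    apply hz
    rw [← e₀, ← h]; simp
  obtain ⟨q, hq, eq⟩ := htr _ h1 _ h2
  refine ⟨h₀ * q * h₀⁻¹, G.mul_mem (G.mul_mem hh₀ (hPG hq)) (G.inv_mem hh₀), ?_, ?_⟩
  · have : h₀⁻¹ p = ω := by rw [← e₀]; simp
    rw [Perm.mul_apply, Perm.mul_apply, this, hfix q hq, e₀]
  · rw [Perm.mul_apply, Perm.mul_apply, eq]; simp

theorem primitive_of_fix_trans {P G : Subgroup (Perm α)} (hPG : P ≤ G) {ω : α}
    (hfix : ∀ g ∈ P, g ω = ω)
    (htr : ∀ x, x ≠ ω → ∀ y, y ≠ ω → ∃ g ∈ P, g x = y)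
    (hmove : ∃ g ∈ G, g ω ≠ ω) : IsPreprimitive G α := by
  have hpt : IsPretransitive G α :=
    ⟨fun a b => by
      obtain ⟨g, hg, h⟩ := trans_of_fix_trans hPG htr hmove a b
      exact ⟨⟨g, hg⟩, h⟩⟩
  apply IsPreprimitive.of_isTrivialBlock_base ω
  intro B hω hB
  by_cases hsub : B.Subsingleton
  · exact Or.inl hsub
  · right
    rw [Set.not_subsingleton_iff] at hsub
    obtain ⟨b, hb, hbω⟩ : ∃ b ∈ B, b ≠ ω := by
      obtain ⟨x, hx, y, hy, hxy⟩ := hsub
      by_cases h : x = ω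
      · exact ⟨y, hy, fun h' => hxy (h.trans h'.symm)⟩
      · exact ⟨x, hx, h⟩
    ext y
    simp only [Set.mem_univ, iff_true]
    by_cases hy : y = ω
    · rw [hy]; exact hω
    · obtain ⟨p, hp, e⟩ := htr b hbω y hy
      have h1 : (⟨p, hPG hp⟩ : G) • B = B := by
        apply hB.smul_eq_of_mem hω
        show p ω ∈ B
        rw [hfix p hp]; exact hω
      rw [← h1, ← e]
      exact ⟨b, hb, rfl⟩

end Prim

section Three

variable {α : Type*} [Fintype α] [DecidableEq α]

theorem pick1 {β : Type*} (x c₁ c₁' c₂ c₂' : β) (h : [c₁, c₁', c₂, c₂'].Nodup) :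
    (x ≠ c₁ ∧ x ≠ c₁') ∨ (x ≠ c₂ ∧ x ≠ c₂') := by
  simp at h
  grind

theorem pick2 {β : Type*} (u u' b₁ b₁' b₂ b₂' b₃ b₃' : β)
    (h : [b₁, b₁', b₂, b₂', b₃, b₃'].Nodup) :
    (u ≠ b₁ ∧ u ≠ b₁' ∧ u' ≠ b₁ ∧ u' ≠ b₁') ∨ (u ≠ b₂ ∧ u ≠ b₂' ∧ u' ≠ b₂ ∧ u' ≠ b₂') ∨
    (u ≠ b₃ ∧ u ≠ b₃' ∧ u' ≠ b₃ ∧ u' ≠ b₃') := by
  simp at h
  grind

/-- Two double transpositions sharing exactly one point produce a three-cycle. -/
theorem three_cycle_of_pair {G : Subgroup (Perm α)} {a a' w b b' c c' : α}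
    (hnd : [a, a', w, b, b', c, c'].Nodup)
    (hf : swap a a' * swap b b' ∈ G) (he : swap a w * swap c c' ∈ G) :
    ∃ t ∈ G, t.IsThreeCycle := by
  simp only [List.nodup_cons, List.mem_cons, List.not_mem_nil, or_false, not_or,
    List.nodup_nil, and_true] at hnd
  obtain ⟨⟨h1, h2, h3, h4, h5, h6⟩, ⟨h7, h8, h9, h10, h11⟩, ⟨h12, h13, h14, h15⟩,
    ⟨h16, h17, h18⟩, ⟨h19, h20⟩, h21⟩ := hnd
  have ne : ∀ {x y : α}, ¬ x = y → ¬ y = x := fun h e => h e.symm
  have c23 : Commute (swap b b') (swap a w) :=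
    (disjoint_swap_swap (by simp [*, Ne.symm])).commute
  have c21 : Commute (swap b b') (swap a a') :=
    (disjoint_swap_swap (by simp [*, Ne.symm])).commute
  have c41 : Commute (swap c c') (swap a a') :=
    (disjoint_swap_swap (by simp [*, Ne.symm])).commute
  have c43 : Commute (swap c c') (swap a w) :=
    (disjoint_swap_swap (by simp [*, Ne.symm])).commute
  have c24 : Commute (swap b b') (swap c c') :=
    (disjoint_swap_swap (by simp [*, Ne.symm])).commute
  have e1 : (swap a a' * swap b b') * (swap a w * swap c c') =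
      (swap a a' * swap a w) * (swap b b' * swap c c') := c23.mul_mul_mul_comm _ _
  have hU : (swap b b' * swap c c') * (swap b b' * swap c c') = 1 := by
    rw [c24.symm.mul_mul_mul_comm, swap_mul_self, swap_mul_self, one_mul]
  have cUT : Commute (swap b b' * swap c c') (swap a a' * swap a w) :=
    Commute.mul_left (Commute.mul_right c21 c23) (Commute.mul_right c41 c43)
  have e2 : ((swap a a' * swap b b') * (swap a w * swap c c')) *
      ((swap a a' * swap b b') * (swap a w * swap c c')) =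
      (swap a a' * swap a w) * (swap a a' * swap a w) := by
    rw [e1, cUT.mul_mul_mul_comm, hU, mul_one]
  refine ⟨_, G.mul_mem (G.mul_mem hf he) (G.mul_mem hf he), ?_⟩
  rw [e2]
  exact (isThreeCycle_swap_mul_swap_same h1 h2 h7).isThreeCycle_sq

/-- The three-cycle argument for degree at least 9. -/
theorem three_cycle_core {G : Subgroup (Perm α)} {a a' b₁ b₁' b₂ b₂' b₃ b₃' ω : α}
    (hnd : [a, a', b₁, b₁', b₂, b₂', b₃, b₃', ω].Nodup)
    (hf₁ : swap a a' * swap b₁ b₁' ∈ G) (hf₂ : swap a a' * swap b₂ b₂' ∈ G)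
    (hf₃ : swap a a' * swap b₃ b₃' ∈ G)
    {h : Perm α} (hh : h ∈ G) (ha : h a = a) (ha' : h a' = ω) :
    ∃ t ∈ G, t.IsThreeCycle := by
  have conj : ∀ b b', swap a a' * swap b b' ∈ G → swap a ω * swap (h b) (h b') ∈ G := by
    intro b b' hf
    have := G.mul_mem (G.mul_mem hh hf) (G.inv_mem hh)
    have e : h * (swap a a' * swap b b') * h⁻¹ = swap a ω * swap (h b) (h b') := by
      calc h * (swap a a' * swap b b') * h⁻¹ = (h * swap a a' * h⁻¹) * (h * swap b b' * h⁻¹) := by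
            group
        _ = _ := by rw [← swap_apply_apply, ← swap_apply_apply, ha, ha']
    rwa [e] at this
  have he₁ := conj _ _ hf₁
  have he₂ := conj _ _ hf₂
  have hinj : ∀ x y, h x = h y → x = y := fun x y e => h.injective e
  have hcs : [h b₁, h b₁', h b₂, h b₂'].Nodup := by
    simp only [List.nodup_cons, List.mem_cons, List.not_mem_nil, or_false, not_or,
      List.nodup_nil, and_true, h.injective.eq_iff] at hnd ⊢
    grind
  have hbs : [b₁, b₁', b₂, b₂', b₃, b₃'].Nodup := by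
    simp only [List.nodup_cons, List.mem_cons, List.not_mem_nil, or_false, not_or,
      List.nodup_nil, and_true] at hnd ⊢
    grind
  simp only [List.nodup_cons, List.mem_cons, List.not_mem_nil, or_false, not_or,
    List.nodup_nil, and_true] at hnd
  rcases pick1 a' (h b₁) (h b₁') (h b₂) (h b₂') hcs with hi | hi
  · rcases pick2 (h b₁) (h b₁') b₁ b₁' b₂ b₂' b₃ b₃' hbs with hj | hj | hj
    · refine three_cycle_of_pair (a := a) (a' := a') (w := ω) (b := b₁) (b' := b₁')
        (c := h b₁) (c' := h b₁') ?_ hf₁ he₁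
      simp only [List.nodup_cons, List.mem_cons, List.not_mem_nil, or_false, not_or,
        List.nodup_nil, and_true]
      grind
    · refine three_cycle_of_pair (a := a) (a' := a') (w := ω) (b := b₂) (b' := b₂')
        (c := h b₁) (c' := h b₁') ?_ hf₂ he₁
      simp only [List.nodup_cons, List.mem_cons, List.not_mem_nil, or_false, not_or,
        List.nodup_nil, and_true]
      grind
    · refine three_cycle_of_pair (a := a) (a' := a') (w := ω) (b := b₃) (b' := b₃')
        (c := h b₁) (c' := h b₁') ?_ hf₃ he₁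
      simp only [List.nodup_cons, List.mem_cons, List.not_mem_nil, or_false, not_or,
        List.nodup_nil, and_true]
      grind
  · rcases pick2 (h b₂) (h b₂') b₁ b₁' b₂ b₂' b₃ b₃' hbs with hj | hj | hj
    · refine three_cycle_of_pair (a := a) (a' := a') (w := ω) (b := b₁) (b' := b₁')
        (c := h b₂) (c' := h b₂') ?_ hf₁ he₂
      simp only [List.nodup_cons, List.mem_cons, List.not_mem_nil, or_false, not_or,
        List.nodup_nil, and_true]
      grind
    · refine three_cycle_of_pair (a := a) (a' := a') (w := ω) (b := b₂) (b' := b₂')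
        (c := h b₂) (c' := h b₂') ?_ hf₂ he₂
      simp only [List.nodup_cons, List.mem_cons, List.not_mem_nil, or_false, not_or,
        List.nodup_nil, and_true]
      grind
    · refine three_cycle_of_pair (a := a) (a' := a') (w := ω) (b := b₃) (b' := b₃')
        (c := h b₂) (c' := h b₂') ?_ hf₃ he₂
      simp only [List.nodup_cons, List.mem_cons, List.not_mem_nil, or_false, not_or,
        List.nodup_nil, and_true]
      grind

end Three

end Cfsg.Agent.Lib.Helper38.Syl2Max
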