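import Mathlib
import Cfsg.Agent.Lib.Helper38.Syl2MaxA
import Cfsg.Agent.Lib.Helper38.Syl2MaxC

set_option autoImplicit false

/-!
# Tools for Sylow 2-subgroups of `S_n`/`A_n` and their overgroups (part D: uniqueness cores)
-/

namespace Cfsg.Agent.Lib.Helper38.Syl2Max

open Equiv Equiv.Perm MulAction
open scoped Pointwise

section Five

/-- first involution of the Klein four-group on `{0,1,2,3} ⊆ Fin 5` -/
def kv1 : Perm (Fin 5) := swap 0 1 * swap 2 3
/-- second involution -/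
def kv2 : Perm (Fin 5) := swap 0 2 * swap 1 3
/-- third involution -/
def kv3 : Perm (Fin 5) := swap 0 3 * swap 1 2

/-- the Klein four-group on `{0,1,2,3} ⊆ Fin 5` -/
def kleinFive : Subgroup (Perm (Fin 5)) where
  carrier := {σ | σ = 1 ∨ σ = kv1 ∨ σ = kv2 ∨ σ = kv3}
  one_mem' := Or.inl rfl
  mul_mem' := by
    rintro a b (rfl | rfl | rfl | rfl) (rfl | rfl | rfl | rfl) <;> decide
  inv_mem' := by
    rintro a (rfl | rfl | rfl | rfl) <;> decide

theorem isPGroup_kleinFive : IsPGroup 2 kleinFive := by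
  rintro ⟨σ, (rfl | rfl | rfl | rfl)⟩ <;> refine ⟨1, Subtype.ext ?_⟩ <;>
    simp only [pow_one, Subgroup.coe_pow, Subgroup.coe_one] <;> decide

theorem kv1_fix : ∀ i : Fin 5, kv1 i = i → i = 4 := by decide

theorem dbl_mem_kleinFive : ∀ x y u v : Fin 5, [x, y, u, v, 4].Nodup →
    (swap x y * swap u v = 1 ∨ swap x y * swap u v = kv1 ∨ swap x y * swap u v = kv2 ∨
      swap x y * swap u v = kv3) := by
  decide

/-- In degree 5, a Sylow 2-subgroup fixing `ω` contains all double transpositions avoiding `ω`. -/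
theorem klein_in_sylow_five (R : Sylow 2 (Perm (Fin 5))) (ω : Fin 5) (hfix : ∀ g ∈ R, g ω = ω) :
    ∀ x y u v, [x, y, u, v, ω].Nodup →
      swap x y * swap u v ∈ (R : Subgroup (Perm (Fin 5))) ⊓ alternatingGroup (Fin 5) := by
  obtain ⟨g, hg⟩ := exists_conj_mem_sylow R kleinFive isPGroup_kleinFive
  have hω : g⁻¹ ω = 4 := by
    apply kv1_fix
    have h1 : g * kv1 * g⁻¹ ∈ R := hg kv1 (Or.inr (Or.inl rfl))
    have h2 := hfix _ h1
    simp only [Perm.mul_apply] at h2
    apply g.injective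
    rw [h2]; simp
  intro x y u v hnd
  have hnd' : [g⁻¹ x, g⁻¹ y, g⁻¹ u, g⁻¹ v, 4].Nodup := by
    have := hnd.map g⁻¹.injective
    simp only [List.map_cons, List.map_nil, hω] at this
    exact this
  have hmem : swap (g⁻¹ x) (g⁻¹ y) * swap (g⁻¹ u) (g⁻¹ v) ∈ kleinFive :=
    dbl_mem_kleinFive _ _ _ _ hnd'
  have hconj := hg _ hmem
  have e : g * (swap (g⁻¹ x) (g⁻¹ y) * swap (g⁻¹ u) (g⁻¹ v)) * g⁻¹ = swap x y * swap u v := by
    calc g * (swap (g⁻¹ x) (g⁻¹ y) * swap (g⁻¹ u) (g⁻¹ v)) * g⁻¹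
        = (g * swap (g⁻¹ x) (g⁻¹ y) * g⁻¹) * (g * swap (g⁻¹ u) (g⁻¹ v) * g⁻¹) := by group
      _ = _ := by
        rw [← swap_apply_apply, ← swap_apply_apply]
        simp
  rw [e] at hconj
  refine ⟨hconj, ?_⟩
  simp only [List.nodup_cons, List.mem_cons, List.not_mem_nil, or_false, not_or,
    List.nodup_nil, and_true] at hnd
  show swap x y * swap u v ∈ alternatingGroup (Fin 5)
  rw [mem_alternatingGroup, Perm.sign_mul, sign_swap hnd.1.1, sign_swap hnd.2.2.1.1]; rfl

end Five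

section General

variable {α : Type*} [Fintype α] [DecidableEq α]

theorem exists_notMem_list (l : List α) (h : l.length < Fintype.card α) : ∃ x, x ∉ l := by
  by_contra hcon
  push Not at hcon
  have h1 : l.toFinset = Finset.univ := by
    rw [Finset.eq_univ_iff_forall]
    intro x
    rw [List.mem_toFinset]; exact hcon x
  have h2 : Fintype.card α ≤ l.length := by
    rw [← Finset.card_univ, ← h1]
    exact List.toFinset_card_le l
  omega

/-- The three-cycle argument in degree 5. -/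
theorem three_cycle_five (h5 : Fintype.card α = 5) {G : Subgroup (Perm α)} {ω : α}
    (H5 : ∀ x y u v, [x, y, u, v, ω].Nodup → swap x y * swap u v ∈ G)
    (h2t : ∀ p p' z : α, p' ≠ p → z ≠ p → ∃ h ∈ G, h p = p ∧ h p' = z) :
    ∃ t ∈ G, t.IsThreeCycle := by
  obtain ⟨a, ha⟩ := exists_notMem_list [ω] (by simp [h5])
  obtain ⟨a', ha'⟩ := exists_notMem_list [ω, a] (by simp [h5])
  obtain ⟨b, hb⟩ := exists_notMem_list [ω, a, a'] (by simp [h5])
  obtain ⟨b', hb'⟩ := exists_notMem_list [ω, a, a', b] (by simp [h5])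
  simp only [List.mem_cons, List.not_mem_nil, or_false, not_or] at ha ha' hb hb'
  have hd : swap a a' * swap b b' ∈ G := by
    apply H5
    simp only [List.nodup_cons, List.mem_cons, List.not_mem_nil, or_false, not_or,
      List.nodup_nil, and_true]
    grind
  obtain ⟨h, hh, e1, e2⟩ := h2t a a' ω ha'.2 (Ne.symm ha)
  have hinj : ∀ x y, h x = h y → x = y := fun x y e => h.injective e
  have hconj : swap a ω * swap (h b) (h b') ∈ G := by
    have := G.mul_mem (G.mul_mem hh hd) (G.inv_mem hh)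
    have e : h * (swap a a' * swap b b') * h⁻¹ = swap a ω * swap (h b) (h b') := by
      calc h * (swap a a' * swap b b') * h⁻¹ = (h * swap a a' * h⁻¹) * (h * swap b b' * h⁻¹) := by
            group
        _ = _ := by rw [← swap_apply_apply, ← swap_apply_apply, e1, e2]
    rwa [e] at this
  obtain ⟨w, hw⟩ := exists_notMem_list [ω, a, h b, h b'] (by simp [h5])
  simp only [List.mem_cons, List.not_mem_nil, or_false, not_or] at hw
  have hu1 : h b ≠ a := fun e => hb.2.1 (hinj _ _ (e.trans e1.symm))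
  have hu2 : h b ≠ ω := fun e => hb.2.2 (hinj _ _ (e.trans e2.symm))
  have hv1 : h b' ≠ a := fun e => hb'.2.1 (hinj _ _ (e.trans e1.symm))
  have hv2 : h b' ≠ ω := fun e => hb'.2.2.1 (hinj _ _ (e.trans e2.symm))
  have huv : h b ≠ h b' := fun e => hb'.2.2.2 (hinj _ _ e).symm
  have he : swap a w * swap (h b) (h b') ∈ G := by
    apply H5
    simp only [List.nodup_cons, List.mem_cons, List.not_mem_nil, or_false, not_or,
      List.nodup_nil, and_true]
    grind
  have hc : Commute (swap (h b) (h b')) (swap a w) := by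
    apply (disjoint_swap_swap _).commute
    simp only [List.nodup_cons, List.mem_cons, List.not_mem_nil, or_false, not_or,
      List.nodup_nil, and_true]
    grind
  have e3 : (swap a ω * swap (h b) (h b')) * (swap a w * swap (h b) (h b')) =
      swap a ω * swap a w := by
    rw [hc.mul_mul_mul_comm, swap_mul_self, mul_one]
  refine ⟨_, G.mul_mem hconj he, ?_⟩
  rw [e3]
  exact isThreeCycle_swap_mul_swap_same ha (Ne.symm hw.2.1) (Ne.symm hw.1)

theorem double_moves {a a' b b' : α} (hnd : [a, a', b, b'].Nodup) :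
    ∀ x ∈ [a, a', b, b'], (swap a a' * swap b b') x ≠ x := by
  simp only [List.nodup_cons, List.mem_cons, List.not_mem_nil, or_false, not_or,
    List.nodup_nil, and_true] at hnd
  obtain ⟨⟨h1, h2, h3⟩, ⟨h4, h5⟩, h6⟩ := hnd
  intro x hx
  simp only [List.mem_cons, List.not_mem_nil, or_false] at hx
  rcases hx with rfl | rfl | rfl | rfl
  · rw [Perm.mul_apply, swap_apply_of_ne_of_ne h2 h3, swap_apply_left]; exact fun e => h1 e.symm
  · rw [Perm.mul_apply, swap_apply_of_ne_of_ne h4 h5, swap_apply_right]; exact h1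
  · rw [Perm.mul_apply, swap_apply_left, swap_apply_of_ne_of_ne (fun e => h3 e.symm)
      (fun e => h5 e.symm)]; exact fun e => h6.1 e.symm
  · rw [Perm.mul_apply, swap_apply_right, swap_apply_of_ne_of_ne (fun e => h2 e.symm)
      (fun e => h4 e.symm)]; exact h6.1

/-- Sylow 2-subgroups of `Perm α` contain a "four pair system" as soon as there is an involution
with four non-trivial orbits. -/
theorem sylow_pairs (R : Sylow 2 (Perm α)) (τ₀ : Perm α) (hτ₀ : ∀ x, τ₀ (τ₀ x) = x)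
    (p₁ p₂ p₃ p₄ : α) (hnd : [p₁, τ₀ p₁, p₂, τ₀ p₂, p₃, τ₀ p₃, p₄, τ₀ p₄].Nodup) :
    ∃ a a' b₁ b₁' b₂ b₂' b₃ b₃' : α, [a, a', b₁, b₁', b₂, b₂', b₃, b₃'].Nodup ∧
      swap a a' * swap b₁ b₁' ∈ (R : Subgroup (Perm α)) ⊓ alternatingGroup α ∧
      swap a a' * swap b₂ b₂' ∈ (R : Subgroup (Perm α)) ⊓ alternatingGroup α ∧
      swap a a' * swap b₃ b₃' ∈ (R : Subgroup (Perm α)) ⊓ alternatingGroup α := by
  obtain ⟨g, hg⟩ := exists_conj_mem_sylow R (pairSub τ₀ hτ₀) (isPGroup_pairSub τ₀ hτ₀)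
  have key : ∀ p q : α, p ≠ τ₀ p → q ≠ τ₀ q →
      swap (g p) (g (τ₀ p)) * swap (g q) (g (τ₀ q)) ∈
        (R : Subgroup (Perm α)) ⊓ alternatingGroup α := by
    intro p q hp hq
    have hmem : swap p (τ₀ p) * swap q (τ₀ q) ∈ pairSub τ₀ hτ₀ :=
      Subgroup.mul_mem _ (swap_mem_pairSub τ₀ hτ₀ p) (swap_mem_pairSub τ₀ hτ₀ q)
    have hconj := hg _ hmem
    have e : g * (swap p (τ₀ p) * swap q (τ₀ q)) * g⁻¹ =
        swap (g p) (g (τ₀ p)) * swap (g q) (g (τ₀ q)) := by
      calc g * (swap p (τ₀ p) * swap q (τ₀ q)) * g⁻¹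
          = (g * swap p (τ₀ p) * g⁻¹) * (g * swap q (τ₀ q) * g⁻¹) := by group
        _ = _ := by rw [← swap_apply_apply, ← swap_apply_apply]
    rw [e] at hconj
    refine ⟨hconj, ?_⟩
    show _ ∈ alternatingGroup α
    rw [mem_alternatingGroup, Perm.sign_mul, sign_swap (fun e => hp (g.injective e)),
      sign_swap (fun e => hq (g.injective e))]; rfl
  have hnd' := hnd.map g.injective
  simp only [List.map_cons, List.map_nil] at hnd'
  simp only [List.nodup_cons, List.mem_cons, List.not_mem_nil, or_false, not_or,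
    List.nodup_nil, and_true] at hnd
  exact ⟨g p₁, g (τ₀ p₁), g p₂, g (τ₀ p₂), g p₃, g (τ₀ p₃), g p₄, g (τ₀ p₄), hnd',
    key p₁ p₂ hnd.1.1 hnd.2.2.1.1, key p₁ p₃ hnd.1.1 hnd.2.2.2.2.1.1,
    key p₁ p₄ hnd.1.1 hnd.2.2.2.2.2.2.1⟩

end General

section Cores

variable {α : Type*} [Fintype α] [DecidableEq α]

/-- In degree `2 ^ k + 1`, a Sylow 2-subgroup fixes a point and is transitive on the rest. -/
theorem sylow_fix_trans (R : Sylow 2 (Perm α)) {k : ℕ} (hcard : Fintype.card α = 2 ^ k + 1)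
    (hk : 1 ≤ k) {c₀ : Perm α} (hc : c₀.IsCycle) (hsupp : c₀.support.card = 2 ^ k) :
    ∃ ω, (∀ g ∈ R, g ω = ω) ∧ (∀ x, x ≠ ω → ∀ y, y ≠ ω → ∃ g ∈ R, g x = y) := by
  have hodd : ¬ 2 ∣ Fintype.card α := by
    rw [hcard]
    have : 2 ∣ 2 ^ k := dvd_pow_self 2 (by omega)
    omega
  obtain ⟨ω, hω⟩ := exists_fixed_of_odd R.isPGroup' hodd
  obtain ⟨c, hcR, hcc, hcs⟩ := exists_cycle_mem_sylow R hc hsupp
  refine ⟨ω, hω, ?_⟩
  have hsub : c.support ⊆ Finset.univ.erase ω := by
    intro x hx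
    rw [Finset.mem_erase]
    refine ⟨fun e => ?_, Finset.mem_univ _⟩
    rw [mem_support, e] at hx
    exact hx (hω c hcR)
  have heq : c.support = Finset.univ.erase ω := by
    apply Finset.eq_of_subset_of_card_le hsub
    rw [Finset.card_erase_of_mem (Finset.mem_univ _), Finset.card_univ, hcard, hcs]
    simp
  have hS : ∀ x ∈ ({x | x ≠ ω} : Set α), c x ≠ x := by
    intro x hx
    rw [← mem_support, heq, Finset.mem_erase]
    exact ⟨hx, Finset.mem_univ _⟩
  intro x hx y hy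
  exact trans_of_cycle hcc hcR {x | x ≠ ω} hS x hx y hy

/-- In degree `2 ^ k + 1 ≥ 4`, the even part of a Sylow 2-subgroup is still transitive on the
non-fixed points. -/
theorem sylow_fix_trans_even (R : Sylow 2 (Perm α)) (h4 : 4 ≤ Fintype.card α) {ω : α}
    (hfix : ∀ g ∈ R, g ω = ω) (htr : ∀ x, x ≠ ω → ∀ y, y ≠ ω → ∃ g ∈ R, g x = y) :
    ∀ x, x ≠ ω → ∀ y, y ≠ ω →
      ∃ g ∈ (R : Subgroup (Perm α)) ⊓ alternatingGroup α, g x = y := by
  obtain ⟨a₀, ha₀⟩ := exists_notMem_list [ω] (by simp; omega)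
  simp only [List.mem_cons, List.not_mem_nil, or_false] at ha₀
  obtain ⟨a, b, hab, ht⟩ := exists_swap_mem_sylow R ha₀
  have haω : a ≠ ω := by
    intro e
    have := hfix _ ht
    rw [← e, swap_apply_left] at this
    exact hab this.symm
  have hbω : b ≠ ω := by
    intro e
    have := hfix _ ht
    rw [← e, swap_apply_right] at this
    exact hab this
  obtain ⟨z, hz⟩ := exists_notMem_list [ω, a, b] (by simp; omega)
  simp only [List.mem_cons, List.not_mem_nil, or_false, not_or] at hz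
  intro x hx y hy
  exact trans_even hab ht {x | x ≠ ω} (fun x hx y hy => htr x hx y hy) (z := z) hz.1 hz.2.1 hz.2.2
    x hx y hy

/-- In degree `2 ^ k`, a Sylow 2-subgroup is transitive. -/
theorem sylow_trans (R : Sylow 2 (Perm α)) {k : ℕ} (hcard : Fintype.card α = 2 ^ k)
    {c₀ : Perm α} (hc : c₀.IsCycle) (hsupp : c₀.support.card = 2 ^ k) :
    ∀ x y : α, ∃ g ∈ R, g x = y := by
  obtain ⟨c, hcR, hcc, hcs⟩ := exists_cycle_mem_sylow R hc hsupp
  have heq : c.support = Finset.univ := by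
    rw [← Finset.card_eq_iff_eq_univ, hcs, hcard]
  have hS : ∀ x ∈ (Set.univ : Set α), c x ≠ x := by
    intro x _
    rw [← mem_support, heq]; exact Finset.mem_univ _
  intro x y
  exact trans_of_cycle hcc hcR Set.univ hS x (Set.mem_univ _) y (Set.mem_univ _)

/-- In degree `2 ^ k ≥ 3`, the even part of a Sylow 2-subgroup is transitive. -/
theorem sylow_trans_even (R : Sylow 2 (Perm α)) (h3 : 3 ≤ Fintype.card α)
    (htr : ∀ x y : α, ∃ g ∈ R, g x = y) :
    ∀ x y : α, ∃ g ∈ (R : Subgroup (Perm α)) ⊓ alternatingGroup α, g x = y := by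
  obtain ⟨a₀, _⟩ := exists_notMem_list ([] : List α) (by simp; omega)
  obtain ⟨b₀, hb₀⟩ := exists_notMem_list [a₀] (by simp; omega)
  simp only [List.mem_cons, List.not_mem_nil, or_false] at hb₀
  obtain ⟨a, b, hab, ht⟩ := exists_swap_mem_sylow R (Ne.symm hb₀)
  obtain ⟨z, hz⟩ := exists_notMem_list [a, b] (by simp; omega)
  simp only [List.mem_cons, List.not_mem_nil, or_false, not_or] at hz
  intro x y
  exact trans_even hab ht Set.univ (fun x _ y _ => htr x y) (z := z) (Set.mem_univ _) hz.1 hz.2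
    x (Set.mem_univ _) y (Set.mem_univ _)

/-- Uniqueness core for `Perm α`: an overgroup of a Sylow 2-subgroup `R` (fixing `ω`, transitive on
the rest) which moves `ω` is everything. -/
theorem unique_core_perm (R : Sylow 2 (Perm α)) (h2 : 2 ≤ Fintype.card α) {ω : α}
    (hfix : ∀ g ∈ R, g ω = ω) (htr : ∀ x, x ≠ ω → ∀ y, y ≠ ω → ∃ g ∈ R, g x = y)
    (G : Subgroup (Perm α)) (hRG : (R : Subgroup (Perm α)) ≤ G) (hmove : ∃ g ∈ G, g ω ≠ ω) :
    G = ⊤ := by
  have hprim := primitive_of_fix_trans hRG hfix htr hmove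
  obtain ⟨a₀, ha₀⟩ := exists_notMem_list [ω] (by simp; omega)
  simp only [List.mem_cons, List.not_mem_nil, or_false] at ha₀
  obtain ⟨a, b, hab, ht⟩ := exists_swap_mem_sylow R ha₀
  exact subgroup_eq_top_of_isPreprimitive_of_isSwap_mem hprim (swap a b)
    (swap_isSwap_iff.mpr hab) (hRG ht)

/-- Uniqueness core for the alternating group, degree at least 9. -/
theorem unique_core_alt_nine (R : Sylow 2 (Perm α)) {ω : α}
    (hfix : ∀ g ∈ R, g ω = ω)
    (htr : ∀ x, x ≠ ω → ∀ y, y ≠ ω →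
      ∃ g ∈ (R : Subgroup (Perm α)) ⊓ alternatingGroup α, g x = y)
    (τ₀ : Perm α) (hτ₀ : ∀ x, τ₀ (τ₀ x) = x)
    (p₁ p₂ p₃ p₄ : α) (hnd : [p₁, τ₀ p₁, p₂, τ₀ p₂, p₃, τ₀ p₃, p₄, τ₀ p₄].Nodup)
    (G : Subgroup (Perm α)) (hRG : (R : Subgroup (Perm α)) ⊓ alternatingGroup α ≤ G)
    (hmove : ∃ g ∈ G, g ω ≠ ω) : alternatingGroup α ≤ G := by
  have hfix' : ∀ g ∈ (R : Subgroup (Perm α)) ⊓ alternatingGroup α, g ω = ω :=
    fun g hg => hfix g hg.1
  have hprim := primitive_of_fix_trans hRG hfix' htr hmove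
  obtain ⟨a, a', b₁, b₁', b₂, b₂', b₃, b₃', hnd8, hf₁, hf₂, hf₃⟩ :=
    sylow_pairs R τ₀ hτ₀ p₁ p₂ p₃ p₄ hnd
  have hnd8' := hnd8
  simp only [List.nodup_cons, List.mem_cons, List.not_mem_nil, or_false, not_or,
    List.nodup_nil, and_true] at hnd8'
  -- `ω` is none of the eight points
  have m1 := double_moves (a := a) (a' := a') (b := b₁) (b' := b₁') (by
    simp only [List.nodup_cons, List.mem_cons, List.not_mem_nil, or_false, not_or,
      List.nodup_nil, and_true]; grind)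
  have m2 := double_moves (a := a) (a' := a') (b := b₂) (b' := b₂') (by
    simp only [List.nodup_cons, List.mem_cons, List.not_mem_nil, or_false, not_or,
      List.nodup_nil, and_true]; grind)
  have m3 := double_moves (a := a) (a' := a') (b := b₃) (b' := b₃') (by
    simp only [List.nodup_cons, List.mem_cons, List.not_mem_nil, or_false, not_or,
      List.nodup_nil, and_true]; grind)
  have w1 := hfix' _ hf₁
  have w2 := hfix' _ hf₂
  have w3 := hfix' _ hf₃
  have hω1 : ω ∉ [a, a', b₁, b₁'] := fun h => m1 ω h w1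
  have hω2 : ω ∉ [a, a', b₂, b₂'] := fun h => m2 ω h w2
  have hω3 : ω ∉ [a, a', b₃, b₃'] := fun h => m3 ω h w3
  simp only [List.mem_cons, List.not_mem_nil, or_false, not_or] at hω1 hω2 hω3
  have hnd9 : [a, a', b₁, b₁', b₂, b₂', b₃, b₃', ω].Nodup := by
    simp only [List.nodup_cons, List.mem_cons, List.not_mem_nil, or_false, not_or,
      List.nodup_nil, and_true]
    grind
  obtain ⟨h, hh, e1, e2⟩ := two_trans_of_fix_trans hRG hfix' htr hmove a a' ω
    (fun e => hnd8'.1.1 e.symm) hω1.1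
  obtain ⟨t, ht, h3⟩ := three_cycle_core hnd9 (hRG hf₁) (hRG hf₂) (hRG hf₃) hh e1 e2
  exact alternatingGroup_le_of_isPreprimitive_of_isThreeCycle_mem hprim h3 ht

/-- Uniqueness core for the alternating group, degree 5. -/
theorem unique_core_alt_five (R : Sylow 2 (Perm (Fin 5))) {ω : Fin 5}
    (hfix : ∀ g ∈ R, g ω = ω)
    (htr : ∀ x, x ≠ ω → ∀ y, y ≠ ω →
      ∃ g ∈ (R : Subgroup (Perm (Fin 5))) ⊓ alternatingGroup (Fin 5), g x = y)
    (G : Subgroup (Perm (Fin 5)))
    (hRG : (R : Subgroup (Perm (Fin 5))) ⊓ alternatingGroup (Fin 5) ≤ G)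
    (hmove : ∃ g ∈ G, g ω ≠ ω) : alternatingGroup (Fin 5) ≤ G := by
  have hfix' : ∀ g ∈ (R : Subgroup (Perm (Fin 5))) ⊓ alternatingGroup (Fin 5), g ω = ω :=
    fun g hg => hfix g hg.1
  have hprim := primitive_of_fix_trans hRG hfix' htr hmove
  obtain ⟨t, ht, h3⟩ := three_cycle_five (α := Fin 5) (by simp) (G := G) (ω := ω)
    (fun x y u v h => hRG (klein_in_sylow_five R ω hfix x y u v h))
    (two_trans_of_fix_trans hRG hfix' htr hmove)
  exact alternatingGroup_le_of_isPreprimitive_of_isThreeCycle_mem hprim h3 ht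

end Cores

end Cfsg.Agent.Lib.Helper38.Syl2Max
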