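import Mathlib
import Cfsg.Agent.Lib.Helper38.Syl2MaxA
import Cfsg.Agent.Lib.Helper38.Syl2MaxB
import Cfsg.Agent.Lib.Helper38.Syl2MaxD

set_option autoImplicit false

/-!
# Tools for Sylow 2-subgroups of `S_n`/`A_n` and their overgroups (part E: data for non-uniqueness)
-/

namespace Cfsg.Agent.Lib.Helper38.Syl2Max

open Equiv Equiv.Perm MulAction
open scoped Pointwise

section PermLevel

variable {α : Type*} [Fintype α] [DecidableEq α]

/-- Odd degree not of the form `2 ^ k + 1`: a 2-group fixes a point `ω` and has an orbit which is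
not the full complement of `ω`. -/
theorem odd_data {P : Subgroup (Perm α)} (hP : IsPGroup 2 P) (h5 : 5 ≤ Fintype.card α)
    (hodd : ¬ 2 ∣ Fintype.card α) (hform : ¬ ∃ k, 2 ≤ k ∧ Fintype.card α = 2 ^ k + 1) :
    ∃ ω o y : α, (∀ g ∈ P, g ω = ω) ∧ o ≠ ω ∧ y ≠ ω ∧ y ∉ orbit P o := by
  obtain ⟨ω, hω⟩ := exists_fixed_of_odd hP hodd
  obtain ⟨o, ho⟩ := exists_notMem_list [ω] (by simp; omega)
  simp only [List.mem_cons, List.not_mem_nil, or_false] at ho
  by_contra hcon
  push Not at hcon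
  have h1 : orbit P o = {ω}ᶜ := by
    ext y
    simp only [Set.mem_compl_iff, Set.mem_singleton_iff]
    constructor
    · intro hy e
      rw [mem_orbit_sub] at hy
      obtain ⟨g, hg, e'⟩ := hy
      apply ho
      apply g.injective
      rw [e', e, hω g hg]
    · intro hy
      exact hcon ω o y hω ho hy
  obtain ⟨j, hj⟩ := ncard_orbit_two_pow hP o
  rw [h1, Set.ncard_compl, Set.ncard_singleton, Nat.card_eq_fintype_card] at hj
  apply hform
  refine ⟨j, ?_, by omega⟩
  by_contra hj2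
  have hj1 : j ≤ 1 := by omega
  have : 2 ^ j ≤ 2 ^ 1 := Nat.pow_le_pow_right (by norm_num) hj1
  omega

theorem exists_even_not_comm (τ : Perm α) (hτ : ∀ x, τ (τ x) = x) (hfpf : ∀ x, τ x ≠ x)
    (h3 : 3 ≤ Fintype.card α) :
    ∃ g ∈ alternatingGroup α, g * τ ≠ τ * g := by
  obtain ⟨x, _⟩ := exists_notMem_list ([] : List α) (by simp; omega)
  obtain ⟨z, hz⟩ := exists_notMem_list [x, τ x] (by simp; omega)
  simp only [List.mem_cons, List.not_mem_nil, or_false, not_or] at hz
  refine ⟨swap x (τ x) * swap x z,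
    (isThreeCycle_swap_mul_swap_same (hfpf x).symm (Ne.symm hz.1)
      (Ne.symm hz.2)).mem_alternatingGroup, ?_⟩
  intro h
  have h1 := congrArg (fun f : Perm α => f x) h
  simp only [Perm.mul_apply] at h1
  rw [swap_apply_of_ne_of_ne (hfpf x) (Ne.symm hz.2), swap_apply_right, swap_apply_left,
    swap_apply_of_ne_of_ne hz.1 hz.2] at h1
  apply hz.2
  rw [h1, hτ]

theorem exists_even_centralizing_map (τ : Perm α) (hτ : ∀ x, τ (τ x) = x) (hfpf : ∀ x, τ x ≠ x)
    (h4 : 4 ≤ Fintype.card α) (x y : α) (hxy : x ≠ y) :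
    ∃ g ∈ alternatingGroup α, g * τ = τ * g ∧ g x = y := by
  by_cases hy : y = τ x
  · obtain ⟨u, hu⟩ := exists_notMem_list [x, τ x] (by simp; omega)
    simp only [List.mem_cons, List.not_mem_nil, or_false, not_or] at hu
    have hxτu : x ≠ τ u := fun e => hu.2 (by rw [e, hτ])
    refine ⟨swap x (τ x) * swap u (τ u), ?_, comm_pair_swaps τ hτ x u, ?_⟩
    · rw [mem_alternatingGroup, Perm.sign_mul, sign_swap (hfpf x).symm, sign_swap (hfpf u).symm]
      rfl
    · rw [Perm.mul_apply, swap_apply_of_ne_of_ne (Ne.symm hu.1) hxτu, swap_apply_left, hy]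
  · have h1 : x ≠ τ y := fun e => hy (by rw [e, hτ])
    have h2 : τ x ≠ τ y := fun e => hxy (τ.injective e)
    have hnd : [x, y, τ x, τ y].Nodup := by
      simp [hxy, (hfpf x).symm, h1, hy, (hfpf y).symm, h2]
    refine ⟨swap x y * swap (τ x) (τ y), ?_, comm_cross_swaps τ hτ x y hnd, ?_⟩
    · rw [mem_alternatingGroup, Perm.sign_mul, sign_swap hxy, sign_swap h2]; rfl
    · rw [Perm.mul_apply, swap_apply_of_ne_of_ne (hfpf x).symm h1, swap_apply_left]

/-- the stabilizer of the partition `{A, Aᶜ}` -/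
def halfStab (A : Set α) : Subgroup (Perm α) where
  carrier := {g | g • A = A ∨ g • A = Aᶜ}
  one_mem' := Or.inl (one_smul _ _)
  mul_mem' := by
    rintro g h hg hh
    show (g * h) • A = A ∨ (g * h) • A = Aᶜ
    rw [mul_smul]
    rcases hh with hh | hh
    · rw [hh]; exact hg
    · rw [hh, Set.smul_set_compl]
      rcases hg with hg | hg
      · right; rw [hg]
      · left; rw [hg, compl_compl]
  inv_mem' := by
    rintro g hg
    show g⁻¹ • A = A ∨ g⁻¹ • A = Aᶜ
    rcases hg with hg | hg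
    · left; rw [inv_smul_eq_iff, hg]
    · right; rw [inv_smul_eq_iff, Set.smul_set_compl, hg, compl_compl]

theorem mem_halfStab {A : Set α} {g : Perm α} :
    g ∈ halfStab A ↔ g • A = A ∨ g • A = Aᶜ := Iff.rfl

end PermLevel

section FinFacts

theorem revPerm_invol {n : ℕ} (x : Fin n) : Fin.revPerm (Fin.revPerm x) = x := by simp

theorem revPerm_fpf {n : ℕ} (he : 2 ∣ n) (x : Fin n) : Fin.revPerm x ≠ x := by
  intro h
  have h1 := congrArg Fin.val h
  simp only [Fin.revPerm_apply, Fin.val_rev] at h1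
  have := x.isLt
  omega

theorem revPerm_pairs {n : ℕ} (h8 : 8 ≤ n) :
    [(⟨0, by omega⟩ : Fin n), Fin.revPerm ⟨0, by omega⟩, ⟨1, by omega⟩, Fin.revPerm ⟨1, by omega⟩,
      ⟨2, by omega⟩, Fin.revPerm ⟨2, by omega⟩, ⟨3, by omega⟩, Fin.revPerm ⟨3, by omega⟩].Nodup := by
  apply List.Nodup.of_map Fin.val
  simp only [List.map_cons, List.map_nil, Fin.revPerm_apply, Fin.val_rev]
  simp only [List.nodup_cons, List.mem_cons, List.not_mem_nil, or_false, not_or,
    List.nodup_nil, and_true, not_false_eq_true]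
  omega

theorem exists_cycle_fin_pow {n k : ℕ} (hn : n = 2 ^ k) (h2 : 2 ≤ n) :
    ∃ c : Perm (Fin n), c.IsCycle ∧ c.support.card = 2 ^ k :=
  ⟨finRotate n, isCycle_finRotate_of_le h2, by
    rw [support_finRotate_of_le h2, Finset.card_univ, Fintype.card_fin, hn]⟩

theorem exists_cycle_fin_pow_succ {n k : ℕ} (hn : n = 2 ^ k + 1) (hk : 1 ≤ k) :
    ∃ c : Perm (Fin n), c.IsCycle ∧ c.support.card = 2 ^ k := by
  have h2 : 2 ≤ 2 ^ k := by
    calc 2 = 2 ^ 1 := by norm_num
      _ ≤ 2 ^ k := Nat.pow_le_pow_right (by norm_num) hk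
  have : NeZero n := ⟨by omega⟩
  have hi : (⟨2 ^ k - 1, by omega⟩ : Fin n) ≠ 0 := by
    intro h
    have := congrArg Fin.val h
    simp only [Fin.val_zero] at this
    omega
  refine ⟨Fin.cycleRange ⟨2 ^ k - 1, by omega⟩, Fin.isCycle_cycleRange hi, ?_⟩
  rw [← sum_cycleType, Fin.cycleType_cycleRange hi, Multiset.sum_singleton]
  simp only
  omega

end FinFacts

end Cfsg.Agent.Lib.Helper38.Syl2Max
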