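import Mathlib
import Cfsg.Agent.Lib.Helper38.Syl2MaxA
import Cfsg.Agent.Lib.Helper38.Syl2MaxB
import Cfsg.Agent.Lib.Helper38.Syl2MaxD
import Cfsg.Agent.Lib.Helper38.Syl2MaxE

set_option autoImplicit false

/-!
# Sylow 2-subgroups of `S_n`/`A_n` in a unique maximal subgroup (part F: generic assembly)

The two ambient groups `Perm α` and `alternatingGroup α` are handled simultaneously through a
homomorphism `ι : Γ →* Perm α` satisfying `IsFlavor`.
-/

namespace Cfsg.Agent.Lib.Helper38.Syl2Max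

open Equiv Equiv.Perm MulAction
open scoped Pointwise

section Lattice

theorem not_unique_of_join_top {G : Type*} [Group G] [Finite G] {P K₁ K₂ : Subgroup G}
    (h1 : P ≤ K₁) (h2 : P ≤ K₂) (t1 : K₁ ≠ ⊤) (t2 : K₂ ≠ ⊤)
    (hj : ∀ M : Subgroup G, K₁ ≤ M → K₂ ≤ M → M = ⊤) :
    ¬ ∃! M : Subgroup G, IsCoatom M ∧ P ≤ M := by
  rintro ⟨M, -, huniq⟩
  rcases eq_top_or_exists_le_coatom K₁ with h | ⟨M₁, hM₁, hK₁⟩
  · exact t1 h
  rcases eq_top_or_exists_le_coatom K₂ with h | ⟨M₂, hM₂, hK₂⟩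
  · exact t2 h
  have e1 := huniq M₁ ⟨hM₁, h1.trans hK₁⟩
  have e2 := huniq M₂ ⟨hM₂, h2.trans hK₂⟩
  have := hj M₁ hK₁ (by rw [e1, ← e2]; exact hK₂)
  exact hM₁.1 this

theorem eq_of_coatom_le {G : Type*} [Group G] {K M : Subgroup G} (hK : IsCoatom K) (h : K ≤ M)
    (hM : M ≠ ⊤) : M = K :=
  (h.lt_or_eq).elim (fun lt => absurd (hK.2 M lt) hM) (fun e => e.symm)

end Lattice

section Generic

variable {α : Type*} [Fintype α] [DecidableEq α] {Γ : Type*} [Group Γ] [MulAction Γ α]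

/-- The two ambient groups `Perm α` and `alternatingGroup α`, seen through `ι : Γ →* Perm α`. -/
structure IsFlavor (ι : Γ →* Perm α) : Prop where
  smul_eq : ∀ (m : Γ) (x : α), m • x = ι m x
  even_mem : ∀ σ ∈ alternatingGroup α, ∃ m : Γ, ι m = σ
  coatom : ∀ s : Set α, s.Nonempty → sᶜ.Nonempty → Fintype.card α ≠ 2 * s.ncard →
    IsCoatom (stabilizer Γ s)
  twoBlock : ∀ A : Set α, 4 ≤ A.ncard → 4 ≤ Aᶜ.ncard → ∀ G : Subgroup Γ, stabilizer Γ A ≤ G →
    (∀ x y : α, ∃ m ∈ G, m • x = y) → ∀ g ∈ G, g • A ≠ A → (g • A ∩ A).Nonempty →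
    (g • Aᶜ ∩ Aᶜ).Nonempty → G = ⊤

variable {ι : Γ →* Perm α}

theorem IsFlavor.smul_set (F : IsFlavor ι) (m : Γ) (s : Set α) : m • s = ι m • s := by
  ext x
  simp only [Set.mem_smul_set, F.smul_eq, Perm.smul_def]

theorem IsFlavor.mem_stab (F : IsFlavor ι) (m : Γ) (s : Set α) :
    m ∈ stabilizer Γ s ↔ ι m ∈ stabilizer (Perm α) s := by
  rw [mem_stabilizer_iff, mem_stabilizer_iff, F.smul_set]

theorem IsFlavor.mem_stab_singleton (F : IsFlavor ι) (m : Γ) (ω : α) :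
    m ∈ stabilizer Γ ({ω} : Set α) ↔ ι m ω = ω := by
  rw [F.mem_stab, mem_stabilizer_iff, Set.smul_set_singleton, Set.singleton_eq_singleton_iff,
    Perm.smul_def]

theorem mem_comap_centralizer {τ : Perm α} {m : Γ} :
    m ∈ (Subgroup.centralizer {τ}).comap ι ↔ ι m * τ = τ * ι m := by
  rw [Subgroup.mem_comap, Subgroup.mem_centralizer_iff]
  constructor
  · intro h; exact (h τ rfl).symm
  · intro h g hg
    rw [Set.mem_singleton_iff] at hg
    subst hg
    exact h.symm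

/-- Odd degree, not of the form `2 ^ k + 1`. -/
theorem nonunique_odd [Finite Γ] (F : IsFlavor ι) (P : Subgroup Γ) (hP : IsPGroup 2 P)
    (h5 : 5 ≤ Fintype.card α) (hodd : ¬ 2 ∣ Fintype.card α)
    (hform : ¬ ∃ k, 2 ≤ k ∧ Fintype.card α = 2 ^ k + 1) :
    ¬ ∃! M : Subgroup Γ, IsCoatom M ∧ P ≤ M := by
  have hP' : IsPGroup 2 (P.map ι) := hP.map ι
  obtain ⟨ω, o, y, hfix, hoω, hyω, hyO⟩ := odd_data hP' h5 hodd hform
  have hoO : o ∈ orbit (P.map ι) o := mem_orbit_self o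
  have hωO : ω ∉ orbit (P.map ι) o := by
    intro h
    rw [mem_orbit_sub] at h
    obtain ⟨g, hg, e⟩ := h
    apply hoω
    apply g.injective
    rw [e, hfix g hg]
  have c1 : IsCoatom (stabilizer Γ ({ω} : Set α)) :=
    F.coatom {ω} (Set.singleton_nonempty ω) ⟨o, by simpa using hoω⟩
      (by rw [Set.ncard_singleton]; omega)
  have c2 : IsCoatom (stabilizer Γ (orbit (P.map ι) o)) :=
    F.coatom _ ⟨o, hoO⟩ ⟨ω, hωO⟩ (by
      intro h
      apply hodd
      rw [h]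
      exact dvd_mul_right 2 _)
  refine not_unique_of_join_top ?_ ?_ c1.1 c2.1 ?_
  · intro m hm
    rw [F.mem_stab_singleton]
    exact hfix (ι m) ⟨m, hm, rfl⟩
  · intro m hm
    rw [F.mem_stab]
    exact le_stabilizer_orbit (P.map ι) o ⟨m, hm, rfl⟩
  · intro M h1 h2
    by_contra hM
    have e1 := eq_of_coatom_le c1 h1 hM
    have e2 := eq_of_coatom_le c2 h2 hM
    obtain ⟨c, hc⟩ := exists_notMem_list [ω, o, y] (by simp; omega)
    obtain ⟨d, hd⟩ := exists_notMem_list [ω, o, y, c] (by simp; omega)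
    simp only [List.mem_cons, List.not_mem_nil, or_false, not_or] at hc hd
    have hoy : o ≠ y := fun e => hyO (e ▸ hoO)
    have hg : swap o y * swap c d ∈ alternatingGroup α := by
      rw [mem_alternatingGroup, Perm.sign_mul, sign_swap hoy, sign_swap (Ne.symm hd.2.2.2)]; rfl
    obtain ⟨m, hm⟩ := F.even_mem _ hg
    have m1 : m ∈ stabilizer Γ ({ω} : Set α) := by
      rw [F.mem_stab_singleton, hm, Perm.mul_apply,
        swap_apply_of_ne_of_ne (Ne.symm hc.1) (Ne.symm hd.1),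
        swap_apply_of_ne_of_ne (Ne.symm hoω) (Ne.symm hyω)]
    have m2 : m ∉ stabilizer Γ (orbit (P.map ι) o) := by
      rw [F.mem_stab, hm, mem_stabilizer_set]
      intro h
      have h3 := (h o).mpr hoO
      rw [Perm.smul_def, Perm.mul_apply, swap_apply_of_ne_of_ne (Ne.symm hc.2.1) (Ne.symm hd.2.1),
        swap_apply_left] at h3
      exact hyO h3
    rw [← e1, e2] at m1
    exact m2 m1

/-- Even degree, not a power of 2. -/
theorem nonunique_even [Finite Γ] (F : IsFlavor ι) (P : Subgroup Γ) (hP : IsPGroup 2 P)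
    (h5 : 5 ≤ Fintype.card α) (τ₀ : Perm α) (h0 : τ₀ * τ₀ = 1) (h0' : ∀ x, τ₀ x ≠ x)
    (hnp : ¬ ∃ j, Fintype.card α = 2 ^ j) :
    ¬ ∃! M : Subgroup Γ, IsCoatom M ∧ P ≤ M := by
  have hP' : IsPGroup 2 (P.map ι) := hP.map ι
  obtain ⟨τ, hτ2, hfpf, hcomm⟩ := exists_fpf_centralized τ₀ h0 h0' (P.map ι) hP'
  have hτ : ∀ x, τ (τ x) = x := fun x => by
    have := congrArg (fun f : Perm α => f x) hτ2
    simpa using this
  obtain ⟨x₀, _⟩ := exists_notMem_list ([] : List α) (by simp; omega)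
  obtain ⟨j, hj⟩ := ncard_orbit_two_pow hP' x₀
  have hx₀ : x₀ ∈ orbit (P.map ι) x₀ := mem_orbit_self x₀
  have hOc : (orbit (P.map ι) x₀)ᶜ.Nonempty := by
    by_contra h
    rw [Set.not_nonempty_iff_eq_empty, Set.compl_empty_iff] at h
    apply hnp
    exact ⟨j, by rw [← hj, h, Set.ncard_univ, Nat.card_eq_fintype_card]⟩
  have hcard : Fintype.card α ≠ 2 * (orbit (P.map ι) x₀).ncard := by
    rw [hj]
    intro h
    exact hnp ⟨j + 1, by rw [h, pow_succ]; ring⟩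
  have c2 := F.coatom _ ⟨x₀, hx₀⟩ hOc hcard
  have hPK : P ≤ (Subgroup.centralizer {τ}).comap ι := by
    intro m hm
    rw [mem_comap_centralizer]
    exact hcomm _ ⟨m, hm, rfl⟩
  have t1 : (Subgroup.centralizer {τ}).comap ι ≠ ⊤ := by
    obtain ⟨g, hg, hne⟩ := exists_even_not_comm τ hτ hfpf (by omega)
    obtain ⟨m, hm⟩ := F.even_mem g hg
    intro h
    have h1 : m ∈ (Subgroup.centralizer {τ}).comap ι := h ▸ Subgroup.mem_top m
    rw [mem_comap_centralizer, hm] at h1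
    exact hne h1
  refine not_unique_of_join_top hPK ?_ t1 c2.1 ?_
  · intro m hm
    rw [F.mem_stab]
    exact le_stabilizer_orbit (P.map ι) x₀ ⟨m, hm, rfl⟩
  · intro M h1 h2
    by_contra hM
    have e2 := eq_of_coatom_le c2 h2 hM
    obtain ⟨y, hy⟩ := hOc
    have hxy : x₀ ≠ y := fun e => hy (e ▸ hx₀)
    obtain ⟨g, hg, hgc, hgx⟩ := exists_even_centralizing_map τ hτ hfpf (by omega) x₀ y hxy
    obtain ⟨m, hm⟩ := F.even_mem g hg
    have hmK : m ∈ (Subgroup.centralizer {τ}).comap ι := by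
      rw [mem_comap_centralizer, hm]; exact hgc
    have m2 := h1 hmK
    rw [e2, F.mem_stab, hm, mem_stabilizer_set] at m2
    have h3 := (m2 x₀).mpr hx₀
    rw [Perm.smul_def, hgx] at h3
    exact hy h3

/-- Degree a power of 2 (at least 8), `P` transitive. -/
theorem nonunique_pow [Finite Γ] (F : IsFlavor ι) (P : Subgroup Γ) (hP : IsPGroup 2 P)
    (h8 : 8 ≤ Fintype.card α) (τ₀ : Perm α) (h0 : τ₀ * τ₀ = 1) (h0' : ∀ x, τ₀ x ≠ x)
    (htr : ∀ x y : α, ∃ m ∈ P, ι m x = y) :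
    ¬ ∃! M : Subgroup Γ, IsCoatom M ∧ P ≤ M := by
  have hP' : IsPGroup 2 (P.map ι) := hP.map ι
  have htr' : ∀ x y : α, ∃ g ∈ P.map ι, g x = y := fun x y => by
    obtain ⟨m, hm, e⟩ := htr x y
    exact ⟨ι m, ⟨m, hm, rfl⟩, e⟩
  obtain ⟨A, hAc, hPA⟩ := exists_half_block (P.map ι) hP' htr' (by omega)
  have hsum := Set.ncard_add_ncard_compl A
  rw [Nat.card_eq_fintype_card] at hsum
  have hA4 : 4 ≤ A.ncard := by omega
  have hAc4 : 4 ≤ Aᶜ.ncard := by omega
  obtain ⟨τ, hτ2, hfpf, hcomm⟩ := exists_fpf_centralized τ₀ h0 h0' (P.map ι) hP'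
  have hτ : ∀ x, τ (τ x) = x := fun x => by
    have := congrArg (fun f : Perm α => f x) hτ2
    simpa using this
  obtain ⟨g, hg, hgc, hb1, hb2, hb3⟩ := exists_bad_elt τ hτ hfpf A hA4 hAc4
  obtain ⟨mb, hmb⟩ := F.even_mem g hg
  have hPK₁ : P ≤ (Subgroup.centralizer {τ}).comap ι := by
    intro m hm
    rw [mem_comap_centralizer]
    exact hcomm _ ⟨m, hm, rfl⟩
  have hPK₂ : P ≤ (halfStab A).comap ι := by
    intro m hm
    rw [Subgroup.mem_comap, mem_halfStab]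
    exact hPA _ ⟨m, hm, rfl⟩
  have t1 : (Subgroup.centralizer {τ}).comap ι ≠ ⊤ := by
    obtain ⟨g', hg', hne⟩ := exists_even_not_comm τ hτ hfpf (by omega)
    obtain ⟨m, hm⟩ := F.even_mem g' hg'
    intro h
    have h1 : m ∈ (Subgroup.centralizer {τ}).comap ι := h ▸ Subgroup.mem_top m
    rw [mem_comap_centralizer, hm] at h1
    exact hne h1
  have t2 : (halfStab A).comap ι ≠ ⊤ := by
    intro h
    have h1 : mb ∈ (halfStab A).comap ι := h ▸ Subgroup.mem_top mb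
    rw [Subgroup.mem_comap, mem_halfStab, hmb] at h1
    rcases h1 with h1 | h1
    · exact hb1 h1
    · obtain ⟨z, hz1, hz2⟩ := hb2
      rw [h1] at hz1
      exact hz1 hz2
  refine not_unique_of_join_top hPK₁ hPK₂ t1 t2 ?_
  intro M h1 h2
  have hmbK : mb ∈ (Subgroup.centralizer {τ}).comap ι := by
    rw [mem_comap_centralizer, hmb]; exact hgc
  refine F.twoBlock A hA4 hAc4 M ?_ ?_ mb (h1 hmbK) ?_ ?_ ?_
  · intro m hm
    apply h2
    rw [Subgroup.mem_comap, mem_halfStab]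
    left
    rw [F.mem_stab, mem_stabilizer_iff] at hm
    exact hm
  · intro x y
    obtain ⟨m, hm, e⟩ := htr x y
    exact ⟨m, h2 (hPK₂ hm), by rw [F.smul_eq, e]⟩
  · rw [F.smul_set, hmb]; exact hb1
  · rw [F.smul_set, hmb]; exact hb2
  · rw [F.smul_set, hmb]; exact hb3

/-- The uniqueness direction, from a "core" statement. -/
theorem unique_of_core (F : IsFlavor ι) (P : Subgroup Γ) (ω : α) (h3 : 3 ≤ Fintype.card α)
    (hfix : ∀ m ∈ P, ι m ω = ω)
    (core : ∀ M : Subgroup Γ, P ≤ M → (∃ m ∈ M, ι m ω ≠ ω) → M = ⊤) :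
    ∃! M : Subgroup Γ, IsCoatom M ∧ P ≤ M := by
  obtain ⟨o, ho⟩ := exists_notMem_list [ω] (by simp; omega)
  simp only [List.mem_cons, List.not_mem_nil, or_false] at ho
  have c0 : IsCoatom (stabilizer Γ ({ω} : Set α)) :=
    F.coatom {ω} (Set.singleton_nonempty ω) ⟨o, by simpa using ho⟩
      (by rw [Set.ncard_singleton]; omega)
  refine ⟨stabilizer Γ ({ω} : Set α), ⟨c0, ?_⟩, ?_⟩
  · intro m hm
    rw [F.mem_stab_singleton]
    exact hfix m hm
  · rintro M ⟨hM, hPM⟩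
    by_cases hmove : ∃ m ∈ M, ι m ω ≠ ω
    · exact absurd (core M hPM hmove) hM.1
    · push Not at hmove
      have hle : M ≤ stabilizer Γ ({ω} : Set α) := fun m hm => by
        rw [F.mem_stab_singleton]; exact hmove m hm
      exact (hle.lt_or_eq).elim (fun lt => absurd (hM.2 _ lt) c0.1) id

end Generic

section Flavors

variable {α : Type*} [Fintype α] [DecidableEq α]

theorem flavor_perm : IsFlavor (MonoidHom.id (Perm α)) where
  smul_eq := fun _ _ => rfl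
  even_mem := fun σ _ => ⟨σ, rfl⟩
  coatom := fun s h1 h2 h3 =>
    Equiv.Perm.isCoatom_stabilizer h1 h2 (by rwa [Nat.card_eq_fintype_card])
  twoBlock := fun A hA _ G hG htr g hg h1 h2 h3 =>
    twoBlock_perm A (Set.one_lt_ncard_iff_nontrivial.mp (by omega)) G hG
      ⟨fun x y => by obtain ⟨m, hm, e⟩ := htr x y; exact ⟨⟨m, hm⟩, e⟩⟩ g hg h1 h2 h3

theorem flavor_alt : IsFlavor (alternatingGroup α).subtype where
  smul_eq := fun _ _ => rfl
  even_mem := fun σ hσ => ⟨⟨σ, hσ⟩, rfl⟩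
  coatom := fun s h1 h2 h3 =>
    alternatingGroup.isCoatom_stabilizer h1 h2 (by rwa [Nat.card_eq_fintype_card])
  twoBlock := fun A hA hAc G hG htr g hg h1 h2 h3 => by
    have hsum := Set.ncard_add_ncard_compl A
    exact twoBlock_alt A (Set.one_lt_ncard_iff_nontrivial.mp (by omega))
      (Set.one_lt_ncard_iff_nontrivial.mp (by omega)) (by omega) (by omega) (by omega) G hG
      ⟨fun x y => by obtain ⟨m, hm, e⟩ := htr x y; exact ⟨⟨m, hm⟩, e⟩⟩ g hg h1 h2 h3

end Flavors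

end Cfsg.Agent.Lib.Helper38.Syl2Max
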