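import Mathlib
import Cfsg.Agent.S2504

set_option autoImplicit false

/-!
# Sylow 2-subgroups of symmetric and alternating groups are self-normalising (helper38)

`claimA`: a subgroup `P` of `Perm X` of order `2 ^ v₂(|X|!)` is normalised by no nontrivial
element of odd prime order.
`claimB`: for `|X| ≥ 6`, the same for a subgroup `T` of even permutations with
`2 * |T| = 2 ^ v₂(|X|!)`.
-/

namespace Cfsg.Agent.Lib.Helper38.SylTwoPerm

open Equiv Cfsg.Agent.S2505 Cfsg.Agent.S2504
open scoped Nat

/-- the `2`-adic valuation of `n !` -/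
def v2f (n : ℕ) : ℕ := padicValNat 2 (n !)

theorem v2_le_of_dvd {a b : ℕ} (hb : b ≠ 0) (h : a ∣ b) : padicValNat 2 a ≤ padicValNat 2 b :=
  (padicValNat_dvd_iff_le hb).mp (dvd_trans pow_padicValNat_dvd h)

theorem v2f_add (j k : ℕ) : v2f j + v2f k ≤ v2f (j + k) := by
  unfold v2f
  rw [← padicValNat.mul (Nat.factorial_ne_zero j) (Nat.factorial_ne_zero k)]
  exact v2_le_of_dvd (Nat.factorial_ne_zero _) (Nat.factorial_mul_factorial_dvd_factorial_add j k)

theorem v2f_two_mul {s : ℕ} (hs : 1 ≤ s) : 1 + 2 * v2f s ≤ v2f (2 * s) := by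
  unfold v2f
  have h1 : (2 * s).choose s * s ! * s ! = (2 * s)! := by
    have := Nat.choose_mul_factorial_mul_factorial (show s ≤ 2 * s by omega)
    rwa [show 2 * s - s = s by omega] at this
  have h2 : 2 ∣ (2 * s).choose s := by
    rw [← Nat.centralBinom_eq_two_mul_choose]
    exact Nat.two_dvd_centralBinom_of_one_le hs
  have h3 : (2 * s).choose s ≠ 0 := (Nat.choose_pos (by omega)).ne'
  rw [← h1, padicValNat.mul (mul_ne_zero h3 (Nat.factorial_ne_zero s)) (Nat.factorial_ne_zero s),
    padicValNat.mul h3 (Nat.factorial_ne_zero s)]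
  have h4 : 1 ≤ padicValNat 2 ((2 * s).choose s) := one_le_padicValNat_of_dvd h3 h2
  omega

theorem v2f_succ (n : ℕ) : v2f (n + 1) = v2f n + padicValNat 2 (n + 1) := by
  unfold v2f
  rw [Nat.factorial_succ, padicValNat.mul (Nat.succ_ne_zero n) (Nat.factorial_ne_zero n), add_comm]

theorem v2f_zero : v2f 0 = 0 := by simp [v2f]

theorem v2f_one : v2f 1 = 0 := by simp [v2f]

theorem v2f_two_pow (v : ℕ) : v2f (2 ^ v) = v2f (2 ^ v - 1) + v := by
  have h1 : 2 ^ v - 1 + 1 = 2 ^ v := Nat.sub_add_cancel Nat.one_le_two_pow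
  have h2 := v2f_succ (2 ^ v - 1)
  rw [h1, padicValNat.prime_pow] at h2
  exact h2

theorem v2f_lt_of_even {n : ℕ} (hn : 1 ≤ n) (he : 2 ∣ n) : v2f (n - 1) < v2f n := by
  have h1 : n - 1 + 1 = n := Nat.sub_add_cancel hn
  have h2 := v2f_succ (n - 1)
  rw [h1] at h2
  have h3 : 1 ≤ padicValNat 2 n := one_le_padicValNat_of_dvd (by omega) he
  omega

/-- the numerical contradiction in the case of two orbits swapped -/
theorem v2f_central {s k : ℕ} (hs : 1 ≤ s) : 1 + 2 * v2f s + v2f k ≤ v2f (2 * s + k) := by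
  have h1 := v2f_two_mul hs
  have h2 := v2f_add (2 * s) k
  omega

theorem exists_pow_of_dvd {a N m : ℕ} (h : a ∣ 2 ^ N) (hm : a ∣ m) (hm0 : m ≠ 0) :
    ∃ r, r ≤ padicValNat 2 m ∧ a = 2 ^ r := by
  obtain ⟨r, _, rfl⟩ := (Nat.dvd_prime_pow Nat.prime_two).mp h
  exact ⟨r, (padicValNat_dvd_iff_le hm0).mp hm, rfl⟩

section orbits

variable {X : Type}

/-- the orbit of `a` under `A`, as a predicate -/
def orb (A : Subgroup (Perm X)) (a : X) : X → Prop := fun y => ∃ g ∈ A, g a = y

theorem orb_self (A : Subgroup (Perm X)) (a : X) : orb A a a := ⟨1, A.one_mem, rfl⟩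

theorem orb_symm {A : Subgroup (Perm X)} {a b : X} (h : orb A a b) : orb A b a := by
  obtain ⟨g, hg, rfl⟩ := h
  exact ⟨g⁻¹, A.inv_mem hg, by simp⟩

theorem orb_trans {A : Subgroup (Perm X)} {a b c : X} (h1 : orb A a b) (h2 : orb A b c) :
    orb A a c := by
  obtain ⟨g, hg, rfl⟩ := h1
  obtain ⟨h, hh, rfl⟩ := h2
  exact ⟨h * g, A.mul_mem hh hg, rfl⟩

theorem orb_inv (A : Subgroup (Perm X)) (a : X) : ∀ g ∈ A, ∀ y, orb A a (g y) ↔ orb A a y := by
  intro g hg y
  constructor
  · intro h
    exact orb_trans h ⟨g⁻¹, A.inv_mem hg, by simp⟩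
  · intro h
    exact orb_trans h ⟨g, hg, rfl⟩

theorem orb_conj {A : Subgroup (Perm X)} {x : Perm X}
    (hx : x ∈ Subgroup.normalizer (A : Set (Perm X))) (a y : X) :
    orb A a y ↔ orb A (x a) (x y) := by
  constructor
  · rintro ⟨g, hg, rfl⟩
    refine ⟨x * g * x⁻¹, (Subgroup.mem_normalizer_iff.mp hx g).mp hg, by simp⟩
  · rintro ⟨g, hg, hgx⟩
    refine ⟨x⁻¹ * g * x, (Subgroup.mem_normalizer_iff''.mp hx g).mp hg, ?_⟩
    simp only [Perm.mul_apply, hgx]
    simp

end orbits

section counting

variable {X : Type}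

theorem hnot {A : Subgroup (Perm X)} {q : X → Prop} (hq : ∀ a ∈ A, ∀ y, q (a y) ↔ q y) :
    ∀ a ∈ A, ∀ y, ¬ q (a y) ↔ ¬ q y := fun a ha y => not_congr (hq a ha y)

theorem card_eq_range_mul_ker [Finite X] (A : Subgroup (Perm X)) (q : X → Prop)
    (hq : ∀ a ∈ A, ∀ y, q (a y) ↔ q y) :
    Nat.card A = Nat.card (restr A q hq).range * Nat.card (restr A q hq).ker := by
  rw [← Subgroup.index_ker, mul_comm]
  exact (Subgroup.card_mul_index _).symm

/-- the kernel of the restriction to `q` acts on the complement of `q` -/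
def kerHom (A : Subgroup (Perm X)) (q : X → Prop) (hq : ∀ a ∈ A, ∀ y, q (a y) ↔ q y) :
    (restr A q hq).ker →* Perm (Subtype fun y => ¬ q y) :=
  (restr A (fun y => ¬ q y) (hnot hq)).comp (restr A q hq).ker.subtype

theorem kerHom_injective (A : Subgroup (Perm X)) (q : X → Prop)
    (hq : ∀ a ∈ A, ∀ y, q (a y) ↔ q y) : Function.Injective (kerHom A q hq) := by
  rw [injective_iff_map_eq_one]
  intro k hk
  have h1 : restr A q hq k.1 = 1 := k.2
  apply Subtype.ext
  apply Subtype.ext
  ext y
  by_cases hy : q y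
  · exact congrArg (fun f : Perm (Subtype q) => ((f ⟨y, hy⟩ : Subtype q) : X)) h1
  · exact congrArg (fun f : Perm (Subtype fun y => ¬ q y) =>
      ((f ⟨y, hy⟩ : Subtype fun y => ¬ q y) : X)) hk

theorem card_compl [Finite X] (q : X → Prop) :
    Nat.card X = Nat.card (Subtype q) + Nat.card (Subtype fun y => ¬ q y) := by
  classical
  rw [← Nat.card_sum]
  exact Nat.card_congr (Equiv.sumCompl q).symm

/-- the common numerical set-up -/
theorem counting_core [Finite X] (A : Subgroup (Perm X)) (q : X → Prop)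
    (hq : ∀ a ∈ A, ∀ y, q (a y) ↔ q y) {M : ℕ} (hA : Nat.card A = 2 ^ M) :
    ∃ r k, r ≤ v2f (Nat.card (Subtype q)) ∧ k ≤ v2f (Nat.card (Subtype fun y => ¬ q y)) ∧
      Nat.card (restr A q hq).range = 2 ^ r ∧ Nat.card (restr A q hq).ker = 2 ^ k ∧
      r + k = M ∧
      v2f (Nat.card (Subtype q)) + v2f (Nat.card (Subtype fun y => ¬ q y)) ≤ v2f (Nat.card X) := by
  have h0 := card_eq_range_mul_ker A q hq
  have ha1 : Nat.card (restr A q hq).range ∣ 2 ^ M := by
    rw [← hA]; exact Subgroup.card_range_dvd _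
  have ha2 : Nat.card (restr A q hq).range ∣ (Nat.card (Subtype q))! := by
    rw [← Nat.card_perm]; exact Subgroup.card_subgroup_dvd_card _
  have hb1 : Nat.card (restr A q hq).ker ∣ 2 ^ M := by
    rw [← hA]; exact Subgroup.card_subgroup_dvd_card _
  have hb2 : Nat.card (restr A q hq).ker ∣ (Nat.card (Subtype fun y => ¬ q y))! := by
    rw [← Nat.card_perm]
    exact Subgroup.card_dvd_of_injective _ (kerHom_injective A q hq)
  obtain ⟨r, hr, hr'⟩ := exists_pow_of_dvd ha1 ha2 (Nat.factorial_ne_zero _)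
  obtain ⟨k, hk, hk'⟩ := exists_pow_of_dvd hb1 hb2 (Nat.factorial_ne_zero _)
  refine ⟨r, k, hr, hk, hr', hk', ?_, ?_⟩
  · rw [hA, hr', hk', ← pow_add] at h0
    exact (Nat.pow_right_injective (le_refl 2) h0).symm
  · rw [card_compl q]
    exact v2f_add _ _

/-- restriction of a full Sylow `2`-subgroup to an invariant subset is a full Sylow `2`-subgroup -/
theorem ra [Finite X] (A : Subgroup (Perm X)) (q : X → Prop)
    (hq : ∀ a ∈ A, ∀ y, q (a y) ↔ q y) (hA : Nat.card A = 2 ^ v2f (Nat.card X)) :
    Nat.card (restr A q hq).range = 2 ^ v2f (Nat.card (Subtype q)) ∧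
      v2f (Nat.card X) =
        v2f (Nat.card (Subtype q)) + v2f (Nat.card (Subtype fun y => ¬ q y)) := by
  obtain ⟨r, k, hr, hk, hr', -, hrk, hle⟩ := counting_core A q hq hA
  have e1 : r = v2f (Nat.card (Subtype q)) := by omega
  refine ⟨by rw [hr', e1], by omega⟩

/-- a full Sylow `2`-subgroup of `Perm Y` made of even permutations forces `|Y| ≤ 1` -/
theorem full_even_small {Y : Type} [Fintype Y] [DecidableEq Y] (R : Subgroup (Perm Y))
    (hR : Nat.card R = 2 ^ v2f (Nat.card Y)) (hev : ∀ r ∈ R, Perm.sign r = 1) :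
    Nat.card Y ≤ 1 := by
  by_contra hY
  push Not at hY
  have : Nontrivial Y := by
    rw [← Finite.one_lt_card_iff_nontrivial]; exact hY
  have h1 : R ≤ alternatingGroup Y := fun r hr => Perm.mem_alternatingGroup.mpr (hev r hr)
  have h2 : Nat.card R ∣ Nat.card (alternatingGroup Y) := Subgroup.card_dvd_of_le h1
  have h3 : 2 * Nat.card (alternatingGroup Y) = (Nat.card Y)! := by
    rw [two_mul_nat_card_alternatingGroup, Nat.card_perm]
  have h4 : 2 ^ (v2f (Nat.card Y) + 1) ∣ (Nat.card Y)! := by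
    rw [pow_succ, mul_comm, ← h3, ← hR]
    exact Nat.mul_dvd_mul_left 2 h2
  have h5 := (padicValNat_dvd_iff_le (Nat.factorial_ne_zero _)).mp h4
  unfold v2f at h5
  omega

theorem half_pow {c N : ℕ} (h : 2 * c = 2 ^ N) : 1 ≤ N ∧ c = 2 ^ (N - 1) := by
  rcases N with _ | N
  · simp at h
  · refine ⟨by omega, ?_⟩
    have h' : 2 * c = 2 * 2 ^ N := by rw [h, pow_succ, mul_comm]
    simpa using Nat.eq_of_mul_eq_mul_left two_pos h'

/-- restriction of an even half-Sylow subgroup to an invariant subset whose complement has at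
least two points -/
theorem rb_two [Fintype X] [DecidableEq X] (T : Subgroup (Perm X)) (q : X → Prop)
    (hq : ∀ a ∈ T, ∀ y, q (a y) ↔ q y) (hT : 2 * Nat.card T = 2 ^ v2f (Nat.card X))
    (hev : ∀ t ∈ T, Perm.sign t = 1) (h2 : 2 ≤ Nat.card (Subtype fun y => ¬ q y)) :
    Nat.card (restr T q hq).range = 2 ^ v2f (Nat.card (Subtype q)) ∧
      v2f (Nat.card X) =
        v2f (Nat.card (Subtype q)) + v2f (Nat.card (Subtype fun y => ¬ q y)) := by
  classical
  obtain ⟨hN, hc⟩ := half_pow hT
  obtain ⟨r, k, hr, hk, hr', hk', hrk, hle⟩ := counting_core T q hq hc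
  have hk2 : k ≠ v2f (Nat.card (Subtype fun y => ¬ q y)) := by
    intro hkJ
    have hKI : Nat.card (kerHom T q hq).range =
        2 ^ v2f (Nat.card (Subtype fun y => ¬ q y)) := by
      rw [← Nat.card_congr (MonoidHom.ofInjective (kerHom_injective T q hq)).toEquiv, hk', hkJ]
    have hKev : ∀ f ∈ (kerHom T q hq).range, Perm.sign f = 1 := by
      rintro _ ⟨k0, rfl⟩
      have h1 : restr T q hq k0.1 = 1 := k0.2
      have h3 := sign_decomp T q hq (hnot hq) k0.1
      rw [hev _ k0.1.2, h1, map_one, one_mul] at h3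
      exact h3.symm
    have := full_even_small _ hKI hKev
    omega
  have e1 : r = v2f (Nat.card (Subtype q)) := by omega
  refine ⟨by rw [hr', e1], by omega⟩

/-- restriction of an even half-Sylow subgroup to an invariant subset whose complement has at
most one point -/
theorem rb_one [Fintype X] [DecidableEq X] (T : Subgroup (Perm X)) (q : X → Prop)
    [DecidablePred q]
    (hq : ∀ a ∈ T, ∀ y, q (a y) ↔ q y) (hT : 2 * Nat.card T = 2 ^ v2f (Nat.card X))
    (hev : ∀ t ∈ T, Perm.sign t = 1) (h1 : Nat.card (Subtype fun y => ¬ q y) ≤ 1) :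
    Nat.card (restr T q hq).range = 2 ^ v2f (Nat.card (Subtype q)) ∨
      (2 * Nat.card (restr T q hq).range = 2 ^ v2f (Nat.card (Subtype q)) ∧
        v2f (Nat.card X) = v2f (Nat.card (Subtype q)) ∧
        ∀ f ∈ (restr T q hq).range, Perm.sign f = 1) := by
  obtain ⟨hN, hc⟩ := half_pow hT
  obtain ⟨r, k, hr, hk, hr', hk', hrk, hle⟩ := counting_core T q hq hc
  have hJ' : v2f (Nat.card (Subtype fun y => ¬ q y)) = 0 := by
    rcases (by omega : Nat.card (Subtype fun y => ¬ q y) = 0 ∨
      Nat.card (Subtype fun y => ¬ q y) = 1) with h | h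
    · rw [h]; exact v2f_zero
    · rw [h]; exact v2f_one
  by_cases hrJ : r = v2f (Nat.card (Subtype q))
  · left; rw [hr', hrJ]
  · right
    refine ⟨?_, by omega, ?_⟩
    · rw [hr', ← pow_succ']
      congr 1
      omega
    · rintro _ ⟨t, rfl⟩
      have h3 := sign_decomp T q hq (hnot hq) t
      have : Subsingleton (Subtype fun y => ¬ q y) := Finite.card_le_one_iff_subsingleton.mp h1
      have h4 : restr T (fun y => ¬ q y) (hnot hq) t = 1 := Subsingleton.elim _ _
      rw [hev _ t.2, h4, map_one, mul_one] at h3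
      exact h3.symm

theorem restr_mem_normalizer [Finite X] (A : Subgroup (Perm X)) (q : X → Prop)
    (hq : ∀ a ∈ A, ∀ y, q (a y) ↔ q y) (x : Perm X) (hxq : ∀ y, q (x y) ↔ q y)
    (hx : x ∈ Subgroup.normalizer (A : Set (Perm X))) :
    x.subtypePerm hxq ∈ Subgroup.normalizer ((restr A q hq).range : Set (Perm (Subtype q))) := by
  apply Subgroup.mem_normalizer_fintype
  rintro _ ⟨a, rfl⟩
  refine ⟨⟨x * a * x⁻¹, (Subgroup.mem_normalizer_iff.mp hx a).mp a.2⟩, ?_⟩
  ext y
  rfl

theorem restr_pow_eq_one (q : X → Prop) (x : Perm X) (hxq : ∀ y, q (x y) ↔ q y) {p : ℕ}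
    (hxp : x ^ p = 1) : (x.subtypePerm hxq) ^ p = 1 := by
  rw [Perm.subtypePerm_pow]
  ext y
  simp [hxp]

/-- two orbits of equal size exchanged by a normalising element are impossible for a group whose
restriction away from the first orbit is a full Sylow `2`-subgroup -/
theorem alpha_contra [Finite X] (A : Subgroup (Perm X)) (x : Perm X)
    (hx : x ∈ Subgroup.normalizer (A : Set (Perm X))) (a : X) (ha : ¬ orb A a (x a))
    (hfull : Nat.card (restr A (fun y => ¬ orb A a y) (hnot (orb_inv A a))).range =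
      2 ^ v2f (Nat.card (Subtype fun y => ¬ orb A a y)))
    (hN : v2f (Nat.card X) = v2f (Nat.card (Subtype fun y => ¬ orb A a y)) +
      v2f (Nat.card (Subtype fun y => ¬ ¬ orb A a y))) : False := by
  have hq' : ∀ f ∈ (restr A (fun y => ¬ orb A a y) (hnot (orb_inv A a))).range,
      ∀ z : Subtype fun y => ¬ orb A a y, orb A (x a) (f z).1 ↔ orb A (x a) z.1 := by
    rintro _ ⟨g, rfl⟩ z
    exact orb_inv A (x a) g g.2 z.1
  obtain ⟨-, h2⟩ := ra _ (fun z : Subtype fun y => ¬ orb A a y => orb A (x a) z.1) hq' hfull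
  have c1 : Nat.card (Subtype fun y => ¬ ¬ orb A a y) = Nat.card (Subtype (orb A a)) :=
    Nat.card_congr (Equiv.subtypeEquivRight fun y => not_not)
  have c2 : Nat.card (Subtype fun z : Subtype fun y => ¬ orb A a y => orb A (x a) z.1) =
      Nat.card (Subtype (orb A a)) := by
    have e1 : (Subtype fun z : Subtype fun y => ¬ orb A a y => orb A (x a) z.1) ≃
        Subtype (orb A (x a)) :=
      Equiv.subtypeSubtypeEquivSubtype (fun {y} hy hay => ha (orb_trans hay (orb_symm hy)))
    have e2 : Subtype (orb A a) ≃ Subtype (orb A (x a)) :=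
      Equiv.subtypeEquiv x (fun y => orb_conj hx a y)
    rw [Nat.card_congr e1, ← Nat.card_congr e2]
  have c3 := card_compl (X := Subtype fun y => ¬ orb A a y) (fun z => orb A (x a) z.1)
  have c4 := card_compl (X := X) (fun y => ¬ orb A a y)
  have : Nonempty (Subtype (orb A a)) := ⟨⟨a, orb_self A a⟩⟩
  have hs : 1 ≤ Nat.card (Subtype (orb A a)) := Nat.card_pos
  have h5 := v2f_central (s := Nat.card (Subtype (orb A a)))
    (k := Nat.card (Subtype fun z : Subtype fun y => ¬ orb A a y => ¬ orb A (x a) z.1)) hs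
  rw [c2] at c3 h2
  rw [c1] at c4 hN
  have c5 : Nat.card X = 2 * Nat.card (Subtype (orb A a)) +
      Nat.card (Subtype fun z : Subtype fun y => ¬ orb A a y => ¬ orb A (x a) z.1) := by omega
  rw [c5] at hN
  omega

theorem fix_iff (t : Perm X) (a y : X) (h : t a = a) : t y = a ↔ y = a :=
  ⟨fun h' => t.injective (h'.trans h.symm), fun h' => h' ▸ h⟩

/-- an even half-Sylow subgroup of `Perm X`, `|X| ≥ 4`, cannot fix two points -/
theorem two_fixed [Fintype X] [DecidableEq X] (T : Subgroup (Perm X))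
    (hT : 2 * Nat.card T = 2 ^ v2f (Nat.card X)) (hev : ∀ t ∈ T, Perm.sign t = 1)
    (hX : 4 ≤ Nat.card X) (a b : X) (hab : a ≠ b) (ha : ∀ t ∈ T, t a = a)
    (hb : ∀ t ∈ T, t b = b) : False := by
  classical
  have hq : ∀ t ∈ T, ∀ y, (t y ≠ a ∧ t y ≠ b) ↔ (y ≠ a ∧ y ≠ b) := by
    intro t ht y
    rw [Ne, Ne, fix_iff t a y (ha t ht), fix_iff t b y (hb t ht)]
  have c1 : Nat.card (Subtype fun y => ¬ (y ≠ a ∧ y ≠ b)) = 2 := by
    have e : (Subtype fun y => ¬ (y ≠ a ∧ y ≠ b)) ≃ {y // y ∈ ({a, b} : Finset X)} :=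
      Equiv.subtypeEquivRight (fun y => by
        simp only [Finset.mem_insert, Finset.mem_singleton]; tauto)
    rw [Nat.card_congr e, Nat.card_eq_fintype_card, Fintype.card_coe, Finset.card_pair hab]
  obtain ⟨h1, -⟩ := rb_two T (fun y => y ≠ a ∧ y ≠ b) hq hT hev (by omega)
  have hRev : ∀ f ∈ (restr T (fun y => y ≠ a ∧ y ≠ b) hq).range, Perm.sign f = 1 := by
    rintro _ ⟨t, rfl⟩
    have h2' : ∀ y, (t : Perm X) y ≠ y → (y ≠ a ∧ y ≠ b) := by
      intro y hy
      by_contra hc
      apply hy
      have : y = a ∨ y = b := by tauto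
      rcases this with rfl | rfl
      · exact ha t t.2
      · exact hb t t.2
    have h3 : Perm.sign (restr T (fun y => y ≠ a ∧ y ≠ b) hq t) = Perm.sign (t : Perm X) :=
      Perm.sign_subtypePerm (p := fun y => y ≠ a ∧ y ≠ b) (t : Perm X) (hq t t.2) h2'
    rw [h3, hev t t.2]
  have h4 := full_even_small _ h1 hRev
  have c4 := card_compl (X := X) (fun y => y ≠ a ∧ y ≠ b)
  omega

end counting

section stab

variable {X : Type}

/-- the point stabiliser of `a` in `Q`, as a subgroup of `Perm X` -/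
def ptStab (Q : Subgroup (Perm X)) (a : X) : Subgroup (Perm X) :=
  (MulAction.stabilizer Q a).map Q.subtype

theorem mem_ptStab {Q : Subgroup (Perm X)} {a : X} {g : Perm X} :
    g ∈ ptStab Q a ↔ g ∈ Q ∧ g a = a := by
  constructor
  · rintro ⟨y, hy, rfl⟩
    exact ⟨y.2, hy⟩
  · rintro ⟨hg, hga⟩
    exact ⟨⟨g, hg⟩, hga, rfl⟩

theorem pretransitive_of (Q : Subgroup (Perm X)) (a : X) (htr : ∀ y, ∃ g ∈ Q, g a = y) :
    MulAction.IsPretransitive Q X := by
  refine ⟨fun y z => ?_⟩
  obtain ⟨g, hg, rfl⟩ := htr y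
  obtain ⟨h, hh, rfl⟩ := htr z
  refine ⟨⟨h * g⁻¹, Q.mul_mem hh (Q.inv_mem hg)⟩, ?_⟩
  show (h * g⁻¹) (g a) = h a
  simp

theorem card_ptStab [Finite X] (Q : Subgroup (Perm X)) (a : X)
    (htr : ∀ y, ∃ g ∈ Q, g a = y) : Nat.card (ptStab Q a) * Nat.card X = Nat.card Q := by
  have := pretransitive_of Q a htr
  unfold ptStab
  rw [Subgroup.card_map_of_injective Q.subtype_injective,
    ← MulAction.index_stabilizer_of_transitive Q a]
  exact Subgroup.card_mul_index _

theorem ptStab_inv (Q : Subgroup (Perm X)) (a : X) :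
    ∀ g ∈ ptStab Q a, ∀ y, g y ≠ a ↔ y ≠ a :=
  fun g hg y => not_congr (fix_iff g a y (mem_ptStab.mp hg).2)

theorem ptStab_normalizer [Finite X] (Q : Subgroup (Perm X)) (a : X) (x' : Perm X)
    (hx' : x' ∈ Subgroup.normalizer (Q : Set (Perm X))) (hxa : x' a = a) :
    x' ∈ Subgroup.normalizer (ptStab Q a : Set (Perm X)) := by
  apply Subgroup.mem_normalizer_fintype
  intro g hg
  rw [SetLike.mem_coe, mem_ptStab] at hg ⊢
  refine ⟨(Subgroup.mem_normalizer_iff.mp hx' g).mp hg.1, ?_⟩
  have h1 : x'⁻¹ a = a := Perm.inv_eq_iff_eq.mpr hxa.symm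
  simp only [Perm.mul_apply, h1, hg.2, hxa]

theorem card_restr_ptStab [Finite X] (Q : Subgroup (Perm X)) (a : X) :
    Nat.card (restr (ptStab Q a) (fun y => y ≠ a) (ptStab_inv Q a)).range =
      Nat.card (ptStab Q a) := by
  have hinj : Function.Injective (restr (ptStab Q a) (fun y => y ≠ a) (ptStab_inv Q a)) := by
    rw [injective_iff_map_eq_one]
    intro g hg
    apply Subtype.ext
    ext y
    by_cases hy : y = a
    · rw [hy]; exact (mem_ptStab.mp g.2).2
    · exact congrArg (fun f : Perm (Subtype fun y => y ≠ a) =>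
        ((f ⟨y, hy⟩ : Subtype fun y => y ≠ a) : X)) hg
  exact (Nat.card_congr (MonoidHom.ofInjective hinj).toEquiv).symm

theorem restr_ptStab_even [Fintype X] [DecidableEq X] (Q : Subgroup (Perm X)) (a : X)
    (hev : ∀ g ∈ Q, Perm.sign g = 1) :
    ∀ f ∈ (restr (ptStab Q a) (fun y => y ≠ a) (ptStab_inv Q a)).range, Perm.sign f = 1 := by
  rintro _ ⟨g, rfl⟩
  have h3 : Perm.sign (restr (ptStab Q a) (fun y => y ≠ a) (ptStab_inv Q a) g) =
      Perm.sign (g : Perm X) :=
    Perm.sign_subtypePerm (p := fun y => y ≠ a) (g : Perm X) (ptStab_inv Q a g g.2)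
      (fun y hy hya => hy (hya ▸ (mem_ptStab.mp g.2).2))
  rw [h3]
  exact hev _ (mem_ptStab.mp g.2).1

theorem card_ne [Finite X] (a : X) : Nat.card (Subtype fun y => y ≠ a) + 1 = Nat.card X := by
  have h := card_compl (X := X) (fun y => y = a)
  have h1 : Nat.card (Subtype fun y => y = a) = 1 := by simp
  have h2 : Nat.card (Subtype fun y => y ≠ a) = Nat.card (Subtype fun y => ¬ (y = a)) := rfl
  omega

theorem stab_num {c n : ℕ} (h : c * n = 2 ^ v2f n) : c = 2 ^ v2f (n - 1) := by
  have hdiv : n ∣ 2 ^ v2f n := ⟨c, by rw [← h, mul_comm]⟩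
  obtain ⟨v, -, rfl⟩ := (Nat.dvd_prime_pow Nat.prime_two).mp hdiv
  rw [v2f_two_pow, pow_add] at h
  exact Nat.eq_of_mul_eq_mul_right (by positivity) h

/-- if a transitive `2`-group `Q` is normalised by a nontrivial element of odd prime order `p`,
then it is normalised by such an element fixing the point `a` -/
theorem stab_trick [Finite X] {p : ℕ} (hp : p.Prime) (hp2 : p ≠ 2) (Q : Subgroup (Perm X))
    {m : ℕ} (hQ : Nat.card Q = 2 ^ m) (a : X) (htr : ∀ y, ∃ g ∈ Q, g a = y) (x : Perm X)
    (hx : x ∈ Subgroup.normalizer (Q : Set (Perm X))) (hxp : x ^ p = 1) (hx1 : x ≠ 1) :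
    ∃ x' : Perm X, x' ∈ Subgroup.normalizer (Q : Set (Perm X)) ∧ x' a = a ∧ x' ^ p = 1 ∧
      x' ≠ 1 := by
  have : Fact p.Prime := ⟨hp⟩
  have htrN : ∀ y, ∃ g ∈ Subgroup.normalizer (Q : Set (Perm X)), g a = y := fun y => by
    obtain ⟨g, hg, h⟩ := htr y
    exact ⟨g, Subgroup.le_normalizer hg, h⟩
  have h1 := card_ptStab (Subgroup.normalizer (Q : Set (Perm X))) a htrN
  have h2 := card_ptStab Q a htr
  have hord : orderOf x = p := orderOf_eq_prime hxp hx1
  have h3 : p ∣ Nat.card (Subgroup.normalizer (Q : Set (Perm X))) := by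
    have : orderOf (⟨x, hx⟩ : Subgroup.normalizer (Q : Set (Perm X))) = p := by
      rw [← hord]; exact Subgroup.orderOf_mk x hx
    rw [← this]; exact orderOf_dvd_natCard _
  have h4 : ¬ p ∣ Nat.card X := by
    intro h
    have h5 : p ∣ 2 ^ m := by rw [← hQ, ← h2]; exact dvd_mul_of_dvd_right h _
    exact hp2 ((Nat.prime_dvd_prime_iff_eq hp Nat.prime_two).mp (hp.dvd_of_dvd_pow h5))
  have h5 : p ∣ Nat.card (ptStab (Subgroup.normalizer (Q : Set (Perm X))) a) := by
    rw [← h1] at h3
    exact (hp.dvd_mul.mp h3).resolve_right h4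
  obtain ⟨y, hy⟩ := exists_prime_orderOf_dvd_card' p h5
  refine ⟨y.1, (mem_ptStab.mp y.2).1, (mem_ptStab.mp y.2).2, ?_, ?_⟩
  · rw [← hy, ← Subgroup.orderOf_coe]; exact pow_orderOf_eq_one _
  · intro h
    have h6 : orderOf (y : Perm X) = 1 := by rw [h]; exact orderOf_one
    rw [Subgroup.orderOf_coe, hy] at h6
    exact hp.one_lt.ne' h6

end stab

section claims

/-- no nontrivial element of order `p` normalises a full Sylow `2`-subgroup of `Perm X`,
`|X| = n` -/
def ClaimA (p n : ℕ) : Prop :=
  ∀ (X : Type) [Finite X] (P : Subgroup (Perm X)) (x : Perm X),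
    Nat.card X = n → Nat.card P = 2 ^ v2f n →
    x ∈ Subgroup.normalizer (P : Set (Perm X)) → x ^ p = 1 → x = 1

theorem rla {p n : ℕ} (ih : ∀ m < n, ClaimA p m) {X : Type} [Finite X]
    (P : Subgroup (Perm X)) (x : Perm X) (hn : Nat.card X = n) (hP : Nat.card P = 2 ^ v2f n)
    (hx : x ∈ Subgroup.normalizer (P : Set (Perm X))) (hxp : x ^ p = 1)
    (q : X → Prop) (hqP : ∀ g ∈ P, ∀ y, q (g y) ↔ q y) (hqx : ∀ y, q (x y) ↔ q y)
    (hlt : Nat.card (Subtype q) < n) : ∀ y, q y → x y = y := by
  intro y hy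
  subst hn
  have h1 := (ra P q hqP hP).1
  have h2 := ih _ hlt (Subtype q) (restr P q hqP).range (x.subtypePerm hqx) rfl h1
    (restr_mem_normalizer P q hqP x hqx hx) (restr_pow_eq_one q x hqx hxp)
  exact congrArg (fun f : Perm (Subtype q) => ((f ⟨y, hy⟩ : Subtype q) : X)) h2

theorem claimA {p : ℕ} (hp : p.Prime) (hp2 : p ≠ 2) : ∀ n, ClaimA p n := by
  intro n
  induction n using Nat.strong_induction_on with
  | _ n ih =>
    intro X _ P x hn hP hx hxp
    by_contra hx1
    by_cases hα : ∃ a, ¬ orb P a (x a)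
    · obtain ⟨a, ha⟩ := hα
      subst hn
      obtain ⟨h1, h2⟩ := ra P (fun y => ¬ orb P a y) (hnot (orb_inv P a)) hP
      exact alpha_contra P x hx a ha h1 h2
    · push Not at hα
      have hinvx : ∀ a y, orb P a (x y) ↔ orb P a y := fun a y =>
        ⟨fun h => orb_trans h (orb_symm (hα y)), fun h => orb_trans h (hα y)⟩
      by_cases htr : ∃ a y, ¬ orb P a y
      · obtain ⟨a, y0, hy0⟩ := htr
        apply hx1
        have c := card_compl (X := X) (orb P a)
        have n1 : 1 ≤ Nat.card (Subtype (orb P a)) := by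
          have : Nonempty (Subtype (orb P a)) := ⟨⟨a, orb_self P a⟩⟩
          exact Nat.card_pos
        have n2 : 1 ≤ Nat.card (Subtype fun y => ¬ orb P a y) := by
          have : Nonempty (Subtype fun y => ¬ orb P a y) := ⟨⟨y0, hy0⟩⟩
          exact Nat.card_pos
        have h1 := rla ih P x hn hP hx hxp (orb P a) (orb_inv P a) (hinvx a) (by omega)
        have h2 := rla ih P x hn hP hx hxp (fun y => ¬ orb P a y) (hnot (orb_inv P a))
          (fun y => not_congr (hinvx a y)) (by omega)
        ext y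
        by_cases hy : orb P a y
        · exact h1 y hy
        · exact h2 y hy
      · push Not at htr
        obtain ⟨a, -⟩ : ∃ a, x a ≠ a := by
          by_contra h
          push Not at h
          exact hx1 (Equiv.ext h)
        obtain ⟨x', hx'N, hx'a, hx'p, hx'1⟩ := stab_trick hp hp2 P hP a (htr a) x hx hxp hx1
        apply hx'1
        have hc1 := card_ptStab P a (htr a)
        have hc2 := card_restr_ptStab P a
        have hR : Nat.card (restr (ptStab P a) (fun y => y ≠ a) (ptStab_inv P a)).range =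
            2 ^ v2f (n - 1) := by
          rw [hc2]
          apply stab_num
          rw [← hn, hc1, hP, hn]
        have hc3 := card_ne a
        have hcard : Nat.card (Subtype fun y => y ≠ a) = n - 1 := by omega
        have h2 := ih (n - 1) (by omega) (Subtype fun y => y ≠ a) _
          (x'.subtypePerm (fun y => not_congr (fix_iff x' a y hx'a))) hcard hR
          (restr_mem_normalizer _ _ _ x' _ (ptStab_normalizer P a x' hx'N hx'a))
          (restr_pow_eq_one _ x' _ hx'p)
        ext y
        by_cases hy : y = a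
        · rw [hy]; exact hx'a
        · exact congrArg (fun f : Perm (Subtype fun y => y ≠ a) =>
            ((f ⟨y, hy⟩ : Subtype fun y => y ≠ a) : X)) h2

/-- no nontrivial element of order `p` normalises an even half-Sylow `2`-subgroup of `Perm X`,
`|X| = n ≥ 6` -/
def ClaimB (p n : ℕ) : Prop :=
  ∀ (X : Type) [Fintype X] [DecidableEq X] (T : Subgroup (Perm X)) (x : Perm X),
    Nat.card X = n → 6 ≤ n → 2 * Nat.card T = 2 ^ v2f n → (∀ t ∈ T, Perm.sign t = 1) →
    x ∈ Subgroup.normalizer (T : Set (Perm X)) → x ^ p = 1 → x = 1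

theorem rlb {p n : ℕ} (hA : ∀ m, ClaimA p m) (ih : ∀ m < n, ClaimB p m) {X : Type}
    [Fintype X] [DecidableEq X] (T : Subgroup (Perm X)) (x : Perm X) (hn : Nat.card X = n)
    (h6 : 6 ≤ n) (hT : 2 * Nat.card T = 2 ^ v2f n) (hev : ∀ t ∈ T, Perm.sign t = 1)
    (hx : x ∈ Subgroup.normalizer (T : Set (Perm X))) (hxp : x ^ p = 1)
    (q : X → Prop) (hqT : ∀ g ∈ T, ∀ y, q (g y) ↔ q y) (hqx : ∀ y, q (x y) ↔ q y)
    (hlt : Nat.card (Subtype q) < n) : ∀ y, q y → x y = y := by
  classical
  intro y hy
  subst hn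
  have c := card_compl (X := X) q
  have key : x.subtypePerm hqx = 1 := by
    by_cases h2 : 2 ≤ Nat.card (Subtype fun y => ¬ q y)
    · obtain ⟨h1, -⟩ := rb_two T q hqT hT hev h2
      exact hA _ (Subtype q) (restr T q hqT).range (x.subtypePerm hqx) rfl h1
        (restr_mem_normalizer T q hqT x hqx hx) (restr_pow_eq_one q x hqx hxp)
    · push Not at h2
      rcases rb_one T q hqT hT hev (by omega) with h1 | ⟨h1, h3, h4⟩
      · exact hA _ (Subtype q) (restr T q hqT).range (x.subtypePerm hqx) rfl h1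
          (restr_mem_normalizer T q hqT x hqx hx) (restr_pow_eq_one q x hqx hxp)
      · have hodd : ¬ 2 ∣ Nat.card X := by
          intro he
          have h5 := v2f_lt_of_even (by omega) he
          have h6 : Nat.card (Subtype q) = Nat.card X - 1 := by omega
          rw [h6] at h3
          omega
        have h7 : 6 ≤ Nat.card (Subtype q) := by omega
        exact ih _ hlt (Subtype q) (restr T q hqT).range (x.subtypePerm hqx) rfl h7 h1
          (fun f hf => by convert h4 f hf)
          (restr_mem_normalizer T q hqT x hqx hx) (restr_pow_eq_one q x hqx hxp)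
  exact congrArg (fun f : Perm (Subtype q) => ((f ⟨y, hy⟩ : Subtype q) : X)) key

theorem claimB {p : ℕ} (hp : p.Prime) (hp2 : p ≠ 2) : ∀ n, ClaimB p n := by
  have hA := claimA hp hp2
  intro n
  induction n using Nat.strong_induction_on with
  | _ n ih =>
    intro X _ _ T x hn h6 hT hev hx hxp
    classical
    by_contra hx1
    by_cases hα : ∃ a, ¬ orb T a (x a)
    · obtain ⟨a, ha⟩ := hα
      subst hn
      by_cases hs : 2 ≤ Nat.card (Subtype (orb T a))
      · have c1 : Nat.card (Subtype fun y => ¬ ¬ orb T a y) = Nat.card (Subtype (orb T a)) :=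
          Nat.card_congr (Equiv.subtypeEquivRight fun y => not_not)
        obtain ⟨h1, h2⟩ := rb_two T (fun y => ¬ orb T a y) (hnot (orb_inv T a)) hT hev
          (by rw [c1]; exact hs)
        exact alpha_contra T x hx a ha h1 h2
      · push Not at hs
        have : Subsingleton (Subtype (orb T a)) :=
          Finite.card_le_one_iff_subsingleton.mp (by omega)
        have hfa : ∀ t ∈ T, t a = a := by
          intro t ht
          have := Subsingleton.elim (⟨t a, ⟨t, ht, rfl⟩⟩ : Subtype (orb T a)) ⟨a, orb_self T a⟩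
          exact congrArg Subtype.val this
        have hfb : ∀ t ∈ T, t (x a) = x a := by
          intro t ht
          have h1 := (Subgroup.mem_normalizer_iff''.mp hx t).mp ht
          have h2 := hfa _ h1
          simp only [Perm.mul_apply] at h2
          have h3 := congrArg x h2
          simpa using h3
        have hne : a ≠ x a := fun h => ha (by rw [← h]; exact orb_self T a)
        exact two_fixed T hT hev (by omega) a (x a) hne hfa hfb
    · push Not at hα
      have hinvx : ∀ a y, orb T a (x y) ↔ orb T a y := fun a y =>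
        ⟨fun h => orb_trans h (orb_symm (hα y)), fun h => orb_trans h (hα y)⟩
      by_cases htr : ∃ a y, ¬ orb T a y
      · obtain ⟨a, y0, hy0⟩ := htr
        apply hx1
        have c := card_compl (X := X) (orb T a)
        have n1 : 1 ≤ Nat.card (Subtype (orb T a)) := by
          have : Nonempty (Subtype (orb T a)) := ⟨⟨a, orb_self T a⟩⟩
          exact Nat.card_pos
        have n2 : 1 ≤ Nat.card (Subtype fun y => ¬ orb T a y) := by
          have : Nonempty (Subtype fun y => ¬ orb T a y) := ⟨⟨y0, hy0⟩⟩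
          exact Nat.card_pos
        have h1 := rlb hA ih T x hn h6 hT hev hx hxp (orb T a) (orb_inv T a) (hinvx a)
          (by omega)
        have h2 := rlb hA ih T x hn h6 hT hev hx hxp (fun y => ¬ orb T a y)
          (hnot (orb_inv T a)) (fun y => not_congr (hinvx a y)) (by omega)
        ext y
        by_cases hy : orb T a y
        · exact h1 y hy
        · exact h2 y hy
      · push Not at htr
        obtain ⟨a, -⟩ : ∃ a, x a ≠ a := by
          by_contra h
          push Not at h
          exact hx1 (Equiv.ext h)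
        obtain ⟨hN, hcT⟩ := half_pow hT
        obtain ⟨x', hx'N, hx'a, hx'p, hx'1⟩ := stab_trick hp hp2 T hcT a (htr a) x hx hxp hx1
        apply hx'1
        have hc1 := card_ptStab T a (htr a)
        have hc2 := card_restr_ptStab T a
        have hR : 2 * Nat.card (restr (ptStab T a) (fun y => y ≠ a) (ptStab_inv T a)).range =
            2 ^ v2f (n - 1) := by
          rw [hc2]
          apply stab_num
          rw [mul_assoc, ← hn, hc1, hT, hn]
        have hn8 : 8 ≤ n := by
          have hdiv : n ∣ 2 ^ (v2f n - 1) := by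
            rw [← hcT, ← hc1, hn]; exact dvd_mul_left _ _
          obtain ⟨v, -, hv⟩ := (Nat.dvd_prime_pow Nat.prime_two).mp hdiv
          have hv3 : 3 ≤ v := by
            by_contra h
            have : 2 ^ v ≤ 2 ^ 2 := Nat.pow_le_pow_right (by norm_num) (by omega)
            omega
          have : 2 ^ 3 ≤ 2 ^ v := Nat.pow_le_pow_right (by norm_num) hv3
          omega
        have hc3 := card_ne a
        have hcard : Nat.card (Subtype fun y => y ≠ a) = n - 1 := by omega
        have h2 := ih (n - 1) (by omega) (Subtype fun y => y ≠ a) _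
          (x'.subtypePerm (fun y => not_congr (fix_iff x' a y hx'a))) hcard (by omega) hR
          (fun f hf => by convert restr_ptStab_even T a hev f hf)
          (restr_mem_normalizer _ _ _ x' _ (ptStab_normalizer T a x' hx'N hx'a))
          (restr_pow_eq_one _ x' _ hx'p)
        ext y
        by_cases hy : y = a
        · rw [hy]; exact hx'a
        · exact congrArg (fun f : Perm (Subtype fun y => y ≠ a) =>
            ((f ⟨y, hy⟩ : Subtype fun y => y ≠ a) : X)) h2

end claims

section final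

/-- Sylow `2`-subgroups of alternating groups of degree at least `6` are self-normalising -/
theorem sylow_two_alt_normalizer {X : Type} [Fintype X] [DecidableEq X] (h6 : 6 ≤ Nat.card X)
    (S : Sylow 2 (alternatingGroup X)) :
    Subgroup.normalizer ((S : Subgroup (alternatingGroup X)) : Set (alternatingGroup X)) = S := by
  have hT'card : 2 * Nat.card ((S : Subgroup (alternatingGroup X)).map
      (alternatingGroup X).subtype) = 2 ^ v2f (Nat.card X) := by
    rw [Subgroup.card_map_of_injective (alternatingGroup X).subtype_injective,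
      S.card_eq_multiplicity]
    have : Nontrivial X := (Finite.one_lt_card_iff_nontrivial).mp (by omega)
    have h1 : 2 * Nat.card (alternatingGroup X) = (Nat.card X)! := by
      rw [two_mul_nat_card_alternatingGroup, Nat.card_perm]
    have h2 : (Nat.card (alternatingGroup X)).factorization 2 + 1 = v2f (Nat.card X) := by
      unfold v2f
      rw [← h1, padicValNat.mul two_ne_zero Nat.card_pos.ne', padicValNat_self,
        Nat.factorization_def _ Nat.prime_two]
      omega
    rw [← h2, pow_succ, mul_comm]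
  have hT'ev : ∀ t ∈ (S : Subgroup (alternatingGroup X)).map (alternatingGroup X).subtype,
      Perm.sign t = 1 := by
    rintro _ ⟨g, -, rfl⟩
    exact Perm.mem_alternatingGroup.mp g.2
  have hprime : ∀ p : ℕ, p.Prime → p ∣ Nat.card (Subgroup.normalizer
      ((S : Subgroup (alternatingGroup X)) : Set (alternatingGroup X))) → p = 2 := by
    intro p hp hdvd
    by_contra hp2
    have : Fact p.Prime := ⟨hp⟩
    obtain ⟨y, hy⟩ := exists_prime_orderOf_dvd_card' p hdvd
    have hy' : ((y : alternatingGroup X) : Perm X) = 1 := by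
      apply claimB hp hp2 (Nat.card X) X _ _ rfl h6 hT'card hT'ev
      · have := Subgroup.le_normalizer_map (alternatingGroup X).subtype
          (H := (S : Subgroup (alternatingGroup X)))
        exact this ⟨y.1, y.2, rfl⟩
      · have h1 : y ^ p = 1 := by rw [← hy]; exact pow_orderOf_eq_one y
        have h2 := congrArg (fun z : Subgroup.normalizer
          ((S : Subgroup (alternatingGroup X)) : Set (alternatingGroup X)) =>
            ((z : alternatingGroup X) : Perm X)) h1
        simpa using h2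
    have h3 : y = 1 := by
      apply Subtype.ext
      apply Subtype.ext
      exact hy'
    rw [h3, orderOf_one] at hy
    exact hp.one_lt.ne hy
  have hNpow := Nat.eq_prime_pow_of_unique_prime_dvd
    (n := Nat.card (Subgroup.normalizer
      ((S : Subgroup (alternatingGroup X)) : Set (alternatingGroup X)))) (p := 2)
    Nat.card_pos.ne' (fun {d} hd hdvd => hprime d hd hdvd)
  have hNp : IsPGroup 2 (Subgroup.normalizer
      ((S : Subgroup (alternatingGroup X)) : Set (alternatingGroup X))) := IsPGroup.of_card hNpow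
  exact S.is_maximal' hNp Subgroup.le_normalizer

/-- a subgroup of odd index contains a Sylow `2`-subgroup -/
theorem exists_sylow_le_of_odd_index {G : Type*} [Group G] [Finite G] (H : Subgroup G)
    (hH : Odd H.index) : ∃ P : Sylow 2 G, (P : Subgroup G) ≤ H := by
  obtain ⟨S₀⟩ : Nonempty (Sylow 2 H) := inferInstance
  have h0 : ¬ 2 ∣ H.index := by
    rw [Nat.two_dvd_ne_zero]; exact Nat.odd_iff.mp hH
  have h1 : Nat.card ((S₀ : Subgroup H).map H.subtype) = 2 ^ (Nat.card G).factorization 2 := by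
    rw [Subgroup.card_map_of_injective H.subtype_injective, S₀.card_eq_multiplicity]
    congr 1
    rw [← H.card_mul_index, Nat.factorization_mul Nat.card_pos.ne' Subgroup.index_ne_zero_of_finite,
      Finsupp.add_apply, Nat.factorization_eq_zero_of_not_dvd h0, add_zero]
  refine ⟨Sylow.ofCard _ h1, ?_⟩
  rw [Sylow.coe_ofCard]
  exact Subgroup.map_subtype_le _

end final

end Cfsg.Agent.Lib.Helper38.SylTwoPerm
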