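import Mathlib
import Cfsg.Agent.Lib.Helper6.SzSylow
import Cfsg.Agent.Lib.Helper6.SzTI
import Cfsg.Agent.Lib.Helper6.SzTorus
import Cfsg.Agent.Lib.Helper6.SzGen
import Cfsg.Agent.Lib.Helper6.SzPartition

/-!
# SZCH-[I-A] (helper38 for helper6, S4775): the tori `A₁`, `A₂` and the covering of `Sz F m`
by the conjugates of `Q`, `K`, `A₁`, `A₂`
-/

set_option autoImplicit false

namespace Cfsg.Agent.Lib.Helper38.SzCh

open Cfsg Matrix MulAction Cfsg.Agent.Lib.Helper6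

variable {F : Type*} [Field F] [Fintype F] [CharP F 2] {m : ℕ} (hσ : SgSq (F := F) m)

theorem comm_of_isCyclic' {G : Type*} [Group G] (U : Subgroup G) (hU : IsCyclic U) :
    ∀ a ∈ U, ∀ b ∈ U, a * b = b * a := by
  intro a ha b hb
  have h := (IsCyclic.commGroup (α := U)).mul_comm ⟨a, ha⟩ ⟨b, hb⟩
  exact congrArg Subtype.val h

theorem inst_tori (hm : 1 ≤ m) (hF : Fintype.card F = 2 ^ (2 * m + 1)) :
    ∃ A₁ A₂ : Subgroup (Sz F m),
      Nat.card A₁ = 2 ^ (2 * m + 1) + 2 ^ (m + 1) + 1 ∧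
      Nat.card A₂ + 2 ^ (m + 1) = 2 ^ (2 * m + 1) + 1 ∧
      (∀ a ∈ A₁, ∀ b ∈ A₁, a * b = b * a) ∧ (∀ a ∈ A₂, ∀ b ∈ A₂, a * b = b * a) ∧
      (∀ a ∈ A₁, a ≠ 1 → Subgroup.centralizer ({a} : Set (Sz F m)) = A₁) ∧
      (∀ a ∈ A₂, a ≠ 1 → Subgroup.centralizer ({a} : Set (Sz F m)) = A₂) ∧
      Nat.card ↥(Subgroup.normalizer (A₁ : Set (Sz F m))) = 4 * Nat.card A₁ ∧
      Nat.card ↥(Subgroup.normalizer (A₂ : Set (Sz F m))) = 4 * Nat.card A₂ ∧
      ∀ g : Sz F m, ∃ x : Sz F m, x * g * x⁻¹ ∈ szTsub hσ ∨ x * g * x⁻¹ ∈ szHsub hσ ∨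
        x * g * x⁻¹ ∈ A₁ ∨ x * g * x⁻¹ ∈ A₂ := by
  classical
  obtain ⟨x₁, x₂, hx₁, hx₂, hc₁, hc₂, hn₁, hn₂, hcov⟩ := sz_fpf_classes hm hF
  have hle : 2 ^ (m + 1) ≤ 2 ^ (2 * m + 1) := Nat.pow_le_pow_right (by norm_num) (by omega)
  refine ⟨Subgroup.centralizer {x₁}, Subgroup.centralizer {x₂}, hc₁, ?_,
    comm_of_isCyclic' _ (hx₁.isCyclic_centralizer hm hF),
    comm_of_isCyclic' _ (hx₂.isCyclic_centralizer hm hF), ?_, ?_, ?_, ?_, ?_⟩
  · rw [hc₂]; omega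
  · intro u hu hu1
    exact hx₁.centralizer_eq hm hF hu1 (Subgroup.mem_centralizer_singleton_iff.mp hu)
  · intro u hu hu1
    exact hx₂.centralizer_eq hm hF hu1 (Subgroup.mem_centralizer_singleton_iff.mp hu)
  · rw [hn₁, hc₁]
  · rw [hn₂, hc₂]
  · intro g
    by_cases hg : g = 1
    · refine ⟨1, Or.inl ?_⟩
      rw [hg]; simp
    by_cases hfix : ∃ a : suzukiOvoid F m, g • a = a
    · obtain ⟨a, ha⟩ := hfix
      by_cases hfix2 : ∃ b : suzukiOvoid F m, b ≠ a ∧ g • b = b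
      · -- two fixed points: conjugate into `K`
        obtain ⟨b, hba, hb⟩ := hfix2
        obtain ⟨x, hx⟩ := Cfsg.Agent.S0332.exists_conj_szH hm hF a b (Ne.symm hba)
        obtain ⟨k, hk⟩ := hx g ha hb
        refine ⟨x, Or.inr (Or.inl ⟨k, ?_⟩)⟩
        apply Subtype.ext
        rw [hk]
        rfl
      · -- exactly one fixed point: a `2`-element, conjugate into `Q`
        push Not at hfix2
        have hu : ∀ b, g • b = b → b = a := by
          intro b hb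
          by_contra hne
          exact hfix2 b hne hb
        have h3 := sz_three_pt hm hF
        obtain ⟨j, hj⟩ :=
          exists_two_pow_of_unique_fixed (sz_card_ovoid hF) h3 ha hu (Commute.refl g)
        have hZ : IsPGroup 2 (Subgroup.zpowers g) := by
          rintro ⟨z, hz⟩
          obtain ⟨i, rfl⟩ := Subgroup.mem_zpowers_iff.mp hz
          refine ⟨j, Subtype.ext ?_⟩
          change (g ^ i) ^ 2 ^ j = 1
          rw [← zpow_natCast, ← _root_.zpow_mul, mul_comm, _root_.zpow_mul, zpow_natCast, hj, _root_.one_zpow]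
        obtain ⟨x, hx⟩ := exists_conj_le_szTsub hσ hm hF hZ
        exact ⟨x, Or.inl (hx g (Subgroup.mem_zpowers g))⟩
    · -- no fixed point
      push Not at hfix
      have hfpf : SzFpf g := hfix
      rcases hcov g hfpf with h | h
      · obtain ⟨-, x, hx⟩ := h
        exact ⟨x, Or.inr (Or.inr (Or.inl hx))⟩
      · obtain ⟨-, x, hx⟩ := h
        exact ⟨x, Or.inr (Or.inr (Or.inr hx))⟩

end Cfsg.Agent.Lib.Helper38.SzCh
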