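import Mathlib
import Cfsg.Agent.Lib.Helper6.SzSylow
import Cfsg.Agent.Lib.Helper6.SzTI
import Cfsg.Agent.Lib.Helper6.SzTorus
import Cfsg.Agent.Lib.Helper6.SzGen
import Cfsg.Agent.Lib.Helper6.SzPartition

/-!
# SZCH-[I-B] (helper38 for helper6, S4775): `N(Q) = Stab(∞) = QK`, `Q` is T.I., `C(u) ≤ Q`
-/

set_option autoImplicit false

namespace Cfsg.Agent.Lib.Helper38.SzCh

open Cfsg Matrix Cfsg.Agent.Lib.Helper6

variable {F : Type*} [Field F] [Fintype F] [CharP F 2] {m : ℕ} (hσ : SgSq (F := F) m)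

/-- a non-identity element of `Q` conjugated into `Q`: the conjugating element fixes `∞` -/
theorem fix_inf_of_conj_mem (g u : Sz F m) (hu : u ∈ szTsub hσ) (hu1 : u ≠ 1)
    (hc : g * u * g⁻¹ ∈ szTsub hσ) :
    (g : SpecialLinearGroup (Fin 4) F) • suzukiPointInfinity F = suzukiPointInfinity F := by
  obtain ⟨a, b, hab⟩ := hu
  obtain ⟨c, d, hcd⟩ := hc
  have hab0 : ¬ (a = 0 ∧ b = 0) := by
    rintro ⟨rfl, rfl⟩
    rw [szT_zero] at hab
    exact hu1 (Subtype.ext hab)
  refine fix_inf_of_conj_szT hσ g.2 hab0 (c := c) (d := d) ?_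
  rw [← hab, ← hcd]
  simp

theorem inv_fix_inf (g : Sz F m)
    (h : (g : SpecialLinearGroup (Fin 4) F) • suzukiPointInfinity F = suzukiPointInfinity F) :
    ((g⁻¹ : Sz F m) : SpecialLinearGroup (Fin 4) F) • suzukiPointInfinity F =
      suzukiPointInfinity F := by
  rw [Subgroup.coe_inv, inv_smul_eq_iff, h]

theorem t0_one_ne_one : t0 hσ (1 : F) ≠ 1 := by
  rw [Ne, t0_eq_one_iff]
  exact one_ne_zero

theorem mem_normalizer_szTsub_iff (hm : 1 ≤ m) (hF : Fintype.card F = 2 ^ (2 * m + 1)) (g : Sz F m) :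
    g ∈ Subgroup.normalizer (szTsub hσ : Set (Sz F m)) ↔
      (g : SpecialLinearGroup (Fin 4) F) • suzukiPointInfinity F = suzukiPointInfinity F := by
  constructor
  · intro hg
    have h1 := (Subgroup.mem_normalizer_iff.mp hg (t0 hσ 1)).mp (t0_mem_szTsub hσ 1)
    exact fix_inf_of_conj_mem hσ g _ (t0_mem_szTsub hσ 1) (t0_one_ne_one hσ) h1
  · intro hg
    rw [Subgroup.mem_normalizer_iff]
    intro h
    constructor
    · exact fun hh => conj_mem_szTsub_of_fix_inf hσ hm hF hg hh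
    · intro hh
      have := conj_mem_szTsub_of_fix_inf hσ hm hF (inv_fix_inf g hg) hh
      have e : g⁻¹ * (g * h * g⁻¹) * g⁻¹⁻¹ = h := by group
      rwa [e] at this

theorem inst_K_le (hm : 1 ≤ m) (hF : Fintype.card F = 2 ^ (2 * m + 1)) :
    szHsub hσ ≤ Subgroup.normalizer (szTsub hσ : Set (Sz F m)) := by
  rintro _ ⟨k, rfl⟩
  rw [mem_normalizer_szTsub_iff hσ hm hF]
  exact szH_smul_infPt k

theorem inst_norm_eq (hm : 1 ≤ m) (hF : Fintype.card F = 2 ^ (2 * m + 1)) :
    ∀ g ∈ Subgroup.normalizer (szTsub hσ : Set (Sz F m)),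
      ∃ u ∈ szTsub hσ, ∃ k ∈ szHsub hσ, g = u * k := by
  intro g hg
  rw [mem_normalizer_szTsub_iff hσ hm hF] at hg
  obtain ⟨a, b, k, hk⟩ := exists_eq_szT_mul_szH hm hF g.2 hg
  refine ⟨⟨szT m a b, szT_mem hσ a b⟩, ⟨a, b, rfl⟩, szHsubHom hσ k, ⟨k, rfl⟩, ?_⟩
  apply Subtype.ext
  rw [hk]
  rfl

theorem inst_Q_TI (hm : 1 ≤ m) (hF : Fintype.card F = 2 ^ (2 * m + 1)) :
    ∀ g : Sz F m, g ∉ Subgroup.normalizer (szTsub hσ : Set (Sz F m)) →
      ∀ u ∈ szTsub hσ, g * u * g⁻¹ ∈ szTsub hσ → u = 1 := by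
  intro g hg u hu hc
  by_contra hu1
  apply hg
  rw [mem_normalizer_szTsub_iff hσ hm hF]
  exact fix_inf_of_conj_mem hσ g u hu hu1 hc

theorem inst_cent_Q (hm : 1 ≤ m) (hF : Fintype.card F = 2 ^ (2 * m + 1)) :
    ∀ u ∈ szTsub hσ, u ≠ 1 → Subgroup.centralizer ({u} : Set (Sz F m)) ≤ szTsub hσ := by
  intro u hu hu1 g hg
  rw [Subgroup.mem_centralizer_iff] at hg
  have hgu : u * g = g * u := hg u (Set.mem_singleton u)
  have hconj : g * u * g⁻¹ = u := by rw [← hgu]; group
  have hinf := fix_inf_of_conj_mem hσ g u hu hu1 (by rw [hconj]; exact hu)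
  obtain ⟨c, d, k, hk⟩ := exists_eq_szT_mul_szH hm hF g.2 hinf
  obtain ⟨a, b, hab⟩ := hu
  have hab0 : ¬ (a = 0 ∧ b = 0) := by
    rintro ⟨rfl, rfl⟩
    rw [szT_zero] at hab
    exact hu1 (Subtype.ext hab)
  -- the commutation relation in `SL₄`
  have h1 : szT m a b * (szT m c d * szH m k) = (szT m c d * szH m k) * szT m a b := by
    have := congrArg (fun z : Sz F m => (z : SpecialLinearGroup (Fin 4) F)) hgu
    simp only [Subgroup.coe_mul] at this
    rw [hab, hk] at this
    exact this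
  have h2 : szT m a b * szT m c d =
      szT m c d * szT m ((k : F) * a) ((k : F) * sg m (k : F) * b) := by
    have e : szT m c d * szH m k * szT m a b =
        szT m c d * szT m ((k : F) * a) ((k : F) * sg m (k : F) * b) * szH m k := by
      rw [mul_assoc, szH_mul_szT hσ, ← mul_assoc]
    rw [e, ← mul_assoc] at h1
    exact mul_right_cancel h1
  rw [szT_mul hσ, szT_mul hσ] at h2
  obtain ⟨e1, e2⟩ := szT_injective h2
  have hk1 : (k : F) = 1 := by
    by_cases ha : a = 0
    · subst ha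
      have hb : b ≠ 0 := fun hb => hab0 ⟨rfl, hb⟩
      simp only [map_zero, zero_mul, mul_zero, add_zero] at e2
      have e3 : b = (k : F) * sg m (k : F) * b := by
        have : b + d = d + (k : F) * sg m (k : F) * b := e2
        have : b + d = (k : F) * sg m (k : F) * b + d := by rw [this]; ring
        exact add_right_cancel this
      have e4 : (k : F) * sg m (k : F) = 1 := by
        have : ((k : F) * sg m (k : F) - 1) * b = 0 := by rw [sub_mul, ← e3]; ring
        rcases mul_eq_zero.mp this with h | h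
        · exact sub_eq_zero.mp h
        · exact absurd h hb
      exact eq_one_of_mul_sg_eq_one hσ e4
    · have e3 : a = (k : F) * a := by
        have : a + c = (k : F) * a + c := by rw [e1]; ring
        exact add_right_cancel this
      have : ((k : F) - 1) * a = 0 := by rw [sub_mul, ← e3]; ring
      rcases mul_eq_zero.mp this with h | h
      · exact sub_eq_zero.mp h
      · exact absurd h ha
  have hk' : k = 1 := Units.ext hk1
  rw [hk', szH_one, mul_one] at hk
  exact ⟨c, d, hk⟩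

end Cfsg.Agent.Lib.Helper38.SzCh
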