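import Mathlib
import Cfsg.Agent.Lib.Helper38.SzChIB
import Cfsg.Agent.S2241

/-!
# SZCH-[I-Z] (helper38 for helper6, S4775): `Z(Q)`, centralizers of the elements of order 4
-/

set_option autoImplicit false

namespace Cfsg.Agent.Lib.Helper38.SzCh

open Cfsg Matrix Cfsg.Agent.Lib.Helper6

variable {F : Type*} [Field F] [Fintype F] [CharP F 2] {m : ℕ} (hσ : SgSq (F := F) m)

/-- the element `T(a,b)` of `Sz F m` -/
noncomputable def tG (a b : F) : Sz F m := ⟨szT m a b, szT_mem hσ a b⟩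

theorem tG_mem (a b : F) : tG hσ a b ∈ szTsub hσ := ⟨a, b, rfl⟩

theorem tG_mul (a b c d : F) : tG hσ a b * tG hσ c d = tG hσ (a + c) (b + d + sg m a * c) :=
  Subtype.ext (szT_mul hσ a b c d)

theorem tG_inj {a b c d : F} (h : tG hσ a b = tG hσ c d) : a = c ∧ b = d :=
  szT_injective (congrArg Subtype.val h)

theorem exists_tG {x : Sz F m} (hx : x ∈ szTsub hσ) : ∃ a b, x = tG hσ a b := by
  obtain ⟨a, b, hab⟩ := hx
  exact ⟨a, b, Subtype.ext hab⟩

theorem tG_zero_left (b : F) : tG hσ 0 b = t0 hσ b := rfl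

/-- commutation of two translations -/
theorem tG_comm_iff (a b c d : F) :
    tG hσ a b * tG hσ c d = tG hσ c d * tG hσ a b ↔ sg m a * c = sg m c * a := by
  rw [tG_mul, tG_mul]
  constructor
  · intro h
    have h2 := (tG_inj hσ h).2
    have : b + d + sg m a * c = b + d + sg m c * a := by rw [h2]; ring
    exact add_left_cancel this
  · intro h
    rw [h]
    congr 1
    · ring
    · ring

/-- the centre of `Q` inside `Sz F m` -/
theorem mem_cent_Q_iff (hm : 1 ≤ m) (hF : Fintype.card F = 2 ^ (2 * m + 1)) (z : Sz F m)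
    (hz : z ∈ szTsub hσ) :
    z ∈ Subgroup.centralizer (szTsub hσ : Set (Sz F m)) ↔ ∃ b, z = t0 hσ b := by
  rw [Subgroup.mem_centralizer_iff]
  constructor
  · intro h
    obtain ⟨a, b, rfl⟩ := exists_tG hσ hz
    obtain ⟨c, hc⟩ := exists_sg_ne hm hF hσ
    have h1 := (tG_comm_iff hσ 1 0 a b).mp (h _ (tG_mem hσ 1 0))
    rw [map_one, one_mul, mul_one] at h1
    have h3 := (tG_comm_iff hσ c 0 a b).mp (h _ (tG_mem hσ c 0))
    rw [← h1] at h3
    have ha : a = 0 := by
      by_contra ha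
      apply hc
      have : (sg m c - c) * a = 0 := by rw [sub_mul, h3]; ring
      rcases mul_eq_zero.mp this with h | h
      · exact sub_eq_zero.mp h
      · exact absurd h ha
    exact ⟨b, by rw [ha]; rfl⟩
  · rintro ⟨b, rfl⟩ g hg
    obtain ⟨c, d, rfl⟩ := exists_tG hσ hg
    rw [← tG_zero_left, tG_comm_iff]
    simp

theorem inst_card_Z (hm : 1 ≤ m) (hF : Fintype.card F = 2 ^ (2 * m + 1)) :
    Nat.card ↥(szTsub hσ ⊓ Subgroup.centralizer (szTsub hσ : Set (Sz F m))) = 2 ^ (2 * m + 1) := by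
  have hmem : ∀ b : F, t0 hσ b ∈ szTsub hσ ⊓ Subgroup.centralizer (szTsub hσ : Set (Sz F m)) :=
    fun b => Subgroup.mem_inf.mpr
      ⟨t0_mem_szTsub hσ b, (mem_cent_Q_iff hσ hm hF _ (t0_mem_szTsub hσ b)).mpr ⟨b, rfl⟩⟩
  have hbij : Function.Bijective (fun b : F =>
      (⟨t0 hσ b, hmem b⟩ : ↥(szTsub hσ ⊓ Subgroup.centralizer (szTsub hσ : Set (Sz F m))))) := by
    constructor
    · intro b b' h
      exact t0_injective hσ (congrArg Subtype.val h)
    · rintro ⟨z, hz⟩
      rw [Subgroup.mem_inf] at hz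
      obtain ⟨b, rfl⟩ := (mem_cent_Q_iff hσ hm hF z hz.1).mp hz.2
      exact ⟨b, rfl⟩
  rw [← Nat.card_congr (Equiv.ofBijective _ hbij), Nat.card_eq_fintype_card, hF]

theorem inst_Z_sq (hm : 1 ≤ m) (hF : Fintype.card F = 2 ^ (2 * m + 1)) :
    ∀ z ∈ szTsub hσ, z ∈ Subgroup.centralizer (szTsub hσ : Set (Sz F m)) → z * z = 1 := by
  intro z hz hzc
  obtain ⟨b, rfl⟩ := (mem_cent_Q_iff hσ hm hF z hz).mp hzc
  exact t0_mul_self hσ b

theorem inst_card_cent (hm : 1 ≤ m) (hF : Fintype.card F = 2 ^ (2 * m + 1)) :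
    ∀ x ∈ szTsub hσ, x ∉ Subgroup.centralizer (szTsub hσ : Set (Sz F m)) →
      Nat.card ↥(Subgroup.centralizer ({x} : Set (Sz F m))) = 2 * 2 ^ (2 * m + 1) := by
  intro x hx hxc
  obtain ⟨a, b, rfl⟩ := exists_tG hσ hx
  have ha : a ≠ 0 := by
    rintro rfl
    exact hxc ((mem_cent_Q_iff hσ hm hF _ hx).mpr ⟨b, rfl⟩)
  have hx1 : tG hσ a b ≠ 1 := by
    intro h
    rw [← t0_zero hσ, ← tG_zero_left] at h
    exact ha (tG_inj hσ h).1
  have hle := inst_cent_Q hσ hm hF _ hx hx1
  have hmemC : ∀ g : Sz F m, g ∈ Subgroup.centralizer ({tG hσ a b} : Set (Sz F m)) ↔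
      tG hσ a b * g = g * tG hσ a b := by
    intro g
    rw [Subgroup.mem_centralizer_iff]
    constructor
    · exact fun h => h _ (Set.mem_singleton _)
    · intro h y hy
      rw [Set.mem_singleton_iff] at hy
      rw [hy]; exact h
  have hmem : ∀ (ε : Bool) (d : F),
      tG hσ (if ε then a else 0) d ∈ Subgroup.centralizer ({tG hσ a b} : Set (Sz F m)) := by
    intro ε d
    rw [hmemC, tG_comm_iff]
    cases ε
    · simp
    · simp
  have hbij : Function.Bijective (fun p : Bool × F =>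
      (⟨tG hσ (if p.1 then a else 0) p.2, hmem p.1 p.2⟩ :
        ↥(Subgroup.centralizer ({tG hσ a b} : Set (Sz F m))))) := by
    constructor
    · rintro ⟨ε, d⟩ ⟨ε', d'⟩ h
      obtain ⟨h1, h2⟩ := tG_inj hσ (congrArg Subtype.val h)
      simp only at h1 h2
      have : ε = ε' := by
        cases ε <;> cases ε' <;> simp_all
      rw [this, h2]
    · rintro ⟨g, hg⟩
      obtain ⟨c, d, rfl⟩ := exists_tG hσ (hle hg)
      have h1 := (tG_comm_iff hσ a b c d).mp ((hmemC _).mp hg)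
      have h2 : sg m (c / a) = c / a := by
        rw [map_div₀]
        have hsa : sg m a ≠ 0 := (map_ne_zero (sg m)).mpr ha
        field_simp
        rw [h1]
      rcases eq_zero_or_one_of_sg_eq hσ h2 with h | h
      · have hc : c = 0 := by
          rcases div_eq_zero_iff.mp h with h | h
          · exact h
          · exact absurd h ha
        refine ⟨(false, d), Subtype.ext ?_⟩
        simp [hc]
      · have hc : c = a := by
          field_simp at h
          exact h
        refine ⟨(true, d), Subtype.ext ?_⟩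
        simp [hc]
  rw [← Nat.card_congr (Equiv.ofBijective _ hbij), Nat.card_prod, Nat.card_eq_fintype_card,
    Fintype.card_bool, Nat.card_eq_fintype_card, hF]

theorem inst_not_real (hm : 1 ≤ m) (hF : Fintype.card F = 2 ^ (2 * m + 1)) :
    ∀ x ∈ szTsub hσ, x ∉ Subgroup.centralizer (szTsub hσ : Set (Sz F m)) → ¬ IsConj x x⁻¹ := by
  intro x hx hxc hconj
  obtain ⟨a, b, rfl⟩ := exists_tG hσ hx
  have ha : a ≠ 0 := by
    rintro rfl
    exact hxc ((mem_cent_Q_iff hσ hm hF _ hx).mpr ⟨b, rfl⟩)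
  obtain ⟨Y, hY⟩ := isConj_iff.mp hconj
  refine Cfsg.Agent.S2241.core hm hF ha (Y : SpecialLinearGroup (Fin 4) F) Y.2 (b := b) ?_
  have := congrArg (fun z : Sz F m => (z : SpecialLinearGroup (Fin 4) F)) hY
  simpa [tG] using this

end Cfsg.Agent.Lib.Helper38.SzCh
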